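import Mathlib

/-!
Strongly regular graphs with parameters (77, 16, 0, 4): definitions and counting tools.
-/

set_option autoImplicit false
set_option linter.unusedSectionVars false

namespace Cfsg.Agent.Lib.helper9

open Finset

section Srg77

variable {V : Type*} [Fintype V] [DecidableEq V] (G : SimpleGraph V) [DecidableRel G.Adj]

/-- The neighbours of a vertex, as a finset. -/
def nbr (x : V) : Finset V := Finset.univ.filter (fun y => G.Adj x y)

/-- The hypotheses of a strongly regular graph with parameters (77, 16, 0, 4), in terms of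
finsets. -/
structure Srg77 : Prop where
  card : Fintype.card V = 77
  deg : ∀ v, (nbr G v).card = 16
  tri : ∀ v w x, G.Adj v w → G.Adj v x → ¬ G.Adj w x
  mu : ∀ v w, v ≠ w → ¬ G.Adj v w → (nbr G v ∩ nbr G w).card = 4

/-- Three distinct, pairwise non-adjacent vertices. -/
def Triad (x y z : V) : Prop :=
  x ≠ y ∧ x ≠ z ∧ y ≠ z ∧ ¬ G.Adj x y ∧ ¬ G.Adj x z ∧ ¬ G.Adj y z

/-- The vertices `z` non-adjacent to `x` and `y` with no common neighbour of `x`, `y`, `z`. -/
def zset (x y : V) : Finset V :=
  Finset.univ.filter (fun z => z ≠ x ∧ z ≠ y ∧ ¬ G.Adj x z ∧ ¬ G.Adj y z ∧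
    nbr G x ∩ nbr G y ∩ nbr G z = ∅)

/-- The line through two non-adjacent vertices. -/
def line (x y : V) : Finset V := insert x (insert y (zset G x y))

/-- A set of vertices which is a line. -/
def IsLine (L : Finset V) : Prop := ∃ x y, x ≠ y ∧ ¬ G.Adj x y ∧ L = line G x y

/-- A set of pairwise non-adjacent vertices. -/
def IsCoclique (C : Finset V) : Prop := ∀ a ∈ C, ∀ b ∈ C, ¬ G.Adj a b

instance isCocliqueDecidable : DecidablePred (IsCoclique G) := fun C => by
  unfold IsCoclique
  infer_instance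

/-- The cocliques of size 21. -/
def cocl : Finset (Finset V) := Finset.univ.filter (fun C => IsCoclique G C ∧ C.card = 21)

/-- The blocks: for each vertex, the set of cocliques of size 21 through it. -/
def cBlocks : Set (Finset {C : Finset V // C ∈ cocl G}) :=
  Set.range (fun x : V => Finset.univ.filter (fun C : {C : Finset V // C ∈ cocl G} => x ∈ C.1))

variable {G}

theorem mem_cocl {C : Finset V} : C ∈ cocl G ↔ IsCoclique G C ∧ C.card = 21 := by
  rw [cocl, Finset.mem_filter]
  simp

theorem mem_nbr {x y : V} : y ∈ nbr G x ↔ G.Adj x y := by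
  rw [nbr, Finset.mem_filter]
  simp

theorem mem_zset {x y z : V} : z ∈ zset G x y ↔ z ≠ x ∧ z ≠ y ∧ ¬ G.Adj x z ∧ ¬ G.Adj y z ∧
    nbr G x ∩ nbr G y ∩ nbr G z = ∅ := by
  rw [zset, Finset.mem_filter]
  simp

theorem mem_line {x y z : V} : z ∈ line G x y ↔ z = x ∨ z = y ∨ z ∈ zset G x y := by
  rw [line, Finset.mem_insert, Finset.mem_insert]

theorem zset_comm (x y : V) : zset G x y = zset G y x := by
  ext z
  rw [mem_zset, mem_zset, Finset.inter_comm (nbr G x) (nbr G y)]
  tauto

theorem line_comm (x y : V) : line G x y = line G y x := by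
  ext z
  rw [mem_line, mem_line, zset_comm]
  tauto

theorem left_mem_line (x y : V) : x ∈ line G x y := mem_line.2 (Or.inl rfl)

theorem right_mem_line (x y : V) : y ∈ line G x y := mem_line.2 (Or.inr (Or.inl rfl))

theorem nbr_not_mem_self (x : V) : x ∉ nbr G x := fun h => G.loopless.irrefl x (mem_nbr.1 h)

/-- The number of neighbours of `u` in `T` as a sum of indicators. -/
theorem card_nbr_inter (u : V) (T : Finset V) :
    (nbr G u ∩ T).card = ∑ w ∈ T, if G.Adj u w then 1 else 0 := by
  rw [Finset.inter_comm, ← Finset.card_filter]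
  congr 1
  ext w
  rw [Finset.mem_inter, Finset.mem_filter, mem_nbr]

/-- Counting the edges between `S` and `T` in two ways. -/
theorem sum_card_nbr_inter (S T : Finset V) :
    ∑ u ∈ S, (nbr G u ∩ T).card = ∑ w ∈ T, (nbr G w ∩ S).card := by
  simp_rw [card_nbr_inter]
  rw [Finset.sum_comm]
  refine Finset.sum_congr rfl fun w _ => Finset.sum_congr rfl fun u _ => ?_
  by_cases h : G.Adj u w
  · rw [if_pos h, if_pos h.symm]
  · rw [if_neg h, if_neg fun h' => h h'.symm]

/-- The number of common neighbours of `w`, `w'` in `S` as a sum of indicators. -/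
theorem card_nbr_inter_nbr_inter (w w' : V) (S : Finset V) :
    (nbr G w ∩ nbr G w' ∩ S).card
      = ∑ u ∈ S, (if G.Adj u w then 1 else 0) * (if G.Adj u w' then 1 else 0) := by
  rw [Finset.inter_comm]
  have h1 : ∀ u ∈ S, ((if G.Adj u w then 1 else 0) * (if G.Adj u w' then 1 else 0) : ℕ)
      = if (G.Adj w u ∧ G.Adj w' u) then 1 else 0 := by
    intro u _
    have e1 : G.Adj w u ↔ G.Adj u w := ⟨fun hh => hh.symm, fun hh => hh.symm⟩
    have e2 : G.Adj w' u ↔ G.Adj u w' := ⟨fun hh => hh.symm, fun hh => hh.symm⟩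
    by_cases h : G.Adj u w <;> by_cases h' : G.Adj u w' <;> simp [h, h', e1, e2]
  rw [Finset.sum_congr rfl h1, ← Finset.card_filter]
  congr 1
  ext u
  rw [Finset.mem_inter, Finset.mem_filter, Finset.mem_inter, mem_nbr, mem_nbr]

/-- Second order double counting: pairs of neighbours in `T`, `T'` of the vertices of `S`. -/
theorem sum_card_mul_card (S T T' : Finset V) :
    ∑ u ∈ S, (nbr G u ∩ T).card * (nbr G u ∩ T').card
      = ∑ w ∈ T, ∑ w' ∈ T', (nbr G w ∩ nbr G w' ∩ S).card := by
  simp_rw [card_nbr_inter_nbr_inter, card_nbr_inter, Finset.sum_mul_sum]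
  rw [Finset.sum_comm]
  refine Finset.sum_congr rfl fun w _ => ?_
  rw [Finset.sum_comm]

variable (h : Srg77 G)

include h

theorem Srg77.nbr_inter_of_adj {v w : V} (hvw : G.Adj v w) : nbr G v ∩ nbr G w = ∅ := by
  rw [Finset.eq_empty_iff_forall_notMem]
  intro x hx
  rw [Finset.mem_inter, mem_nbr, mem_nbr] at hx
  exact h.tri v w x hvw hx.1 hx.2

/-- The number of common neighbours of two vertices. -/
theorem Srg77.card_nbr_inter_nbr (v w : V) :
    (nbr G v ∩ nbr G w).card = if v = w then 16 else if G.Adj v w then 0 else 4 := by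
  by_cases hvw : v = w
  · subst hvw
    rw [if_pos rfl, Finset.inter_self, h.deg]
  · rw [if_neg hvw]
    by_cases ha : G.Adj v w
    · rw [if_pos ha, h.nbr_inter_of_adj ha, Finset.card_empty]
    · rw [if_neg ha, h.mu v w hvw ha]

/-- Two neighbours of a vertex are not adjacent. -/
theorem Srg77.not_adj_of_mem_nbr {v a b : V} (ha : a ∈ nbr G v) (hb : b ∈ nbr G v) :
    ¬ G.Adj a b :=
  h.tri v a b (mem_nbr.1 ha) (mem_nbr.1 hb)

end Srg77

section OfSRG

variable {V : Type*} [Fintype V] [DecidableEq V] (G : SimpleGraph V) [DecidableRel G.Adj]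

theorem srg77_of_isSRGWith (hG : G.IsSRGWith 77 16 0 4) : Srg77 G := by
  have hcn : ∀ v w, Fintype.card (G.commonNeighbors v w) = (nbr G v ∩ nbr G w).card := by
    intro v w
    refine Fintype.card_of_subtype _ fun x => ?_
    rw [Finset.mem_inter, mem_nbr, mem_nbr, SimpleGraph.mem_commonNeighbors]
  refine ⟨hG.card, fun v => ?_, fun v w x hvw hvx hwx => ?_, fun v w hne hnadj => ?_⟩
  · have h1 := hG.regular v
    rw [← SimpleGraph.card_neighborFinset_eq_degree, SimpleGraph.neighborFinset_eq_filter] at h1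
    exact h1
  · have h1 := hG.of_adj v w hvw
    rw [hcn, Finset.card_eq_zero, Finset.eq_empty_iff_forall_notMem] at h1
    exact h1 x (Finset.mem_inter.2 ⟨mem_nbr.2 hvx, mem_nbr.2 hwx⟩)
  · have h1 := hG.of_not_adj hne hnadj
    rw [hcn] at h1
    exact h1

end OfSRG

end Cfsg.Agent.Lib.helper9
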