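import Mathlib
import Cfsg.Agent.Lib.helper24.SfuDefs

set_option autoImplicit false

namespace Cfsg.Agent.Lib.helper24

open Module Matrix Cfsg.Geo

theorem h9_sfu_frob {F : Type*} [Field F] [Fintype F] (q₀ : ℕ)
    (hcard : Fintype.card F = q₀ ^ 2) :
    q₀ ≠ 0 ∧ (∀ c : F, (c ^ q₀) ^ q₀ = c) ∧ (∀ a b : F, (a + b) ^ q₀ = a ^ q₀ + b ^ q₀) := by
  have hq0 : q₀ ≠ 0 := by
    rintro rfl
    have h1 : 0 < Fintype.card F := Fintype.card_pos
    rw [hcard] at h1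
    simp at h1
  refine ⟨hq0, ?_, ?_⟩
  · intro c
    rw [← pow_mul, ← sq, ← hcard, FiniteField.pow_card]
  · obtain ⟨p, hp⟩ := CharP.exists F
    have hpp : Fact p.Prime := ⟨CharP.char_is_prime F p⟩
    obtain ⟨k, hk, hkc⟩ := FiniteField.card F p
    have hdvd : q₀ ∣ p ^ (k : ℕ) := by
      rw [← hkc, hcard, sq]; exact Dvd.intro _ rfl
    obtain ⟨m, -, rfl⟩ := (Nat.dvd_prime_pow hk).mp hdvd
    intro a b
    exact add_pow_char_pow a b p m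

/-- SESQ -/
theorem sfu_sesq {F : Type*} [Field F] [Fintype F] {n : ℕ} (q₀ : ℕ)
    (hcard : Fintype.card F = q₀ ^ 2) (f : (Fin n → F) → (Fin n → F) → F)
    (hf : IsUnitaryFormPow q₀ f) :
    (∀ v x y, f v (x + y) = f v x + f v y) ∧
    (∀ (c : F) (v x : Fin n → F), f v (c • x) = c ^ q₀ * f v x) ∧
    (∀ v, (f v v) ^ q₀ = f v v) ∧ (∀ c : F, (c ^ q₀) ^ q₀ = c) ∧
    (∀ a b : F, (a + b) ^ q₀ = a ^ q₀ + b ^ q₀) := by
  obtain ⟨hq0, hinv, hadd⟩ := h9_sfu_frob q₀ hcard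
  refine ⟨?_, ?_, ?_, hinv, hadd⟩
  · intro v x y
    rw [hf.herm v (x + y), hf.add_left, hadd, ← hf.herm, ← hf.herm]
  · intro c v x
    rw [hf.herm v (c • x), hf.smul_left, mul_pow, ← hf.herm]
  · intro v
    exact (hf.herm v v).symm

end Cfsg.Agent.Lib.helper24
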