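/-
Definitions for the characterisation of the rank-24 lattice (statement S0406): frames of
pairwise orthogonal vectors of norm 8, the lattice of coordinate vectors with respect to a
frame, the properties of such a lattice used in the argument, and the binary code of an
integral lattice.
-/
import Mathlib
import Cfsg.Prelude.Def_Sporadic_a

set_option autoImplicit false
open Matrix

namespace Cfsg.Agent.Lib.helper9

open Cfsg

/-- A frame: 24 pairwise orthogonal vectors of norm 8, pairwise congruent modulo 2. -/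
def LcFrame (B : Matrix (Fin 24) (Fin 24) ℤ) (v : GolayPt → Fin 24 → ℤ) : Prop :=
  (∀ p q, v p ⬝ᵥ (B *ᵥ v q) = if p = q then 8 else 0) ∧ ∀ p q k, (2 : ℤ) ∣ (v p - v q) k

/-- The coordinates of a vector with respect to a frame. -/
def lcMap (B : Matrix (Fin 24) (Fin 24) ℤ) (v : GolayPt → Fin 24 → ℤ) :
    (Fin 24 → ℤ) →+ (GolayPt → ℤ) where
  toFun x := fun p => x ⬝ᵥ (B *ᵥ v p)
  map_zero' := by funext p; simp
  map_add' x y := by funext p; simp [add_dotProduct]

theorem lcMap_apply (B : Matrix (Fin 24) (Fin 24) ℤ) (v : GolayPt → Fin 24 → ℤ)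
    (x : Fin 24 → ℤ) (p : GolayPt) : lcMap B v x p = x ⬝ᵥ (B *ᵥ v p) := rfl

/-- The lattice of coordinate vectors with respect to a frame. -/
def lcLat (B : Matrix (Fin 24) (Fin 24) ℤ) (v : GolayPt → Fin 24 → ℤ) :
    AddSubgroup (GolayPt → ℤ) := (lcMap B v).range

theorem mem_lcLat (B : Matrix (Fin 24) (Fin 24) ℤ) (v : GolayPt → Fin 24 → ℤ)
    (u : GolayPt → ℤ) : u ∈ lcLat B v ↔ ∃ x : Fin 24 → ℤ, lcMap B v x = u := Iff.rfl

/-- The properties of the lattice of coordinate vectors used in the characterisation. -/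
structure LcPre (L : AddSubgroup (GolayPt → ℤ)) : Prop where
  dot8 : ∀ u ∈ L, ∀ w ∈ L, (8 : ℤ) ∣ dotInt u w
  norm16 : ∀ u ∈ L, (16 : ℤ) ∣ sqNorm u
  min32 : ∀ u ∈ L, u ≠ 0 → 32 ≤ sqNorm u
  gens : ∀ p q : GolayPt, p ≠ q → (Pi.single p 4 + Pi.single q 4 : GolayPt → ℤ) ∈ L ∧
    (Pi.single p 4 - Pi.single q 4 : GolayPt → ℤ) ∈ L
  count : {u : GolayPt → ℤ | u ∈ L ∧ sqNorm u = 32}.ncard = 196560

/-- The binary code of a lattice: the halves of its vectors with even coordinates, modulo 2. -/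
def lcCode (L : AddSubgroup (GolayPt → ℤ)) : Submodule (ZMod 2) (GolayPt → ZMod 2) where
  carrier := {s | ∃ h : GolayPt → ℤ, (2 : ℤ) • h ∈ L ∧ s = fun p => ((h p : ℤ) : ZMod 2)}
  zero_mem' := ⟨0, by simp, by funext p; simp⟩
  add_mem' := by
    rintro s t ⟨h, hh, rfl⟩ ⟨k, hk, rfl⟩
    refine ⟨h + k, ?_, ?_⟩
    · rw [smul_add]; exact L.add_mem hh hk
    · funext p; simp
  smul_mem' := by
    rintro c s ⟨h, hh, rfl⟩
    have hc : c = 0 ∨ c = 1 := by revert c; decide
    rcases hc with rfl | rfl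
    · exact ⟨0, by simp, by funext p; simp⟩
    · exact ⟨h, hh, by funext p; simp⟩

theorem mem_lcCode (L : AddSubgroup (GolayPt → ℤ)) (s : GolayPt → ZMod 2) :
    s ∈ lcCode L ↔ ∃ h : GolayPt → ℤ, (2 : ℤ) • h ∈ L ∧ s = fun p => ((h p : ℤ) : ZMod 2) :=
  Iff.rfl

/-- Vectors of a given sum of squares form a finite set. -/
theorem lc_finite_sqNorm (n : ℤ) : {u : GolayPt → ℤ | sqNorm u = n}.Finite := by
  have hsub : {u : GolayPt → ℤ | sqNorm u = n} ⊆
      Set.Icc (fun _ => -|n|) (fun _ => |n|) := by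
    intro u hu
    have hu' : sqNorm u = n := hu
    have key : ∀ p, u p ^ 2 ≤ n := by
      intro p
      rw [← hu']
      unfold sqNorm
      exact Finset.single_le_sum (f := fun i => u i ^ 2) (fun i _ => sq_nonneg _)
        (Finset.mem_univ p)
    refine ⟨fun p => ?_, fun p => ?_⟩
    · have h1 := key p
      have h2 : |u p| ≤ |n| := by
        have h3 : |u p| ≤ u p ^ 2 := by
          rcases abs_cases (u p) with ⟨h, _⟩ | ⟨h, _⟩ <;> nlinarith
        have h4 : n ≤ |n| := le_abs_self n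
        linarith
      have := neg_abs_le (u p)
      show -|n| ≤ u p
      linarith
    · have h1 := key p
      have h3 : u p ≤ u p ^ 2 := by nlinarith [sq_nonneg (u p - 1), sq_nonneg (u p)]
      have h4 : n ≤ |n| := le_abs_self n
      show u p ≤ |n|
      linarith
  exact (Set.finite_Icc _ _).subset hsub

end Cfsg.Agent.Lib.helper9
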