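import Cfsg.Agent.Lib.helper9.M12Chain

/-!
Dodecad stabilisers in `Cfsg.M24`, for arbitrary dodecads: sharp 5-transitivity on the dodecad
and 3-transitivity of a point stabiliser on the complementary dodecad.
-/

set_option autoImplicit false
open Cfsg
open scoped Pointwise

namespace Cfsg.Agent.Lib.helper9

open Cfsg.Agent.Lib.helper33 (IsTable)

theorem conj_smul_stab (h k : Equiv.Perm GolayPt) (D : Finset GolayPt) (hk : k • D = D) :
    (h * k * h⁻¹) • (h • D) = h • D := by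
  rw [mul_smul, mul_smul, inv_smul_smul, hk]

/-- The stabiliser of a dodecad is transitive on it. -/
theorem dod_trans (d : Finset GolayPt) (hd : d ∈ dodecads) (p q : GolayPt) (hp : p ∈ d)
    (hq : q ∈ d) : ∃ g ∈ M24, g • d = d ∧ g p = q := by
  obtain ⟨h, hh, rfl⟩ := m24_dodecad_trans (decSet d1) d d1_mem hd
  have key : ∀ z : GolayPt, z ∈ h • decSet d1 → ∃ g ∈ stabMask d1, g (h⁻¹ z) = bp 0 := by
    intro z hz
    obtain ⟨g, hg, hfix⟩ := move_to_base1 1 (by norm_num) (fun _ => h⁻¹ z)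
      (fun j _ => Finset.inv_smul_mem_iff.2 hz) (by intros; omega)
    exact ⟨g, hg, hfix 0 (by norm_num)⟩
  obtain ⟨g₁, hg₁, h₁⟩ := key p hp
  obtain ⟨g₂, hg₂, h₂⟩ := key q hq
  have hk : g₂⁻¹ * g₁ ∈ stabMask d1 := mul_mem (inv_mem hg₂) hg₁
  refine ⟨h * (g₂⁻¹ * g₁) * h⁻¹, mul_mem (mul_mem hh (stabMask_le d1 hk)) (inv_mem hh),
    conj_smul_stab h _ _ (stabMask_smul hk), ?_⟩
  show h (g₂⁻¹ (g₁ (h⁻¹ p))) = q
  rw [h₁, ← h₂]
  simp

/-- The stabiliser of a dodecad is sharply 5-transitive on it. -/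
theorem dod_sharp5 (d : Finset GolayPt) (hd : d ∈ dodecads) (x y : Fin 5 ↪ GolayPt)
    (hx : ∀ i, x i ∈ d) (hy : ∀ i, y i ∈ d) :
    ∃ g ∈ M24, g • d = d ∧ (∀ i, g (x i) = y i) ∧
      ∀ g' ∈ M24, g' • d = d → (∀ i, g' (x i) = y i) → g' = g := by
  obtain ⟨h, hh, rfl⟩ := m24_dodecad_trans (decSet d1) d d1_mem hd
  have key : ∀ z : Fin 5 ↪ GolayPt, (∀ i, z i ∈ h • decSet d1) →
      ∃ g ∈ stabMask d1, ∀ i : Fin 5, g (h⁻¹ (z i)) = bp i.val := by
    intro z hz
    obtain ⟨g, hg, hfix⟩ := move_to_base1 5 (le_refl 5)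
      (fun j => if hj : j < 5 then h⁻¹ (z ⟨j, hj⟩) else h⁻¹ (z 0))
      (fun j hj => by
        simp only [hj, dif_pos]
        exact Finset.inv_smul_mem_iff.2 (hz _))
      (fun a ha b hb hab => by
        simp only [ha, hb, dif_pos] at hab
        have := z.injective (h⁻¹.injective hab)
        exact congrArg Fin.val this)
    refine ⟨g, hg, fun i => ?_⟩
    have := hfix i.val i.isLt
    simpa using this
  obtain ⟨g₁, hg₁, h₁⟩ := key x hx
  obtain ⟨g₂, hg₂, h₂⟩ := key y hy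
  have hk : g₂⁻¹ * g₁ ∈ stabMask d1 := mul_mem (inv_mem hg₂) hg₁
  refine ⟨h * (g₂⁻¹ * g₁) * h⁻¹, mul_mem (mul_mem hh (stabMask_le d1 hk)) (inv_mem hh),
    conj_smul_stab h _ _ (stabMask_smul hk), ?_, ?_⟩
  · intro i
    show h (g₂⁻¹ (g₁ (h⁻¹ (x i)))) = y i
    rw [h₁, ← h₂]
    simp
  · intro g' hg' hgd hmap
    -- the element `g₂ * (h⁻¹ * g' * h) * g₁⁻¹` fixes the five base points
    have hk' : h⁻¹ * g' * h ∈ stabMask d1 := by
      refine mem_stabMask_of (mul_mem (mul_mem (inv_mem hh) hg') hh) ?_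
      rw [mul_smul, mul_smul, hgd, inv_smul_smul]
    have hk'' : g₂ * (h⁻¹ * g' * h) * g₁⁻¹ ∈ stabL (stabMask d1) 5 := by
      refine (mem_stabL _ _ _).2 ⟨mul_mem (mul_mem hg₂ hk') (inv_mem hg₁), ?_⟩
      intro j hj
      have e1 := h₁ ⟨j, hj⟩
      have e2 := h₂ ⟨j, hj⟩
      have e3 := hmap ⟨j, hj⟩
      simp only at e1 e2
      show g₂ (h⁻¹ (g' (h (g₁⁻¹ (bp j))))) = bp j
      have e4 : g₁⁻¹ (bp j) = h⁻¹ (x ⟨j, hj⟩) := by
        rw [Equiv.Perm.inv_eq_iff_eq, e1]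
      rw [e4]
      have e5 : h (h⁻¹ (x ⟨j, hj⟩)) = x ⟨j, hj⟩ := by simp
      rw [e5, e3, e2]
    have h1 := stab5_d1 _ hk''
    have h2 : g' = h * (g₂⁻¹ * (g₂ * (h⁻¹ * g' * h) * g₁⁻¹) * g₁) * h⁻¹ := by group
    rw [h2, h1]
    group

/-! ### The dodecad `{0,4,5,7,8,9,10,13,14,15,16,17}` -/

/-- A dodecad containing the first base point and none of the next three. -/
def d2 : ℕ := 255921

/-- The points outside `d2`. -/
def cl2 : List ℕ := [1, 2, 3, 6, 11, 12, 18, 19, 20, 21, 22, 23]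

theorem d2_ok : syn d2 = true ∧ pc d2 = 12 := by decide +kernel

theorem d2_mem : decSet d2 ∈ dodecads := decSet_mem_dodecads d2 d2_ok.1 d2_ok.2

/-- The points outside `d2` other than the base points `1, …, i - 1`. -/
def Δ2 (i : ℕ) : Finset GolayPt := ((cl2.drop (i - 1)).map pt).toFinset

theorem Δ2_card : (Δ2 1).card = 12 ∧ (Δ2 2).card = 11 ∧ (Δ2 3).card = 10 := by
  decide +kernel

theorem d2_drop : ∀ i < 4, ∀ x < 24, (0 < i ∧ d2.testBit x = false ∧
    ∀ j < i, x ≠ base.getD j 0) → x ∈ cl2.drop (i - 1) := by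
  decide +kernel

theorem d2_base : d2.testBit (base.getD 0 0) = true ∧ ∀ i < 4, 0 < i →
    d2.testBit (base.getD i 0) = false := by decide +kernel

theorem bp0_mem_d2 : bp 0 ∈ decSet d2 := by
  rw [mem_decSet, idx_bp 0 (by norm_num)]
  exact d2_base.1

theorem mem_Δ2 (i : ℕ) (hi0 : 0 < i) (hi : i < 4) (q : GolayPt) (hq : q ∉ decSet d2)
    (hne : ∀ j < i, q ≠ bp j) : q ∈ Δ2 i := by
  simp only [Δ2, List.mem_toFinset, List.mem_map]
  rw [mem_decSet, Bool.not_eq_true] at hq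
  refine ⟨idx q, d2_drop i hi _ (idx_lt _) ⟨hi0, hq, ?_⟩, pt_idx _⟩
  intro j hj h
  rw [← idx_bp j (by omega)] at h
  exact hne j hj (idx_injective h)

theorem orbit_sub2 (i : ℕ) (hi0 : 0 < i) (hi : i < 4) (g : Equiv.Perm GolayPt)
    (hg : g ∈ stabL (stabMask d2) i) : g (bp i) ∈ Δ2 i := by
  have hgH := (mem_stabL _ _ _).1 hg
  have hbi : bp i ∉ decSet d2 := by
    rw [mem_decSet, idx_bp i (by omega), d2_base.2 i hi hi0]
    simp
  refine mem_Δ2 i hi0 hi _ (fun h => hbi ((mem_of_stabMask hgH.1 _).1 h)) ?_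
  intro j hj h
  rw [← hgH.2 j hj] at h
  have h2 := congrArg idx (g.injective h)
  rw [idx_bp i (by omega), idx_bp j (by omega)] at h2
  exact base_nodup i (by omega) j hj h2

/-- The normal forms of the elements of the four-point stabiliser preserving `d2`. -/
def good2 : List (ℕ × ℕ × ℕ) :=
  [(4, 7, 5), (4, 7, 16), (14, 7, 11), (14, 7, 20), (15, 10, 6), (15, 10, 21)]

theorem d2_chk : ((orbL.getD 4 []).all fun c4 => (orbL.getD 5 []).all fun c5 =>
    (orbL.getD 6 []).all fun c6 =>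
      !invT (t456 c4 c5 c6) d2 || good2.contains (c4, c5, c6)) = true := by
  decide +kernel

theorem card_stab4_d2 : Nat.card (stabL (stabMask d2) 4) ≤ 6 := by
  classical
  have hsub : ((stabL (stabMask d2) 4 : Subgroup (Equiv.Perm GolayPt)) :
      Set (Equiv.Perm GolayPt)) ⊆ ((good2.map fun c =>
        permW (tw 4 c.1) * (permW (tw 5 c.2.1) * permW (tw 6 c.2.2))).toFinset :
          Set (Equiv.Perm GolayPt)) := by
    intro g hg
    have hg' : g ∈ stabL (stabMask d2) 4 := hg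
    have hM := stabL_mono (stabMask_le d2) 4 hg'
    obtain ⟨c4, hc4, c5, hc5, c6, hc6, hgeq, ht⟩ := nf4 g hM
    have hinv := invT_of_invMask ht (mem_stabMask.1 ((mem_stabL _ _ _).1 hg').1).2
    have h := d2_chk
    rw [List.all_eq_true] at h
    have h1 := h c4 hc4
    rw [List.all_eq_true] at h1
    have h2 := h1 c5 hc5
    rw [List.all_eq_true] at h2
    have h3 := h2 c6 hc6
    rw [hinv] at h3
    simp only [Bool.not_true, Bool.false_or, List.contains_iff_mem] at h3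
    rw [Finset.mem_coe, List.mem_toFinset, List.mem_map]
    exact ⟨(c4, c5, c6), h3, hgeq.symm⟩
  have h1 := Set.ncard_le_ncard hsub (Set.toFinite _)
  rw [Set.ncard_coe_finset] at h1
  exact le_trans h1 (le_trans (List.toFinset_card_le _) (by simp [good2]))

/-- The chain of the stabiliser of `d2` and of its point `0`: full orbits on the complement. -/
theorem chain2 : ∀ i, 0 < i → i < 4 → ∀ q ∈ Δ2 i, ∃ g ∈ stabL (stabMask d2) i, g (bp i) = q := by
  obtain ⟨c1, c2, c3⟩ := Δ2_card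
  have h0 : Nat.card (stabL (stabMask d2) 0) = 95040 := card_stabMask d2 d2_mem
  have u4 := card_stab4_d2
  have u3 := upper_stepH (stabMask d2) 3 (Δ2 3) (orbit_sub2 3 (by norm_num) (by norm_num)) _ u4
  have u2 := upper_stepH (stabMask d2) 2 (Δ2 2) (orbit_sub2 2 (by norm_num) (by norm_num)) _ u3
  have u1 := upper_stepH (stabMask d2) 1 (Δ2 1) (orbit_sub2 1 (by norm_num) (by norm_num)) _ u2
  rw [c3] at u3; rw [c2, c3] at u2; rw [c1, c2, c3] at u1
  have l1 : 7920 ≤ Nat.card (stabL (stabMask d2) 1) := by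
    have h := card_le_of_orbit (stabL (stabMask d2) 0) (bp 0) (decSet d2) (fun g hg =>
      (mem_of_stabMask ((mem_stabL _ _ _).1 hg).1 _).2 bp0_mem_d2)
    rw [h0, card_decSet, d2_ok.2] at h
    have h' : 95040 ≤ 12 * Nat.card (stabL (stabMask d2) 1) := h
    omega
  obtain ⟨f1, e2⟩ := full_stepH (stabMask d2) 1 (Δ2 1) (orbit_sub2 1 (by norm_num) (by norm_num))
    660 u2 (by rw [c1]; omega)
  obtain ⟨f2, e3⟩ := full_stepH (stabMask d2) 2 (Δ2 2) (orbit_sub2 2 (by norm_num) (by norm_num))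
    60 u3 (by rw [c2, e2])
  obtain ⟨f3, _⟩ := full_stepH (stabMask d2) 3 (Δ2 3) (orbit_sub2 3 (by norm_num) (by norm_num))
    6 u4 (by rw [c3, e3])
  intro i hi0 hi
  have hi' : i = 1 ∨ i = 2 ∨ i = 3 := by omega
  rcases hi' with rfl | rfl | rfl
  · exact f1
  · exact f2
  · exact f3

/-- The stabiliser of `d2` and the point `0` moves any `k ≤ 3` distinct points outside `d2` to
the base points `1, 2, 3`. -/
theorem move_to_base2 : ∀ k ≤ 3, ∀ x : ℕ → GolayPt, (∀ j < k, x j ∉ decSet d2) →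
    (∀ a < k, ∀ b < k, x a = x b → a = b) →
    ∃ g ∈ stabL (stabMask d2) 1, ∀ j < k, g (x j) = bp (1 + j) := by
  intro k hk x hx hinj
  refine move_to_base_gen (stabMask d2) ((decSet d2 : Set GolayPt)ᶜ) 1 4
    (fun g hg p hp => fun h => hp (Finset.mem_coe.2 ((mem_of_stabMask hg p).1 (Finset.mem_coe.1 h))))
    (fun i hi0 hi q hq hne => chain2 i (by omega) hi q
      (mem_Δ2 i (by omega) hi q (fun h => hq (Finset.mem_coe.2 h)) hne))
    k (by omega) x (fun j hj => fun h => hx j hj (Finset.mem_coe.1 h)) ?_ hinj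
  intro j hj l hl h
  have hl0 : l = 0 := by omega
  rw [hl0] at h
  exact hx j hj (by rw [h]; exact bp0_mem_d2)

/-- The stabiliser of a dodecad and one of its points is 3-transitive on the complement. -/
theorem dod_compl3 (d : Finset GolayPt) (hd : d ∈ dodecads) (p : GolayPt) (hp : p ∈ d)
    (x y : Fin 3 ↪ GolayPt) (hx : ∀ i, x i ∉ d) (hy : ∀ i, y i ∉ d) :
    ∃ g ∈ M24, g • d = d ∧ g p = p ∧ ∀ i, g (x i) = y i := by
  obtain ⟨h₀, hh₀, hd2⟩ := m24_dodecad_trans d (decSet d2) hd d2_mem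
  have hp' : h₀ p ∈ decSet d2 := by
    rw [← hd2]; exact Finset.smul_mem_smul_finset hp
  obtain ⟨g₀, hg₀, hg₀d, hg₀p⟩ := dod_trans (decSet d2) d2_mem (h₀ p) (bp 0) hp' bp0_mem_d2
  have hu : g₀ * h₀ ∈ M24 := mul_mem hg₀ hh₀
  have hud : (g₀ * h₀) • d = decSet d2 := by rw [mul_smul, hd2, hg₀d]
  have hup : (g₀ * h₀) p = bp 0 := hg₀p
  generalize g₀ * h₀ = u at hu hud hup
  have key : ∀ z : Fin 3 ↪ GolayPt, (∀ i, z i ∉ d) →
      ∃ g ∈ stabL (stabMask d2) 1, ∀ i : Fin 3, g (u (z i)) = bp (1 + i.val) := by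
    intro z hz
    obtain ⟨g, hg, hfix⟩ := move_to_base2 3 (le_refl 3)
      (fun j => if hj : j < 3 then u (z ⟨j, hj⟩) else u (z 0))
      (fun j hj => by
        simp only [hj, dif_pos]
        rw [← hud]
        intro h
        exact hz _ ((Finset.smul_mem_smul_finset_iff u).1 h))
      (fun a ha b hb hab => by
        simp only [ha, hb, dif_pos] at hab
        have := z.injective (u.injective hab)
        exact congrArg Fin.val this)
    refine ⟨g, hg, fun i => ?_⟩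
    have := hfix i.val i.isLt
    simpa using this
  obtain ⟨g₁, hg₁, h₁⟩ := key x hx
  obtain ⟨g₂, hg₂, h₂⟩ := key y hy
  have hk : g₂⁻¹ * g₁ ∈ stabL (stabMask d2) 1 := mul_mem (inv_mem hg₂) hg₁
  have hkH := (mem_stabL _ _ _).1 hk
  refine ⟨u⁻¹ * (g₂⁻¹ * g₁) * u, mul_mem (mul_mem (inv_mem hu) (stabMask_le d2 hkH.1)) hu,
    ?_, ?_, ?_⟩
  · rw [mul_smul, mul_smul, hud, stabMask_smul hkH.1, ← hud, inv_smul_smul]
  · show u⁻¹ ((g₂⁻¹ * g₁) (u p)) = p
    rw [hup, hkH.2 0 (by norm_num), ← hup]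
    simp
  · intro i
    show u⁻¹ (g₂⁻¹ (g₁ (u (x i)))) = y i
    rw [h₁, ← h₂]
    simp

end Cfsg.Agent.Lib.helper9
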