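import Cfsg.Agent.Lib.helper9.M12Compl
import Cfsg.Agent.Lib.helper10.SharpTrans

/-!
Simplicity of the stabiliser of a dodecad in `Cfsg.M24` and of the stabiliser of a dodecad and
one of its points, from sharp 5-transitivity on the dodecad.
-/

set_option autoImplicit false
open Cfsg
open scoped Pointwise

namespace Cfsg.Agent.Lib.helper9

open MulAction

/-- The dodecad `d` as a set acted on by its stabiliser. -/
def dodSub (d : Finset GolayPt) : SubMulAction (MulAction.stabilizer M24 d) GolayPt where
  carrier := (d : Set GolayPt)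
  smul_mem' := fun g p hp => by
    have h1 : (g : M24) • d = d := g.2
    have h2 : (g : M24) • p ∈ (g : M24) • d := Finset.smul_mem_smul_finset hp
    rw [h1] at h2
    exact h2

theorem card_dodSub (d : Finset GolayPt) (hd : d ∈ dodecads) : Nat.card (dodSub d) = 12 := by
  have h : Nat.card (dodSub d) = Set.ncard (d : Set GolayPt) := rfl
  rw [h, Set.ncard_coe_finset, hd.2]

theorem dodSub_pretrans (d : Finset GolayPt) (hd : d ∈ dodecads) :
    IsMultiplyPretransitive (MulAction.stabilizer M24 d) (dodSub d) 5 := by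
  refine ⟨fun x y => ?_⟩
  obtain ⟨g, hg, hgd, hmap, _⟩ := dod_sharp5 d hd
    (x.trans (Function.Embedding.subtype _)) (y.trans (Function.Embedding.subtype _))
    (fun i => (x i).2) (fun i => (y i).2)
  exact ⟨⟨⟨g, hg⟩, hgd⟩, Function.Embedding.ext fun i => Subtype.ext (hmap i)⟩

theorem dodSub_sharp (d : Finset GolayPt) (hd : d ∈ dodecads) (x : Fin 5 ↪ dodSub d) :
    stabilizer (MulAction.stabilizer M24 d) x = ⊥ := by
  rw [Subgroup.eq_bot_iff_forall]
  intro g hg
  rw [mem_stabilizer_iff] at hg
  obtain ⟨g₀, hg₀, hg₀d, hmap, huniq⟩ := dod_sharp5 d hd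
    (x.trans (Function.Embedding.subtype _)) (x.trans (Function.Embedding.subtype _))
    (fun i => (x i).2) (fun i => (x i).2)
  have h1 := huniq 1 (one_mem _) (one_smul _ _) (fun i => rfl)
  have h2 := huniq ((g : M24) : Equiv.Perm GolayPt) (g : M24).2 g.2 (fun i => by
    have := congrArg (fun z : Fin 5 ↪ dodSub d => ((z i : dodSub d) : GolayPt)) hg
    exact this)
  apply Subtype.ext
  apply Subtype.ext
  show ((g : M24) : Equiv.Perm GolayPt) = 1
  rw [h2, ← h1]

theorem dodSub_faithful (d : Finset GolayPt) (hd : d ∈ dodecads) :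
    FaithfulSMul (MulAction.stabilizer M24 d) (dodSub d) := by
  refine ⟨fun {g g'} h => ?_⟩
  have := Fintype.ofFinite (dodSub d)
  have hne : Nonempty (Fin 5 ↪ dodSub d) := by
    apply Function.Embedding.nonempty_of_card_le
    rw [Fintype.card_fin, ← Nat.card_eq_fintype_card, card_dodSub d hd]
    norm_num
  obtain ⟨x⟩ := hne
  have hst : g'⁻¹ * g ∈ stabilizer (MulAction.stabilizer M24 d) x := by
    rw [mem_stabilizer_iff]
    refine Function.Embedding.ext fun i => ?_
    rw [Function.Embedding.smul_apply, mul_smul, h (x i), inv_smul_smul]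
  rw [dodSub_sharp d hd x, Subgroup.mem_bot, inv_mul_eq_one] at hst
  exact hst.symm

/-- The stabiliser of a dodecad is simple. -/
theorem m12_simple (d : Finset GolayPt) (hd : d ∈ dodecads) :
    IsSimpleGroup (MulAction.stabilizer M24 d) := by
  have := dodSub_faithful d hd
  have := dodSub_pretrans d hd
  exact (Cfsg.Agent.Lib.helper10.sharp_five_twelve (α := dodSub d) (card_dodSub d hd)
    (dodSub_sharp d hd)).1

/-- The point stabiliser of a sharply 5-transitive group of degree 12 is simple. -/
theorem stab_simple_of_sharp5 {G α : Type*} [Group G] [MulAction G α] [FaithfulSMul G α]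
    [Finite α] (hα : Nat.card α = 12) [h5 : IsMultiplyPretransitive G α 5]
    (hsharp : ∀ x : Fin 5 ↪ α, stabilizer G x = ⊥) (a : α) : IsSimpleGroup (stabilizer G a) := by
  have h2 : IsMultiplyPretransitive G α 2 :=
    isMultiplyPretransitive_of_le (n := 5) (by norm_num) (by omega)
  have h1 : IsPretransitive G α := isPretransitive_of_is_two_pretransitive
  have hf : FaithfulSMul (stabilizer G a) (SubMulAction.ofStabilizer G a) :=
    Cfsg.Agent.Lib.helper10.faithful_ofStabilizer a
  have h4 : IsMultiplyPretransitive (stabilizer G a) (SubMulAction.ofStabilizer G a) 4 :=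
    SubMulAction.ofStabilizer.isMultiplyPretransitive.mp h5
  have hβ : Nat.card (SubMulAction.ofStabilizer G a) = 11 := by
    rw [SubMulAction.nat_card_ofStabilizer_eq, hα]
  exact (Cfsg.Agent.Lib.helper10.sharp_four_eleven hβ
    (Cfsg.Agent.Lib.helper10.sharp_ofStabilizer a 4 hsharp)).1

theorem stabilizer_dodSub (d : Finset GolayPt) (p : GolayPt) (hp : p ∈ d) :
    stabilizer (MulAction.stabilizer M24 d) (⟨p, hp⟩ : dodSub d) =
      (MulAction.stabilizer M24 p).subgroupOf (MulAction.stabilizer M24 d) := by
  ext g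
  rw [mem_stabilizer_iff, Subgroup.mem_subgroupOf, mem_stabilizer_iff]
  constructor
  · intro h; exact congrArg Subtype.val h
  · intro h; exact Subtype.ext h

/-- The stabiliser of a dodecad and one of its points is simple. -/
theorem m11_simple (d : Finset GolayPt) (hd : d ∈ dodecads) (p : GolayPt) (hp : p ∈ d) :
    IsSimpleGroup ↥(MulAction.stabilizer M24 d ⊓ MulAction.stabilizer M24 p) := by
  have := dodSub_faithful d hd
  have h5 := dodSub_pretrans d hd
  have hs := stab_simple_of_sharp5 (card_dodSub d hd) (dodSub_sharp d hd) (⟨p, hp⟩ : dodSub d)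
  rw [stabilizer_dodSub, ← Subgroup.inf_subgroupOf_left (MulAction.stabilizer M24 p)
    (MulAction.stabilizer M24 d)] at hs
  exact (Subgroup.subgroupOfEquivOfLe inf_le_left).symm.isSimpleGroup

end Cfsg.Agent.Lib.helper9
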