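import Mathlib
import Cfsg.Agent.Lib.helper16.U34CDefs

set_option autoImplicit false

namespace Cfsg.Agent.Lib.helper16.U34C

open Cfsg
open scoped commutatorElement

/-- PIECE A4a -/
theorem exists_u {G : Type*} [Group G] [Finite G] (hD : Nat.card (commutator G) = 64) {x : G} {Z : Subgroup G}
    (h1 : D1 x Z) (h2 : D2 x Z) (h3 : D3 x Z) :
    ∃ u ∈ commutator G, u ∉ Z ∧ (u * x) ^ 5 = 1 := by
  classical
  obtain ⟨g, hgP, hgZ⟩ : ∃ g ∈ commutator G, g ∉ Z := by
    by_contra hcon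
    push Not at hcon
    have hle : commutator G ≤ Z := fun g hg => hcon g hg
    have heq : Z = commutator G := le_antisymm h1.ZP hle
    have h4 := h1.cardZ
    rw [heq, hD] at h4
    norm_num at h4
  obtain ⟨w, hw⟩ : ∃ w : G, w = (g * x) ^ 5 := ⟨_, rfl⟩
  have hwP : w ∈ commutator G := by
    have hg1 : ((g : G) : G ⧸ commutator G) = 1 := (QuotientGroup.eq_one_iff g).mpr hgP
    have hw1 : ((w : G) : G ⧸ commutator G) = 1 := by
      rw [hw, QuotientGroup.mk_pow, QuotientGroup.mk_mul, hg1, one_mul, ← QuotientGroup.mk_pow,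
        h1.x5, QuotientGroup.mk_one]
    exact (QuotientGroup.eq_one_iff w).mp hw1
  have hconj : x * w * x⁻¹ = g⁻¹ * w * g := by
    rw [hw]
    simp only [pow_succ, pow_zero, one_mul, mul_assoc, inv_mul_cancel_left, mul_inv_cancel, mul_one]
  have hwZ : w ∈ Z := by
    apply h3.fpf w hwP
    rw [hconj]
    have e : w⁻¹ * (g⁻¹ * w * g) = ⁅w⁻¹, g⁻¹⁆ := by rw [commutatorElement_def]; group
    rw [e]
    exact h3.comm _ (inv_mem hwP) _ (inv_mem hgP)
  refine ⟨g * w, mul_mem hgP hwP, ?_, ?_⟩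
  · intro h
    apply hgZ
    have e : g = g * w * w⁻¹ := by group
    rw [e]; exact mul_mem h (inv_mem hwZ)
  · have hc : ∀ y : G, w * y = y * w := h1.Zc w hwZ
    have e : g * w * x = (g * x) * w := by rw [mul_assoc, hc x, ← mul_assoc]
    have hcomm : Commute (g * x) w := (hc (g * x)).symm
    rw [e, hcomm.mul_pow, ← hw]
    have hw2 : w ^ 2 = 1 := h1.Z2 w hwZ
    calc w * w ^ 5 = w ^ 6 := (pow_succ' w 5).symm
      _ = (w ^ 2) ^ 3 := pow_mul w 2 3
      _ = 1 := by rw [hw2, one_pow]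

end Cfsg.Agent.Lib.helper16.U34C
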