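import Mathlib
import Cfsg.Agent.Lib.helper24.S6eDefs

set_option autoImplicit false

namespace Cfsg.Agent.Lib.helper24

open Matrix Cfsg Cfsg.Geo

/-- Three commuting involutions `z, s, t` with `s ∉ ⟨z⟩`, `t ∉ ⟨z, s⟩` span an elementary abelian
subgroup with (at least) eight elements. -/
theorem helper9_elem8 {G : Type*} [Group G] (z s t : G) (hz : z * z = 1) (hs : s * s = 1)
    (ht : t * t = 1) (hzs : s * z = z * s) (hzt : t * z = z * t) (hst : t * s = s * t)
    (hz1 : z ≠ 1) (hs1 : s ≠ 1) (hsz : s ≠ z) (ht1 : t ≠ 1) (htz : t ≠ z) (hts : t ≠ s)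
    (htzs : t ≠ z * s) :
    ∃ A : Subgroup G, IsMulCommutative A ∧ (∀ x ∈ A, x * x = 1) ∧ 8 ≤ Nat.card A := by
  classical
  set φ : Bool → Bool → Bool → G := fun a b c =>
    (if a then z else 1) * ((if b then s else 1) * (if c then t else 1)) with hφ
  have hz' : ∀ x, z * (z * x) = x := fun x => by rw [← mul_assoc, hz, one_mul]
  have hs' : ∀ x, s * (s * x) = x := fun x => by rw [← mul_assoc, hs, one_mul]
  have ht' : ∀ x, t * (t * x) = x := fun x => by rw [← mul_assoc, ht, one_mul]
  have hzs' : ∀ x, s * (z * x) = z * (s * x) := fun x => by rw [← mul_assoc, hzs, mul_assoc]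
  have hzt' : ∀ x, t * (z * x) = z * (t * x) := fun x => by rw [← mul_assoc, hzt, mul_assoc]
  have hst' : ∀ x, t * (s * x) = s * (t * x) := fun x => by rw [← mul_assoc, hst, mul_assoc]
  have hmul : ∀ a b c a' b' c', φ a b c * φ a' b' c' = φ (xor a a') (xor b b') (xor c c') := by
    intro a b c a' b' c'
    cases a <;> cases b <;> cases c <;> cases a' <;> cases b' <;> cases c' <;>
      simp [hφ, mul_assoc, hz, hs, ht, hzs, hzt, hst, hz', hs', ht', hzs', hzt', hst']
  have hone : φ false false false = 1 := by simp [hφ]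
  have hsq : ∀ a b c, φ a b c * φ a b c = 1 := by
    intro a b c
    rw [hmul]
    simpa using hone
  have hker : ∀ a b c, φ a b c = 1 → a = false ∧ b = false ∧ c = false := by
    intro a b c h
    cases a <;> cases b <;> cases c <;>
      simp only [hφ, ↓reduceIte, Bool.false_eq_true, one_mul, mul_one] at h
    · exact ⟨rfl, rfl, rfl⟩
    · exact absurd h ht1
    · exact absurd h hs1
    · refine absurd ?_ hts
      calc t = s * (s * t) := (hs' t).symm
        _ = s := by rw [h, mul_one]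
    · exact absurd h hz1
    · refine absurd ?_ htz
      calc t = z * (z * t) := (hz' t).symm
        _ = z := by rw [h, mul_one]
    · refine absurd ?_ hsz
      calc s = z * (z * s) := (hz' s).symm
        _ = z := by rw [h, mul_one]
    · refine absurd ?_ htzs
      have h1 : s * t = z := by
        calc s * t = z * (z * (s * t)) := (hz' _).symm
          _ = z := by rw [h, mul_one]
      calc t = s * (s * t) := (hs' t).symm
        _ = s * z := by rw [h1]
        _ = z * s := hzs
  have hxor : ∀ a b : Bool, xor a b = false → a = b := by decide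
  let A : Subgroup G :=
    { carrier := {x | ∃ a b c, x = φ a b c}
      mul_mem' := by
        rintro _ _ ⟨a, b, c, rfl⟩ ⟨a', b', c', rfl⟩
        exact ⟨_, _, _, hmul a b c a' b' c'⟩
      one_mem' := ⟨false, false, false, hone.symm⟩
      inv_mem' := by
        rintro _ ⟨a, b, c, rfl⟩
        exact ⟨a, b, c, inv_eq_of_mul_eq_one_left (hsq a b c)⟩ }
  have hAmem : ∀ x : G, x ∈ A ↔ ∃ a b c, x = φ a b c := fun x => Iff.rfl
  refine ⟨A, ⟨⟨fun x y => Subtype.ext ?_⟩⟩, ?_, ?_⟩
  · obtain ⟨a, b, c, hx⟩ := (hAmem _).mp x.2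
    obtain ⟨a', b', c', hy⟩ := (hAmem _).mp y.2
    show (x : G) * (y : G) = (y : G) * (x : G)
    rw [hx, hy, hmul, hmul, Bool.xor_comm a, Bool.xor_comm b, Bool.xor_comm c]
  · rintro x hx
    obtain ⟨a, b, c, rfl⟩ := (hAmem _).mp hx
    exact hsq a b c
  · let f : Bool × Bool × Bool → A := fun p => ⟨φ p.1 p.2.1 p.2.2, ⟨_, _, _, rfl⟩⟩
    have hfs : Function.Surjective f := by
      rintro ⟨x, hx⟩
      obtain ⟨a, b, c, rfl⟩ := (hAmem _).mp hx
      exact ⟨(a, b, c), rfl⟩
    have hfi : Function.Injective f := by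
      rintro ⟨a, b, c⟩ ⟨a', b', c'⟩ h
      have h1 : φ a b c = φ a' b' c' := congrArg (fun y : A => (y : G)) h
      have h2 : φ (xor a a') (xor b b') (xor c c') = 1 := by
        rw [← hmul, h1, hsq]
      obtain ⟨e1, e2, e3⟩ := hker _ _ _ h2
      rw [hxor _ _ e1, hxor _ _ e2, hxor _ _ e3]
    haveI : Finite A := Finite.of_surjective f hfs
    have h8 : Nat.card (Bool × Bool × Bool) = 8 := by
      simp [Nat.card_eq_fintype_card]
    have := Nat.card_le_card_of_injective f hfi
    omega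

theorem s6_invol_anti {F : Type*} [Field F] (h2 : (2 : F) ≠ 0) (R : Subgroup (GL S6I F))
    (hRm : IsOfMinusType 2 R) (hneg : ∃ z ∈ R, (z : Matrix S6I S6I F) = -1) :
    ∀ s ∈ R, ∀ t ∈ R, (s : Matrix S6I S6I F) * (s : Matrix S6I S6I F) = 1 → (t : Matrix S6I S6I F) * (t : Matrix S6I S6I F) = 1 →
      (s : Matrix S6I S6I F) ≠ 1 → (s : Matrix S6I S6I F) ≠ -1 → (t : Matrix S6I S6I F) ≠ 1 → (t : Matrix S6I S6I F) ≠ -1 →
      (s : Matrix S6I S6I F) * (t : Matrix S6I S6I F) = (t : Matrix S6I S6I F) * (s : Matrix S6I S6I F) → ((t : Matrix S6I S6I F) = (s : Matrix S6I S6I F) ∨ (t : Matrix S6I S6I F) = -(s : Matrix S6I S6I F)) := by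
  obtain ⟨z, hzR, hz⟩ := hneg
  intro s hs t ht hs2 ht2 hs1 hs1' ht1 ht1' hst
  by_contra hcon
  rw [not_or] at hcon
  obtain ⟨hts, hts'⟩ := hcon
  have hM : ∀ x y : R, x = y →
      (((x : R) : GL S6I F) : Matrix S6I S6I F) = (((y : R) : GL S6I F) : Matrix S6I S6I F) :=
    fun x y h => by rw [h]
  have hext : ∀ x y : R,
      (((x : R) : GL S6I F) : Matrix S6I S6I F) = (((y : R) : GL S6I F) : Matrix S6I S6I F) → x = y :=
    fun x y h => Subtype.ext (Units.ext h)
  have h11 : (-1 : Matrix S6I S6I F) ≠ 1 := by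
    intro h
    have h' := congrFun (congrFun h (Sum.inl 0)) (Sum.inl 0)
    simp only [Matrix.neg_apply, Matrix.one_apply_eq] at h'
    exact h2 (by linear_combination (-1 : F) * h')
  obtain ⟨A, hAc, hAe, hA8⟩ := helper9_elem8 (G := R) ⟨z, hzR⟩ ⟨s, hs⟩ ⟨t, ht⟩
    (hext _ _ (by simp [hz]))
    (hext _ _ (by simpa using hs2))
    (hext _ _ (by simpa using ht2))
    (hext _ _ (by simp [hz]))
    (hext _ _ (by simp [hz]))
    (hext _ _ (by simpa using hst.symm))
    (fun h => h11 (by simpa [hz] using hM _ _ h))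
    (fun h => hs1 (by simpa using hM _ _ h))
    (fun h => hs1' (by simpa [hz] using hM _ _ h))
    (fun h => ht1 (by simpa using hM _ _ h))
    (fun h => ht1' (by simpa [hz] using hM _ _ h))
    (fun h => hts (by simpa using hM _ _ h))
    (fun h => hts' (by simpa [hz] using hM _ _ h))
  have := hRm A hAc hAe
  norm_num at this
  omega

end Cfsg.Agent.Lib.helper24
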