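import Mathlib
import Cfsg.Agent.Lib.helper24.S6eDefs

set_option autoImplicit false

namespace Cfsg.Agent.Lib.helper24

open Matrix Cfsg Cfsg.Geo

/-- Among at least twelve elements one lies outside a list of at most eight. -/
theorem helper9_pick12 {α : Type*} (P : α → Prop) (hP : 12 ≤ Nat.card {x // P x}) (l : List α)
    (hl : l.length ≤ 8) : ∃ x, P x ∧ x ∉ l := by
  classical
  by_contra h
  have h' : ∀ x, P x → x ∈ l := by
    intro x hx
    by_contra hxl
    exact h ⟨x, hx, hxl⟩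
  have h1 : Nat.card {x // P x} ≤ Nat.card {x // x ∈ l.toFinset} :=
    Nat.card_le_card_of_injective (fun x => ⟨x.1, List.mem_toFinset.mpr (h' x.1 x.2)⟩)
      (fun a b hab => Subtype.ext (by simpa using congrArg (fun y => y.1) hab))
  have h3 : Nat.card {x // x ∈ l.toFinset} = l.toFinset.card := by
    rw [Nat.card_eq_fintype_card, Fintype.card_coe]
  have h2 := List.toFinset_card_le l
  omega

theorem s6_frame4 {F : Type*} [Field F] [Fintype F] (h2 : (2 : F) ≠ 0) (R : Subgroup (GL S6I F))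
    (hcomm : ∀ s ∈ R, ∀ t ∈ R, (s : Matrix S6I S6I F) * (t : Matrix S6I S6I F) = (t : Matrix S6I S6I F) * (s : Matrix S6I S6I F) ∨
      (s : Matrix S6I S6I F) * (t : Matrix S6I S6I F) = -((t : Matrix S6I S6I F) * (s : Matrix S6I S6I F)))
    (hanti : ∀ s ∈ R, ∀ t ∈ R, (s : Matrix S6I S6I F) * (s : Matrix S6I S6I F) = 1 → (t : Matrix S6I S6I F) * (t : Matrix S6I S6I F) = 1 →
      (s : Matrix S6I S6I F) ≠ 1 → (s : Matrix S6I S6I F) ≠ -1 → (t : Matrix S6I S6I F) ≠ 1 → (t : Matrix S6I S6I F) ≠ -1 →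
      (s : Matrix S6I S6I F) * (t : Matrix S6I S6I F) = (t : Matrix S6I S6I F) * (s : Matrix S6I S6I F) → ((t : Matrix S6I S6I F) = (s : Matrix S6I S6I F) ∨ (t : Matrix S6I S6I F) = -(s : Matrix S6I S6I F)))
    (hcount : 12 ≤ Nat.card {s : GL S6I F // s ∈ R ∧ (s : Matrix S6I S6I F) * (s : Matrix S6I S6I F) = 1}) :
    ∃ t : Fin 4 → GL S6I F, (∀ i, t i ∈ R) ∧ (∀ i, (t i : Matrix S6I S6I F) * (t i : Matrix S6I S6I F) = 1) ∧
      ∀ i j, i ≠ j → (t i : Matrix S6I S6I F) * (t j : Matrix S6I S6I F) = -((t j : Matrix S6I S6I F) * (t i : Matrix S6I S6I F)) := by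
  have hm1 : ((-1 : GL S6I F) : Matrix S6I S6I F) = -1 := by simp
  have hmn : ∀ a : GL S6I F, ((-a : GL S6I F) : Matrix S6I S6I F) = -(a : Matrix S6I S6I F) :=
    fun a => by simp
  -- anticommutation of two non-proportional non-central involutions
  have hpair : ∀ a b : GL S6I F, a ∈ R → b ∈ R →
      (a : Matrix S6I S6I F) * (a : Matrix S6I S6I F) = 1 →
      (b : Matrix S6I S6I F) * (b : Matrix S6I S6I F) = 1 →
      a ≠ 1 → a ≠ -1 → b ≠ 1 → b ≠ -1 → b ≠ a → b ≠ -a →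
      (a : Matrix S6I S6I F) * (b : Matrix S6I S6I F) = -((b : Matrix S6I S6I F) * (a : Matrix S6I S6I F)) := by
    intro a b ha hb ha2 hb2 ha1 ha1' hb1 hb1' hba hba'
    rcases hcomm a ha b hb with h | h
    · exfalso
      rcases hanti a ha b hb ha2 hb2 (fun h' => ha1 (Units.ext h'))
        (fun h' => ha1' (Units.ext (h'.trans hm1.symm))) (fun h' => hb1 (Units.ext h'))
        (fun h' => hb1' (Units.ext (h'.trans hm1.symm))) h with h' | h'
      · exact hba (Units.ext h')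
      · exact hba' (Units.ext (h'.trans (hmn a).symm))
    · exact h
  obtain ⟨t0, ⟨ht0R, ht02⟩, hn0⟩ := helper9_pick12 _ hcount [1, -1] (by simp)
  obtain ⟨t1, ⟨ht1R, ht12⟩, hn1⟩ := helper9_pick12 _ hcount [1, -1, t0, -t0] (by simp)
  obtain ⟨t2, ⟨ht2R, ht22⟩, hn2⟩ := helper9_pick12 _ hcount [1, -1, t0, -t0, t1, -t1] (by simp)
  obtain ⟨t3, ⟨ht3R, ht32⟩, hn3⟩ :=
    helper9_pick12 _ hcount [1, -1, t0, -t0, t1, -t1, t2, -t2] (by simp)
  simp only [List.mem_cons, List.not_mem_nil, or_false, not_or] at hn0 hn1 hn2 hn3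
  obtain ⟨a0, b0⟩ := hn0
  obtain ⟨a1, b1, c1, d1⟩ := hn1
  obtain ⟨a2, b2, c2, d2, e2, f2⟩ := hn2
  obtain ⟨a3, b3, c3, d3, e3, f3, g3, k3⟩ := hn3
  have h01 := hpair t0 t1 ht0R ht1R ht02 ht12 a0 b0 a1 b1 c1 d1
  have h02 := hpair t0 t2 ht0R ht2R ht02 ht22 a0 b0 a2 b2 c2 d2
  have h03 := hpair t0 t3 ht0R ht3R ht02 ht32 a0 b0 a3 b3 c3 d3
  have h12 := hpair t1 t2 ht1R ht2R ht12 ht22 a1 b1 a2 b2 e2 f2
  have h13 := hpair t1 t3 ht1R ht3R ht12 ht32 a1 b1 a3 b3 e3 f3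
  have h23 := hpair t2 t3 ht2R ht3R ht22 ht32 a2 b2 a3 b3 g3 k3
  have h10 := neg_eq_iff_eq_neg.mp h01.symm
  have h20 := neg_eq_iff_eq_neg.mp h02.symm
  have h30 := neg_eq_iff_eq_neg.mp h03.symm
  have h21 := neg_eq_iff_eq_neg.mp h12.symm
  have h31 := neg_eq_iff_eq_neg.mp h13.symm
  have h32 := neg_eq_iff_eq_neg.mp h23.symm
  refine ⟨![t0, t1, t2, t3], ?_, ?_, ?_⟩
  · intro i
    fin_cases i
    · exact ht0R
    · exact ht1R
    · exact ht2R
    · exact ht3R
  · intro i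
    fin_cases i
    · exact ht02
    · exact ht12
    · exact ht22
    · exact ht32
  · intro i j hij
    fin_cases i <;> fin_cases j <;>
      first
        | exact absurd rfl hij
        | exact h01 | exact h02 | exact h03 | exact h12 | exact h13 | exact h23
        | exact h10 | exact h20 | exact h30 | exact h21 | exact h31 | exact h32

end Cfsg.Agent.Lib.helper24
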