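import Mathlib
import Cfsg.Agent.Lib.helper24.SfuDefs
import Cfsg.Agent.Lib.helper9.SfuSESQ

set_option autoImplicit false

namespace Cfsg.Agent.Lib.helper24

open Module Matrix Cfsg.Geo

/-- STD -/
theorem sfu_std_unitary {F : Type*} [Field F] [Fintype F] (q₀ : ℕ)
    (hcard : Fintype.card F = q₀ ^ 2) (m : ℕ) : IsUnitaryFormPow q₀ (sfuStd F q₀ m) := by
  classical
  obtain ⟨hq0, hinv, hadd⟩ := h9_sfu_frob q₀ hcard
  refine ⟨?_, ?_, ?_, ?_⟩
  · intro x y v
    simp only [sfuStd, Pi.add_apply, add_mul, Finset.sum_add_distrib]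
  · intro c x v
    simp only [sfuStd, Pi.smul_apply, smul_eq_mul, Finset.mul_sum, mul_assoc]
  · intro v w
    let φ : F →+ F :=
      { toFun := fun x => x ^ q₀
        map_zero' := zero_pow hq0
        map_add' := hadd }
    have h1 : (∑ k, w k * v k ^ q₀) ^ q₀ = ∑ k, (w k * v k ^ q₀) ^ q₀ :=
      map_sum φ (fun k => w k * v k ^ q₀) Finset.univ
    simp only [sfuStd]
    rw [h1]
    apply Finset.sum_congr rfl
    intro k _
    rw [mul_pow, hinv, mul_comm]
  · intro v hv
    obtain ⟨k, hk⟩ : ∃ k, v k ≠ 0 := by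
      by_contra hcon
      push Not at hcon
      exact hv (funext hcon)
    refine ⟨⟨Pi.single k 1, ?_⟩, ⟨Pi.single k 1, ?_⟩⟩
    · have h1 : sfuStd F q₀ m (Pi.single k 1) v = v k ^ q₀ := by
        simp only [sfuStd]
        rw [Finset.sum_eq_single k]
        · simp
        · intro j _ hj
          simp [hj]
        · intro h; exact absurd (Finset.mem_univ k) h
      rw [h1]; exact pow_ne_zero _ hk
    · have h1 : sfuStd F q₀ m v (Pi.single k 1) = v k := by
        simp only [sfuStd]
        rw [Finset.sum_eq_single k]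
        · simp
        · intro j _ hj
          simp [hj, hq0]
        · intro h; exact absurd (Finset.mem_univ k) h
      rw [h1]; exact hk

end Cfsg.Agent.Lib.helper24
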