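import Mathlib
import Cfsg.Prelude.Def_Blocks
import Cfsg.Agent.Lib.helper20.ClassNil

/-!
# Shared definitions for the S5005 split project (helper9): counting in the class algebra mod 2
-/

set_option autoImplicit false

namespace Cfsg.Agent.Lib.helper9.B22

universe u

variable {G : Type u} [Group G] [Fintype G] [DecidableEq G]

/-- The number of `x ∈ S` with `x⁻¹ * z ∈ S'`: the coefficient of `z` in `σ(S) * σ(S')`. -/
def cnt (S S' : Finset G) (z : G) : ℕ := (S.filter (fun x => x⁻¹ * z ∈ S')).card

/-- The sum of the elements of `S` in the group algebra over `ZMod 2`. -/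
noncomputable def sg (S : Finset G) : MonoidAlgebra (ZMod 2) G :=
  ∑ x ∈ S, MonoidAlgebra.single x 1

/-- The elements of order `n`. -/
noncomputable def ordF (G : Type u) [Group G] [Fintype G] [DecidableEq G] (n : ℕ) : Finset G :=
  Finset.univ.filter (fun x => orderOf x = n)

/-- The number of `a` with `a * a = 1` and `a * v ∈ S`. -/
def sq (S : Finset G) (v : G) : ℕ :=
  (Finset.univ.filter (fun a : G => a * a = 1 ∧ a * v ∈ S)).card

/-- The number of fixed points of a permutation. -/
def fixc {α : Type*} [Fintype α] [DecidableEq α] (σ : Equiv.Perm α) : ℕ :=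
  (Finset.univ.filter (fun i => σ i = i)).card

end Cfsg.Agent.Lib.helper9.B22
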