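import Mathlib
import Cfsg.Agent.Lib.helper26.S4409Defs

set_option autoImplicit false

namespace Cfsg.Agent.Lib.helper26.S4409

theorem t1v {G : Type*} [Group G] [Finite G] (X Q : Subgroup G) (hX : IsPGroup 2 ↥X) (hQX : Q ≤ X)
    (hn : X ≤ Subgroup.normalizer (Q : Set G)) (hV : IsV4 Q)
    (hC : X ⊓ Subgroup.centralizer (Q : Set G) ≤ Q) : NoP X := by
  classical
  intro A hAX hAc hA8
  exfalso
  obtain ⟨hQ4, hQ2⟩ := hV
  have hQn : (Q : Set G).ncard = 4 := by rw [← Nat.card_coe_set_eq]; exact hQ4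
  have hAn : (A : Set G).ncard = 8 := by rw [← Nat.card_coe_set_eq]; exact hA8
  have hfin : ∀ S : Set G, S.Finite := fun S => Set.toFinite S
  suffices hAQ : A ≤ Q by
    have h1 : (A : Set G).ncard ≤ (Q : Set G).ncard := Set.ncard_le_ncard hAQ (hfin _)
    omega
  have hconj : ∀ x ∈ A, ∀ q ∈ Q, x * q * x⁻¹ ∈ Q := by
    intro x hx q hq
    exact (Subgroup.mem_set_normalizer_iff.mp (hn (hAX hx)) q).mp hq
  have hAcomm : ∀ a ∈ A, ∀ b ∈ A, a * b = b * a := by
    intro a ha b hb
    exact congrArg Subtype.val (hAc.is_comm.comm ⟨a, ha⟩ ⟨b, hb⟩)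
  have hcase1 : (∀ x ∈ A, ∀ q ∈ Q, q * x = x * q) → A ≤ Q := by
    intro hall x hx
    apply hC
    exact Subgroup.mem_inf.mpr ⟨hAX hx, Subgroup.mem_centralizer_iff.mpr
      (fun q hq => hall x hx q hq)⟩
  have hA2 : IsPGroup 2 ↥A := hX.to_le hAX
  let act : MulAction ↥A ↥Q :=
    { smul := fun x q => ⟨(x : G) * q * (x : G)⁻¹, hconj x x.2 q q.2⟩
      one_smul := fun q => Subtype.ext (by
        show ((1 : ↥A) : G) * q * ((1 : ↥A) : G)⁻¹ = q
        simp)
      mul_smul := fun x x' q => Subtype.ext (by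
        show ((x * x' : ↥A) : G) * q * ((x * x' : ↥A) : G)⁻¹ =
          (x : G) * ((x' : G) * q * (x' : G)⁻¹) * (x : G)⁻¹
        rw [Subgroup.coe_mul, mul_inv_rev]; simp only [mul_assoc]) }
  have hsmul : ∀ (x : ↥A) (q : ↥Q), ((x • q : ↥Q) : G) = (x : G) * q * (x : G)⁻¹ :=
    fun _ _ => rfl
  have hmod := hA2.card_modEq_card_fixedPoints ↥Q
  have hfix : ∃ z ∈ Q, z ≠ 1 ∧ ∀ x ∈ A, x * z * x⁻¹ = z := by
    by_contra hcon
    push Not at hcon
    have htriv : ∀ a : MulAction.fixedPoints ↥A ↥Q, (a : ↥Q) = 1 := by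
      intro a
      by_contra hne
      have hne' : ((a : ↥Q) : G) ≠ 1 := fun h => hne (Subtype.ext h)
      obtain ⟨x, hx, hxz⟩ := hcon _ (a : ↥Q).2 hne'
      apply hxz
      have h1 := a.2 ⟨x, hx⟩
      exact congrArg Subtype.val h1
    have hone : Nat.card (MulAction.fixedPoints ↥A ↥Q) = 1 := by
      rw [Nat.card_eq_one_iff_unique]
      constructor
      · constructor
        intro a b
        exact Subtype.ext ((htriv a).trans (htriv b).symm)
      · exact ⟨⟨1, fun x => Subtype.ext (by rw [hsmul]; simp)⟩⟩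
    rw [hQ4, hone] at hmod
    exact absurd hmod (by decide)
  obtain ⟨z, hzQ, hz1, hzfix⟩ := hfix
  obtain ⟨u, huQ, hu1, huz⟩ : ∃ u ∈ Q, u ≠ 1 ∧ u ≠ z := by
    by_contra hcon
    push Not at hcon
    have hsub : (Q : Set G) ⊆ {1, z} := by
      intro q hq
      by_cases hq1 : q = 1
      · left; exact hq1
      · right; exact hcon q hq hq1
    have h1 : (Q : Set G).ncard ≤ ({1, z} : Set G).ncard := Set.ncard_le_ncard hsub (hfin _)
    have h2 : ({1, z} : Set G).ncard = 2 := Set.ncard_pair (Ne.symm hz1)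
    omega
  have hzz : z * z = 1 := hQ2 z hzQ
  have huzQ : u * z ∈ Q := Q.mul_mem huQ hzQ
  have hT : ({1, z, u, u * z} : Finset G).card = 4 := by
    have h1 : (1 : G) ∉ ({z, u, u * z} : Finset G) := by
      simp only [Finset.mem_insert, Finset.mem_singleton, not_or]
      refine ⟨Ne.symm hz1, Ne.symm hu1, ?_⟩
      intro h
      apply huz
      calc u = u * (z * z) := by rw [hzz, mul_one]
        _ = (u * z) * z := by rw [mul_assoc]
        _ = z := by rw [← h, one_mul]
    have h2 : z ∉ ({u, u * z} : Finset G) := by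
      simp only [Finset.mem_insert, Finset.mem_singleton, not_or]
      refine ⟨Ne.symm huz, ?_⟩
      intro h
      exact hu1 (mul_eq_right.mp h.symm)
    have h3 : u ∉ ({u * z} : Finset G) := by
      simp only [Finset.mem_singleton]
      intro h
      exact hz1 (mul_eq_left.mp h.symm)
    rw [Finset.card_insert_of_notMem h1, Finset.card_insert_of_notMem h2,
      Finset.card_insert_of_notMem h3, Finset.card_singleton]
  have hQT : (Q : Set G) = ↑({1, z, u, u * z} : Finset G) := by
    symm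
    apply Set.eq_of_subset_of_ncard_le _ _ (hfin _)
    · intro q hq
      simp only [Finset.coe_insert, Finset.coe_singleton, Set.mem_insert_iff,
        Set.mem_singleton_iff] at hq
      rcases hq with rfl | rfl | rfl | rfl
      · exact Q.one_mem
      · exact hzQ
      · exact huQ
      · exact huzQ
    · rw [hQn, Set.ncard_coe_finset, hT]
  have hQmem : ∀ q ∈ Q, q = 1 ∨ q = z ∨ q = u ∨ q = u * z := by
    intro q hq
    have h1 : q ∈ (Q : Set G) := hq
    rw [hQT] at h1
    simpa using h1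
  have hBcen : ∀ x ∈ A, x * u * x⁻¹ = u → ∀ q ∈ Q, q * x = x * q := by
    intro x hx hxu q hq
    have hxz := hzfix x hx
    have e1 : x * u = u * x := by
      calc x * u = x * u * x⁻¹ * x := by group
        _ = u * x := by rw [hxu]
    have e2 : x * z = z * x := by
      calc x * z = x * z * x⁻¹ * x := by group
        _ = z * x := by rw [hxz]
    rcases hQmem q hq with rfl | rfl | rfl | rfl
    · simp
    · exact e2.symm
    · exact e1.symm
    · rw [mul_assoc, ← e2, ← mul_assoc, ← e1, mul_assoc]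
  by_cases hx₀ : ∃ x₀ ∈ A, x₀ * u * x₀⁻¹ ≠ u
  · obtain ⟨x₀, hx₀A, hx₀u⟩ := hx₀
    have hconju : ∀ x ∈ A, x * u * x⁻¹ = u ∨ x * u * x⁻¹ = u * z := by
      intro x hx
      rcases hQmem _ (hconj x hx u huQ) with h | h | h | h
      · exfalso; apply hu1
        have e : u = x⁻¹ * (x * u * x⁻¹) * x := by group
        rw [e, h]; group
      · exfalso; apply huz
        have e : u = x⁻¹ * (x * u * x⁻¹) * x := by group
        rw [e, h]
        have hxz := hzfix x hx
        calc x⁻¹ * z * x = x⁻¹ * (x * z * x⁻¹) * x := by rw [hxz]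
          _ = z := by group
      · left; exact h
      · right; exact h
    have hx₀uz : x₀ * u * x₀⁻¹ = u * z := (hconju x₀ hx₀A).resolve_left hx₀u
    obtain ⟨B, hB⟩ : ∃ B : Set G, B = {x | x ∈ A ∧ x * u * x⁻¹ = u} := ⟨_, rfl⟩
    have hBQ : B ⊆ (Q : Set G) := by
      intro x hx
      rw [hB] at hx
      exact hC (Subgroup.mem_inf.mpr ⟨hAX hx.1, Subgroup.mem_centralizer_iff.mpr
        (fun q hq => hBcen x hx.1 hx.2 q hq)⟩)
    have hcover : (A : Set G) ⊆ B ∪ (fun b => x₀ * b) '' B := by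
      intro x hx
      rcases hconju x hx with h | h
      · left; rw [hB]; exact ⟨hx, h⟩
      · right
        refine ⟨x₀⁻¹ * x, ?_, by group⟩
        rw [hB]
        refine ⟨A.mul_mem (A.inv_mem hx₀A) hx, ?_⟩
        calc x₀⁻¹ * x * u * (x₀⁻¹ * x)⁻¹ = x₀⁻¹ * (x * u * x⁻¹) * x₀ := by group
          _ = x₀⁻¹ * (x₀ * u * x₀⁻¹) * x₀ := by rw [h, hx₀uz]
          _ = u := by group
    have hcard : (A : Set G).ncard ≤ B.ncard + B.ncard := by
      calc (A : Set G).ncard ≤ (B ∪ (fun b => x₀ * b) '' B).ncard :=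
            Set.ncard_le_ncard hcover (hfin _)
        _ ≤ B.ncard + ((fun b => x₀ * b) '' B).ncard := Set.ncard_union_le _ _
        _ ≤ B.ncard + B.ncard := Nat.add_le_add_left (Set.ncard_image_le (hfin _)) _
    have hB4 : B.ncard ≤ (Q : Set G).ncard := Set.ncard_le_ncard hBQ (hfin _)
    have hBeq : B = (Q : Set G) := Set.eq_of_subset_of_ncard_le hBQ (by omega) (hfin _)
    have hQA : Q ≤ A := by
      intro q hq
      have h1 : q ∈ B := by rw [hBeq]; exact hq
      rw [hB] at h1
      exact h1.1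
    apply hcase1
    intro x hx q hq
    exact hAcomm q (hQA hq) x hx
  · push Not at hx₀
    apply hcase1
    intro x hx q hq
    exact hBcen x hx (hx₀ x hx) q hq

end Cfsg.Agent.Lib.helper26.S4409
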