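import Mathlib
import Cfsg.Prelude.Def_Classical
import Cfsg.Agent.Lib.helper44.SUWDefs

set_option autoImplicit false
set_option linter.unusedSimpArgs false

namespace Cfsg.Agent.Lib.helper44.SUW

open Matrix Cfsg

theorem helper9_blk {K : Type*} [Field K] {n : Type*} [Fintype n] [DecidableEq n]
    (D : Matrix n n K) (a b : K) (hab : a * b = -1) :
    Matrix.fromBlocks (1 + D) (a • D) (b • D) (1 - D) *
      Matrix.fromBlocks (1 - D) (-(a • D)) (-(b • D)) (1 + D) = 1 := by
  have hba : b * a = -1 := by rw [mul_comm]; exact hab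
  rw [Matrix.fromBlocks_multiply, ← Matrix.fromBlocks_one]
  congr 1
  · simp only [Matrix.add_mul, Matrix.mul_add, Matrix.sub_mul, Matrix.mul_sub, Matrix.one_mul,
      Matrix.mul_one, Matrix.mul_neg, Matrix.neg_mul, Matrix.smul_mul, Matrix.mul_smul, smul_smul,
      hab, hba]
    module
  · simp only [Matrix.add_mul, Matrix.mul_add, Matrix.sub_mul, Matrix.mul_sub, Matrix.one_mul,
      Matrix.mul_one, Matrix.mul_neg, Matrix.neg_mul, Matrix.smul_mul, Matrix.mul_smul, smul_smul,
      hab, hba]
    module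
  · simp only [Matrix.add_mul, Matrix.mul_add, Matrix.sub_mul, Matrix.mul_sub, Matrix.one_mul,
      Matrix.mul_one, Matrix.mul_neg, Matrix.neg_mul, Matrix.smul_mul, Matrix.mul_smul, smul_smul,
      hab, hba]
    module
  · simp only [Matrix.add_mul, Matrix.mul_add, Matrix.sub_mul, Matrix.mul_sub, Matrix.one_mul,
      Matrix.mul_one, Matrix.mul_neg, Matrix.neg_mul, Matrix.smul_mul, Matrix.mul_smul, smul_smul,
      hab, hba]
    module

theorem helper9_herm_eq {K : Type*} [Field K] {q n : ℕ} (σ : K →+* K) (hσ : ∀ x, σ x = x ^ q)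
    (u v : Fin n → K) :
    Cfsg.hermForm n K q u v = u ⬝ᵥ (fun i => σ (v i)) := by
  unfold Cfsg.hermForm dotProduct
  apply Finset.sum_congr rfl
  intro i _
  show u i * v i ^ q = u i * σ (v i)
  rw [hσ]

theorem helper9_map_mulVec {K : Type*} [Field K] {n : ℕ} (σ : K →+* K)
    (M : Matrix (Fin n) (Fin n) K) (v : Fin n → K) :
    (fun i => σ ((M *ᵥ v) i)) = M.map σ *ᵥ (fun i => σ (v i)) := by
  ext i
  simp [Matrix.mulVec, dotProduct, map_sum, map_mul]

theorem helper9_form_of_unitary {K : Type*} [Field K] {q n : ℕ} (σ : K →+* K)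
    (hσ : ∀ x, σ x = x ^ q) (M : Matrix (Fin n) (Fin n) K) (hM : Mᵀ * M.map σ = 1)
    (u v : Fin n → K) :
    Cfsg.hermForm n K q (M *ᵥ u) (M *ᵥ v) = Cfsg.hermForm n K q u v := by
  rw [helper9_herm_eq σ hσ, helper9_herm_eq σ hσ, helper9_map_mulVec]
  rw [dotProduct_comm, Matrix.dotProduct_mulVec, ← Matrix.mulVec_transpose, Matrix.mulVec_mulVec,
    hM, Matrix.one_mulVec, dotProduct_comm]

/-- UMEM (M) -/
theorem uMat_mem {K : Type*} [Field K] [Fintype K] {q m : ℕ} (hK : Fintype.card K = q ^ 2)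
    (σ : K →+* K) (hσ : ∀ x, σ x = x ^ q) (ε : K) (hε : ε * σ ε = -1)
    (C : Matrix (Fin m) (Fin m) K) (hC : C ∈ skewH σ m) :
    (uMat σ ε C).det = 1 ∧ ∀ u v : Fin (m + m) → K,
      Cfsg.hermForm (m + m) K q (uMat σ ε C *ᵥ u) (uMat σ ε C *ᵥ v) =
        Cfsg.hermForm (m + m) K q u v := by
  have hσσ : ∀ x, σ (σ x) = x := by
    intro x
    rw [hσ, hσ, ← pow_mul, ← sq, ← hK, FiniteField.pow_card]
  have hεσ : σ ε * ε = -1 := by rw [mul_comm]; exact hε
  constructor
  · unfold uMat
    rw [Matrix.det_submatrix_equiv_self]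
    have h1 : Matrix.fromBlocks (1 + C) (σ ε • C) (ε • C) (1 - C) =
        1 + Matrix.fromRows C (ε • C) * Matrix.fromCols (1 : Matrix (Fin m) (Fin m) K)
          (σ ε • (1 : Matrix (Fin m) (Fin m) K)) := by
      rw [Matrix.fromRows_mul_fromCols, ← Matrix.fromBlocks_one, Matrix.fromBlocks_add]
      congr 1
      · simp
      · simp
      · simp
      · rw [Matrix.smul_mul, Matrix.mul_smul, Matrix.mul_one, smul_smul, hε, neg_one_smul,
          sub_eq_add_neg]
    rw [h1, Matrix.det_one_add_mul_comm, Matrix.fromCols_mul_fromRows]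
    have h2 : (1 : Matrix (Fin m) (Fin m) K) * C +
        σ ε • (1 : Matrix (Fin m) (Fin m) K) * ε • C = 0 := by
      rw [Matrix.one_mul, Matrix.smul_mul, Matrix.one_mul, smul_smul, hεσ, neg_one_smul,
        add_neg_cancel]
    rw [h2, add_zero, Matrix.det_one]
  · have hM : (uMat σ ε C)ᵀ * (uMat σ ε C).map σ = 1 := by
      unfold uMat
      have e1 : (1 + C).map σ = 1 - Cᵀ := by
        ext i j
        simp only [Matrix.map_apply, Matrix.add_apply, Matrix.sub_apply, Matrix.transpose_apply,
          Matrix.one_apply, map_add, hC i j]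
        split_ifs <;> simp [sub_eq_add_neg]
      have e2 : (σ ε • C).map σ = -(ε • Cᵀ) := by
        ext i j
        simp only [Matrix.map_apply, Matrix.smul_apply, Matrix.neg_apply, Matrix.transpose_apply,
          smul_eq_mul, map_mul, hσσ, hC i j, mul_neg]
      have e3 : (ε • C).map σ = -(σ ε • Cᵀ) := by
        ext i j
        simp only [Matrix.map_apply, Matrix.smul_apply, Matrix.neg_apply, Matrix.transpose_apply,
          smul_eq_mul, map_mul, hC i j, mul_neg]
      have e4 : (1 - C).map σ = 1 + Cᵀ := by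
        ext i j
        simp only [Matrix.map_apply, Matrix.add_apply, Matrix.sub_apply, Matrix.transpose_apply,
          Matrix.one_apply, map_sub, hC i j]
        split_ifs <;> simp
      rw [Matrix.transpose_submatrix, ← Matrix.submatrix_map, Matrix.submatrix_mul_equiv,
        Matrix.fromBlocks_transpose, Matrix.fromBlocks_map, e1, e2, e3, e4,
        Matrix.transpose_add, Matrix.transpose_sub, Matrix.transpose_one, Matrix.transpose_smul,
        Matrix.transpose_smul, helper9_blk Cᵀ ε (σ ε) hε, Matrix.submatrix_one_equiv]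
    intro u v
    exact helper9_form_of_unitary σ hσ _ hM u v

end Cfsg.Agent.Lib.helper44.SUW
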