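import Cfsg.Agent.Lib.helper95.APDefs

set_option autoImplicit false

namespace Cfsg.Agent.Lib.helper95.AP

open Equiv

/-- [SYM] the statement is symmetric in `U`, `W` -/
theorem sym (p : ℕ) {n : ℕ} (U W : Perm (Fin n))
    (h : ∃ g : Perm (Fin n), Perm.sign g = 1 ∧ Good p W (g * U * g⁻¹)) :
    ∃ g : Perm (Fin n), Perm.sign g = 1 ∧ Good p U (g * W * g⁻¹) := by
  obtain ⟨g, hg, hord, hsol⟩ := h
  refine ⟨g⁻¹, by rw [Perm.sign_inv, hg], ?_, ?_⟩
  · intro hk
    apply hord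
    obtain ⟨k, hk⟩ := hk
    refine ⟨k, ?_⟩
    rw [← hk]
    have e : U * (g⁻¹ * W * g⁻¹⁻¹) = MulAut.conj (g⁻¹ * W⁻¹) (W * (g * U * g⁻¹)) := by
      rw [MulAut.conj_apply]; group
    rw [e, MulEquiv.orderOf_eq]
  · intro hs
    apply hsol
    have e : Subgroup.closure ({U, g⁻¹ * W * g⁻¹⁻¹} : Set (Perm (Fin n))) =
        (Subgroup.closure ({W, g * U * g⁻¹} : Set (Perm (Fin n)))).map
          (MulAut.conj g⁻¹).toMonoidHom := by
      rw [MonoidHom.map_closure, Set.image_pair]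
      have e1 : (MulAut.conj g⁻¹).toMonoidHom W = g⁻¹ * W * g⁻¹⁻¹ := rfl
      have e2 : (MulAut.conj g⁻¹).toMonoidHom (g * U * g⁻¹) = U := by
        show g⁻¹ * (g * U * g⁻¹) * g⁻¹⁻¹ = U
        group
      rw [e1, e2, Set.pair_comm]
    rw [e] at hs
    have hs' := hs
    exact Group.isSolvable_of_isSolvable_injective
      (f := (Subgroup.equivMapOfInjective _ (MulAut.conj g⁻¹).toMonoidHom
        (MulEquiv.injective _)).toMonoidHom) (MulEquiv.injective _)

end Cfsg.Agent.Lib.helper95.AP
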