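import Cfsg.Agent.Lib.helper9.M24OctStab
import Cfsg.Agent.Lib.helper33.PermMask

/-!
Tables of the transversal elements of the stabiliser chain of `Cfsg.M24`, composition of tables,
and normal forms for the elements of the stabilisers of the first base points.
-/

set_option autoImplicit false
open Cfsg
open scoped Pointwise

namespace Cfsg.Agent.Lib.helper9

open Cfsg.Agent.Lib.helper33 (IsTable)

/-- Tables of the transversal elements: entry `j`, `c` is the table of `permW (tw j c)`. -/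
def ttab : List (List (List ℕ)) :=
  [[[0, 1, 2, 3, 4, 5, 6, 7, 8, 9, 10, 11, 12, 13, 14, 15, 16, 17, 18, 19, 20, 21, 22, 23],
    [1, 2, 3, 4, 5, 6, 7, 8, 9, 10, 11, 12, 13, 14, 15, 16, 17, 18, 19, 20, 21, 22, 0, 23],
    [2, 3, 4, 5, 6, 7, 8, 9, 10, 11, 12, 13, 14, 15, 16, 17, 18, 19, 20, 21, 22, 0, 1, 23],
    [3, 4, 5, 6, 7, 8, 9, 10, 11, 12, 13, 14, 15, 16, 17, 18, 19, 20, 21, 22, 0, 1, 2, 23],
    [4, 3, 18, 7, 2, 10, 12, 13, 20, 17, 9, 16, 22, 15, 8, 14, 1, 11, 21, 5, 19, 0, 6, 23],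
    [5, 3, 2, 17, 6, 1, 9, 11, 12, 19, 16, 8, 15, 21, 14, 7, 13, 0, 10, 20, 4, 18, 22, 23],
    [6, 4, 3, 18, 7, 2, 10, 12, 13, 20, 17, 9, 16, 22, 15, 8, 14, 1, 11, 21, 5, 19, 0, 23],
    [7, 5, 4, 19, 8, 3, 11, 13, 14, 21, 18, 10, 17, 0, 16, 9, 15, 2, 12, 22, 6, 20, 1, 23],
    [8, 6, 5, 20, 9, 4, 12, 14, 15, 22, 19, 11, 18, 1, 17, 10, 16, 3, 13, 0, 7, 21, 2, 23],
    [9, 15, 11, 4, 19, 22, 5, 2, 21, 6, 10, 20, 3, 12, 18, 13, 7, 23, 16, 8, 17, 14, 1, 0],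
    [10, 14, 16, 8, 18, 12, 19, 4, 15, 1, 20, 6, 17, 2, 9, 3, 13, 5, 7, 11, 0, 23, 21, 22],
    [11, 15, 17, 9, 19, 13, 20, 5, 16, 2, 21, 7, 18, 3, 10, 4, 14, 6, 8, 12, 1, 23, 22, 0],
    [12, 1, 23, 22, 11, 15, 17, 9, 19, 13, 20, 5, 16, 2, 21, 7, 18, 3, 10, 4, 14, 6, 8, 0],
    [13, 22, 17, 5, 2, 1, 20, 0, 4, 15, 11, 6, 18, 7, 8, 16, 14, 12, 10, 3, 21, 9, 19, 23],
    [14, 0, 18, 6, 3, 2, 21, 1, 5, 16, 12, 7, 19, 8, 9, 17, 15, 13, 11, 4, 22, 10, 20, 23],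
    [15, 1, 19, 7, 4, 3, 22, 2, 6, 17, 13, 8, 20, 9, 10, 18, 16, 14, 12, 5, 0, 11, 21, 23],
    [16, 4, 1, 0, 19, 22, 3, 14, 10, 5, 17, 6, 7, 15, 13, 11, 9, 2, 20, 8, 18, 12, 21, 23],
    [17, 5, 2, 1, 20, 0, 4, 15, 11, 6, 18, 7, 8, 16, 14, 12, 10, 3, 21, 9, 19, 13, 22, 23],
    [18, 6, 3, 2, 21, 1, 5, 16, 12, 7, 19, 8, 9, 17, 15, 13, 11, 4, 22, 10, 20, 14, 0, 23],
    [19, 0, 6, 4, 3, 18, 7, 2, 10, 12, 13, 20, 17, 9, 16, 22, 15, 8, 14, 1, 11, 21, 5, 23],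
    [20, 14, 0, 18, 6, 3, 2, 21, 1, 5, 16, 12, 7, 19, 8, 9, 17, 15, 13, 11, 4, 22, 10, 23],
    [21, 22, 0, 1, 2, 3, 4, 5, 6, 7, 8, 9, 10, 11, 12, 13, 14, 15, 16, 17, 18, 19, 20, 23],
    [22, 0, 1, 2, 3, 4, 5, 6, 7, 8, 9, 10, 11, 12, 13, 14, 15, 16, 17, 18, 19, 20, 21, 23],
    [23, 22, 11, 15, 17, 9, 19, 13, 20, 5, 16, 2, 21, 7, 18, 3, 10, 4, 14, 6, 8, 12, 1, 0]],
   [[],
    [0, 1, 2, 3, 4, 5, 6, 7, 8, 9, 10, 11, 12, 13, 14, 15, 16, 17, 18, 19, 20, 21, 22, 23],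
    [0, 2, 18, 3, 1, 10, 4, 20, 9, 16, 21, 14, 13, 8, 19, 15, 12, 22, 6, 17, 5, 7, 11, 23],
    [0, 3, 8, 10, 21, 7, 23, 16, 2, 1, 18, 13, 12, 19, 9, 17, 20, 15, 14, 11, 4, 5, 6, 22],
    [0, 4, 1, 3, 6, 20, 18, 21, 13, 8, 5, 22, 16, 12, 11, 15, 9, 19, 2, 14, 7, 10, 17, 23],
    [0, 5, 17, 4, 13, 6, 8, 10, 21, 16, 20, 12, 1, 11, 15, 19, 22, 14, 7, 23, 3, 9, 2, 18],
    [0, 6, 4, 3, 18, 7, 2, 10, 12, 13, 20, 17, 9, 16, 22, 15, 8, 14, 1, 11, 21, 5, 19, 23],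
    [0, 7, 14, 18, 16, 2, 12, 20, 5, 8, 21, 9, 6, 17, 15, 11, 19, 22, 10, 23, 3, 13, 4, 1],
    [0, 8, 13, 4, 7, 10, 17, 20, 1, 11, 3, 14, 16, 22, 2, 19, 21, 15, 5, 12, 9, 6, 23, 18],
    [0, 9, 8, 1, 20, 21, 22, 5, 2, 14, 3, 19, 12, 11, 18, 17, 7, 15, 10, 13, 16, 4, 23, 6],
    [0, 10, 12, 4, 7, 18, 22, 2, 21, 23, 3, 20, 1, 13, 19, 9, 5, 17, 6, 15, 14, 16, 8, 11],
    [0, 11, 18, 14, 8, 21, 1, 10, 23, 20, 6, 9, 22, 16, 12, 19, 7, 13, 4, 5, 2, 3, 17, 15],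
    [0, 12, 16, 18, 10, 20, 14, 21, 6, 17, 3, 22, 8, 19, 4, 11, 5, 15, 7, 9, 13, 2, 23, 1],
    [0, 13, 12, 6, 21, 5, 19, 7, 4, 22, 3, 11, 9, 17, 1, 14, 10, 15, 20, 16, 8, 18, 23, 2],
    [0, 14, 10, 18, 7, 21, 16, 3, 8, 19, 13, 15, 17, 5, 23, 11, 6, 4, 12, 22, 2, 20, 9, 1],
    [0, 15, 3, 6, 12, 7, 23, 4, 22, 5, 8, 19, 11, 2, 1, 13, 18, 20, 14, 16, 21, 10, 9, 17],
    [0, 16, 9, 2, 5, 7, 11, 10, 18, 19, 3, 17, 13, 14, 6, 22, 20, 15, 21, 8, 12, 1, 23, 4],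
    [0, 17, 6, 12, 13, 2, 23, 20, 16, 4, 18, 9, 8, 22, 7, 15, 21, 11, 3, 19, 5, 10, 1, 14],
    [0, 18, 6, 3, 2, 21, 1, 5, 16, 12, 7, 19, 8, 9, 17, 15, 13, 11, 4, 22, 10, 20, 14, 23],
    [0, 19, 10, 18, 2, 4, 9, 3, 6, 16, 22, 14, 23, 7, 12, 13, 5, 11, 20, 21, 8, 1, 15, 17],
    [0, 20, 9, 18, 10, 1, 19, 4, 5, 23, 3, 21, 6, 16, 11, 13, 7, 14, 2, 15, 22, 8, 12, 17],
    [0, 21, 4, 7, 5, 16, 8, 13, 20, 6, 2, 17, 14, 15, 11, 22, 9, 23, 3, 1, 18, 19, 10, 12],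
    [0, 22, 7, 4, 6, 2, 12, 3, 1, 13, 14, 17, 23, 5, 8, 9, 21, 19, 10, 20, 16, 18, 15, 11],
    [0, 23, 21, 10, 14, 16, 8, 18, 12, 19, 4, 15, 1, 20, 6, 17, 2, 9, 3, 13, 5, 7, 11, 22]],
   [[],
    [],
    [0, 1, 2, 3, 4, 5, 6, 7, 8, 9, 10, 11, 12, 13, 14, 15, 16, 17, 18, 19, 20, 21, 22, 23],
    [0, 1, 3, 2, 15, 5, 6, 8, 7, 11, 19, 9, 16, 21, 17, 4, 12, 14, 18, 10, 20, 13, 22, 23],
    [0, 1, 4, 2, 15, 22, 18, 21, 12, 19, 11, 9, 17, 8, 16, 3, 7, 13, 6, 10, 20, 14, 5, 23],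
    [0, 1, 5, 6, 3, 14, 19, 16, 22, 17, 4, 8, 21, 15, 7, 20, 18, 9, 2, 23, 13, 12, 11, 10],
    [0, 1, 6, 12, 22, 3, 15, 8, 4, 2, 16, 13, 7, 20, 19, 17, 23, 14, 11, 9, 10, 21, 5, 18],
    [0, 1, 7, 5, 16, 21, 6, 11, 22, 10, 20, 14, 2, 23, 12, 19, 3, 17, 15, 13, 8, 4, 9, 18],
    [0, 1, 8, 14, 4, 10, 18, 6, 22, 16, 2, 13, 20, 7, 17, 19, 23, 12, 11, 9, 3, 21, 5, 15],
    [0, 1, 9, 5, 8, 22, 2, 12, 7, 19, 20, 18, 3, 11, 17, 6, 10, 15, 23, 14, 13, 21, 4, 16],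
    [0, 1, 10, 20, 4, 22, 7, 13, 2, 19, 5, 18, 17, 11, 3, 23, 9, 14, 6, 15, 12, 21, 8, 16],
    [0, 1, 11, 5, 10, 23, 16, 3, 8, 7, 18, 20, 15, 14, 9, 6, 19, 21, 22, 17, 4, 12, 2, 13],
    [0, 1, 12, 16, 21, 3, 6, 2, 20, 22, 9, 7, 14, 19, 11, 18, 4, 17, 23, 15, 10, 5, 8, 13],
    [0, 1, 13, 21, 15, 19, 5, 10, 6, 23, 16, 11, 7, 3, 12, 22, 14, 8, 18, 17, 2, 20, 9, 4],
    [0, 1, 14, 2, 8, 13, 7, 4, 21, 18, 6, 15, 20, 23, 11, 12, 9, 10, 5, 16, 3, 17, 22, 19],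
    [0, 1, 15, 22, 16, 12, 8, 5, 19, 20, 9, 13, 17, 14, 3, 10, 6, 21, 18, 4, 2, 7, 11, 23],
    [0, 1, 16, 10, 23, 18, 4, 5, 22, 9, 19, 8, 12, 15, 2, 20, 14, 17, 7, 3, 13, 21, 11, 6],
    [0, 1, 17, 8, 19, 13, 4, 11, 14, 18, 6, 3, 5, 20, 7, 10, 12, 9, 23, 15, 16, 21, 22, 2],
    [0, 1, 18, 4, 10, 2, 3, 14, 11, 17, 23, 22, 21, 20, 5, 13, 7, 9, 16, 6, 15, 12, 8, 19],
    [0, 1, 19, 8, 18, 13, 14, 7, 6, 23, 20, 22, 10, 2, 12, 11, 5, 21, 15, 17, 3, 16, 9, 4],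
    [0, 1, 20, 13, 23, 6, 8, 12, 17, 22, 7, 11, 14, 2, 16, 4, 10, 19, 18, 5, 21, 3, 15, 9],
    [0, 1, 21, 2, 9, 8, 17, 14, 19, 15, 12, 11, 16, 20, 10, 23, 7, 5, 18, 6, 3, 13, 4, 22],
    [0, 1, 22, 7, 20, 3, 15, 9, 8, 14, 4, 2, 21, 23, 13, 12, 6, 19, 10, 16, 11, 17, 18, 5],
    [0, 1, 23, 11, 6, 12, 10, 14, 3, 17, 15, 7, 16, 5, 8, 19, 20, 2, 9, 4, 13, 21, 22, 18]],
   [[],
    [],
    [],
    [0, 1, 2, 3, 4, 5, 6, 7, 8, 9, 10, 11, 12, 13, 14, 15, 16, 17, 18, 19, 20, 21, 22, 23],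
    [0, 1, 2, 4, 3, 16, 6, 7, 9, 8, 12, 20, 10, 17, 22, 18, 5, 13, 15, 19, 11, 21, 14, 23],
    [0, 1, 2, 5, 20, 13, 4, 7, 14, 18, 11, 9, 16, 22, 6, 23, 17, 15, 21, 3, 8, 10, 19, 12],
    [0, 1, 2, 6, 10, 7, 14, 17, 11, 4, 16, 8, 18, 15, 19, 22, 9, 21, 12, 3, 13, 5, 20, 23],
    [0, 1, 2, 7, 21, 13, 16, 19, 12, 20, 6, 11, 23, 22, 9, 4, 10, 17, 18, 3, 14, 15, 5, 8],
    [0, 1, 2, 8, 5, 17, 6, 22, 15, 14, 21, 20, 10, 18, 13, 16, 19, 7, 23, 3, 12, 11, 4, 9],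
    [0, 1, 2, 9, 10, 8, 16, 20, 18, 21, 23, 14, 15, 3, 17, 19, 4, 13, 22, 5, 6, 11, 12, 7],
    [0, 1, 2, 10, 16, 22, 14, 17, 9, 13, 6, 19, 18, 7, 21, 15, 20, 8, 4, 23, 12, 3, 11, 5],
    [0, 1, 2, 11, 15, 18, 5, 17, 13, 7, 21, 16, 4, 9, 12, 19, 10, 8, 22, 14, 6, 3, 20, 23],
    [0, 1, 2, 12, 13, 22, 9, 5, 7, 16, 15, 21, 6, 11, 17, 3, 10, 20, 23, 4, 8, 18, 14, 19],
    [0, 1, 2, 13, 16, 19, 20, 23, 5, 3, 4, 21, 22, 17, 11, 12, 6, 14, 8, 15, 7, 9, 18, 10],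
    [0, 1, 2, 14, 20, 5, 19, 6, 22, 11, 8, 13, 4, 9, 17, 18, 15, 3, 16, 7, 12, 21, 10, 23],
    [0, 1, 2, 15, 3, 9, 14, 8, 5, 22, 19, 7, 16, 21, 23, 12, 13, 10, 11, 6, 17, 4, 18, 20],
    [0, 1, 2, 16, 11, 17, 13, 20, 14, 4, 5, 22, 7, 8, 10, 9, 12, 6, 15, 21, 19, 3, 23, 18],
    [0, 1, 2, 17, 12, 5, 7, 19, 10, 13, 22, 9, 20, 11, 3, 16, 18, 14, 15, 6, 4, 21, 8, 23],
    [0, 1, 2, 18, 9, 20, 14, 5, 12, 15, 19, 7, 4, 6, 21, 8, 11, 13, 10, 23, 16, 17, 22, 3],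
    [0, 1, 2, 19, 6, 3, 14, 7, 20, 11, 21, 10, 23, 5, 8, 17, 12, 16, 9, 22, 4, 18, 13, 15],
    [0, 1, 2, 20, 14, 19, 15, 6, 18, 10, 4, 23, 8, 16, 22, 3, 21, 17, 11, 13, 7, 5, 9, 12],
    [0, 1, 2, 21, 4, 7, 20, 15, 8, 3, 17, 18, 11, 16, 6, 5, 22, 19, 12, 10, 14, 9, 13, 23],
    [0, 1, 2, 22, 3, 18, 17, 11, 5, 20, 9, 12, 6, 16, 14, 10, 8, 7, 13, 21, 23, 4, 19, 15],
    [0, 1, 2, 23, 12, 7, 13, 11, 15, 4, 18, 16, 8, 17, 6, 9, 20, 21, 3, 10, 5, 14, 22, 19]],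
   [[],
    [],
    [],
    [],
    [0, 1, 2, 3, 4, 5, 6, 7, 8, 9, 10, 11, 12, 13, 14, 15, 16, 17, 18, 19, 20, 21, 22, 23],
    [0, 1, 2, 3, 5, 10, 11, 17, 20, 22, 23, 6, 14, 19, 7, 13, 18, 12, 8, 21, 16, 15, 9, 4],
    [0, 1, 2, 3, 6, 10, 8, 11, 20, 16, 9, 19, 22, 5, 4, 21, 13, 7, 17, 18, 14, 23, 15, 12],
    [0, 1, 2, 3, 7, 15, 17, 12, 9, 14, 10, 5, 4, 21, 8, 11, 6, 16, 18, 22, 13, 20, 23, 19],
    [0, 1, 2, 3, 8, 7, 14, 19, 20, 17, 16, 23, 15, 22, 4, 18, 21, 12, 9, 13, 6, 11, 5, 10],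
    [0, 1, 2, 3, 9, 8, 20, 11, 10, 13, 22, 18, 6, 14, 15, 4, 12, 19, 17, 7, 23, 5, 21, 16],
    [0, 1, 2, 3, 10, 14, 22, 12, 8, 11, 4, 9, 7, 18, 5, 15, 16, 23, 13, 19, 21, 20, 6, 17],
    [0, 1, 2, 3, 11, 14, 21, 6, 15, 13, 22, 20, 9, 12, 17, 16, 8, 5, 10, 19, 4, 7, 18, 23],
    [0, 1, 2, 3, 12, 5, 9, 10, 16, 6, 7, 22, 4, 18, 14, 19, 8, 17, 13, 15, 21, 20, 11, 23],
    [0, 1, 2, 3, 13, 22, 19, 18, 10, 16, 21, 15, 20, 17, 11, 12, 7, 6, 23, 4, 14, 5, 8, 9],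
    [0, 1, 2, 3, 14, 18, 12, 17, 9, 7, 5, 10, 23, 8, 21, 11, 6, 13, 15, 22, 16, 19, 4, 20],
    [0, 1, 2, 3, 15, 21, 12, 19, 5, 4, 8, 7, 16, 9, 13, 14, 23, 18, 11, 17, 6, 22, 10, 20],
    [0, 1, 2, 3, 16, 7, 9, 19, 14, 11, 15, 6, 8, 13, 12, 17, 23, 10, 20, 5, 21, 18, 22, 4],
    [0, 1, 2, 3, 17, 19, 9, 14, 7, 22, 23, 11, 5, 18, 8, 4, 10, 15, 20, 12, 13, 21, 6, 16],
    [0, 1, 2, 3, 18, 10, 5, 13, 9, 17, 20, 14, 21, 8, 4, 22, 11, 7, 16, 6, 19, 15, 23, 12],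
    [0, 1, 2, 3, 19, 10, 21, 15, 6, 13, 16, 20, 8, 5, 7, 22, 9, 12, 14, 11, 23, 17, 18, 4],
    [0, 1, 2, 3, 20, 17, 7, 21, 16, 12, 18, 4, 13, 9, 5, 8, 15, 14, 22, 19, 11, 6, 10, 23],
    [0, 1, 2, 3, 21, 5, 16, 13, 9, 8, 18, 15, 20, 7, 14, 11, 6, 17, 10, 22, 12, 4, 19, 23],
    [0, 1, 2, 3, 22, 10, 16, 9, 13, 8, 11, 15, 6, 17, 4, 18, 20, 7, 5, 21, 23, 14, 19, 12],
    [0, 1, 2, 3, 23, 13, 8, 14, 12, 16, 5, 19, 17, 9, 18, 7, 10, 21, 22, 4, 11, 6, 15, 20]],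
   [[],
    [],
    [],
    [],
    [],
    [],
    [],
    [0, 1, 2, 3, 4, 5, 6, 7, 8, 9, 10, 11, 12, 13, 14, 15, 16, 17, 18, 19, 20, 21, 22, 23],
    [],
    [],
    [0, 1, 2, 3, 4, 17, 8, 10, 20, 15, 12, 16, 7, 9, 14, 13, 18, 23, 11, 21, 6, 22, 19, 5],
    [],
    [0, 1, 2, 3, 4, 23, 20, 12, 6, 13, 7, 18, 10, 15, 14, 9, 11, 5, 16, 22, 8, 19, 21, 17],
    [],
    [],
    [],
    [],
    [],
    [],
    [],
    [],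
    [],
    [],
    []],
   [[],
    [],
    [],
    [],
    [],
    [0, 1, 2, 3, 4, 5, 6, 7, 8, 9, 10, 11, 12, 13, 14, 15, 16, 17, 18, 19, 20, 21, 22, 23],
    [0, 1, 2, 3, 4, 6, 5, 7, 18, 14, 10, 23, 12, 15, 9, 13, 21, 22, 8, 20, 19, 16, 17, 11],
    [],
    [0, 1, 2, 3, 4, 8, 18, 7, 5, 20, 10, 13, 12, 11, 19, 23, 17, 16, 6, 14, 9, 22, 21, 15],
    [0, 1, 2, 3, 4, 9, 14, 7, 20, 5, 10, 17, 12, 16, 6, 21, 13, 11, 19, 18, 8, 15, 23, 22],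
    [],
    [0, 1, 2, 3, 4, 11, 23, 7, 13, 17, 10, 5, 12, 8, 22, 18, 20, 9, 15, 21, 16, 19, 14, 6],
    [],
    [0, 1, 2, 3, 4, 13, 15, 7, 11, 16, 10, 8, 12, 5, 21, 6, 9, 20, 23, 22, 17, 14, 19, 18],
    [0, 1, 2, 3, 4, 14, 9, 7, 19, 6, 10, 22, 12, 21, 5, 16, 15, 23, 20, 8, 18, 13, 11, 17],
    [0, 1, 2, 3, 4, 15, 13, 7, 23, 21, 10, 18, 12, 6, 16, 5, 14, 19, 11, 17, 22, 9, 20, 8],
    [0, 1, 2, 3, 4, 16, 21, 7, 17, 13, 10, 20, 12, 9, 15, 14, 5, 8, 22, 23, 11, 6, 18, 19],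
    [0, 1, 2, 3, 4, 17, 22, 7, 16, 11, 10, 9, 12, 20, 23, 19, 8, 5, 21, 15, 13, 18, 6, 14],
    [0, 1, 2, 3, 4, 18, 8, 7, 6, 19, 10, 15, 12, 23, 20, 11, 22, 21, 5, 9, 14, 17, 16, 13],
    [0, 1, 2, 3, 4, 19, 20, 7, 14, 18, 10, 21, 12, 22, 8, 17, 23, 15, 9, 5, 6, 11, 13, 16],
    [0, 1, 2, 3, 4, 20, 19, 7, 9, 8, 10, 16, 12, 17, 18, 22, 11, 13, 14, 6, 5, 23, 15, 21],
    [0, 1, 2, 3, 4, 21, 16, 7, 22, 15, 10, 19, 12, 14, 13, 9, 6, 18, 17, 11, 23, 5, 8, 20],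
    [0, 1, 2, 3, 4, 22, 17, 7, 21, 23, 10, 14, 12, 19, 11, 20, 18, 6, 16, 13, 15, 8, 5, 9],
    [0, 1, 2, 3, 4, 23, 11, 7, 15, 22, 10, 6, 12, 18, 17, 8, 19, 14, 13, 16, 21, 20, 9, 5]]]

/-- The table of the transversal element at level `j` for the point `c`. -/
def tt (j c : ℕ) : List ℕ := (ttab.getD j []).getD c []

theorem ttab_ok : ((List.range 7).all fun j => (orbL.getD j []).all fun c =>
    (tt j c).length == 24 && (List.range 24).all fun i =>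
      applyW (tw j c) i == (tt j c).getD i 0) = true := by
  decide +kernel

theorem isTable_tw (j c : ℕ) (hj : j < 7) (hc : c ∈ orbL.getD j []) :
    IsTable (permW (tw j c)) (tt j c) := by
  have h := ttab_ok
  rw [List.all_eq_true] at h
  have h1 := h j (List.mem_range.2 hj)
  rw [List.all_eq_true] at h1
  have h2 := h1 c hc
  simp only [Bool.and_eq_true, beq_iff_eq, List.all_eq_true, List.mem_range] at h2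
  refine ⟨h2.1, fun p => ?_⟩
  rw [permW_idx]
  exact h2.2 (idx p) (idx_lt p)

/-- Composition of tables: the table of `σ * τ` from the tables of `σ` and `τ`. -/
def compT (a b : List ℕ) : List ℕ := b.map fun i => a.getD i 0

theorem isTable_mul {σ τ : Equiv.Perm GolayPt} {a b : List ℕ} (hσ : IsTable σ a)
    (hτ : IsTable τ b) : IsTable (σ * τ) (compT a b) := by
  refine ⟨by rw [compT, List.length_map]; exact hτ.1, fun p => ?_⟩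
  show idx (σ (τ p)) = _
  rw [hσ.2, hτ.2]
  have hlt : idx p < b.length := by rw [hτ.1]; exact idx_lt p
  simp [compT, List.getD_eq_getElem?_getD, hlt]

theorem eq_of_isTable {σ τ : Equiv.Perm GolayPt} {a b : List ℕ} (hσ : IsTable σ a)
    (hτ : IsTable τ b) (h : ∀ i < 24, a.getD i 0 = b.getD i 0) : σ = τ :=
  Equiv.ext fun p => idx_injective (by rw [hσ.2, hτ.2]; exact h _ (idx_lt p))

/-- Boolean comparison of two tables. -/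
def eqT (a b : List ℕ) : Bool := (List.range 24).all fun i => a.getD i 0 == b.getD i 0

theorem eq_of_eqT {σ τ : Equiv.Perm GolayPt} {a b : List ℕ} (hσ : IsTable σ a)
    (hτ : IsTable τ b) (h : eqT a b = true) : σ = τ := by
  simp only [eqT, List.all_eq_true, List.mem_range, beq_iff_eq] at h
  exact eq_of_isTable hσ hτ h

theorem eqT_of_eq {σ : Equiv.Perm GolayPt} {a b : List ℕ} (hσ : IsTable σ a)
    (hτ : IsTable σ b) : eqT a b = true := by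
  simp only [eqT, List.all_eq_true, List.mem_range, beq_iff_eq]
  intro i hi
  have h1 := hσ.2 (pt i)
  have h2 := hτ.2 (pt i)
  rw [idx_pt hi] at h1 h2
  rw [← h1, ← h2]

/-- The mask `d` is invariant under the table `t`. -/
def invT (t : List ℕ) (d : ℕ) : Bool :=
  (List.range 24).all fun i => d.testBit (t.getD i 0) == d.testBit i

theorem invT_of_invMask {g : Equiv.Perm GolayPt} {t : List ℕ} {d : ℕ} (ht : IsTable g t)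
    (h : InvMask g d) : invT t d = true := by
  simp only [invT, List.all_eq_true, List.mem_range, beq_iff_eq]
  intro i hi
  have h1 := h (pt i)
  rw [ht.2, idx_pt hi] at h1
  exact h1

theorem invMask_of_invT {g : Equiv.Perm GolayPt} {t : List ℕ} {d : ℕ} (ht : IsTable g t)
    (h : invT t d = true) : InvMask g d := by
  simp only [invT, List.all_eq_true, List.mem_range, beq_iff_eq] at h
  intro p
  rw [ht.2]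
  exact h _ (idx_lt p)

theorem smul_decSet_of_invMask {g : Equiv.Perm GolayPt} {d : ℕ} (h : InvMask g d) :
    g • decSet d = decSet d := by
  ext p
  rw [Finset.mem_smul_finset]
  constructor
  · rintro ⟨q, hq, rfl⟩
    rw [mem_decSet] at hq ⊢
    rw [Equiv.Perm.smul_def, h q]; exact hq
  · intro hp
    refine ⟨g⁻¹ p, ?_, by simp⟩
    rw [mem_decSet] at hp ⊢
    have h1 := h (g⁻¹ p)
    have h2 : g (g⁻¹ p) = p := by simp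
    rw [h2] at h1
    rw [← h1]; exact hp

/-- The table of a product of transversal elements of the last two levels. -/
def t56 (c5 c6 : ℕ) : List ℕ := compT (tt 5 c5) (tt 6 c6)

/-- The table of a product of transversal elements of the last three levels. -/
def t456 (c4 c5 c6 : ℕ) : List ℕ := compT (tt 4 c4) (t56 c5 c6)

/-- The table of a product of transversal elements of the last four levels. -/
def t3456 (c3 c4 c5 c6 : ℕ) : List ℕ := compT (tt 3 c3) (t456 c4 c5 c6)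

/-- Normal form of the elements of the five-point stabiliser. -/
theorem nf5 (g : Equiv.Perm GolayPt) (hg : g ∈ stabL M24 5) :
    ∃ c5 ∈ orbL.getD 5 [], ∃ c6 ∈ orbL.getD 6 [],
      g = permW (tw 5 c5) * permW (tw 6 c6) ∧ IsTable g (t56 c5 c6) := by
  obtain ⟨c5, hc5, h5⟩ := stabL_peel 5 (by norm_num) g hg
  obtain ⟨c6, hc6, h6⟩ := stab6_eq _ h5
  have hg' : g = permW (tw 5 c5) * permW (tw 6 c6) := by
    rw [← h6]; group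
  refine ⟨c5, hc5, c6, hc6, hg', ?_⟩
  rw [hg']
  exact isTable_mul (isTable_tw 5 c5 (by norm_num) hc5) (isTable_tw 6 c6 (by norm_num) hc6)

/-- Normal form of the elements of the four-point stabiliser. -/
theorem nf4 (g : Equiv.Perm GolayPt) (hg : g ∈ stabL M24 4) :
    ∃ c4 ∈ orbL.getD 4 [], ∃ c5 ∈ orbL.getD 5 [], ∃ c6 ∈ orbL.getD 6 [],
      g = permW (tw 4 c4) * (permW (tw 5 c5) * permW (tw 6 c6)) ∧ IsTable g (t456 c4 c5 c6) := by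
  obtain ⟨c4, hc4, h4⟩ := stabL_peel 4 (by norm_num) g hg
  obtain ⟨c5, hc5, c6, hc6, h56, ht⟩ := nf5 _ h4
  have hg' : g = permW (tw 4 c4) * (permW (tw 5 c5) * permW (tw 6 c6)) := by
    rw [← h56]; group
  refine ⟨c4, hc4, c5, hc5, c6, hc6, hg', ?_⟩
  have h2 := isTable_mul (isTable_tw 4 c4 (by norm_num) hc4) ht
  have h3 : permW (tw 4 c4) * ((permW (tw 4 c4))⁻¹ * g) = g := by group
  rw [h3] at h2
  exact h2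

/-- Normal form of the elements of the three-point stabiliser. -/
theorem nf3 (g : Equiv.Perm GolayPt) (hg : g ∈ stabL M24 3) :
    ∃ c3 ∈ orbL.getD 3 [], ∃ c4 ∈ orbL.getD 4 [], ∃ c5 ∈ orbL.getD 5 [], ∃ c6 ∈ orbL.getD 6 [],
      g = permW (tw 3 c3) * (permW (tw 4 c4) * (permW (tw 5 c5) * permW (tw 6 c6))) ∧
        IsTable g (t3456 c3 c4 c5 c6) := by
  obtain ⟨c3, hc3, h3⟩ := stabL_peel 3 (by norm_num) g hg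
  obtain ⟨c4, hc4, c5, hc5, c6, hc6, h456, ht⟩ := nf4 _ h3
  have hg' : g = permW (tw 3 c3) * (permW (tw 4 c4) * (permW (tw 5 c5) * permW (tw 6 c6))) := by
    rw [← h456]; group
  refine ⟨c3, hc3, c4, hc4, c5, hc5, c6, hc6, hg', ?_⟩
  have h2 := isTable_mul (isTable_tw 3 c3 (by norm_num) hc3) ht
  have h4 : permW (tw 3 c3) * ((permW (tw 3 c3))⁻¹ * g) = g := by group
  rw [h4] at h2
  exact h2

/-- The transversal elements lie in the corresponding stabiliser. -/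
theorem tw_mem_stabL (j c : ℕ) (hj : j < 7) (hc : c ∈ orbL.getD j []) :
    permW (tw j c) ∈ stabL M24 j :=
  (mem_stabL _ _ _).2 ⟨genGroup_le_M24 (permW_mem _), (tw_spec j c hj hc).1⟩

theorem stabL_anti (H : Subgroup (Equiv.Perm GolayPt)) {i j : ℕ} (hij : i ≤ j) :
    stabL H j ≤ stabL H i := by
  intro g hg
  rw [mem_stabL] at hg ⊢
  exact ⟨hg.1, fun k hk => hg.2 k (lt_of_lt_of_le hk hij)⟩

theorem stabL_mono {H K : Subgroup (Equiv.Perm GolayPt)} (h : H ≤ K) (i : ℕ) :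
    stabL H i ≤ stabL K i := by
  intro g hg
  rw [mem_stabL] at hg ⊢
  exact ⟨h hg.1, hg.2⟩

end Cfsg.Agent.Lib.helper9
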