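/-
Automorphisms of sharply multiply transitive permutation groups: generic lemmas.

* an automorphism mapping one point stabiliser onto a point stabiliser is induced by a map of the
  points (no assumption outside the invariant set);
* a rigidity criterion for such an automorphism to be inner;
* subgroups of order 720 (degree 11, sharp on 4 points) and of order 7920 (degree 12, sharp on 5
  points, containing a suitable element of order 8) fix a point;
* elements of order 8 in a sharply 5-transitive group, reduced to a finite check.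
-/
import Mathlib
import Cfsg.Agent.Lib.helper33.AutPerm
import Cfsg.Agent.Lib.helper9.M24Chain

set_option autoImplicit false
set_option linter.unusedSectionVars false

namespace Cfsg.Agent.Lib.helper9

open Cfsg.Agent.Lib.helper33 (perm_inv_apply perm_apply_inv card_modEq_card_fixed)

section

variable {Ω : Type*} [Fintype Ω] [DecidableEq Ω]

/-- `G` maps the finite set `D` into itself. -/
def InvOn (G : Subgroup (Equiv.Perm Ω)) (D : Finset Ω) : Prop := ∀ g ∈ G, ∀ x ∈ D, g x ∈ D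

theorem InvOn.iff {G : Subgroup (Equiv.Perm Ω)} {D : Finset Ω} (h : InvOn G D)
    {g : Equiv.Perm Ω} (hg : g ∈ G) (x : Ω) : g x ∈ D ↔ x ∈ D := by
  refine ⟨fun hx => ?_, h g hg x⟩
  have := h g⁻¹ (inv_mem hg) _ hx
  rwa [perm_inv_apply] at this

/-- Elements of `G` fixing `k` points of `D` are trivial. -/
def SharpOn (G : Subgroup (Equiv.Perm Ω)) (D : Finset Ω) (k : ℕ) : Prop :=
  ∀ g ∈ G, ∀ s : Finset Ω, s ⊆ D → k ≤ s.card → (∀ x ∈ s, g x = x) → g = 1

/-- `G` is `k`-transitive on `D`. -/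
def TransOn (G : Subgroup (Equiv.Perm Ω)) (D : Finset Ω) (k : ℕ) : Prop :=
  ∀ x y : Fin k ↪ Ω, (∀ i, x i ∈ D) → (∀ i, y i ∈ D) → ∃ g ∈ G, ∀ i, g (x i) = y i

theorem SharpOn.eq_of_agree {G : Subgroup (Equiv.Perm Ω)} {D : Finset Ω} {k : ℕ}
    (hs : SharpOn G D k) (a : Fin k ↪ Ω) (ha : ∀ i, a i ∈ D) {g h : Equiv.Perm Ω} (hg : g ∈ G)
    (hh : h ∈ G) (hgh : ∀ i, g (a i) = h (a i)) : g = h := by
  have h1 : h⁻¹ * g = 1 := by
    refine hs (h⁻¹ * g) (mul_mem (inv_mem hh) hg) (Finset.univ.map a) ?_ ?_ ?_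
    · intro x hx
      obtain ⟨i, -, rfl⟩ := Finset.mem_map.1 hx
      exact ha i
    · rw [Finset.card_map, Finset.card_univ, Fintype.card_fin]
    · intro x hx
      obtain ⟨i, -, rfl⟩ := Finset.mem_map.1 hx
      show h⁻¹ (g (a i)) = a i
      rw [hgh i, perm_inv_apply]
  have h2 : g = h * (h⁻¹ * g) := by group
  rw [h2, h1, mul_one]

/-- An automorphism of a permutation group `G` which maps the stabiliser of every point of the
invariant set `D` onto the stabiliser of a point of `D` is induced by a map of `D`. -/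
theorem exists_map_of_stab_map (G : Subgroup (Equiv.Perm Ω)) (D : Finset Ω) (hinv : InvOn G D)
    (hdist : ∀ q ∈ D, ∀ q' ∈ D, q ≠ q' → ∃ g ∈ G, g q = q ∧ g q' ≠ q')
    (φ : ↥G ≃* ↥G)
    (hφ : ∀ q ∈ D, ∃ f ∈ D, ∀ g : ↥G,
      (g : Equiv.Perm Ω) q = q ↔ (φ g : Equiv.Perm Ω) f = f) :
    ∃ π : Ω → Ω, (∀ q ∈ D, π q ∈ D) ∧ Set.InjOn π ↑D ∧
      ∀ g : ↥G, ∀ q ∈ D, π ((g : Equiv.Perm Ω) q) = (φ g : Equiv.Perm Ω) (π q) := by
  classical
  choose! f hfX hf using hφ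
  refine ⟨f, hfX, ?_, ?_⟩
  · intro q hq q' hq' h
    by_contra hne
    obtain ⟨g, hg, h1, h2⟩ := hdist q hq q' hq' hne
    have h3 := (hf q hq ⟨g, hg⟩).1 h1
    rw [h] at h3
    exact h2 ((hf q' hq' ⟨g, hg⟩).2 h3)
  · intro g q hq
    have hgq : (g : Equiv.Perm Ω) q ∈ D := hinv g g.2 q hq
    by_contra hne
    have hX' : (φ g : Equiv.Perm Ω) (f q) ∈ D := hinv _ (φ g).2 _ (hfX q hq)
    obtain ⟨k, hk, h1, h2⟩ := hdist _ (hfX _ hgq) _ hX' hne
    obtain ⟨k₀, hk₀⟩ := φ.surjective ⟨k, hk⟩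
    have e1 : (k₀ : Equiv.Perm Ω) ((g : Equiv.Perm Ω) q) = (g : Equiv.Perm Ω) q := by
      rw [hf _ hgq k₀, hk₀]
      exact h1
    have e2 : ((g⁻¹ * k₀ * g : ↥G) : Equiv.Perm Ω) q = q := by
      show (g : Equiv.Perm Ω)⁻¹ ((k₀ : Equiv.Perm Ω) ((g : Equiv.Perm Ω) q)) = q
      rw [e1, perm_inv_apply]
    have e3 := (hf q hq (g⁻¹ * k₀ * g)).1 e2
    rw [map_mul, map_mul, map_inv, hk₀] at e3
    have e4 : (φ g : Equiv.Perm Ω)⁻¹ (k ((φ g : Equiv.Perm Ω) (f q))) = f q := e3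
    rw [Equiv.Perm.inv_eq_iff_eq] at e4
    exact h2 e4

/-- If `G` is transitive on `D` and an automorphism maps one point stabiliser onto a point
stabiliser, then it does so for all points of `D`. -/
theorem stab_map_all (G : Subgroup (Equiv.Perm Ω)) (D : Finset Ω) (hinv : InvOn G D)
    (φ : ↥G ≃* ↥G) (p f : Ω) (hf : f ∈ D)
    (htr : ∀ q ∈ D, ∃ g ∈ G, g p = q)
    (h : ∀ g : ↥G, (g : Equiv.Perm Ω) p = p ↔ (φ g : Equiv.Perm Ω) f = f) :
    ∀ q ∈ D, ∃ f' ∈ D, ∀ g : ↥G,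
      (g : Equiv.Perm Ω) q = q ↔ (φ g : Equiv.Perm Ω) f' = f' := by
  intro q hq
  obtain ⟨t, ht, htq⟩ := htr q hq
  refine ⟨(φ ⟨t, ht⟩ : Equiv.Perm Ω) f, hinv _ (φ ⟨t, ht⟩).2 _ hf, fun g => ?_⟩
  have h1 := h ((⟨t, ht⟩ : ↥G)⁻¹ * g * ⟨t, ht⟩)
  rw [map_mul, map_mul, map_inv] at h1
  constructor
  · intro hg
    have h0 : (((⟨t, ht⟩ : ↥G)⁻¹ * g * ⟨t, ht⟩ : ↥G) : Equiv.Perm Ω) p = p := by
      show t⁻¹ ((g : Equiv.Perm Ω) (t p)) = p
      rw [htq, hg, ← htq, perm_inv_apply]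
    have h3 : (φ ⟨t, ht⟩ : Equiv.Perm Ω)⁻¹
        ((φ g : Equiv.Perm Ω) ((φ ⟨t, ht⟩ : Equiv.Perm Ω) f)) = f := h1.1 h0
    rwa [Equiv.Perm.inv_eq_iff_eq] at h3
  · intro hg
    have h3 : (φ ⟨t, ht⟩ : Equiv.Perm Ω)⁻¹
        ((φ g : Equiv.Perm Ω) ((φ ⟨t, ht⟩ : Equiv.Perm Ω) f)) = f := by
      rw [hg, perm_inv_apply]
    have h4 : t⁻¹ ((g : Equiv.Perm Ω) (t p)) = p := h1.2 h3
    rw [Equiv.Perm.inv_eq_iff_eq, htq] at h4
    exact h4

/-- Rigidity criterion: an automorphism induced by a map of the points is inner. -/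
theorem inner_of_rigid (G : Subgroup (Equiv.Perm Ω)) (D : Finset Ω) (k : ℕ) (hinv : InvOn G D)
    (hsharp : SharpOn G D k) (htrans : TransOn G D k) (a : Fin k ↪ Ω) (ha : ∀ i, a i ∈ D)
    (hrig : ∀ π : Ω → Ω, (∀ q ∈ D, π q ∈ D) → Set.InjOn π ↑D → (∀ i, π (a i) = a i) →
      (∀ g ∈ G, (∀ i, π (g (a i)) = g (a i)) → ∀ x ∈ D, π (g x) = g (π x)) → ∀ x ∈ D, π x = x)
    (φ : ↥G ≃* ↥G) (π : Ω → Ω) (hπD : ∀ q ∈ D, π q ∈ D) (hπinj : Set.InjOn π ↑D)
    (hπ : ∀ g : ↥G, ∀ q ∈ D, π ((g : Equiv.Perm Ω) q) = (φ g : Equiv.Perm Ω) (π q)) :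
    ∃ m : ↥G, φ = MulAut.conj m := by
  classical
  let x : Fin k ↪ Ω := ⟨fun i => π (a i), fun i j hij =>
    a.injective (hπinj (Finset.mem_coe.2 (ha i)) (Finset.mem_coe.2 (ha j)) hij)⟩
  obtain ⟨g0, hg0, hg0a⟩ := htrans x a (fun i => hπD _ (ha i)) ha
  have hg0a' : ∀ i, g0 (π (a i)) = a i := hg0a
  let π' : Ω → Ω := fun q => g0 (π q)
  let ψ : Equiv.Perm Ω → Equiv.Perm Ω := fun g =>
    if hg : g ∈ G then g0 * (φ ⟨g, hg⟩ : Equiv.Perm Ω) * g0⁻¹ else 1
  have hψG : ∀ g ∈ G, ψ g ∈ G := by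
    intro g hg
    simp only [ψ, dif_pos hg]
    exact mul_mem (mul_mem hg0 (φ ⟨g, hg⟩).2) (inv_mem hg0)
  have hπ' : ∀ g ∈ G, ∀ q ∈ D, π' (g q) = ψ g (π' q) := by
    intro g hg q hq
    simp only [ψ, dif_pos hg, π']
    have := hπ ⟨g, hg⟩ q hq
    show g0 (π (g q)) = g0 ((φ ⟨g, hg⟩ : Equiv.Perm Ω) (g0⁻¹ (g0 (π q))))
    rw [perm_inv_apply]
    exact congrArg g0 this
  have hπ'a : ∀ i, π' (a i) = a i := hg0a'
  have hπ'D : ∀ q ∈ D, π' q ∈ D := fun q hq => hinv g0 hg0 _ (hπD q hq)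
  have hπ'inj : Set.InjOn π' ↑D := by
    intro q hq q' hq' h
    exact hπinj hq hq' (g0.injective h)
  have hid : ∀ x ∈ D, π' x = x := by
    refine hrig π' hπ'D hπ'inj hπ'a ?_
    intro g hg hga x hx
    have h1 : ψ g = g := by
      refine hsharp.eq_of_agree a ha (hψG g hg) hg fun i => ?_
      rw [← hga i, hπ' g hg (a i) (ha i), hπ'a i]
    rw [hπ' g hg x hx, h1]
  have hψ : ∀ g ∈ G, ψ g = g := by
    intro g hg
    refine hsharp.eq_of_agree a ha (hψG g hg) hg fun i => ?_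
    have h1 := hπ' g hg (a i) (ha i)
    rw [hπ'a i, hid _ (hinv g hg _ (ha i))] at h1
    exact h1.symm
  refine ⟨(⟨g0, hg0⟩ : ↥G)⁻¹, ?_⟩
  ext g : 1
  apply Subtype.ext
  have h1 := hψ g g.2
  simp only [ψ, dif_pos g.2] at h1
  rw [MulAut.conj_apply]
  show (φ g : Equiv.Perm Ω) = g0⁻¹ * (g : Equiv.Perm Ω) * g0⁻¹⁻¹
  rw [inv_inv, ← h1]
  group

/-- Orbits of a subgroup as finite sets. -/
noncomputable def orbK (K : Subgroup (Equiv.Perm Ω)) (f : Ω) : Finset Ω :=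
  letI := Classical.decPred fun x => x ∈ MulAction.orbit ↥K f
  Finset.univ.filter fun x => x ∈ MulAction.orbit ↥K f

theorem mem_orbK {K : Subgroup (Equiv.Perm Ω)} {f x : Ω} :
    x ∈ orbK K f ↔ ∃ k ∈ K, k f = x := by
  classical
  simp only [orbK, Finset.mem_filter, Finset.mem_univ, true_and, MulAction.mem_orbit_iff]
  constructor
  · rintro ⟨k, hk⟩
    exact ⟨k.1, k.2, hk⟩
  · rintro ⟨k, hk, hkx⟩
    exact ⟨⟨k, hk⟩, hkx⟩

theorem self_mem_orbK (K : Subgroup (Equiv.Perm Ω)) (f : Ω) : f ∈ orbK K f :=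
  mem_orbK.2 ⟨1, one_mem K, rfl⟩

theorem orbK_inv {K : Subgroup (Equiv.Perm Ω)} {f : Ω} {k : Equiv.Perm Ω} (hk : k ∈ K) (b : Ω) :
    k b ∈ orbK K f ↔ b ∈ orbK K f := by
  rw [mem_orbK, mem_orbK]
  constructor
  · rintro ⟨k', hk', h⟩
    refine ⟨k⁻¹ * k', mul_mem (inv_mem hk) hk', ?_⟩
    show k⁻¹ (k' f) = b
    rw [h, perm_inv_apply]
  · rintro ⟨k', hk', h⟩
    exact ⟨k * k', mul_mem hk hk', by rw [← h]; rfl⟩

theorem card_orbK (K : Subgroup (Equiv.Perm Ω)) (f : Ω) :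
    (orbK K f).card = Nat.card (MulAction.orbit ↥K f) := by
  classical
  rw [Nat.card_eq_fintype_card, ← Set.toFinset_card]
  congr 1
  ext x
  simp [orbK]

theorem card_orbK_mul (K : Subgroup (Equiv.Perm Ω)) (f : Ω) :
    Nat.card K = (orbK K f).card * Nat.card ↥(K ⊓ MulAction.stabilizer (Equiv.Perm Ω) f) := by
  rw [card_orbK]
  exact card_eq_orbit_mul_stab K f

theorem orbK_eq_of_mem {K : Subgroup (Equiv.Perm Ω)} {f r : Ω} (hr : r ∈ orbK K f) :
    orbK K r = orbK K f := by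
  obtain ⟨k, hk, rfl⟩ := mem_orbK.1 hr
  ext x
  rw [mem_orbK, mem_orbK]
  constructor
  · rintro ⟨k', hk', h⟩
    exact ⟨k' * k, mul_mem hk' hk, h⟩
  · rintro ⟨k', hk', h⟩
    refine ⟨k' * k⁻¹, mul_mem hk' (inv_mem hk), ?_⟩
    show k' (k⁻¹ (k f)) = x
    rw [perm_inv_apply, h]

/-- The unique fixed point on `D` of an element of prime order `p` when `|D| ≡ 1 mod p` and
nontrivial elements fix fewer than `p` points... (quantitative version used below). -/
theorem exists_unique_fixed (G : Subgroup (Equiv.Perm Ω)) (D : Finset Ω) (hinv : InvOn G D)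
    (k p : ℕ) [hp : Fact p.Prime] (hsharp : SharpOn G D k) (hkp : k ≤ p) (hD : D.card % p = 1)
    (c : Equiv.Perm Ω) (hc : c ∈ G) (hcp : orderOf c = p) :
    ∃ f0 ∈ D, c f0 = f0 ∧ ∀ b ∈ D, c b = b → b = f0 := by
  have hp1 : 1 < p := hp.out.one_lt
  have hc1 : c ≠ 1 := by
    intro h
    rw [h, orderOf_one] at hcp
    omega
  have hcpow : c ^ p ^ 1 = 1 := by rw [pow_one, ← hcp]; exact pow_orderOf_eq_one c
  have h1 := card_modEq_card_fixed c p 1 hcpow D (fun b => hinv.iff hc b)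
  have h2 : (D.filter fun b => c b = b).card < k := by
    by_contra hcon
    exact hc1 (hsharp c hc _ (Finset.filter_subset _ _) (not_lt.1 hcon)
      (fun x hx => (Finset.mem_filter.1 hx).2))
  have h3 : (D.filter fun b => c b = b).card = 1 := by
    unfold Nat.ModEq at h1
    have h4 : (D.filter fun b => c b = b).card ≤ D.card := Finset.card_filter_le _ _
    have h5 : (D.filter fun b => c b = b).card < p := lt_of_lt_of_le h2 hkp
    rw [hD, Nat.mod_eq_of_lt h5] at h1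
    exact h1.symm
  obtain ⟨f0, hf0⟩ := Finset.card_eq_one.1 h3
  have hf0m : f0 ∈ D.filter fun b => c b = b := by rw [hf0]; exact Finset.mem_singleton_self _
  refine ⟨f0, (Finset.mem_filter.1 hf0m).1, (Finset.mem_filter.1 hf0m).2, fun b hb hcb => ?_⟩
  have : b ∈ D.filter fun b => c b = b := Finset.mem_filter.2 ⟨hb, hcb⟩
  rw [hf0] at this
  exact Finset.mem_singleton.1 this

/-- The orbit of the unique fixed point of an element of prime order `p` has cardinality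
congruent to `1` modulo `p`. -/
theorem card_orbK_mod (G : Subgroup (Equiv.Perm Ω)) (D : Finset Ω) (hinv : InvOn G D)
    (K : Subgroup (Equiv.Perm Ω)) (hK : K ≤ G) (p : ℕ) [hp : Fact p.Prime]
    (c : Equiv.Perm Ω) (hc : c ∈ K) (hcp : orderOf c = p) (f0 : Ω) (hf0 : f0 ∈ D)
    (hcf : c f0 = f0) (huniq : ∀ b ∈ D, c b = b → b = f0) :
    orbK K f0 ⊆ D ∧ (orbK K f0).card % p = 1 := by
  have hsub : orbK K f0 ⊆ D := by
    intro x hx
    obtain ⟨k, hk, rfl⟩ := mem_orbK.1 hx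
    exact hinv k (hK hk) _ hf0
  refine ⟨hsub, ?_⟩
  have hcpow : c ^ p ^ 1 = 1 := by rw [pow_one, ← hcp]; exact pow_orderOf_eq_one c
  have h1 := card_modEq_card_fixed c p 1 hcpow (orbK K f0) (fun b => orbK_inv hc b)
  have h2 : ((orbK K f0).filter fun b => c b = b) = {f0} := by
    ext b
    rw [Finset.mem_filter, Finset.mem_singleton]
    constructor
    · rintro ⟨hb, hcb⟩
      exact huniq b (hsub hb) hcb
    · rintro rfl
      exact ⟨self_mem_orbK K b, hcf⟩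
  rw [h2, Finset.card_singleton] at h1
  unfold Nat.ModEq at h1
  rw [h1]
  exact Nat.mod_eq_of_lt hp.out.one_lt

/-- A subgroup of order `720` of a permutation group which is sharp on `4` points of an invariant
set of `11` points fixes one of these points. -/
theorem exists_fixed_of_card_720 (G : Subgroup (Equiv.Perm Ω)) (D : Finset Ω) (hinv : InvOn G D)
    (hD : D.card = 11) (hsharp : SharpOn G D 4) (K : Subgroup (Equiv.Perm Ω)) (hK : K ≤ G)
    (hcard : Nat.card K = 720) : ∃ f ∈ D, ∀ k ∈ K, k f = f := by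
  classical
  have : Fact (Nat.Prime 5) := ⟨by norm_num⟩
  obtain ⟨c, hc⟩ := exists_prime_orderOf_dvd_card' (G := ↥K) 5 (by rw [hcard]; norm_num)
  have hc' : orderOf (c : Equiv.Perm Ω) = 5 := by rw [Subgroup.orderOf_coe]; exact hc
  obtain ⟨f0, hf0, hcf, huniq⟩ := exists_unique_fixed G D hinv 4 5 hsharp (by norm_num)
    (by rw [hD]) c (hK c.2) hc'
  obtain ⟨hsub, hmod⟩ := card_orbK_mod G D hinv K hK 5 c c.2 hc' f0 hf0 hcf huniq
  have hle : (orbK K f0).card ≤ 11 := hD ▸ Finset.card_le_card hsub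
  have hmul := card_orbK_mul K f0
  rw [hcard] at hmul
  have hcases : (orbK K f0).card = 1 ∨ (orbK K f0).card = 6 := by
    have h11 : (orbK K f0).card ≠ 11 := by
      intro h
      rw [h] at hmul
      omega
    omega
  rcases hcases with h1 | h6
  · refine ⟨f0, hf0, fun k hk => ?_⟩
    obtain ⟨y, hy⟩ := Finset.card_eq_one.1 h1
    have h2 : k f0 ∈ orbK K f0 := mem_orbK.2 ⟨k, hk, rfl⟩
    have h3 := self_mem_orbK K f0
    rw [hy, Finset.mem_singleton] at h2 h3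
    rw [h2, h3]
  · exfalso
    have hR : (D \ orbK K f0).card = 5 := by
      rw [Finset.card_sdiff_of_subset hsub, hD, h6]
    have hRinv : ∀ k ∈ K, ∀ y ∈ D \ orbK K f0, k y ∈ D \ orbK K f0 := by
      intro k hk y hy
      rw [Finset.mem_sdiff] at hy ⊢
      exact ⟨hinv k (hK hk) y hy.1, fun h => hy.2 ((orbK_inv hk y).1 h)⟩
    obtain ⟨s, hs, hs4⟩ := Finset.exists_subset_card_eq (s := D \ orbK K f0) (n := 4)
      (by rw [hR]; norm_num)
    let Φ : ↥K → (↥s → ↥(D \ orbK K f0)) := fun k y => ⟨(k : Equiv.Perm Ω) y, hRinv k k.2 y (hs y.2)⟩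
    have hΦ : Function.Injective Φ := by
      intro k k' h
      apply Subtype.ext
      have hs' : s ⊆ D := fun y hy => (Finset.mem_sdiff.1 (hs hy)).1
      have h1 : (k' : Equiv.Perm Ω)⁻¹ * (k : Equiv.Perm Ω) = 1 := by
        refine hsharp _ (mul_mem (inv_mem (hK k'.2)) (hK k.2)) s hs' (by rw [hs4]) ?_
        intro y hy
        have h2 := congrArg Subtype.val (congrFun h ⟨y, hy⟩)
        show (k' : Equiv.Perm Ω)⁻¹ ((k : Equiv.Perm Ω) y) = y
        rw [Equiv.Perm.inv_eq_iff_eq]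
        exact h2
      have h2 : (k : Equiv.Perm Ω) = (k' : Equiv.Perm Ω) * ((k' : Equiv.Perm Ω)⁻¹ * k) := by group
      rw [h2, h1, mul_one]
    have h1 := Nat.card_le_card_of_injective Φ hΦ
    rw [hcard, Nat.card_fun, Nat.card_eq_fintype_card, Nat.card_eq_fintype_card,
      Fintype.card_coe, Fintype.card_coe, hR, hs4] at h1
    norm_num at h1

/-- A subgroup of order `7920` of a permutation group which is sharp on `5` points of an
invariant set of `12` points fixes one of these points, provided it contains an element of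
order `8` with a fixed point in the set. -/
theorem exists_fixed_of_card_7920 (G : Subgroup (Equiv.Perm Ω)) (D : Finset Ω) (hinv : InvOn G D)
    (hD : D.card = 12) (hsharp : SharpOn G D 5) (K : Subgroup (Equiv.Perm Ω)) (hK : K ≤ G)
    (hcard : Nat.card K = 7920) (u : Equiv.Perm Ω) (hu : u ∈ K) (hu8 : orderOf u = 8)
    (r : Ω) (hr : r ∈ D) (hur : u r = r) : ∃ f ∈ D, ∀ k ∈ K, k f = f := by
  classical
  have : Fact (Nat.Prime 11) := ⟨by norm_num⟩
  obtain ⟨c, hc⟩ := exists_prime_orderOf_dvd_card' (G := ↥K) 11 (by rw [hcard]; norm_num)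
  have hc' : orderOf (c : Equiv.Perm Ω) = 11 := by rw [Subgroup.orderOf_coe]; exact hc
  obtain ⟨f0, hf0, hcf, huniq⟩ := exists_unique_fixed G D hinv 5 11 hsharp (by norm_num)
    (by rw [hD]) c (hK c.2) hc'
  obtain ⟨hsub, hmod⟩ := card_orbK_mod G D hinv K hK 11 c c.2 hc' f0 hf0 hcf huniq
  have hle : (orbK K f0).card ≤ 12 := hD ▸ Finset.card_le_card hsub
  have hcases : (orbK K f0).card = 1 ∨ (orbK K f0).card = 12 := by omega
  rcases hcases with h1 | h12
  · refine ⟨f0, hf0, fun k hk => ?_⟩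
    obtain ⟨y, hy⟩ := Finset.card_eq_one.1 h1
    have h2 : k f0 ∈ orbK K f0 := mem_orbK.2 ⟨k, hk, rfl⟩
    have h3 := self_mem_orbK K f0
    rw [hy, Finset.mem_singleton] at h2 h3
    rw [h2, h3]
  · exfalso
    have hO : orbK K f0 = D := Finset.eq_of_subset_of_card_le hsub (by rw [hD, h12])
    have hr' : r ∈ orbK K f0 := hO ▸ hr
    have hmul := card_orbK_mul K r
    rw [orbK_eq_of_mem hr', h12, hcard] at hmul
    have h660 : Nat.card ↥(K ⊓ MulAction.stabilizer (Equiv.Perm Ω) r) = 660 := by omega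
    have hmem : u ∈ K ⊓ MulAction.stabilizer (Equiv.Perm Ω) r :=
      Subgroup.mem_inf.2 ⟨hu, MulAction.mem_stabilizer_iff.2 hur⟩
    have h8 := orderOf_dvd_natCard (⟨u, hmem⟩ : ↥(K ⊓ MulAction.stabilizer (Equiv.Perm Ω) r))
    rw [h660, ← Subgroup.orderOf_coe] at h8
    simp only [hu8] at h8
    norm_num at h8

/-- Elements of order `8` of a sharply `5`-transitive group have a fixed point (anywhere),
given a finite check on the elements moving the base points cyclically. -/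
theorem fixed_of_order_eight (G : Subgroup (Equiv.Perm Ω)) (D : Finset Ω) (hinv : InvOn G D)
    (hsharp : SharpOn G D 5) (htrans : TransOn G D 5) (a : Fin 5 ↪ Ω) (ha : ∀ i, a i ∈ D)
    (hE : ∀ g ∈ G, g (a 0) = a 1 → g (a 1) = a 2 → g (a 2) = a 3 → g (a 3) = a 4 → g ^ 8 = 1 →
      ∃ z, g z = z)
    (u : Equiv.Perm Ω) (hu : u ∈ G) (hu8 : orderOf u = 8) : ∃ z, u z = z := by
  classical
  have h8 : u ^ 8 = 1 := by rw [← hu8]; exact pow_orderOf_eq_one u
  have h4 : u ^ 4 ≠ 1 := by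
    intro h
    have := orderOf_dvd_of_pow_eq_one h
    rw [hu8] at this
    norm_num at this
  obtain ⟨y, hyD, hy⟩ : ∃ y ∈ D, (u ^ 4) y ≠ y := by
    by_contra hcon
    push Not at hcon
    refine h4 (hsharp (u ^ 4) (pow_mem hu 4) (Finset.univ.map a) ?_ ?_ ?_)
    · intro x hx
      obtain ⟨i, -, rfl⟩ := Finset.mem_map.1 hx
      exact ha i
    · rw [Finset.card_map, Finset.card_univ, Fintype.card_fin]
    · intro x hx
      obtain ⟨i, -, rfl⟩ := Finset.mem_map.1 hx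
      exact hcon _ (ha i)
  have hper : ∀ d m : ℕ, (u ^ d) y = y → (u ^ (d * m)) y = y := by
    intro d m h
    rw [pow_mul]
    exact Equiv.Perm.pow_apply_eq_self_of_apply_eq_self h m
  have hd : ∀ d : ℕ, 0 < d → d ≤ 4 → (u ^ d) y ≠ y := by
    intro d hd0 hd4 h
    interval_cases d
    · exact hy (hper 1 4 h)
    · exact hy (hper 2 2 h)
    · have h9 := hper 3 3 h
      have : u ^ (3 * 3) = u := by
        have : u ^ (3 * 3) = u ^ 8 * u := by rw [← pow_succ]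
        rw [this, h8, one_mul]
      rw [this] at h9
      have h9' : (u ^ 1) y = y := by rw [pow_one]; exact h9
      exact hy (hper 1 4 h9')
    · exact hy h
  have hinj : Function.Injective fun i : Fin 5 => (u ^ (i : ℕ)) y := by
    intro i j hij
    by_contra hne
    wlog hlt : (i : ℕ) < (j : ℕ) generalizing i j
    · exact this hij.symm (Ne.symm hne) (by
        have : (i : ℕ) ≠ (j : ℕ) := fun h => hne (Fin.ext h)
        omega)
    have h1 : u ^ (j : ℕ) = u ^ (i : ℕ) * u ^ ((j : ℕ) - (i : ℕ)) := by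
      rw [← pow_add]; congr 1; omega
    have hij' : (u ^ (i : ℕ)) y = (u ^ (j : ℕ)) y := hij
    rw [h1] at hij'
    have h2 : (u ^ (i : ℕ)) y = (u ^ (i : ℕ)) ((u ^ ((j : ℕ) - (i : ℕ))) y) := hij'
    have h3 := (u ^ (i : ℕ)).injective h2
    exact hd ((j : ℕ) - (i : ℕ)) (by omega) (by have := j.2; omega) h3.symm
  have hxD : ∀ i : Fin 5, (u ^ (i : ℕ)) y ∈ D := fun i => hinv _ (pow_mem hu _) _ hyD
  obtain ⟨h, hh, hx⟩ := htrans ⟨fun i : Fin 5 => (u ^ (i : ℕ)) y, hinj⟩ a hxD ha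
  have hx' : ∀ i : Fin 5, h ((u ^ (i : ℕ)) y) = a i := hx
  have hinvx : ∀ i : Fin 5, h⁻¹ (a i) = (u ^ (i : ℕ)) y := by
    intro i
    rw [Equiv.Perm.inv_eq_iff_eq]
    exact (hx' i).symm
  have hstep : ∀ i j : Fin 5, (j : ℕ) = (i : ℕ) + 1 → (h * u * h⁻¹) (a i) = a j := by
    intro i j hij
    show h (u (h⁻¹ (a i))) = a j
    rw [hinvx i, ← hx' j, hij, pow_succ']
    rfl
  obtain ⟨z, hz⟩ := hE (h * u * h⁻¹) (mul_mem (mul_mem hh hu) (inv_mem hh))
    (hstep 0 1 rfl) (hstep 1 2 rfl) (hstep 2 3 rfl) (hstep 3 4 rfl)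
    (by rw [conj_pow, h8, mul_one, mul_inv_cancel])
  refine ⟨h⁻¹ z, ?_⟩
  have hz' : h (u (h⁻¹ z)) = z := hz
  exact (Equiv.Perm.inv_eq_iff_eq.2 hz'.symm).symm

end

end Cfsg.Agent.Lib.helper9
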