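import Cfsg.Agent.Lib.helper9.M24NF

/-!
Permutation tables packed into natural numbers (base 32), for fast kernel computation:
composition is strict and equality is a single comparison.
-/

set_option autoImplicit false
open Cfsg
open scoped Pointwise

namespace Cfsg.Agent.Lib.helper9

/-- Entry `i` of a packed table. -/
def getN (t i : ℕ) : ℕ := Nat.mod (Nat.div t (Nat.pow 32 i)) 32

/-- The number with base-32 digits `f 0, …, f (k - 1)` (raw recursor: fast in the kernel). -/
def digSum (f : ℕ → ℕ) (k : ℕ) : ℕ :=
  Nat.rec (motive := fun _ => ℕ) 0 (fun k acc => Nat.add acc (Nat.mul (f k) (Nat.pow 32 k))) k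

theorem digSum_zero (f : ℕ → ℕ) : digSum f 0 = 0 := rfl

theorem digSum_succ (f : ℕ → ℕ) (k : ℕ) : digSum f (k + 1) = digSum f k + f k * 32 ^ k := rfl

theorem getN_lt (t i : ℕ) : getN t i < 32 := Nat.mod_lt _ (by norm_num)

theorem digSum_lt (f : ℕ → ℕ) (hf : ∀ k, f k < 32) (k : ℕ) : digSum f k < 32 ^ k := by
  induction k with
  | zero => rw [digSum_zero]; norm_num
  | succ k ih =>
    rw [digSum_succ, pow_succ]
    have := hf k
    have h32 : 0 < 32 ^ k := pow_pos (by norm_num) k
    nlinarith

theorem getN_digSum (f : ℕ → ℕ) (hf : ∀ k, f k < 32) (k i : ℕ) (hi : i < k) :
    getN (digSum f k) i = f i := by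
  induction k with
  | zero => omega
  | succ k ih =>
    show (digSum f (k + 1) / 32 ^ i) % 32 = f i
    rw [digSum_succ]
    rcases Nat.lt_succ_iff_lt_or_eq.1 hi with h | rfl
    · obtain ⟨m, hm⟩ : ∃ m, k = i + 1 + m := ⟨k - i - 1, by omega⟩
      have h0 : 32 ^ k = 32 ^ i * (32 ^ m * 32) := by
        rw [hm, pow_add, pow_succ]
        ring
      have h1 : f k * 32 ^ k = 32 ^ i * (f k * 32 ^ m * 32) := by
        rw [h0]
        ring
      rw [h1, Nat.add_mul_div_left _ _ (pow_pos (by norm_num) i), Nat.add_mul_mod_self_right]
      exact ih h
    · rw [Nat.add_mul_div_right _ _ (pow_pos (by norm_num) i),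
        Nat.div_eq_of_lt (digSum_lt f hf i), zero_add]
      exact Nat.mod_eq_of_lt (hf i)

/-- Composition of packed tables. -/
def compN (a b : ℕ) : ℕ := digSum (fun k => getN a (getN b k)) 24

theorem getN_compN (a b i : ℕ) (hi : i < 24) : getN (compN a b) i = getN a (getN b i) :=
  getN_digSum _ (fun _ => getN_lt _ _) 24 i hi

/-- `n` is the packed table of the permutation `σ`. -/
def IsTableN (σ : Equiv.Perm GolayPt) (n : ℕ) : Prop := ∀ p, idx (σ p) = getN n (idx p)

theorem isTableN_mul {σ τ : Equiv.Perm GolayPt} {a b : ℕ} (hσ : IsTableN σ a)
    (hτ : IsTableN τ b) : IsTableN (σ * τ) (compN a b) := by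
  intro p
  show idx (σ (τ p)) = _
  rw [hσ, hτ, getN_compN _ _ _ (idx_lt p)]

theorem eq_of_isTableN {σ τ : Equiv.Perm GolayPt} {a : ℕ} (hσ : IsTableN σ a)
    (hτ : IsTableN τ a) : σ = τ :=
  Equiv.ext fun p => idx_injective (by rw [hσ, hτ])

theorem eq_of_beq {σ τ : Equiv.Perm GolayPt} {a b : ℕ} (hσ : IsTableN σ a)
    (hτ : IsTableN τ b) (h : Nat.beq a b = true) : σ = τ := by
  have hab : a = b := Nat.eq_of_beq_eq_true h
  subst hab
  exact eq_of_isTableN hσ hτ

/-- The packed identity table. -/
def idN : ℕ := 984818244535754528103549039458486304

theorem idN_ok : ∀ i < 24, getN idN i = i := by decide +kernel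

theorem isTableN_one : IsTableN 1 idN := fun p => (idN_ok _ (idx_lt p)).symm

/-- Invariance of a mask under a packed table. -/
def invN (n d : ℕ) : Bool := (List.range 24).all fun i => d.testBit (getN n i) == d.testBit i

theorem invN_of_invMask {g : Equiv.Perm GolayPt} {n d : ℕ} (ht : IsTableN g n)
    (h : InvMask g d) : invN n d = true := by
  simp only [invN, List.all_eq_true, List.mem_range, beq_iff_eq]
  intro i hi
  have h1 := h (pt i)
  rw [ht, idx_pt hi] at h1
  exact h1

theorem invMask_of_invN {g : Equiv.Perm GolayPt} {n d : ℕ} (ht : IsTableN g n)
    (h : invN n d = true) : InvMask g d := by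
  simp only [invN, List.all_eq_true, List.mem_range, beq_iff_eq] at h
  intro p
  rw [ht]
  exact h _ (idx_lt p)

/-- Packed tables of the transversal elements. -/
def ttabN : List (List ℕ) :=
  [[984818244535754528103549039458486304, 956302485175575353788796878166559809,
    956709441910203461498593497208492130, 958020233522794296771657265635857539,
    963195377114051715561686249958000740, 984676296717505552981297274273957989,
    956160537357326378666545112982031494, 957500484933721614665615914943746215,
    958839521386248785175031781789406408, 1887869362175226852015690067619305,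
    942037241080947810501063386140525002, 29492376736006929088146330296305131,
    10645900714548972716251708628098092, 980437867787330065105992249233295053,
    981777815363726149655290441834383374, 983088606976316984928354210261748783,
    983152117779141782165456988088042640, 984492065355537866714755179917379761,
    955976305995358692400003018625453266, 962738855677243781453175209801685011,
    969261313191007575266463664153625044, 982138349382962359004952654256308949,
    983478296959358443554250846857397270, 1795248432537898728475572672376535],
   [0, 984818244535754528103549039458486304, 969952412052033243847481939299780672,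
    921841040779540204408771860564877408, 977864963184960973661438897150854272,
    750656702741329247351360250289734816, 980275914351787324191492553553580224,
    47262741706065662830885121292843232, 777801734501304420622289444139054336,
    279269025784547372634341899570815264, 467974103786776826016790683084534080,
    645267317966049346622286219446798688, 71492056680133066869724754691572096,
    113673423800671061928254259305066912, 54035761012835621109457026874419648,
    718267961499543993155408709344759264, 196065326550792329092421710532126208,
    583248065648477679285724359547034144, 974380510768821363662145534143076928,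
    725675049090850571863790881748888160, 722082267440869382213486903214810752,
    512234834070819196783810307534590624, 477144491347695089491217979027889856,
    928413874498667716355043516223936224],
   [0, 0, 984818244535754528103549039458486304, 984493369334060478447889424982281248,
    962466657604444599622550278829576224, 430166736302492307431647008563336224,
    755046027125680592372209080378726432, 759546350256521753387502049232591904,
    630422028889344611264198255755862048, 670675219074528409853314074992092192,
    675866266812294776168851771390306336, 543087571659445850527680118957190176,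
    550599590953755361979249898332631072, 178650695139721841999090747176563744,
    818480800510764304017671758639347744, 969948108926309948518270745543654432,
    264377534414962000394923668833386528, 112507149118360119482138379534222368,
    800119766652513598442882925682903072, 178489700291289946307718026121989152,
    393465023254853140546941875360550944, 919567949732340458250564702791881760,
    231761403235377024711390263645558816, 777116890712175666172299693716266016],
   [0, 0, 0, 984818244535754528103549039458486304, 974422238081544939122441376219924512,
    523539843334956300979449952240568352, 981563544338578773660441081710577696,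
    339423731210982210315572011383097376, 379499243100779628469086650235095072,
    306799559382010528654683005413263392, 222108513377072883390835412657571872,
    981473988778430737395726997924448288, 808142657167580517422000508671232032,
    439123646137318742659859448397727776, 969230734367802084062008899275261984,
    854316894270893805294351665054844960, 777693085096396660330996520015366176,
    966624404310788219917185392308684832, 153883565682713105501307978322085920,
    640686708447926916167065947366590496, 510355393284864701916778918421596192,
    972640828999828289679814619323598880, 647931296612646825192734940615870496,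
    818361401632695826709629394574084128],
   [0, 0, 0, 0, 984818244535754528103549039458486304, 178465764388246049219584176799451168,
    518883083974777233938794043913898016, 819913499695175823355100807149226016,
    422328465285653677112255727873919008, 692105835552860372121761488842098720,
    714779504765739530547128581499226144, 979037747421335847153138073498388512,
    970499966350631336865513127433832480, 384450725906006111125412284007024672,
    836751698788145288111536649279735840, 844648959219484505333127564403771424,
    195468142847917814532155631636416544, 673271284561727268670330324886063136,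
    528949020781894515397114233503189024, 190238046788852435141939349955905568,
    968621477650857569167789942210922528, 980224387687010295957922729495201824,
    523721810311161253610924659699714080, 850496130172703712028616732376664096],
   [0, 0, 0, 0, 0, 0, 0, 984818244535754528103549039458486304, 0, 0,
    233256162770680474255234529480509472, 0, 734193695561696696727012081653614624, 0, 0, 0, 0, 0, 0,
    0, 0, 0, 0, 0],
   [0, 0, 0, 0, 0, 984818244535754528103549039458486304, 479663310730678034207776437455390752, 0,
    651239579074641248992907580101724192, 944319304547998642267612847938832416, 0,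
    268195153026948482477577069584812064, 0, 772944516003414818434737759861180448,
    720981692062171673584743151055243296, 358662142733855540651195105552730144,
    812852730107173232200347929486133280, 590072960059042287979885064796342304,
    561475773312554808336860583768983584, 681942991418186671700734416290678816,
    892716570080838209712931004353710112, 841384528646309054241536335100872736,
    380679813245078647833929983948064800, 220213109803259289183002082616117280]]

/-- The packed table of the transversal element at level `j` for the point `c`. -/
def ttN (j c : ℕ) : ℕ := (ttabN.getD j []).getD c 0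

theorem ttabN_ok : ((List.range 7).all fun j => (orbL.getD j []).all fun c =>
    (List.range 24).all fun i => applyW (tw j c) i == getN (ttN j c) i) = true := by
  decide +kernel

theorem isTableN_tw (j c : ℕ) (hj : j < 7) (hc : c ∈ orbL.getD j []) :
    IsTableN (permW (tw j c)) (ttN j c) := by
  have h := ttabN_ok
  rw [List.all_eq_true] at h
  have h1 := h j (List.mem_range.2 hj)
  rw [List.all_eq_true] at h1
  have h2 := h1 c hc
  simp only [beq_iff_eq, List.all_eq_true, List.mem_range] at h2
  intro p
  rw [permW_idx]
  exact h2 (idx p) (idx_lt p)

/-- Elements of the four-point stabiliser in normal form. -/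
noncomputable def E4 (c4 c5 c6 : ℕ) : Equiv.Perm GolayPt :=
  permW (tw 4 c4) * (permW (tw 5 c5) * permW (tw 6 c6))

/-- Elements of the three-point stabiliser in normal form. -/
noncomputable def E3 (c3 c4 c5 c6 : ℕ) : Equiv.Perm GolayPt :=
  permW (tw 3 c3) * E4 c4 c5 c6

/-- The packed table of `E4`. -/
def t4N (c4 c5 c6 : ℕ) : ℕ := compN (ttN 4 c4) (compN (ttN 5 c5) (ttN 6 c6))

/-- The packed table of `E3`. -/
def t3N (c3 c4 c5 c6 : ℕ) : ℕ := compN (ttN 3 c3) (t4N c4 c5 c6)

/-- Validity of a normal form triple. -/
def ok4 (c4 c5 c6 : ℕ) : Bool :=
  (orbL.getD 4 []).contains c4 && (orbL.getD 5 []).contains c5 && (orbL.getD 6 []).contains c6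

/-- Validity of a normal form quadruple. -/
def ok3 (c3 c4 c5 c6 : ℕ) : Bool := (orbL.getD 3 []).contains c3 && ok4 c4 c5 c6

theorem E4_spec {c4 c5 c6 : ℕ} (h : ok4 c4 c5 c6 = true) :
    E4 c4 c5 c6 ∈ stabL M24 4 ∧ IsTableN (E4 c4 c5 c6) (t4N c4 c5 c6) := by
  simp only [ok4, Bool.and_eq_true, List.contains_iff_mem] at h
  obtain ⟨⟨h4, h5⟩, h6⟩ := h
  refine ⟨?_, ?_⟩
  · exact mul_mem (tw_mem_stabL 4 c4 (by norm_num) h4)
      (mul_mem (stabL_anti M24 (by norm_num) (tw_mem_stabL 5 c5 (by norm_num) h5))
        (stabL_anti M24 (by norm_num) (tw_mem_stabL 6 c6 (by norm_num) h6)))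
  · exact isTableN_mul (isTableN_tw 4 c4 (by norm_num) h4)
      (isTableN_mul (isTableN_tw 5 c5 (by norm_num) h5) (isTableN_tw 6 c6 (by norm_num) h6))

theorem E3_spec {c3 c4 c5 c6 : ℕ} (h : ok3 c3 c4 c5 c6 = true) :
    E3 c3 c4 c5 c6 ∈ stabL M24 3 ∧ IsTableN (E3 c3 c4 c5 c6) (t3N c3 c4 c5 c6) := by
  simp only [ok3, Bool.and_eq_true, List.contains_iff_mem] at h
  obtain ⟨h3, h4⟩ := h
  obtain ⟨hm, ht⟩ := E4_spec h4
  exact ⟨mul_mem (tw_mem_stabL 3 c3 (by norm_num) h3) (stabL_anti M24 (by norm_num) hm),
    isTableN_mul (isTableN_tw 3 c3 (by norm_num) h3) ht⟩

/-- Normal form of the elements of the four-point stabiliser, with packed table. -/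
theorem nf4N (g : Equiv.Perm GolayPt) (hg : g ∈ stabL M24 4) :
    ∃ c4 c5 c6, ok4 c4 c5 c6 = true ∧ g = E4 c4 c5 c6 := by
  obtain ⟨c4, hc4, c5, hc5, c6, hc6, hge, -⟩ := nf4 g hg
  refine ⟨c4, c5, c6, ?_, hge⟩
  simp only [ok4, Bool.and_eq_true, List.contains_iff_mem]
  exact ⟨⟨hc4, hc5⟩, hc6⟩

/-- Normal form of the elements of the three-point stabiliser, with packed table. -/
theorem nf3N (g : Equiv.Perm GolayPt) (hg : g ∈ stabL M24 3) :
    ∃ c3 c4 c5 c6, ok3 c3 c4 c5 c6 = true ∧ g = E3 c3 c4 c5 c6 := by
  obtain ⟨c3, hc3, c4, hc4, c5, hc5, c6, hc6, hge, -⟩ := nf3 g hg
  refine ⟨c3, c4, c5, c6, ?_, hge⟩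
  simp only [ok3, ok4, Bool.and_eq_true, List.contains_iff_mem]
  exact ⟨hc3, ⟨hc4, hc5⟩, hc6⟩

end Cfsg.Agent.Lib.helper9
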