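/-
Explicit elements of the stabiliser of the dodecad `d1` (a copy of `M₁₂`) in normal form with
respect to the stabiliser chain of `M24`, and the finite checks used for the outer automorphism
groups of `M₁₁` and `M₁₂`.
-/
import Cfsg.Agent.Lib.helper9.M24Pack
import Cfsg.Agent.Lib.helper9.M12Compl

set_option autoImplicit false

namespace Cfsg.Agent.Lib.helper9

open Cfsg

/-- Product of transversal elements `t_j(c_j) * t_{j+1}(c_{j+1}) * ...`. -/
noncomputable def EL : ℕ → List ℕ → Equiv.Perm GolayPt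
  | _, [] => 1
  | j, c :: cs => permW (tw j c) * EL (j + 1) cs

/-- The packed table of `EL`. -/
def tLN : ℕ → List ℕ → ℕ
  | _, [] => idN
  | j, c :: cs => compN (ttN j c) (tLN (j + 1) cs)

/-- Validity of a normal form. -/
def okL : ℕ → List ℕ → Bool
  | _, [] => true
  | j, c :: cs => decide (j < 7) && (orbL.getD j []).contains c && okL (j + 1) cs

theorem EL_spec : ∀ (cs : List ℕ) (j : ℕ), okL j cs = true →
    EL j cs ∈ M24 ∧ IsTableN (EL j cs) (tLN j cs) := by
  intro cs
  induction cs with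
  | nil => intro j _; exact ⟨one_mem _, isTableN_one⟩
  | cons c cs ih =>
    intro j h
    simp only [okL, Bool.and_eq_true, decide_eq_true_eq, List.contains_iff_mem] at h
    obtain ⟨⟨hj, hc⟩, hcs⟩ := h
    obtain ⟨hm, ht⟩ := ih (j + 1) hcs
    exact ⟨mul_mem (stabL_anti M24 (Nat.zero_le j) (tw_mem_stabL j c hj hc)) hm,
      isTableN_mul (isTableN_tw j c hj hc) ht⟩

theorem apply_pt_of_isTableN {g : Equiv.Perm GolayPt} {T : ℕ} (h : IsTableN g T) {i : ℕ}
    (hi : i < 24) : g (pt i) = pt (getN T i) := by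
  have h1 := h (pt i)
  rw [idx_pt hi] at h1
  rw [← h1, pt_idx]

/-- Packed table of a power. -/
def powN (T : ℕ) : ℕ → ℕ
  | 0 => idN
  | n + 1 => compN T (powN T n)

theorem isTableN_pow {g : Equiv.Perm GolayPt} {T : ℕ} (h : IsTableN g T) :
    ∀ n : ℕ, IsTableN (g ^ n) (powN T n)
  | 0 => by rw [pow_zero]; exact isTableN_one
  | n + 1 => by rw [pow_succ']; exact isTableN_mul h (isTableN_pow h n)

theorem mem_stabMask_of_invN {g : Equiv.Perm GolayPt} {T d : ℕ} (hM : g ∈ M24)
    (ht : IsTableN g T) (h : invN T d = true) : g ∈ stabMask d :=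
  mem_stabMask.2 ⟨hM, invMask_of_invN ht h⟩

/-- Membership in the dodecad stabiliser together with the table, from the Boolean checks. -/
theorem EL_mem {cs : List ℕ} {d : ℕ} (h1 : okL 0 cs = true) (h2 : invN (tLN 0 cs) d = true) :
    EL 0 cs ∈ stabMask d ∧ IsTableN (EL 0 cs) (tLN 0 cs) :=
  ⟨mem_stabMask_of_invN (EL_spec cs 0 h1).1 (EL_spec cs 0 h1).2 h2, (EL_spec cs 0 h1).2⟩

/-! ### The data -/

/-- Elements of order `5` permuting the base points `0, ..., 4`, fixing `10` and one more point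
of the dodecad: `(y, normal form)`. -/
def cL : List (ℕ × List ℕ) :=
  [(6, [1, 1, 2, 3, 22, 12, 23]), (17, [1, 1, 3, 22, 4, 12, 8]), (5, [1, 2, 17, 11, 20, 12, 20]),
   (15, [1, 2, 3, 15, 6, 12, 21]), (8, [1, 3, 23, 18, 6, 12, 13]), (9, [1, 3, 8, 16, 20, 12, 22])]

/-- Check of an entry of `cL`. -/
def chkC (e : ℕ × List ℕ) : Bool :=
  okL 0 e.2 && invN (tLN 0 e.2) d1 &&
  ((List.range 5).all fun i => decide (getN (tLN 0 e.2) i < 5)) &&
  getN (tLN 0 e.2) 10 == 10 && getN (tLN 0 e.2) e.1 == e.1 && d1.testBit e.1 &&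
  decide (e.1 < 24) && e.1 != 10 &&
  ((List.range 24).all fun i => !(d1.testBit i) || getN (tLN 0 e.2) i != i || i == 10 || i == e.1)

theorem cL_ok : cL.all chkC = true := by decide +kernel

/-- The points of the dodecad are the base points, `10`, and the points of `cL`. -/
theorem cL_cover : ∀ i < 24, d1.testBit i = true → i < 5 ∨ i = 10 ∨ i ∈ cL.map Prod.fst := by
  decide +kernel

/-- An element of order `3` fixing `3`, `4`, `10` and permuting `0, 1, 2` cyclically. -/
def g1L : List ℕ := [1, 1, 22, 11, 6, 7, 21]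

theorem g1_ok : (okL 0 g1L && invN (tLN 0 g1L) d1 &&
    ((List.range 4).all fun i => decide (getN (tLN 0 g1L) i < 4)) &&
    getN (tLN 0 g1L) 10 == 10 && getN (tLN 0 g1L) 4 == 4 &&
    ((List.range 24).all fun i => !(d1.testBit i) || getN (tLN 0 g1L) i != i || i == 10 || i == 3
      || i == 4)) = true := by decide +kernel

/-- The elements mapping `0 → 1 → 2 → 3 → 4 → x`: `(x, normal form, witness point)`. -/
def e8L : List (ℕ × List ℕ × ℕ) :=
  [(0, [1, 1, 2, 3, 22, 12, 23], 6), (5, [1, 1, 2, 3, 4, 12, 19], 0),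
   (6, [1, 1, 2, 3, 5, 10, 16], 17), (8, [1, 1, 2, 3, 7, 10, 6], 9),
   (9, [1, 1, 2, 3, 8, 7, 6], 11), (10, [1, 1, 2, 3, 9, 7, 15], 5),
   (15, [1, 1, 2, 3, 14, 7, 20], 8), (17, [1, 1, 2, 3, 16, 10, 22], 0)]

/-- Check of an entry of `e8L`: the witness point is fixed, or moved by the eighth power. -/
def chkE (e : ℕ × List ℕ × ℕ) : Bool :=
  okL 0 e.2.1 && invN (tLN 0 e.2.1) d1 &&
  getN (tLN 0 e.2.1) 0 == 1 && getN (tLN 0 e.2.1) 1 == 2 && getN (tLN 0 e.2.1) 2 == 3 &&
  getN (tLN 0 e.2.1) 3 == 4 && getN (tLN 0 e.2.1) 4 == e.1 && decide (e.2.2 < 24) &&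
  decide (getN (powN (tLN 0 e.2.1) 8) e.2.2 < 24) &&
  (getN (tLN 0 e.2.1) e.2.2 == e.2.2 || getN (powN (tLN 0 e.2.1) 8) e.2.2 != e.2.2)

theorem e8L_ok : e8L.all chkE = true := by decide +kernel

theorem e8L_cover : ∀ i < 24, d1.testBit i = true → i = 1 ∨ i = 2 ∨ i = 3 ∨ i = 4 ∨
    i ∈ e8L.map Prod.fst := by
  decide +kernel

/-- An element of order `8` fixing the points `0` and `1` and no point outside the dodecad. -/
def u8L : List ℕ := [0, 1, 3, 3, 6, 12, 14]

theorem u8_ok : (okL 0 u8L && invN (tLN 0 u8L) d1 && getN (tLN 0 u8L) 0 == 0 &&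
    Nat.beq (powN (tLN 0 u8L) 8) idN && getN (powN (tLN 0 u8L) 4) 4 != 4 &&
    ((List.range 24).all fun i => d1.testBit i || getN (tLN 0 u8L) i != i)) = true := by
  decide +kernel

/-- The complementary dodecad. -/
def d1c : ℕ := 16611456

theorem d1c_ok : syn d1c = true ∧ pc d1c = 12 := by decide +kernel

theorem d1c_bit : ∀ i < 24, d1c.testBit i = !d1.testBit i := by decide +kernel

/-- An element of `M24` interchanging the dodecad and its complement. -/
def tauL : List ℕ := [23, 1, 14, 3, 4, 7, 5]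

theorem tau_ok : (okL 0 tauL &&
    ((List.range 24).all fun i => d1c.testBit (getN (tLN 0 tauL) i) == d1.testBit i)) = true := by
  decide +kernel

end Cfsg.Agent.Lib.helper9
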