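/-
Generic lemmas on the order of the outer automorphism group.
-/
import Mathlib
import Cfsg.Prelude.Def_KGroupFacts

set_option autoImplicit false

namespace Cfsg.Agent.Lib.helper9

open Cfsg

/-- If every automorphism is inner, the outer automorphism group is trivial. -/
theorem card_out_eq_one {G : Type*} [Group G]
    (h : ∀ φ : G ≃* G, ∃ m : G, φ = MulAut.conj m) : Nat.card (Out G) = 1 := by
  have htop : Inn G = ⊤ := by
    rw [eq_top_iff]
    intro φ _
    obtain ⟨m, hm⟩ := h φ
    exact ⟨m, hm.symm⟩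
  have h1 : Nat.card (Out G) = (Inn G).index := rfl
  rw [h1, htop, Subgroup.index_top]

/-- If the inner automorphisms together with one coset exhaust the automorphism group, the
outer automorphism group has order `2`. -/
theorem card_out_eq_two {G : Type*} [Group G] (τ : MulAut G) (hτ : τ ∉ Inn G)
    (h : ∀ φ : MulAut G, φ ∈ Inn G ∨ τ⁻¹ * φ ∈ Inn G) : Nat.card (Out G) = 2 := by
  have h1 : Nat.card (Out G) = (Inn G).index := rfl
  rw [h1, Subgroup.index_eq_two_iff]
  refine ⟨τ, fun b => ?_⟩
  by_cases hb : b ∈ Inn G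
  · refine Or.inr ⟨hb, fun hbt => hτ ?_⟩
    have : τ = b⁻¹ * (b * τ) := by group
    rw [this]
    exact mul_mem (inv_mem hb) hbt
  · refine Or.inl ⟨?_, hb⟩
    rcases h (b * τ) with h2 | h2
    · exact h2
    · exfalso
      apply hb
      have h3 : b = τ * (τ⁻¹ * (b * τ)) * τ⁻¹ := by group
      rw [h3]
      exact (innNormal G).conj_mem _ h2 τ

/-- The order of the outer automorphism group is an isomorphism invariant. -/
theorem card_out_congr {G H : Type*} [Group G] [Group H] (e : G ≃* H) :
    Nat.card (Out G) = Nat.card (Out H) := by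
  have h1 : Nat.card (Out G) = (Inn G).index := rfl
  have h2 : Nat.card (Out H) = (Inn H).index := rfl
  rw [h1, h2, ← Subgroup.index_map_equiv (Inn G) (MulAut.congr e)]
  congr 1
  ext φ
  constructor
  · rintro ⟨ψ, ⟨g, rfl⟩, rfl⟩
    refine ⟨e g, ?_⟩
    ext x
    simp [MulAut.congr, MulAut.conj_apply]
  · rintro ⟨g, rfl⟩
    refine ⟨MulAut.conj (e.symm g), ⟨e.symm g, rfl⟩, ?_⟩
    ext x
    simp [MulAut.congr, MulAut.conj_apply]

end Cfsg.Agent.Lib.helper9
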