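/-
Automorphisms of the stabiliser of the dodecad `d1` (a copy of `M₁₂`) and of a point stabiliser
in it (a copy of `M₁₁`).
-/
import Cfsg.Agent.Lib.helper9.M12OutData
import Cfsg.Agent.Lib.helper9.AutSharp
import Cfsg.Agent.Lib.helper9.OutLemmas
import Cfsg.Prelude.Def_Spor_Mathieu

set_option autoImplicit false

namespace Cfsg.Agent.Lib.helper9

open Cfsg
open Cfsg.Agent.Lib.helper33 (perm_inv_apply perm_apply_inv stabImage stabImage_le card_stabImage
  stab_iff_of_stabImage)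
open scoped Pointwise

/-! ### Dodecad stabilisers -/

theorem dodStab_invOn (d : Finset GolayPt) :
    InvOn (M24 ⊓ MulAction.stabilizer (Equiv.Perm GolayPt) d) d := by
  intro g hg x hx
  have h := MulAction.mem_stabilizer_iff.1 (Subgroup.mem_inf.1 hg).2
  rw [← h]
  exact Finset.smul_mem_smul_finset hx

theorem dodStab_sharpOn (d : Finset GolayPt) (hd : d ∈ dodecads) :
    SharpOn (M24 ⊓ MulAction.stabilizer (Equiv.Perm GolayPt) d) d 5 := by
  intro g hg s hs hcard hfix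
  obtain ⟨t, ht, ht5⟩ := Finset.exists_subset_card_eq hcard
  let x : Fin 5 ↪ GolayPt :=
    (t.equivFinOfCardEq ht5).symm.toEmbedding.trans (Function.Embedding.subtype _)
  have hx : ∀ i, x i ∈ t := fun i => ((t.equivFinOfCardEq ht5).symm i).2
  obtain ⟨g', -, -, -, huniq⟩ := dod_sharp5 d hd x x (fun i => hs (ht (hx i)))
    (fun i => hs (ht (hx i)))
  have h1 := huniq g (Subgroup.mem_inf.1 hg).1
    (MulAction.mem_stabilizer_iff.1 (Subgroup.mem_inf.1 hg).2) (fun i => hfix _ (ht (hx i)))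
  have h2 := huniq 1 (one_mem _) (one_smul _ _) (fun i => rfl)
  rw [h1, ← h2]

theorem dodStab_transOn (d : Finset GolayPt) (hd : d ∈ dodecads) :
    TransOn (M24 ⊓ MulAction.stabilizer (Equiv.Perm GolayPt) d) d 5 := by
  intro x y hx hy
  obtain ⟨g, hg, hgd, hgx, -⟩ := dod_sharp5 d hd x y hx hy
  exact ⟨g, Subgroup.mem_inf.2 ⟨hg, MulAction.mem_stabilizer_iff.2 hgd⟩, hgx⟩

theorem stab_compl_eq (d : Finset GolayPt) :
    MulAction.stabilizer (Equiv.Perm GolayPt) (Finset.univ \ d) =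
      MulAction.stabilizer (Equiv.Perm GolayPt) d := by
  ext x
  rw [MulAction.mem_stabilizer_iff, MulAction.mem_stabilizer_iff, Finset.smul_finset_sdiff,
    Finset.smul_finset_univ]
  constructor
  · intro h
    have h2 := congrArg (fun s => Finset.univ \ s) h
    simpa using h2
  · intro h
    rw [h]

/-! ### The groups -/

theorem pt_ne {i j : ℕ} (hi : i < 24) (hj : j < 24) (h : i ≠ j) : pt i ≠ pt j := by
  intro e
  have := congrArg idx e
  rw [idx_pt hi, idx_pt hj] at this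
  exact h this

theorem D1c_eq : decSet d1c = Finset.univ \ decSet d1 := by
  ext p
  rw [Finset.mem_sdiff, mem_decSet, mem_decSet, d1c_bit _ (idx_lt p)]
  simp

theorem d1c_mem : decSet d1c ∈ dodecads := decSet_mem_dodecads d1c d1c_ok.1 d1c_ok.2

theorem stabMask_d1c : stabMask d1c = stabMask d1 := by
  unfold stabMask
  rw [D1c_eq, stab_compl_eq]

theorem card_D1 : (decSet d1).card = 12 := by rw [card_decSet]; exact d1_ok.2

theorem card_D1c : (decSet d1c).card = 12 := by rw [card_decSet]; exact d1c_ok.2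

theorem mem_D1_or (x : GolayPt) : x ∈ decSet d1 ∨ x ∈ decSet d1c := by
  rw [D1c_eq, Finset.mem_sdiff]
  by_cases h : x ∈ decSet d1
  · exact Or.inl h
  · exact Or.inr ⟨Finset.mem_univ _, h⟩

theorem invOn12 : InvOn (stabMask d1) (decSet d1) := dodStab_invOn _

theorem invOn12c : InvOn (stabMask d1) (decSet d1c) := by
  rw [← stabMask_d1c]; exact dodStab_invOn _

theorem sharp12 : SharpOn (stabMask d1) (decSet d1) 5 := dodStab_sharpOn _ d1_mem

theorem sharp12c : SharpOn (stabMask d1) (decSet d1c) 5 := by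
  rw [← stabMask_d1c]; exact dodStab_sharpOn _ d1c_mem

theorem trans12 : TransOn (stabMask d1) (decSet d1) 5 := dodStab_transOn _ d1_mem

theorem pt_mem_D1 : ∀ i < 24, d1.testBit i = true → pt i ∈ decSet d1 := by
  intro i hi h
  rw [mem_decSet, idx_pt hi]
  exact h

/-- The base points `0, ..., 4`. -/
def a12 : Fin 5 ↪ GolayPt :=
  ⟨fun i => pt i, fun i j h => Fin.ext (by
    have := congrArg idx h
    rwa [idx_pt (by omega), idx_pt (by omega)] at this)⟩

theorem a12_apply (i : Fin 5) : a12 i = pt i := rfl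

theorem a12_mem (i : Fin 5) : a12 i ∈ decSet d1 := by
  refine pt_mem_D1 _ (by omega) ?_
  have : ∀ j < 5, d1.testBit j = true := by decide +kernel
  exact this _ i.2

theorem multi_trans12 (k : ℕ) (hk : k ≤ 5) (x y : ℕ → GolayPt)
    (hx : ∀ j < k, x j ∈ decSet d1) (hy : ∀ j < k, y j ∈ decSet d1)
    (hxi : ∀ a < k, ∀ b < k, x a = x b → a = b) (hyi : ∀ a < k, ∀ b < k, y a = y b → a = b) :
    ∃ g ∈ stabMask d1, ∀ j < k, g (x j) = y j := by
  obtain ⟨g₁, hg₁, h₁⟩ := move_to_base1 k hk x hx hxi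
  obtain ⟨g₂, hg₂, h₂⟩ := move_to_base1 k hk y hy hyi
  refine ⟨g₂⁻¹ * g₁, mul_mem (inv_mem hg₂) hg₁, fun j hj => ?_⟩
  show g₂⁻¹ (g₁ (x j)) = y j
  rw [Equiv.Perm.inv_eq_iff_eq, h₁ j hj, h₂ j hj]

theorem two_trans12 (q q' r r' : GolayPt) (hq : q ∈ decSet d1) (hq' : q' ∈ decSet d1)
    (hr : r ∈ decSet d1) (hr' : r' ∈ decSet d1) (hne : q ≠ q') (hne' : r ≠ r') :
    ∃ g ∈ stabMask d1, g q = r ∧ g q' = r' := by
  obtain ⟨g, hg, h⟩ := multi_trans12 2 (by norm_num) (fun j => if j = 0 then q else q')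
    (fun j => if j = 0 then r else r')
    (fun j hj => by by_cases h0 : j = 0 <;> simp [h0, hq, hq'])
    (fun j hj => by by_cases h0 : j = 0 <;> simp [h0, hr, hr'])
    (fun a ha b hb h => by
      by_cases ha0 : a = 0 <;> by_cases hb0 : b = 0 <;> simp [ha0, hb0] at h <;> first
        | omega | exact absurd h hne | exact absurd h.symm hne)
    (fun a ha b hb h => by
      by_cases ha0 : a = 0 <;> by_cases hb0 : b = 0 <;> simp [ha0, hb0] at h <;> first
        | omega | exact absurd h hne' | exact absurd h.symm hne')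
  exact ⟨g, hg, by simpa using h 0 (by norm_num), by simpa using h 1 (by norm_num)⟩

theorem trans12_pt (p q : GolayPt) (hp : p ∈ decSet d1) (hq : q ∈ decSet d1) :
    ∃ g ∈ stabMask d1, g p = q := by
  obtain ⟨g, hg, hgd, hgp⟩ := dod_trans (decSet d1) d1_mem p q hp hq
  exact ⟨g, mem_stabMask_of hg hgd, hgp⟩

theorem trans12c_pt (p q : GolayPt) (hp : p ∈ decSet d1c) (hq : q ∈ decSet d1c) :
    ∃ g ∈ stabMask d1, g p = q := by
  obtain ⟨g, hg, hgd, hgp⟩ := dod_trans (decSet d1c) d1c_mem p q hp hq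
  exact ⟨g, stabMask_d1c ▸ mem_stabMask_of hg hgd, hgp⟩

theorem card_stab12 (p : GolayPt) (hp : p ∈ decSet d1) :
    Nat.card ↥(stabMask d1 ⊓ MulAction.stabilizer (Equiv.Perm GolayPt) p) = 7920 := by
  have h := card_orbK_mul (stabMask d1) p
  have horb : orbK (stabMask d1) p = decSet d1 := by
    ext x
    rw [mem_orbK]
    constructor
    · rintro ⟨k, hk, rfl⟩
      exact invOn12 k hk p hp
    · intro hx
      exact trans12_pt p x hp hx
  rw [horb, card_D1, card_stabMask d1 d1_mem] at h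
  omega

theorem card_stab12c (p : GolayPt) (hp : p ∈ decSet d1c) :
    Nat.card ↥(stabMask d1 ⊓ MulAction.stabilizer (Equiv.Perm GolayPt) p) = 7920 := by
  have h := card_orbK_mul (stabMask d1) p
  have horb : orbK (stabMask d1) p = decSet d1c := by
    ext x
    rw [mem_orbK]
    constructor
    · rintro ⟨k, hk, rfl⟩
      exact invOn12c k hk p hp
    · intro hx
      exact trans12c_pt p x hp hx
  rw [horb, card_D1c, card_stabMask d1 d1_mem] at h
  omega

theorem hdist12 : ∀ q ∈ decSet d1, ∀ q' ∈ decSet d1, q ≠ q' →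
    ∃ g ∈ stabMask d1, g q = q ∧ g q' ≠ q' := by
  intro q hq q' hq' hne
  obtain ⟨r, hr, hrq, hrq'⟩ : ∃ r ∈ decSet d1, r ≠ q ∧ r ≠ q' := by
    by_contra hcon
    push Not at hcon
    have h1 : decSet d1 ⊆ {q, q'} := by
      intro x hx
      by_cases hxq : x = q
      · simp [hxq]
      · simp [hcon x hx hxq]
    have h2 := Finset.card_le_card h1
    rw [card_D1] at h2
    have h3 : ({q, q'} : Finset GolayPt).card ≤ 2 := Finset.card_le_two
    omega
  obtain ⟨g, hg, hgq, hgq'⟩ := two_trans12 q q' q r hq hq' hq hr hne (Ne.symm hrq)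
  exact ⟨g, hg, hgq, by rw [hgq']; exact hrq'⟩

/-! ### The explicit elements -/

theorem cL_spec (e : ℕ × List ℕ) (he : e ∈ cL) :
    EL 0 e.2 ∈ stabMask d1 ∧ (∀ i < 5, ∃ j < 5, EL 0 e.2 (pt i) = pt j) ∧
      EL 0 e.2 (pt 10) = pt 10 ∧ EL 0 e.2 (pt e.1) = pt e.1 ∧ pt e.1 ∈ decSet d1 ∧
      pt e.1 ≠ pt 10 ∧ ∀ x ∈ decSet d1, EL 0 e.2 x = x → x = pt 10 ∨ x = pt e.1 := by
  have h := List.all_eq_true.1 cL_ok e he
  simp only [chkC, Bool.and_eq_true, List.all_eq_true, List.mem_range, decide_eq_true_eq,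
    beq_iff_eq, bne_iff_ne, Bool.or_eq_true, Bool.not_eq_true'] at h
  obtain ⟨⟨⟨⟨⟨⟨⟨⟨h1, h2⟩, h3⟩, h4⟩, h5⟩, h6⟩, h7⟩, h8⟩, h9⟩ := h
  obtain ⟨hm, ht⟩ := EL_mem h1 h2
  refine ⟨hm, fun i hi => ⟨_, h3 i hi, apply_pt_of_isTableN ht (by omega)⟩, ?_, ?_, ?_, ?_, ?_⟩
  · rw [apply_pt_of_isTableN ht (by norm_num), h4]
  · rw [apply_pt_of_isTableN ht h7, h5]
  · exact pt_mem_D1 _ h7 h6
  · exact pt_ne h7 (by norm_num) h8
  · intro x hx hfix
    have hi := idx_lt x
    have hb : d1.testBit (idx x) = true := mem_decSet.1 hx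
    have hg : getN (tLN 0 e.2) (idx x) = idx x := by rw [← ht x, hfix]
    rcases h9 (idx x) hi with ((h | h) | h) | h
    · rw [hb] at h; exact absurd h (by simp)
    · exact absurd hg h
    · left; rw [← pt_idx x, h]
    · right; rw [← pt_idx x, h]

/-- The element of order `3`. -/
theorem g1_spec : EL 0 g1L ∈ stabMask d1 ∧ (∀ i < 4, ∃ j < 4, EL 0 g1L (pt i) = pt j) ∧
    EL 0 g1L (pt 10) = pt 10 ∧ EL 0 g1L (pt 4) = pt 4 ∧
    ∀ x ∈ decSet d1, EL 0 g1L x = x → x = pt 10 ∨ x = pt 3 ∨ x = pt 4 := by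
  have h := g1_ok
  simp only [Bool.and_eq_true, List.all_eq_true, List.mem_range, decide_eq_true_eq,
    beq_iff_eq, bne_iff_ne, Bool.or_eq_true, Bool.not_eq_true'] at h
  obtain ⟨⟨⟨⟨⟨h1, h2⟩, h3⟩, h4⟩, h5⟩, h9⟩ := h
  obtain ⟨hm, ht⟩ := EL_mem h1 h2
  refine ⟨hm, fun i hi => ⟨_, h3 i hi, apply_pt_of_isTableN ht (by omega)⟩, ?_, ?_, ?_⟩
  · rw [apply_pt_of_isTableN ht (by norm_num), h4]
  · rw [apply_pt_of_isTableN ht (by norm_num), h5]
  · intro x hx hfix
    have hi := idx_lt x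
    have hb : d1.testBit (idx x) = true := mem_decSet.1 hx
    have hg : getN (tLN 0 g1L) (idx x) = idx x := by rw [← ht x, hfix]
    rcases h9 (idx x) hi with (((h | h) | h) | h) | h
    · rw [hb] at h; exact absurd h (by simp)
    · exact absurd hg h
    · left; rw [← pt_idx x, h]
    · right; left; rw [← pt_idx x, h]
    · right; right; rw [← pt_idx x, h]

/-- The finite check for elements of order `8`. -/
theorem e8_check (g : Equiv.Perm GolayPt) (hg : g ∈ stabMask d1) (h0 : g (a12 0) = a12 1)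
    (h1 : g (a12 1) = a12 2) (h2 : g (a12 2) = a12 3) (h3 : g (a12 3) = a12 4)
    (h8 : g ^ 8 = 1) : ∃ z, g z = z := by
  have h0' : g (pt 0) = pt 1 := h0
  have h1' : g (pt 1) = pt 2 := h1
  have h2' : g (pt 2) = pt 3 := h2
  have h3' : g (pt 3) = pt 4 := h3
  have hx : idx (g (pt 4)) < 24 := idx_lt _
  have h4D : pt 4 ∈ decSet d1 := a12_mem 4
  have hb : d1.testBit (idx (g (pt 4))) = true := mem_decSet.1 (invOn12 g hg _ h4D)
  have hne : ∀ i < 4, g (pt 4) ≠ g (pt i) := fun i hi h =>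
    pt_ne (by norm_num) (by omega) (by omega) (g.injective h)
  rcases e8L_cover _ hx hb with h | h | h | h | h
  · exact absurd (by rw [← pt_idx (g (pt 4)), h, h0']) (hne 0 (by norm_num))
  · exact absurd (by rw [← pt_idx (g (pt 4)), h, h1']) (hne 1 (by norm_num))
  · exact absurd (by rw [← pt_idx (g (pt 4)), h, h2']) (hne 2 (by norm_num))
  · exact absurd (by rw [← pt_idx (g (pt 4)), h, h3']) (hne 3 (by norm_num))
  · obtain ⟨e, he, hex⟩ := List.mem_map.1 h
    have hc := List.all_eq_true.1 e8L_ok e he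
    simp only [chkE, Bool.and_eq_true, decide_eq_true_eq, beq_iff_eq, bne_iff_ne,
      Bool.or_eq_true] at hc
    obtain ⟨⟨⟨⟨⟨⟨⟨⟨⟨c1, c2⟩, c3⟩, c4⟩, c5⟩, c6⟩, c7⟩, c8⟩, c8'⟩, c9⟩ := hc
    obtain ⟨hm, ht⟩ := EL_mem c1 c2
    have heq : EL 0 e.2.1 = g := by
      refine sharp12.eq_of_agree a12 a12_mem hm hg fun i => ?_
      rw [a12_apply, apply_pt_of_isTableN ht (by omega)]
      have hi := i.2
      have : (i : ℕ) = 0 ∨ (i : ℕ) = 1 ∨ (i : ℕ) = 2 ∨ (i : ℕ) = 3 ∨ (i : ℕ) = 4 := by omega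
      rcases this with h | h | h | h | h <;> rw [h]
      · rw [c3, h0']
      · rw [c4, h1']
      · rw [c5, h2']
      · rw [c6, h3']
      · rw [c7, hex, pt_idx]
    rw [heq] at ht
    rcases c9 with c9 | c9
    · exact ⟨pt e.2.2, by rw [apply_pt_of_isTableN ht c8, c9]⟩
    · exfalso
      have h9 := apply_pt_of_isTableN (isTableN_pow ht 8) c8
      rw [h8] at h9
      have h10 : pt e.2.2 = pt (getN (powN (tLN 0 e.2.1) 8) e.2.2) := h9
      exact pt_ne c8' c8 c9 h10.symm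

/-- The element of order `8`. -/
noncomputable def u8 : Equiv.Perm GolayPt := EL 0 u8L

theorem u8_spec : u8 ∈ stabMask d1 ∧ u8 (pt 0) = pt 0 ∧ orderOf u8 = 8 ∧
    ∀ x ∈ decSet d1c, u8 x ≠ x := by
  have h := u8_ok
  simp only [Bool.and_eq_true, List.all_eq_true, List.mem_range, beq_iff_eq, bne_iff_ne,
    Bool.or_eq_true] at h
  obtain ⟨⟨⟨⟨⟨h1, h2⟩, h3⟩, h4⟩, h5⟩, h6⟩ := h
  obtain ⟨hm, ht⟩ := EL_mem h1 h2
  refine ⟨hm, ?_, ?_, ?_⟩
  · show EL 0 u8L (pt 0) = pt 0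
    rw [apply_pt_of_isTableN ht (by norm_num), h3]
  · have hp8 : u8 ^ 2 ^ (2 + 1) = 1 := eq_of_beq (isTableN_pow ht 8) isTableN_one h4
    have hp4 : ¬ u8 ^ 2 ^ 2 = 1 := by
      intro hcon
      have h9 := apply_pt_of_isTableN (isTableN_pow ht 4) (show 4 < 24 by norm_num)
      have hcon' : EL 0 u8L ^ 4 = 1 := hcon
      rw [hcon'] at h9
      have h10 : pt 4 = pt (getN (powN (tLN 0 u8L) 4) 4) := h9
      have hlt : getN (powN (tLN 0 u8L) 4) 4 < 24 := by decide +kernel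
      exact pt_ne hlt (by norm_num) h5 h10.symm
    have := orderOf_eq_prime_pow hp4 hp8
    simpa using this
  · intro x hx hfix
    have hb : d1c.testBit (idx x) = true := mem_decSet.1 hx
    rw [d1c_bit _ (idx_lt x)] at hb
    have hg : getN (tLN 0 u8L) (idx x) = idx x := by rw [← ht x]; exact congrArg idx hfix
    rcases h6 (idx x) (idx_lt x) with h | h
    · rw [h] at hb; exact absurd hb (by simp)
    · exact h hg

/-- The element interchanging the two dodecads. -/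
noncomputable def tau : Equiv.Perm GolayPt := EL 0 tauL

theorem tau_spec : tau ∈ M24 ∧ tau • decSet d1 = decSet d1c := by
  have h := tau_ok
  simp only [Bool.and_eq_true, List.all_eq_true, List.mem_range, beq_iff_eq] at h
  obtain ⟨h1, h2⟩ := h
  obtain ⟨hm, ht⟩ := EL_spec tauL 0 h1
  refine ⟨hm, ?_⟩
  have key : ∀ p, tau p ∈ decSet d1c ↔ p ∈ decSet d1 := by
    intro p
    rw [mem_decSet, mem_decSet]
    have := ht p
    show d1c.testBit (idx (EL 0 tauL p)) = true ↔ _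
    rw [this, h2 _ (idx_lt p)]
  ext q
  rw [← Finset.inv_smul_mem_iff, ← key]
  show tau (tau⁻¹ q) ∈ decSet d1c ↔ q ∈ decSet d1c
  rw [perm_apply_inv]

theorem tau_smul_c : tau • decSet d1c = decSet d1 := by
  rw [D1c_eq, Finset.smul_finset_sdiff, Finset.smul_finset_univ, tau_spec.2, D1c_eq]
  simp

theorem tau_conj_mem (g : Equiv.Perm GolayPt) (hg : g ∈ stabMask d1) :
    tau * g * tau⁻¹ ∈ stabMask d1 := by
  rw [← stabMask_d1c]
  refine mem_stabMask_of (mul_mem (mul_mem tau_spec.1 (stabMask_le _ hg)) (inv_mem tau_spec.1)) ?_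
  rw [mul_smul, mul_smul, inv_smul_eq_iff.2 tau_spec.2.symm, stabMask_smul hg, tau_spec.2]

theorem tau_conj_mem' (g : Equiv.Perm GolayPt) (hg : g ∈ stabMask d1) :
    tau⁻¹ * g * tau ∈ stabMask d1 := by
  refine mem_stabMask_of (mul_mem (mul_mem (inv_mem tau_spec.1) (stabMask_le _ hg)) tau_spec.1) ?_
  have hg' : g ∈ stabMask d1c := by rw [stabMask_d1c]; exact hg
  rw [mul_smul, mul_smul, tau_spec.2, stabMask_smul hg', inv_smul_eq_iff.2 tau_spec.2.symm]

attribute [irreducible] u8 tau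

/-! ### Rigidity for `M₁₂` -/

theorem pt10_mem : pt 10 ∈ decSet d1 := pt_mem_D1 10 (by norm_num) (by decide +kernel)

theorem pt0_mem : pt 0 ∈ decSet d1 := a12_mem 0

theorem rig12 (π : GolayPt → GolayPt) (hπD : ∀ q ∈ decSet d1, π q ∈ decSet d1)
    (hinj : Set.InjOn π ↑(decSet d1)) (hπa : ∀ i : Fin 5, π (a12 i) = a12 i)
    (hcomm : ∀ g ∈ stabMask d1, (∀ i : Fin 5, π (g (a12 i)) = g (a12 i)) →
      ∀ x ∈ decSet d1, π (g x) = g (π x)) :
    ∀ x ∈ decSet d1, π x = x := by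
  have hbase : ∀ i < 5, π (pt i) = pt i := fun i hi => hπa ⟨i, hi⟩
  have key : ∀ e ∈ cL, ∀ x ∈ decSet d1, EL 0 e.2 x = x → π x = pt 10 ∨ π x = pt e.1 := by
    intro e he x hx hfix
    obtain ⟨hm, hb, -, -, -, -, hf⟩ := cL_spec e he
    have hc := hcomm (EL 0 e.2) hm (fun i => by
      obtain ⟨j, hj, h⟩ := hb i i.2
      rw [a12_apply, h, hbase j hj]) x hx
    rw [hfix] at hc
    exact hf (π x) (hπD x hx) hc.symm
  have h10 : π (pt 10) = pt 10 := by
    have e1 : ((6 : ℕ), [1, 1, 2, 3, 22, 12, 23]) ∈ cL := by decide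
    have e2 : ((17 : ℕ), [1, 1, 3, 22, 4, 12, 8]) ∈ cL := by decide
    rcases key _ e1 (pt 10) pt10_mem (cL_spec _ e1).2.2.1 with h | h
    · exact h
    · rcases key _ e2 (pt 10) pt10_mem (cL_spec _ e2).2.2.1 with h' | h'
      · exact h'
      · rw [h] at h'
        exact absurd h' (pt_ne (by norm_num) (by norm_num) (by norm_num))
  intro x hx
  have hi := idx_lt x
  have hb : d1.testBit (idx x) = true := mem_decSet.1 hx
  rcases cL_cover _ hi hb with h | h | h
  · rw [← pt_idx x]; exact hbase _ h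
  · rw [← pt_idx x, h]; exact h10
  · obtain ⟨e, he, hex⟩ := List.mem_map.1 h
    obtain ⟨-, -, -, hfe, hmem, hne, -⟩ := cL_spec e he
    rw [← pt_idx x, ← hex]
    rcases key e he (pt e.1) hmem hfe with h' | h'
    · exfalso
      rw [← h10] at h'
      exact hne (hinj (Finset.mem_coe.2 hmem) (Finset.mem_coe.2 pt10_mem) h')
    · exact h'

/-! ### Conjugation by a normalising permutation -/

/-- Conjugation by `t` as an isomorphism between two subgroups. -/
def conjEquiv {Ω : Type*} (H K : Subgroup (Equiv.Perm Ω)) (t : Equiv.Perm Ω)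
    (h1 : ∀ g ∈ H, t * g * t⁻¹ ∈ K) (h2 : ∀ g ∈ K, t⁻¹ * g * t ∈ H) : ↥H ≃* ↥K where
  toFun g := ⟨t * g * t⁻¹, h1 g g.2⟩
  invFun g := ⟨t⁻¹ * g * t, h2 g g.2⟩
  left_inv g := by apply Subtype.ext; show t⁻¹ * (t * (g : Equiv.Perm Ω) * t⁻¹) * t = g; group
  right_inv g := by apply Subtype.ext; show t * (t⁻¹ * (g : Equiv.Perm Ω) * t) * t⁻¹ = g; group
  map_mul' g g' := by
    apply Subtype.ext
    show t * ((g : Equiv.Perm Ω) * g') * t⁻¹ = t * g * t⁻¹ * (t * g' * t⁻¹)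
    group

theorem conjEquiv_apply {Ω : Type*} (H K : Subgroup (Equiv.Perm Ω)) (t : Equiv.Perm Ω)
    (h1 : ∀ g ∈ H, t * g * t⁻¹ ∈ K) (h2 : ∀ g ∈ K, t⁻¹ * g * t ∈ H) (g : ↥H) :
    ((conjEquiv H K t h1 h2 g : ↥K) : Equiv.Perm Ω) = t * g * t⁻¹ := rfl

theorem conjEquiv_symm_apply {Ω : Type*} (H K : Subgroup (Equiv.Perm Ω)) (t : Equiv.Perm Ω)
    (h1 : ∀ g ∈ H, t * g * t⁻¹ ∈ K) (h2 : ∀ g ∈ K, t⁻¹ * g * t ∈ H) (g : ↥K) :
    (((conjEquiv H K t h1 h2).symm g : ↥H) : Equiv.Perm Ω) = t⁻¹ * g * t := rfl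

/-- The automorphism of the dodecad stabiliser induced by the element interchanging the two
dodecads. -/
noncomputable def tauAut : MulAut ↥(stabMask d1) :=
  conjEquiv (stabMask d1) (stabMask d1) tau tau_conj_mem tau_conj_mem'

theorem tauAut_apply (g : ↥(stabMask d1)) :
    ((tauAut g : ↥(stabMask d1)) : Equiv.Perm GolayPt) = tau * g * tau⁻¹ := rfl

theorem tauAut_inv_apply (g : ↥(stabMask d1)) :
    ((tauAut⁻¹ g : ↥(stabMask d1)) : Equiv.Perm GolayPt) = tau⁻¹ * g * tau := rfl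

/-! ### Automorphisms of `M₁₂` -/

/-- Common part: an automorphism mapping the stabiliser of the point `0` onto the stabiliser of a
point of the dodecad is inner. -/
theorem inner12_of_stab (φ : ↥(stabMask d1) ≃* ↥(stabMask d1)) (f : GolayPt)
    (hf : f ∈ decSet d1)
    (h : ∀ g : ↥(stabMask d1), (g : Equiv.Perm GolayPt) (pt 0) = pt 0 ↔
      (φ g : Equiv.Perm GolayPt) f = f) :
    ∃ m : ↥(stabMask d1), φ = MulAut.conj m := by
  have hall := stab_map_all (stabMask d1) (decSet d1) invOn12 φ (pt 0) f hf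
    (fun q hq => trans12_pt (pt 0) q pt0_mem hq) h
  obtain ⟨π, hπD, hπinj, hπ⟩ := exists_map_of_stab_map (stabMask d1) (decSet d1) invOn12 hdist12
    φ hall
  exact inner_of_rigid (stabMask d1) (decSet d1) 5 invOn12 sharp12 trans12 a12 a12_mem rig12 φ π
    hπD hπinj hπ

theorem stabImage_eq {G : Subgroup (Equiv.Perm GolayPt)} (φ : ↥G ≃* ↥G) (p f : GolayPt)
    (hfix : ∀ k ∈ stabImage G φ p, k f = f)
    (hcard : Nat.card ↥(G ⊓ MulAction.stabilizer (Equiv.Perm GolayPt) f) =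
      Nat.card ↥(G ⊓ MulAction.stabilizer (Equiv.Perm GolayPt) p)) :
    stabImage G φ p = G ⊓ MulAction.stabilizer (Equiv.Perm GolayPt) f := by
  refine Subgroup.eq_of_le_of_card_ge ?_ ?_
  · intro k hk
    exact Subgroup.mem_inf.2 ⟨stabImage_le G φ p hk, MulAction.mem_stabilizer_iff.2 (hfix k hk)⟩
  · rw [card_stabImage, hcard]

theorem mem_stabImage {G : Subgroup (Equiv.Perm GolayPt)} (φ : ↥G ≃* ↥G) (p : GolayPt) (g : ↥G)
    (hg : (g : Equiv.Perm GolayPt) p = p) : (φ g : Equiv.Perm GolayPt) ∈ stabImage G φ p := by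
  refine ⟨φ g, ⟨g, ?_, rfl⟩, rfl⟩
  exact Subgroup.mem_subgroupOf.2 (Subgroup.mem_inf.2 ⟨g.2, MulAction.mem_stabilizer_iff.2 hg⟩)

/-- Every automorphism of the dodecad stabiliser is inner, or becomes inner after composing
with the automorphism induced by the element interchanging the two dodecads. -/
theorem aut12_dichotomy (φ : MulAut ↥(stabMask d1)) :
    φ ∈ Inn ↥(stabMask d1) ∨ tauAut⁻¹ * φ ∈ Inn ↥(stabMask d1) := by
  obtain ⟨hu, hu0, hu8, -⟩ := u8_spec
  have hcardK : Nat.card ↥(stabImage (stabMask d1) φ (pt 0)) = 7920 := by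
    rw [card_stabImage, card_stab12 (pt 0) pt0_mem]
  have hvK : (φ ⟨u8, hu⟩ : Equiv.Perm GolayPt) ∈ stabImage (stabMask d1) φ (pt 0) :=
    mem_stabImage φ (pt 0) ⟨u8, hu⟩ hu0
  have hv8 : orderOf (φ ⟨u8, hu⟩ : Equiv.Perm GolayPt) = 8 := by
    rw [Subgroup.orderOf_coe, MulEquiv.orderOf_eq, ← Subgroup.orderOf_coe]
    exact hu8
  obtain ⟨z, hz⟩ := fixed_of_order_eight (stabMask d1) (decSet d1) invOn12 sharp12 trans12 a12
    a12_mem e8_check _ (φ ⟨u8, hu⟩).2 hv8
  rcases mem_D1_or z with hzD | hzD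
  · left
    obtain ⟨f, hf, hKf⟩ := exists_fixed_of_card_7920 (stabMask d1) (decSet d1) invOn12 card_D1
      sharp12 _ (stabImage_le _ φ _) hcardK _ hvK hv8 z hzD hz
    have hK := stabImage_eq φ (pt 0) f hKf (by rw [card_stab12 f hf, card_stab12 (pt 0) pt0_mem])
    obtain ⟨m, hm⟩ := inner12_of_stab φ f hf (fun g => stab_iff_of_stabImage hK g)
    exact ⟨m, hm.symm⟩
  · right
    obtain ⟨f, hf, hKf⟩ := exists_fixed_of_card_7920 (stabMask d1) (decSet d1c) invOn12c card_D1c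
      sharp12c _ (stabImage_le _ φ _) hcardK _ hvK hv8 z hzD hz
    have hK := stabImage_eq φ (pt 0) f hKf (by rw [card_stab12c f hf, card_stab12 (pt 0) pt0_mem])
    have hf' : tau⁻¹ f ∈ decSet d1 := by
      have : tau⁻¹ • f ∈ decSet d1 := by
        rw [Finset.inv_smul_mem_iff, tau_spec.2]; exact hf
      exact this
    obtain ⟨m, hm⟩ := inner12_of_stab (tauAut⁻¹ * φ) (tau⁻¹ f) hf' (fun g => by
      rw [stab_iff_of_stabImage hK g]
      have e1 : (((tauAut⁻¹ * φ) g : ↥(stabMask d1)) : Equiv.Perm GolayPt) =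
          tau⁻¹ * (φ g : Equiv.Perm GolayPt) * tau := tauAut_inv_apply (φ g)
      rw [e1, Equiv.Perm.mul_apply, Equiv.Perm.mul_apply, perm_apply_inv]
      exact ⟨fun h => by rw [h], fun h => tau⁻¹.injective h⟩)
    exact ⟨m, hm.symm⟩

/-- The automorphism induced by the element interchanging the two dodecads is not inner. -/
theorem tauAut_not_inner : tauAut ∉ Inn ↥(stabMask d1) := by
  rintro ⟨m, hm⟩
  obtain ⟨hu, hu0, -, hufix⟩ := u8_spec
  have h1 : ((MulAut.conj m ⟨u8, hu⟩ : ↥(stabMask d1)) : Equiv.Perm GolayPt) =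
      ((tauAut ⟨u8, hu⟩ : ↥(stabMask d1)) : Equiv.Perm GolayPt) := by rw [hm]
  rw [tauAut_apply, MulAut.conj_apply] at h1
  simp only [Subgroup.coe_mul, Subgroup.coe_inv] at h1
  have h3 : (tau * u8 * tau⁻¹) (tau (pt 0)) = tau (pt 0) := by
    rw [Equiv.Perm.mul_apply, Equiv.Perm.mul_apply, perm_inv_apply, hu0]
  rw [← h1, Equiv.Perm.mul_apply, Equiv.Perm.mul_apply] at h3
  have h4 : u8 ((m : Equiv.Perm GolayPt)⁻¹ (tau (pt 0))) =
      (m : Equiv.Perm GolayPt)⁻¹ (tau (pt 0)) := by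
    rw [Equiv.Perm.eq_inv_iff_eq]
    exact h3
  refine hufix _ ?_ h4
  have h6 : tau (pt 0) ∈ decSet d1c := by
    rw [← tau_spec.2]; exact Finset.smul_mem_smul_finset pt0_mem
  exact invOn12c _ (inv_mem m.2) _ h6

theorem card_out12 : Nat.card (Out ↥(stabMask d1)) = 2 :=
  card_out_eq_two tauAut tauAut_not_inner aut12_dichotomy

/-! ### Transport to the dodecad of squares -/

theorem squareDodecad_mem : Spor.squareDodecad ∈ dodecads :=
  ⟨⟨qrWord 0, Submodule.subset_span (Or.inl ⟨0, rfl⟩), rfl⟩, by decide⟩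

theorem conj_stab_mem (h g : Equiv.Perm GolayPt) (hh : h ∈ M24) (d d' : Finset GolayPt)
    (hd : h • d = d') (hg : g ∈ M24 ⊓ MulAction.stabilizer (Equiv.Perm GolayPt) d) :
    h * g * h⁻¹ ∈ M24 ⊓ MulAction.stabilizer (Equiv.Perm GolayPt) d' := by
  refine Subgroup.mem_inf.2 ⟨mul_mem (mul_mem hh (Subgroup.mem_inf.1 hg).1) (inv_mem hh), ?_⟩
  rw [MulAction.mem_stabilizer_iff, mul_smul, mul_smul, inv_smul_eq_iff.2 hd.symm,
    MulAction.mem_stabilizer_iff.1 (Subgroup.mem_inf.1 hg).2, hd]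

/-- The Mathieu group `M₁₂` of the definitions is isomorphic to the stabiliser of `d1`. -/
theorem exists_equiv_M12 : Nonempty (↥Spor.M12 ≃* ↥(stabMask d1)) := by
  obtain ⟨h, hh, hd⟩ := m24_dodecad_trans Spor.squareDodecad (decSet d1) squareDodecad_mem d1_mem
  refine ⟨conjEquiv Spor.M12 (stabMask d1) h (fun g hg => conj_stab_mem h g hh _ _ hd hg)
    (fun g hg => ?_)⟩
  have := conj_stab_mem h⁻¹ g (inv_mem hh) (decSet d1) Spor.squareDodecad
    (inv_smul_eq_iff.2 hd.symm) hg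
  rwa [inv_inv] at this

theorem card_out_M12 : Nat.card (Out ↥Spor.M12) = 2 := by
  obtain ⟨e⟩ := exists_equiv_M12
  rw [card_out_congr e, card_out12]

end Cfsg.Agent.Lib.helper9
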