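/-
Automorphisms of a point stabiliser in the stabiliser of the dodecad `d1` (a copy of `M₁₁`):
all of them are inner.
-/
import Cfsg.Agent.Lib.helper9.M12Out

set_option autoImplicit false

namespace Cfsg.Agent.Lib.helper9

open Cfsg
open Cfsg.Agent.Lib.helper33 (perm_inv_apply perm_apply_inv stabImage stabImage_le card_stabImage
  stab_iff_of_stabImage)
open scoped Pointwise

/-- The stabiliser of the point `10` in the stabiliser of the dodecad `d1`. -/
def G11 : Subgroup (Equiv.Perm GolayPt) :=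
  stabMask d1 ⊓ MulAction.stabilizer (Equiv.Perm GolayPt) (pt 10)

/-- The other eleven points of the dodecad. -/
def D11 : Finset GolayPt := (decSet d1).erase (pt 10)

theorem mem_G11 {g : Equiv.Perm GolayPt} : g ∈ G11 ↔ g ∈ stabMask d1 ∧ g (pt 10) = pt 10 := by
  rw [G11, Subgroup.mem_inf, MulAction.mem_stabilizer_iff]; rfl

theorem mem_D11 {x : GolayPt} : x ∈ D11 ↔ x ≠ pt 10 ∧ x ∈ decSet d1 := Finset.mem_erase

theorem invOn11 : InvOn G11 D11 := by
  intro g hg x hx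
  rw [mem_G11] at hg
  rw [mem_D11] at hx ⊢
  refine ⟨fun h => hx.1 ?_, invOn12 g hg.1 x hx.2⟩
  rw [← hg.2] at h
  exact g.injective h

theorem card_D11 : D11.card = 11 := by
  rw [D11, Finset.card_erase_of_mem pt10_mem, card_D1]

theorem sharp11 : SharpOn G11 D11 4 := by
  intro g hg s hs hcard hfix
  rw [mem_G11] at hg
  have h10 : pt 10 ∉ s := fun h => (mem_D11.1 (hs h)).1 rfl
  refine sharp12 g hg.1 (insert (pt 10) s) ?_ ?_ ?_
  · intro x hx
    rcases Finset.mem_insert.1 hx with rfl | hx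
    · exact pt10_mem
    · exact (mem_D11.1 (hs hx)).2
  · rw [Finset.card_insert_of_notMem h10]; omega
  · intro x hx
    rcases Finset.mem_insert.1 hx with rfl | hx
    · exact hg.2
    · exact hfix x hx

theorem trans11 : TransOn G11 D11 4 := by
  intro x y hx hy
  have hxi : Function.Injective (Fin.cons (pt 10) x : Fin 5 → GolayPt) := by
    rw [Fin.cons_injective_iff]
    refine ⟨?_, x.injective⟩
    rintro ⟨i, hi⟩
    exact (mem_D11.1 (hx i)).1 hi
  have hyi : Function.Injective (Fin.cons (pt 10) y : Fin 5 → GolayPt) := by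
    rw [Fin.cons_injective_iff]
    refine ⟨?_, y.injective⟩
    rintro ⟨i, hi⟩
    exact (mem_D11.1 (hy i)).1 hi
  obtain ⟨g, hg, h⟩ := trans12 ⟨_, hxi⟩ ⟨_, hyi⟩
    (fun i => by
      refine Fin.cases ?_ (fun j => ?_) i
      · exact pt10_mem
      · exact (mem_D11.1 (hx j)).2)
    (fun i => by
      refine Fin.cases ?_ (fun j => ?_) i
      · exact pt10_mem
      · exact (mem_D11.1 (hy j)).2)
  refine ⟨g, mem_G11.2 ⟨hg, ?_⟩, fun i => ?_⟩
  · simpa using h 0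
  · simpa using h i.succ

theorem trans11_pt (p q : GolayPt) (hp : p ∈ D11) (hq : q ∈ D11) : ∃ g ∈ G11, g p = q := by
  rw [mem_D11] at hp hq
  obtain ⟨g, hg, h1, h2⟩ := two_trans12 (pt 10) p (pt 10) q pt10_mem hp.2 pt10_mem hq.2
    (Ne.symm hp.1) (Ne.symm hq.1)
  exact ⟨g, mem_G11.2 ⟨hg, h1⟩, h2⟩

theorem card_G11 : Nat.card ↥G11 = 7920 := card_stab12 (pt 10) pt10_mem

theorem card_stab11 (q : GolayPt) (hq : q ∈ D11) :
    Nat.card ↥(G11 ⊓ MulAction.stabilizer (Equiv.Perm GolayPt) q) = 720 := by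
  have h := card_orbK_mul G11 q
  have horb : orbK G11 q = D11 := by
    ext x
    rw [mem_orbK]
    constructor
    · rintro ⟨k, hk, rfl⟩
      exact invOn11 k hk q hq
    · intro hx
      exact trans11_pt q x hq hx
  rw [horb, card_D11, card_G11] at h
  omega

theorem cL_spec' (y : ℕ) (cs : List ℕ) (he : (y, cs) ∈ cL) :
    EL 0 cs ∈ stabMask d1 ∧ (∀ i < 5, ∃ j < 5, EL 0 cs (pt i) = pt j) ∧
      EL 0 cs (pt 10) = pt 10 ∧ EL 0 cs (pt y) = pt y ∧ pt y ∈ decSet d1 ∧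
      pt y ≠ pt 10 ∧ ∀ x ∈ decSet d1, EL 0 cs x = x → x = pt 10 ∨ x = pt y :=
  cL_spec (y, cs) he

theorem cL_mem_G11 (y : ℕ) (cs : List ℕ) (he : (y, cs) ∈ cL) : EL 0 cs ∈ G11 :=
  mem_G11.2 ⟨(cL_spec' y cs he).1, (cL_spec' y cs he).2.2.1⟩

theorem cL_fix11 (y : ℕ) (cs : List ℕ) (he : (y, cs) ∈ cL) (x : GolayPt) (hx : x ∈ D11)
    (hfix : EL 0 cs x = x) : x = pt y := by
  rw [mem_D11] at hx
  rcases (cL_spec' y cs he).2.2.2.2.2.2 x hx.2 hfix with h | h
  · exact absurd h hx.1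
  · exact h

theorem cL_pt_mem11 (y : ℕ) (cs : List ℕ) (he : (y, cs) ∈ cL) : pt y ∈ D11 :=
  mem_D11.2 ⟨(cL_spec' y cs he).2.2.2.2.2.1, (cL_spec' y cs he).2.2.2.2.1⟩

/-- An element of `G11` with a unique fixed point among the eleven points. -/
theorem exists_c1 : ∃ c ∈ G11, c (pt 6) = pt 6 ∧ pt 6 ∈ D11 ∧ ∀ x ∈ D11, c x = x → x = pt 6 := by
  have he : ((6 : ℕ), [1, 1, 2, 3, 22, 12, 23]) ∈ cL := by decide
  generalize ([1, 1, 2, 3, 22, 12, 23] : List ℕ) = cs at he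
  exact ⟨_, cL_mem_G11 6 cs he, (cL_spec' 6 cs he).2.2.2.1, cL_pt_mem11 6 cs he,
    cL_fix11 6 cs he⟩

theorem hdist11 : ∀ q ∈ D11, ∀ q' ∈ D11, q ≠ q' → ∃ g ∈ G11, g q = q ∧ g q' ≠ q' := by
  intro q hq q' hq' hne
  obtain ⟨c, hc, hfix, h6, huniq⟩ := exists_c1
  obtain ⟨h, hh, hhq⟩ := trans11_pt q (pt 6) hq h6
  refine ⟨h⁻¹ * c * h, mul_mem (mul_mem (inv_mem hh) hc) hh, ?_, ?_⟩
  · rw [Equiv.Perm.mul_apply, Equiv.Perm.mul_apply, hhq, hfix, ← hhq, perm_inv_apply]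
  · intro hcon
    rw [Equiv.Perm.mul_apply, Equiv.Perm.mul_apply, Equiv.Perm.inv_eq_iff_eq] at hcon
    have h1 := huniq (h q') (invOn11 h hh q' hq') hcon
    have h2 : h q' = h q := by rw [h1, hhq]
    exact hne (h.injective h2).symm

/-- The base points `0, ..., 3`. -/
def a11 : Fin 4 ↪ GolayPt :=
  ⟨fun i => pt i, fun i j h => Fin.ext (by
    have := congrArg idx h
    rwa [idx_pt (by omega), idx_pt (by omega)] at this)⟩

theorem a11_apply (i : Fin 4) : a11 i = pt i := rfl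

theorem pt_mem_D11 (i : ℕ) (hi : i < 5) : pt i ∈ D11 :=
  mem_D11.2 ⟨pt_ne (by omega) (by norm_num) (by omega), a12_mem ⟨i, hi⟩⟩

theorem a11_mem (i : Fin 4) : a11 i ∈ D11 := pt_mem_D11 i (by omega)

theorem rig11 (π : GolayPt → GolayPt) (hπD : ∀ q ∈ D11, π q ∈ D11)
    (hinj : Set.InjOn π ↑D11) (hπa : ∀ i : Fin 4, π (a11 i) = a11 i)
    (hcomm : ∀ g ∈ G11, (∀ i : Fin 4, π (g (a11 i)) = g (a11 i)) →
      ∀ x ∈ D11, π (g x) = g (π x)) :
    ∀ x ∈ D11, π x = x := by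
  have hbase : ∀ i < 4, π (pt i) = pt i := fun i hi => hπa ⟨i, hi⟩
  have h4 : π (pt 4) = pt 4 := by
    obtain ⟨hm, hb, h10, hf4, hf⟩ := g1_spec
    have hc := hcomm (EL 0 g1L) (mem_G11.2 ⟨hm, h10⟩) (fun i => by
      obtain ⟨j, hj, h⟩ := hb i i.2
      rw [a11_apply, h, hbase j hj]) (pt 4) (pt_mem_D11 4 (by norm_num))
    rw [hf4] at hc
    have hD := hπD _ (pt_mem_D11 4 (by norm_num))
    rcases hf (π (pt 4)) (mem_D11.1 hD).2 hc.symm with h | h | h
    · exact absurd h (mem_D11.1 hD).1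
    · exfalso
      rw [← hbase 3 (by norm_num)] at h
      exact pt_ne (by norm_num) (by norm_num) (by norm_num : (4 : ℕ) ≠ 3)
        (hinj (Finset.mem_coe.2 (pt_mem_D11 4 (by norm_num)))
          (Finset.mem_coe.2 (pt_mem_D11 3 (by norm_num))) h)
    · exact h
  have hbase5 : ∀ i < 5, π (pt i) = pt i := by
    intro i hi
    rcases Nat.lt_succ_iff_lt_or_eq.1 hi with h | rfl
    · exact hbase i h
    · exact h4
  intro x hx
  have hi := idx_lt x
  have hb : d1.testBit (idx x) = true := mem_decSet.1 (mem_D11.1 hx).2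
  rcases cL_cover _ hi hb with h | h | h
  · rw [← pt_idx x]; exact hbase5 _ h
  · exact absurd (by rw [← pt_idx x, h]) (mem_D11.1 hx).1
  · obtain ⟨⟨y, cs⟩, he, hex⟩ := List.mem_map.1 h
    have hex' : y = idx x := hex
    obtain ⟨-, hbe, -, hfe, -, -, -⟩ := cL_spec' y cs he
    have hc := hcomm (EL 0 cs) (cL_mem_G11 y cs he) (fun i => by
      obtain ⟨j, hj, h⟩ := hbe i (by have := i.2; omega)
      rw [a11_apply, h, hbase5 j hj]) (pt y) (cL_pt_mem11 y cs he)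
    rw [hfe] at hc
    rw [← pt_idx x, ← hex']
    exact cL_fix11 y cs he _ (hπD _ (cL_pt_mem11 y cs he)) hc.symm

/-- Every automorphism of `G11` is inner. -/
theorem aut11_inner (φ : ↥G11 ≃* ↥G11) : ∃ m : ↥G11, φ = MulAut.conj m := by
  have hp : pt 0 ∈ D11 := pt_mem_D11 0 (by norm_num)
  have hcardK : Nat.card ↥(stabImage G11 φ (pt 0)) = 720 := by
    rw [card_stabImage, card_stab11 (pt 0) hp]
  obtain ⟨f, hf, hKf⟩ := exists_fixed_of_card_720 G11 D11 invOn11 card_D11 sharp11 _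
    (stabImage_le _ φ _) hcardK
  have hK := stabImage_eq φ (pt 0) f hKf (by rw [card_stab11 f hf, card_stab11 (pt 0) hp])
  have hall := stab_map_all G11 D11 invOn11 φ (pt 0) f hf
    (fun q hq => trans11_pt (pt 0) q hp hq) (fun g => stab_iff_of_stabImage hK g)
  obtain ⟨π, hπD, hπinj, hπ⟩ := exists_map_of_stab_map G11 D11 invOn11 hdist11 φ hall
  exact inner_of_rigid G11 D11 4 invOn11 sharp11 trans11 a11 a11_mem rig11 φ π hπD hπinj hπ

theorem card_out11 : Nat.card (Out ↥G11) = 1 := card_out_eq_one aut11_inner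

/-! ### Transport -/

theorem zero_mem_square : (some 0 : GolayPt) ∈ Spor.squareDodecad := by decide

/-- The Mathieu group `M₁₁` of the definitions is isomorphic to `G11`. -/
theorem exists_equiv_M11 : Nonempty (↥Spor.M11 ≃* ↥G11) := by
  obtain ⟨h, hh, hd⟩ := m24_dodecad_trans Spor.squareDodecad (decSet d1) squareDodecad_mem d1_mem
  have h0 : h (some 0) ∈ decSet d1 := by
    rw [← hd]; exact Finset.smul_mem_smul_finset zero_mem_square
  obtain ⟨g₂, hg₂, hg₂0⟩ := trans12_pt (h (some 0)) (pt 10) h0 pt10_mem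
  have ht : g₂ * h ∈ M24 := mul_mem (stabMask_le _ hg₂) hh
  have htd : (g₂ * h) • Spor.squareDodecad = decSet d1 := by
    rw [mul_smul, hd, stabMask_smul hg₂]
  have ht0 : (g₂ * h) (some 0) = pt 10 := hg₂0
  generalize g₂ * h = t at ht htd ht0
  refine ⟨conjEquiv Spor.M11 G11 t (fun g hg => ?_) (fun g hg => ?_)⟩
  · obtain ⟨hg1, hg2⟩ := Subgroup.mem_inf.1 hg
    refine mem_G11.2 ⟨conj_stab_mem t g ht _ _ htd hg1, ?_⟩
    have hg2' : g (some 0) = some 0 := MulAction.mem_stabilizer_iff.1 hg2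
    rw [Equiv.Perm.mul_apply, Equiv.Perm.mul_apply, ← ht0, perm_inv_apply, hg2']
  · obtain ⟨hg1, hg2⟩ := mem_G11.1 hg
    refine Subgroup.mem_inf.2 ⟨?_, ?_⟩
    · have := conj_stab_mem t⁻¹ g (inv_mem ht) (decSet d1) Spor.squareDodecad
        (inv_smul_eq_iff.2 htd.symm) hg1
      rwa [inv_inv] at this
    · rw [MulAction.mem_stabilizer_iff]
      show (t⁻¹ * g * t) (some 0) = some 0
      rw [Equiv.Perm.mul_apply, Equiv.Perm.mul_apply, ht0, hg2, ← ht0, perm_inv_apply]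

theorem card_out_M11 : Nat.card (Out ↥Spor.M11) = 1 := by
  obtain ⟨e⟩ := exists_equiv_M11
  rw [card_out_congr e, card_out11]

end Cfsg.Agent.Lib.helper9
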