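import Cfsg.Agent.Lib.helper9.M24Octads

/-!
The pointwise stabiliser of an octad in `Cfsg.M24` is elementary abelian of order 16.
-/

set_option autoImplicit false
open Cfsg
open scoped Pointwise

namespace Cfsg.Agent.Lib.helper9

/-- The transversal word at level `i` for the point `q`. -/
def tw (i q : ℕ) : List ℕ := (wordTab.getD i []).getD q []

theorem tw_spec (i q : ℕ) (hi : i < 7) (hq : q ∈ orbL.getD i []) :
    (∀ j < i, permW (tw i q) (bp j) = bp j) ∧ permW (tw i q) (bp i) = pt q := by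
  have h := words_ok
  rw [List.all_eq_true] at h
  have h1 := h i (List.mem_range.2 hi)
  rw [List.all_eq_true] at h1
  have h2 := h1 q hq
  simp only [chkWord, Bool.and_eq_true, beq_iff_eq, List.all_eq_true, List.mem_range] at h2
  refine ⟨?_, ?_⟩
  · intro j hj
    apply idx_injective
    rw [permW_idx, idx_bp j (by omega)]
    exact h2.2 j hj
  · rw [← pt_idx (permW _ (bp i)), permW_idx, idx_bp i hi]
    exact congrArg pt h2.1

/-- Peeling off one level of the stabiliser chain of `M24`. -/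
theorem stabL_peel (i : ℕ) (hi : i < 7) (g : Equiv.Perm GolayPt) (hg : g ∈ stabL M24 i) :
    ∃ c ∈ orbL.getD i [], (permW (tw i c))⁻¹ * g ∈ stabL M24 (i + 1) := by
  obtain ⟨q, hq, hpt⟩ := mem_orbF.1 (orbit_sub i hi g hg)
  obtain ⟨hfix, hmap⟩ := tw_spec i q hi hq
  rw [mem_stabL] at hg
  refine ⟨q, hq, (mem_stabL _ _ _).2 ⟨mul_mem (inv_mem (genGroup_le_M24 (permW_mem _))) hg.1, ?_⟩⟩
  intro j hj
  show (permW (tw i q))⁻¹ (g (bp j)) = bp j
  rw [Equiv.Perm.inv_eq_iff_eq]
  rcases Nat.lt_succ_iff_lt_or_eq.1 hj with h | rfl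
  · rw [hg.2 j h, hfix j h]
  · rw [hmap, hpt]

/-- The six-point stabiliser consists of the sixteen transversal elements of the last level. -/
theorem stab6_eq (g : Equiv.Perm GolayPt) (hg : g ∈ stabL M24 6) :
    ∃ c ∈ orbL.getD 6 [], g = permW (tw 6 c) := by
  obtain ⟨c, hc, h⟩ := stabL_peel 6 (by norm_num) g hg
  refine ⟨c, hc, ?_⟩
  have h1 := stab7_trivial _ h
  rw [inv_mul_eq_one] at h1
  exact h1.symm

theorem tw6_fix : ((orbL.getD 6 []).all fun c => (List.range 24).all fun i =>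
    (!(5279 : ℕ).testBit i || applyW (tw 6 c) i == i) &&
      applyW (tw 6 c) (applyW (tw 6 c) i) == i) = true := by
  decide +kernel

theorem tw6_props (c : ℕ) (hc : c ∈ orbL.getD 6 []) (p : GolayPt) :
    ((5279 : ℕ).testBit (idx p) = true → permW (tw 6 c) p = p) ∧
      permW (tw 6 c) (permW (tw 6 c) p) = p := by
  have h := tw6_fix
  rw [List.all_eq_true] at h
  have h1 := h c hc
  rw [List.all_eq_true] at h1
  have h2 := h1 (idx p) (List.mem_range.2 (idx_lt p))
  simp only [Bool.and_eq_true, Bool.or_eq_true, Bool.not_eq_true', beq_iff_eq] at h2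
  refine ⟨fun hp => ?_, ?_⟩
  · apply idx_injective
    rw [permW_idx]
    rcases h2.1 with h3 | h3
    · rw [hp] at h3; exact absurd h3 (by simp)
    · exact h3
  · apply idx_injective
    rw [permW_idx, permW_idx]
    exact h2.2

theorem base6_mem : ∀ j < 6, (5279 : ℕ).testBit (base.getD j 0) = true := by
  decide +kernel

/-- The pointwise stabiliser of the octad `{0,1,2,3,4,7,10,12}` is the six-point stabiliser. -/
theorem fix_octad0_eq :
    M24 ⊓ fixingSubgroup (Equiv.Perm GolayPt) ((decSet 5279 : Finset GolayPt) : Set GolayPt) =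
      stabL M24 6 := by
  ext g
  rw [Subgroup.mem_inf, mem_fixingSubgroup_iff, mem_stabL]
  constructor
  · rintro ⟨hg, hfix⟩
    refine ⟨hg, fun j hj => ?_⟩
    apply hfix
    rw [Finset.mem_coe, mem_decSet, idx_bp j (by omega)]
    exact base6_mem j hj
  · rintro ⟨hg, hfix⟩
    refine ⟨hg, fun p hp => ?_⟩
    obtain ⟨c, hc, rfl⟩ := stab6_eq g ((mem_stabL _ _ _).2 ⟨hg, hfix⟩)
    rw [Finset.mem_coe, mem_decSet] at hp
    exact (tw6_props c hc p).1 hp

theorem card_stab6 : Nat.card (stabL M24 6) = 16 := by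
  have hc := orbF_card
  simp only [List.range, List.range.loop, List.map_cons, List.map_nil, List.cons.injEq,
    and_true] at hc
  obtain ⟨_, _, _, _, _, _, c6⟩ := hc
  apply le_antisymm
  · have h7 : Nat.card (stabL M24 7) ≤ 1 := by
      have : Subsingleton (stabL M24 7) :=
        ⟨fun a b => Subtype.ext (by rw [stab7_trivial a.1 a.2, stab7_trivial b.1 b.2])⟩
      exact Finite.card_le_one_iff_subsingleton.2 this
    have h6 := upper_step 6 (by norm_num) 1 h7
    rw [c6] at h6
    exact h6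
  · have h7 : 1 ≤ Nat.card (stabL genGroup 7) := Nat.card_pos
    have h6 := lower_step 6 (by norm_num) 1 h7
    rw [c6] at h6
    refine le_trans h6 (Subgroup.card_le_of_le ?_)
    intro g hg
    rw [mem_stabL] at hg ⊢
    exact ⟨genGroup_le_M24 hg.1, hg.2⟩

theorem sq_eq_one_of_mem_stab6 (g : Equiv.Perm GolayPt) (hg : g ∈ stabL M24 6) : g * g = 1 := by
  obtain ⟨c, hc, rfl⟩ := stab6_eq g hg
  exact Equiv.ext fun p => (tw6_props c hc p).2

theorem octad0_mem : decSet 5279 ∈ octads :=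
  decSet_mem_octads 5279 octad0_ok.1 octad0_ok.2.1

/-- The pointwise stabiliser of any octad is the conjugate of that of the standard octad. -/
theorem fix_octad_eq_conj (g : Equiv.Perm GolayPt) (hg : g ∈ M24) (o₀ : Finset GolayPt) :
    M24 ⊓ fixingSubgroup (Equiv.Perm GolayPt) ((g • o₀ : Finset GolayPt) : Set GolayPt) =
      MulAut.conj g • (M24 ⊓ fixingSubgroup (Equiv.Perm GolayPt) (o₀ : Set GolayPt)) := by
  ext k
  rw [Subgroup.mem_pointwise_smul_iff_inv_smul_mem, Subgroup.mem_inf, Subgroup.mem_inf,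
    mem_fixingSubgroup_iff, mem_fixingSubgroup_iff]
  have hk : (MulAut.conj g)⁻¹ • k = g⁻¹ * k * g := by
    rw [MulAut.smul_def, MulAut.conj_inv_apply]
  rw [hk]
  constructor
  · rintro ⟨hkM, hfix⟩
    refine ⟨mul_mem (mul_mem (inv_mem hg) hkM) hg, fun p hp => ?_⟩
    have h1 : g • p ∈ ((g • o₀ : Finset GolayPt) : Set GolayPt) :=
      Finset.mem_coe.2 (Finset.smul_mem_smul_finset (Finset.mem_coe.1 hp))
    have h2 := hfix _ h1
    show g⁻¹ (k (g p)) = p
    rw [Equiv.Perm.inv_eq_iff_eq]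
    exact h2
  · rintro ⟨hkM, hfix⟩
    refine ⟨?_, fun p hp => ?_⟩
    · have := mul_mem (mul_mem hg hkM) (inv_mem hg)
      simpa [mul_assoc] using this
    · obtain ⟨q, hq, rfl⟩ := Finset.mem_smul_finset.1 (Finset.mem_coe.1 hp)
      have h2 := hfix q (Finset.mem_coe.2 hq)
      have h3 : g⁻¹ (k (g q)) = q := h2
      rw [Equiv.Perm.inv_eq_iff_eq] at h3
      exact h3

/-- The pointwise stabiliser of an octad has order 16 and exponent 2. -/
theorem fix_octad (o : Finset GolayPt) (ho : o ∈ octads) :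
    Nat.card ↥(M24 ⊓ fixingSubgroup (Equiv.Perm GolayPt) (o : Set GolayPt)) = 16 ∧
      ∀ g ∈ M24 ⊓ fixingSubgroup (Equiv.Perm GolayPt) (o : Set GolayPt), g * g = 1 := by
  obtain ⟨g, hg, rfl⟩ := m24_octad_trans _ o octad0_mem ho
  rw [fix_octad_eq_conj g hg, fix_octad0_eq]
  refine ⟨?_, ?_⟩
  · rw [← Nat.card_congr (Subgroup.equivSMul (MulAut.conj g) (stabL M24 6)).toEquiv]
    exact card_stab6
  · intro k hk
    rw [Subgroup.mem_pointwise_smul_iff_inv_smul_mem] at hk
    have hk' : (MulAut.conj g)⁻¹ • k = g⁻¹ * k * g := by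
      rw [MulAut.smul_def, MulAut.conj_inv_apply]
    rw [hk'] at hk
    have h1 := sq_eq_one_of_mem_stab6 _ hk
    have h2 : g⁻¹ * k * g * (g⁻¹ * k * g) = g⁻¹ * (k * k) * g := by group
    rw [h2] at h1
    have h3 : k * k = g * (g⁻¹ * (k * k) * g) * g⁻¹ := by group
    rw [h3, h1]; group

end Cfsg.Agent.Lib.helper9
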