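import Cfsg.Agent.Lib.helper33.M24Octads
import Cfsg.Agent.Lib.helper9.M24Trans

/-!
`Cfsg.M24` is transitive on dodecads; the order of a dodecad stabiliser.
-/

set_option autoImplicit false
open Cfsg
open scoped Pointwise

namespace Cfsg.Agent.Lib.helper9

/-- Words (in `helper33.gens24`) mapping the dodecad with mask `28637` onto each dodecad of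
`wtList 12`. -/
def dodCerts : List (List ℕ) := [
  [], [0], [1, 4, 1, 4, 1], [3, 0, 3, 0, 3, 1], [0, 0], [3, 3, 1, 4, 4, 0], [2, 0, 0, 2], [1, 3, 0, 3], 
  [4, 1, 4, 1], [0, 3, 0, 3, 0], [3, 0, 3, 0, 0, 0], [4, 0, 4, 0, 4, 0], [0, 0, 0], [0, 3, 1, 4, 4], 
  [0, 3, 0, 3, 1], [1, 2, 0, 4, 4, 0], [3, 0, 4, 0, 0, 4, 0], [4, 2, 1, 3, 3, 0], [3, 1, 1, 1, 4, 1], 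
  [4, 4, 1, 3], [2, 1, 1, 2, 1], [0, 4, 1, 4, 0], [3, 0, 3], [0, 3, 1, 1, 1, 4, 0], [1, 4, 1, 4], 
  [0, 3, 1, 1, 1, 2, 0], [0, 4, 1, 4, 0, 0], [1, 3, 0, 0, 0, 0], [1, 1, 4, 0, 0], [0, 0, 3, 0, 3, 0], 
  [1, 1, 1, 3, 2, 0], [4, 1, 1], [1, 1, 4, 1], [0, 3, 0, 3, 0, 0, 0], [3, 0, 0, 0, 3, 2, 0], 
  [3, 3, 2, 1, 4, 0, 0], [0, 0, 4, 1, 4, 4, 0], [0, 0, 0, 0], [1, 2, 0, 3, 3, 1], [1, 3, 3, 0, 3, 0], 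
  [1, 3, 1, 3, 0], [0, 0, 3, 0, 3, 1], [4, 0, 4, 4, 2, 0], [2, 0, 4, 4, 0], [4, 1, 1, 1, 3, 1], 
  [3, 2, 0, 4, 1, 1, 1], [4, 4, 1, 4, 1], [0, 0, 0, 3, 2, 0], [4, 1, 1, 2, 0, 4, 2], [3, 0, 4, 1, 4, 0, 0], 
  [1, 1, 3, 1, 4, 1, 4], [3, 0, 0, 4, 4, 1, 1], [3, 1, 3, 0, 0, 0], [2, 1, 3, 2, 1, 3], 
  [1, 4, 4, 2, 0, 3, 1, 1], [0, 4, 4, 1, 3], [0, 2, 1, 1, 2, 1], [4, 0, 0, 0, 3, 2, 1], [3, 3, 1, 2, 0], 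
  [4, 1, 4, 4, 1, 1], [0, 3, 0, 3], [0, 0, 4, 1, 3, 0, 0], [3, 3, 1, 3, 0, 4], [4, 0, 4, 1, 3, 0], 
  [1, 1, 1, 4, 0], [4, 1, 4], [3], [1, 4, 0, 3, 0, 3], [0, 4, 4, 2, 0], [1, 1, 2, 0, 0, 0], [3, 0, 4, 2, 1], 
  [3, 0, 0, 0, 0], [3, 1, 4, 4, 0, 0], [3, 1, 1, 3, 1, 2, 0], [1, 1, 1, 1, 1, 2, 1], [1, 4, 0, 0], 
  [1, 1, 3, 0], [0, 0, 0, 3, 0, 3, 0], [1, 1, 3, 2, 0], [0, 4, 1, 1], [0, 4, 0, 0, 3], [3, 1, 4, 0, 3, 0], 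
  [1, 4, 1], [0, 3, 0, 3, 3], [1, 3, 2, 1, 3, 3, 0], [1, 4, 2, 1, 1, 3, 1], [4, 4, 1, 1, 1, 3], 
  [1, 3, 3, 2, 0], [1, 3, 1, 4, 2, 0, 3], [1, 2, 0, 3, 0], [1, 3, 0, 4, 4, 0], [1, 2, 0, 3, 1], 
  [3, 2, 0, 4, 4, 0], [0, 3, 1, 1, 1, 4], [3, 2, 0, 3, 1, 3], [0, 0, 0, 0, 0], [1, 1, 1, 3, 3, 0], 
  [3, 3, 0, 2, 0], [2, 0, 3, 3, 1], [4, 0, 4, 1, 1, 2, 0], [3, 3, 0, 3, 0], [4, 1, 3], [3, 1, 3, 0], 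
  [1, 1, 3, 0, 3, 2, 0], [1, 1, 2, 0, 0], [0, 0, 0, 3, 0, 3, 1], [1, 1, 1, 4, 0, 4, 1], [1, 4, 0, 3, 1], 
  [4, 0, 2, 1, 4], [3, 3, 0, 2, 1], [2, 1, 4, 4, 2, 0], [1, 4, 2, 1, 4], [4, 1, 3, 0, 3, 3], 
  [0, 0, 4, 2, 0, 0, 3], [4, 2, 0, 3, 1, 1], [4, 4, 1, 4, 4, 0], [4, 0, 4, 0, 3], [4, 0, 4, 0, 4, 1], 
  [3, 2, 1, 3, 0, 4], [0, 4, 4, 1, 4], [2, 0, 4, 1, 1, 4, 0], [1, 1, 4, 1, 4, 0], [3, 0, 0, 0, 4, 0], 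
  [0, 0, 3, 3], [1, 3, 1, 4, 2, 1], [4, 2, 0, 3, 2, 0], [2, 1, 3, 2, 1, 1], [1, 3, 1, 4, 1, 4], 
  [3, 0, 0, 3, 1, 3], [4, 0, 3, 0, 3, 1], [4, 4, 0, 3, 1, 3, 3], [1, 3, 0, 4, 2, 0], [0, 3, 1, 3, 0, 0, 0], 
  [3, 0, 3, 1, 4, 0], [3, 1, 1, 1, 3], [1, 3, 1], [2, 0, 3, 2, 1, 4], [2, 0, 3, 1, 3, 2], 
  [4, 4, 2, 0, 3, 1, 1], [1, 4, 4, 0, 0], [3, 0, 0, 3, 1, 1], [3, 0, 2, 1], [0, 0, 4, 4, 1, 3], 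
  [4, 0, 4, 4, 1, 3], [1, 2, 0, 3, 2, 0], [1, 4, 2, 0, 3, 1], [4, 1, 3, 0, 3, 0], [1, 2, 0, 4, 4, 1], 
  [4, 4, 2, 1], [3, 0, 3, 0, 3, 2, 0], [3, 1, 3, 1, 1, 3, 1], [0, 0, 3, 0, 3], [4, 4, 0, 2, 1, 4], 
  [0, 4, 4, 0, 4], [1, 4, 0, 3, 1, 1], [1, 4, 1, 1, 1, 1, 3], [1, 3, 0, 0], [1, 4, 2, 0], [1, 3, 0, 0, 0], 
  [1, 4, 1, 4, 1, 1, 1], [0, 0, 3, 1], [4, 1, 1, 1, 2, 1], [4, 4, 1, 1], [1, 1, 4, 0], [0, 3, 0, 0, 4, 0, 0], 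
  [3, 0, 3, 1, 1, 1, 1], [1, 4, 2, 1], [1, 1, 3, 1, 2, 0], [1, 3, 3, 0, 3], [0, 3], [4, 0, 3, 0, 3], 
  [4, 1, 4, 0, 0, 3], [0, 0, 4, 4, 2, 0], [0, 3, 2, 1, 3, 0], [1, 4, 0, 3, 0], [4, 0, 3, 1, 4, 4], 
  [1, 2, 0, 0, 0], [2, 0, 0, 3], [4, 1, 1, 1, 4, 2, 0], [0, 3, 0, 0, 0, 0], [0, 2, 1, 1, 3, 3], 
  [1, 1, 3, 1, 4], [4, 1, 2, 0, 3, 3, 1], [3, 0, 0, 0, 0, 4], [1, 3, 3, 0, 3, 1], [0, 3, 3, 1, 4], 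
  [1, 1, 1, 1, 2, 1], [4, 0, 4, 1, 4, 0, 0], [4, 0, 0], [1, 3, 0], [0, 3, 2, 0, 3], [3, 3, 0, 0, 0, 3], 
  [3, 1, 4, 0, 0, 3], [1, 3, 3, 2, 0, 0, 0], [1, 3, 2, 0], [3, 0, 0, 2, 0, 0, 0], [0, 4, 0, 3, 3, 0], 
  [0, 0, 4, 1, 1], [4, 4, 1, 3, 0, 0], [0, 0, 4, 0, 0, 3], [4, 1, 3, 0, 2, 0], [0, 3, 1, 4, 0, 3, 0], [4, 1], 
  [3, 0, 2, 0, 0], [3, 0, 3, 1, 3, 3, 0], [1, 3, 2, 1, 3, 2, 1], [4, 0, 4, 1, 2, 0], [3, 2, 1, 3, 3, 0], 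
  [4, 0, 0, 3, 3, 0], [4, 2, 1, 1, 3, 1], [1, 4, 0, 4, 2, 1, 4], [0, 3, 1, 1, 3, 2, 0], [3, 2, 1, 3, 1, 4], 
  [0, 4, 0, 3, 3], [2, 0, 0, 3, 3, 1, 2], [3, 3, 2, 0], [1, 4, 0, 3], [3, 1, 4, 2, 0, 3], [2, 0, 3, 0], 
  [4, 4, 1, 1, 2, 0], [3, 0, 4, 4, 0], [3, 0, 0, 0, 3, 1, 4], [0, 0, 4, 1, 3, 0], [2, 0, 3, 1], 
  [0, 0, 0, 4, 0, 0, 0], [3, 0, 3, 2, 0, 0], [0, 3, 2, 0, 4, 4, 0], [0, 0, 0, 3, 0, 2, 1], 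
  [1, 3, 1, 1, 4, 0, 4], [1, 3, 3, 1], [3, 0, 3, 0, 4, 4, 0], [4, 0, 3, 3, 2, 1], [1, 4, 1, 1, 4, 0], 
  [0, 0, 0, 0, 0, 0], [4, 1, 1, 1, 1], [1, 1, 3, 3, 0], [1, 4, 4, 0, 3, 2, 0], [0, 3, 3, 0, 2, 0], 
  [4, 4, 1, 4, 2, 0], [1, 1, 3, 3, 2, 1], [1, 1, 3, 0, 4, 0, 0], [0, 2, 1, 3, 0], [0, 3, 3, 0, 3, 0], 
  [1, 4, 4, 0], [1, 4, 4, 1, 1, 3, 1], [0, 4, 1, 3], [1, 1, 3, 0, 4, 4], [4, 1, 4, 0, 2, 0], [0, 3, 1, 3, 0], 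
  [0, 4, 4, 1, 2, 0], [1, 3, 0, 3, 2, 0], [1, 2, 0, 0], [3, 1, 3, 0, 3, 0], [1, 2, 1, 1, 1, 2, 1], 
  [4, 1, 4, 0, 4], [1, 1, 4, 0, 4, 1], [1, 1, 2, 0], [4, 0, 3, 1], [2, 0, 4, 2, 0], [0, 0, 0, 0, 4, 2, 0], 
  [1, 2, 0, 4, 2, 1], [0, 3, 3, 0, 2, 0, 0], [0, 3, 3, 0, 2, 1], [1, 3, 2, 1, 4], [1, 4, 0, 4, 4], 
  [4, 2, 1, 4], [3, 3, 1, 4, 0, 4], [3, 3, 0, 4, 2, 0], [1, 1, 3, 0, 0, 3], [4, 1, 4, 0, 4, 0], 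
  [1, 4, 1, 1, 3, 3], [4, 4, 0, 3, 3], [1, 1, 3, 2, 1], [4, 4, 0, 0, 3], [0, 3, 1, 4, 0, 0], 
  [3, 0, 3, 0, 2, 1], [3, 1, 1, 4], [1, 2, 0, 0, 0, 0], [3, 1, 1, 1, 1, 3, 0], [0, 0, 4, 4, 1, 4], [1, 1], 
  [1, 3, 0, 3, 0], [1, 3, 0, 3, 1], [4, 2, 0, 0, 0, 3], [1, 4, 1, 4, 0], [1, 4, 1, 4, 0, 0], 
  [1, 1, 1, 1, 4, 0, 0], [1, 1, 4, 1, 1], [0, 0, 0, 3, 3], [2, 1, 4, 2, 1, 3], [4, 2, 1, 1, 4, 2], 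
  [1, 2, 0, 3, 1, 3], [3, 1, 4, 0, 0, 2, 0], [3, 1, 4, 2, 1], [1, 4, 4, 2, 0], [1, 3, 1, 2, 0, 0], 
  [0, 2, 1, 3, 2, 1, 1], [0, 4, 0, 4, 0, 0], [1, 4, 0, 0, 3], [3, 1, 4, 1, 4], [3, 2, 1, 3, 2, 1, 1], 
  [4, 4, 1, 1, 3, 3], [3, 0, 0, 4, 0, 3], [0, 4, 1, 1, 3, 0], [4, 4, 0, 0, 0, 3], [0, 2, 1, 3, 0, 4], 
  [4, 1, 1, 1, 4, 4], [4, 1, 1, 3, 1, 1, 2, 0], [4, 1, 4, 0, 3], [3, 0, 4, 2, 0], [2, 0, 3, 0, 4, 2], 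
  [1, 2, 0, 3, 1, 1], [0, 3, 0, 3, 3, 0, 0], [2, 0, 4, 0, 3, 1], [1, 1, 1, 3, 1], [2, 0, 4, 1, 2, 0, 0], 
  [0, 3, 0, 2, 0], [4, 4, 2, 1, 4], [1, 1, 1, 4, 2, 0], [0, 3, 1, 2, 0, 3], [3, 1], [0, 3, 0, 3, 1, 4], 
  [2, 1, 3, 1, 4], [3, 1, 3, 0, 3], [1, 3, 2, 1, 3, 0], [4, 4, 0, 0, 0, 4, 0], [3, 0, 0, 3, 3, 0], 
  [3, 3, 1, 2, 0, 3], [1, 3, 3, 1, 4], [4, 4, 0, 0], [3, 1, 3, 1, 3, 0], [4, 1, 3, 3, 0, 3], 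
  [3, 0, 4, 1, 4, 4, 0], [2, 0, 4, 0, 3, 0], [4, 0, 4, 1, 1, 3], [1, 4, 0, 3, 3, 1], [0, 4, 0, 0, 0], 
  [0, 3, 0, 2, 1], [1, 1, 1, 3, 3, 1], [4, 0, 3, 0, 2, 0, 0], [0, 3, 1, 2, 1], [3, 0, 0, 4, 4, 2, 0], 
  [2, 0, 3, 2, 0], [4, 2, 0, 3, 1], [3, 3, 0, 3, 3], [4, 4, 2, 1, 4, 0], [3, 1, 1, 3, 0, 3], [0, 0, 4, 2, 0], 
  [2, 0, 4, 4, 1], [2, 1, 3, 3, 0], [4, 1, 3, 1], [4, 1, 4, 0, 4, 1], [3, 3, 2, 0, 0, 0, 0], [3, 0, 2, 1, 4], 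
  [0, 0, 0, 3, 0, 3], [0, 3, 1, 4, 0, 2, 0], [1, 4, 0, 4, 0, 0], [3, 0, 0, 4, 4, 1], [0, 0, 3, 0, 0, 0], 
  [1, 1, 4, 1, 4, 0, 3], [3, 0, 0, 3, 0, 3], [0, 3, 0, 4, 0, 2, 0], [1, 3, 1, 2, 0, 3], [4, 0, 3, 1, 1], 
  [0, 0, 0, 4, 4, 1], [3, 1, 3, 1], [4, 1, 1, 1, 1, 3], [2, 0, 3, 3, 1, 2], [3, 0, 0], [4, 1, 4, 4], [4, 2, 0], 
  [1, 1, 4, 1, 3, 1], [1, 3, 0, 3, 1, 1], [3, 0, 0, 0], [3, 3, 1, 4, 0, 2, 0], [4, 1, 4, 1, 1, 1], 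
  [0, 0, 0, 0, 0, 3, 1], [3, 0, 3, 0, 3, 0], [0, 0, 0, 3, 1], [4, 4, 1, 2, 1], [4, 0, 3, 1, 3, 3], 
  [0, 4, 4, 1, 1], [1, 3, 3, 0, 0], [3, 3, 1, 4, 4], [4, 1, 4, 4, 0, 4, 0], [3, 0, 0, 3, 1], [1, 4, 0], 
  [0, 3, 3, 0, 0], [1, 4, 1, 4, 4, 2, 0], [1, 4, 4, 0, 3, 1, 1], [4, 2, 1], [0, 3, 3, 1, 4, 1], 
  [1, 3, 1, 2, 0], [1, 4, 0, 0, 0, 0], [2, 0, 4, 0, 0, 2], [3, 3, 0, 3], [0, 0, 3], [3, 3, 0, 3, 3, 0, 0], 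
  [4, 4, 1, 4, 1, 4, 1], [0, 4, 1, 1, 4, 1], [0, 4, 0, 3, 0, 3], [2, 1, 3, 1, 1, 4], [4, 4, 1, 1, 4], 
  [2, 0, 3, 1, 3, 0], [0, 4, 4, 1, 4, 4], [4, 4, 0, 3, 0, 0, 0], [3, 1, 1, 1], [0, 4, 0], [4, 0, 3, 0], 
  [1, 3, 1, 3, 2, 1], [0, 0, 0, 3, 3, 0, 0], [2, 0, 0, 0], [1, 1, 3, 1, 1, 3], [0, 4, 1, 4, 4, 2, 0], 
  [3, 1, 3], [1, 2, 0, 3], [1, 4, 1, 1, 3, 1], [1, 1, 3, 1, 3, 3], [0, 0, 3, 0, 0, 0, 0], [0, 4, 0, 4, 0], 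
  [3, 3, 0, 3, 1, 1], [0, 4], [1, 3, 1, 4], [3, 0, 0, 3, 0, 3, 0], [0, 0, 4, 2, 1], [4, 0, 0, 2, 0], 
  [4, 0, 3, 1, 1, 1], [3, 3, 0, 3, 1], [3, 1, 1, 4, 1], [4, 0, 4, 1, 1, 1], [3, 1, 4, 1, 4, 1], 
  [1, 1, 1, 2, 1], [3, 3, 1, 1, 4, 4], [0, 3, 1, 2, 0], [0, 4, 0, 0], [3, 1, 3, 0, 0], [3, 0], 
  [0, 4, 0, 0, 0, 0], [0, 0, 3, 2, 0, 3], [1, 4, 0, 3, 2, 0], [1, 4, 4, 0, 2, 0, 0], [2, 0, 4, 2], 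
  [3, 3, 0, 4, 1, 3], [0, 3, 3, 0, 4], [0, 0, 3, 3, 0, 3], [3, 3, 2, 0, 0, 0], [3, 1, 4, 0, 4], [3, 2, 0], 
  [1, 4, 0, 3, 1, 3, 0], [0, 0, 0, 0, 3], [3, 3, 1, 4, 1, 4], [4, 1, 2, 0, 0, 4], [1, 1, 1, 1, 1, 3, 0], 
  [0, 0, 4, 0, 3, 3, 0], [4, 0, 0, 0, 4, 0], [0, 0, 0, 4, 1, 1], [3, 3, 1, 3, 3, 0], [3, 0, 0, 0, 0, 0, 4], 
  [2, 1, 1, 3, 2, 1], [1, 4, 2, 0, 0, 3], [3, 2, 0, 0, 0, 0, 0], [0, 0, 4, 0, 0, 4], [3, 1, 3, 0, 3, 1, 3], 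
  [0, 4, 1], [3, 0, 3, 3, 0], [4, 1, 3, 1, 4, 0], [0, 3, 0, 2, 0, 0], [1, 4, 2, 0, 0, 0, 0], 
  [2, 0, 4, 2, 0, 3, 1], [3, 1, 4, 1, 1, 2, 0], [3, 2, 1, 3, 2, 1], [1, 1, 4, 0, 3, 3, 0], [1, 3, 1, 1, 3, 1], 
  [1, 1, 4, 0, 3, 3], [4, 1, 1, 3, 2, 1], [1, 4, 1, 3, 0], [1, 3, 0, 3, 1, 3], [0, 4, 1, 1, 1, 2, 0], 
  [1, 1, 3, 1, 1, 2, 0], [3, 2, 1, 3, 2], [1, 3, 2, 0, 3, 0], [3, 1, 3, 1, 4, 4], [4, 0, 4, 2, 1, 4], 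
  [4, 1, 4, 1, 1, 3, 3], [3, 3, 1, 2, 0, 3, 0], [2, 0, 0, 0, 0, 0], [3, 1, 4, 4, 0, 4], [1, 3, 0, 3, 0, 3], 
  [1, 1, 3, 0, 3, 1, 4], [4, 1, 2, 0, 0], [3, 0, 4, 0, 2, 1], [3, 1, 1, 1, 1, 2, 0, 0], [0, 0, 3, 1, 1, 1], 
  [4, 4, 1], [1, 4, 0, 4, 2, 1], [4, 0, 3], [1, 4, 0, 0, 4, 0], [2, 1, 3, 2, 0], [0, 4, 4, 1, 1, 2, 0], 
  [0, 0, 0, 4, 0], [1, 1, 4], [0, 3, 0, 4, 4, 0], [0, 0, 4, 0, 3, 0], [1, 4, 1, 4, 1, 3, 1], 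
  [4, 1, 3, 0, 0, 0], [4, 2, 1, 4, 0], [3, 1, 4, 1, 3, 0], [0, 3, 0, 4, 0], [2, 1, 3, 2, 1], 
  [1, 4, 4, 0, 4, 4, 0], [4, 2, 0, 4, 2, 0], [0, 3, 0, 3, 2, 0, 0], [0, 0, 2, 0, 0, 0], 
  [4, 0, 0, 4, 0, 3, 3, 0], [3, 1, 1, 3], [1, 3, 3, 0, 0, 0, 0], [4, 0, 3, 3, 1, 4], [3, 1, 1, 4, 0, 4], 
  [2, 1, 1, 1, 2], [1, 2, 0, 0, 4], [3, 3, 1], [3, 3, 1, 1, 3, 1], [4, 1, 1, 3, 1, 4], [0, 0, 3, 1, 3], 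
  [4, 1, 1, 4, 0], [1, 1, 1, 4, 4], [2, 1, 3, 2], [1, 4, 2, 0, 3], [0, 4, 1, 1, 3, 1], [3, 0, 0, 0, 0, 3], 
  [3, 1, 3, 3], [4, 1, 3, 0, 4], [3, 0, 0, 4, 4], [0, 4, 0, 2, 0], [3, 0, 2, 1, 3, 0, 4], [1, 3, 3, 0], 
  [3, 0, 0, 4, 4, 0], [4, 4, 0, 3, 2, 0], [1, 3, 0, 3, 3, 1], [0, 0, 3, 3, 0, 2, 0], [1, 3, 1, 3, 3, 0], 
  [4, 4, 0, 0, 3, 1], [1, 3, 3, 2, 1], [0, 4, 1, 1, 3], [1, 3, 0, 4, 0, 0], [0, 0, 0, 4], [3, 2, 1, 3, 2, 0], 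
  [2, 0, 3, 0, 0, 0, 0], [4, 4, 0], [0, 3, 1, 4], [1, 4, 4, 0, 3], [4, 4, 1, 1, 3, 1], [0, 0, 4, 1, 3], 
  [4, 4, 0, 4, 0], [1, 3, 0, 4, 4], [3, 3, 1, 1, 3], [3, 1, 4, 4, 2, 0], [0, 0, 0, 4, 0, 4, 1], 
  [0, 0, 3, 1, 3, 0], [3, 3, 0, 3, 1, 3], [0, 3, 3, 1, 4, 0], [3, 0, 3, 2, 0], [2, 0, 0], 
  [1, 3, 1, 3, 1, 3, 3, 0], [0, 3, 1, 3, 0, 3, 0], [1, 1, 3, 0, 0, 2, 0], [1, 1, 4, 1, 1, 1, 3], 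
  [2, 1, 1, 1, 2, 1], [2, 1, 1, 3, 2, 1, 1], [2, 0, 0, 0, 3], [1, 4, 0, 4, 1], [2, 1, 4, 2, 1, 1], [1, 2, 0], 
  [0, 4, 0, 3, 1], [2, 1, 1, 4, 2], [2, 1, 4, 0], [1, 3, 3, 2, 0, 0], [4, 4, 1, 4, 1, 4], [1, 1, 1, 1, 1, 3], 
  [2, 0, 4, 2, 1], [1, 4, 4, 0, 0, 0, 0], [1, 1, 1, 3, 3], [0, 0, 3, 3, 0, 2, 0, 0], [4, 0, 2, 0, 0, 4], 
  [4, 0, 0, 0, 3], [3, 2, 1, 4], [1, 2, 1], [4, 0, 4, 4], [0, 4, 2, 1, 4], [3, 1, 1], [1, 3, 0, 4, 4, 1], 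
  [3, 0, 3, 1, 2, 1], [4, 4], [0, 3, 3, 0, 4, 2, 0], [1, 3, 2, 1, 4, 1], [1, 3, 0, 0, 3], [1, 3, 1, 4, 0], 
  [4, 0, 0, 3, 1, 2, 0], [4, 1, 1, 1], [4, 1, 1, 3, 3], [0, 0, 3, 0], [4, 0, 2, 0, 0], [1, 3, 2, 1], 
  [1, 3, 3, 0, 0, 0], [1, 4, 0, 3, 0, 0, 0], [4, 4, 1, 3, 3, 0], [0, 4, 2, 1, 3, 0], [1, 3, 0, 0, 0, 3, 0], 
  [0, 4, 0, 3, 2, 0], [3, 1, 4, 1, 4, 0, 0], [0, 3, 1, 1, 4], [2, 0, 0, 0, 0], [0, 0, 4, 2, 0, 3], 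
  [1, 1, 3, 0, 4], [1, 3, 0, 3, 1, 1, 4], [1, 3, 0, 4, 4, 1, 1], [1], [3, 3, 1, 1, 4], [3, 0, 2, 0, 0, 4], 
  [4, 1, 1, 2, 0, 0], [0, 2, 1, 4], [1, 1, 3, 0, 3], [3, 0, 3, 0], [4, 1, 3, 3, 1, 4], [3, 1, 4, 4], 
  [3, 0, 3, 1], [0, 4, 2, 1, 3, 2], [4, 4, 2, 1, 3, 3, 0], [4, 1, 3, 3, 2, 0], [1, 4, 4, 1, 3], [4, 1, 4, 0], 
  [3, 1, 1, 1, 4, 0], [3, 1, 1, 1, 2, 0], [4, 1, 4, 0, 0], [1, 1, 3, 0, 0, 0, 0], [1, 1, 1, 4, 0, 0], 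
  [1, 1, 1, 1, 3, 2, 0], [1, 4, 1, 1], [1, 1, 1, 4, 1], [4, 1, 1, 2, 0, 0, 0], [0, 4, 1, 4, 4, 0], 
  [0, 0, 0, 0, 3, 3], [1, 1, 3, 1, 3, 0], [4, 0, 0, 0, 0, 0], [2, 0, 0, 2, 1, 1, 1], [0, 0, 3, 2, 0], 
  [0, 4, 0, 3, 1, 3, 0], [4, 1, 4, 2, 1, 4], [0, 3, 1, 2, 0, 3, 0], [4, 0, 3, 0, 2, 0], [2, 0, 3, 1, 3], 
  [0, 0, 0, 0, 0, 0, 3], [4, 0, 3, 3, 1, 4, 1], [4, 1, 4, 0, 3, 2, 0], [0, 4, 1, 3, 0, 0], [4, 2, 0, 0, 2], 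
  [1, 1, 1, 1, 4, 0], [1, 3], [4, 4, 2, 0], [3, 1, 2, 0, 0], [1, 3, 1, 4, 4, 0, 0], [3, 1, 4, 4, 1, 1], 
  [0, 0, 4, 0, 4, 0, 0], [1, 1, 1, 3, 0], [4, 0, 0, 3], [3, 3, 1, 1, 3, 3], [3, 0, 3, 3], [4, 2, 0, 3, 3, 1], 
  [0, 4, 1, 3, 3, 2, 1], [3, 1, 1, 3, 0, 0, 3], [0, 0, 3, 3, 0], [1, 1, 2, 0, 3, 0], [1, 1, 2, 0, 3, 1], 
  [3, 1, 1, 1, 4], [0, 4, 1, 1, 2, 0], [1, 3, 3, 0, 2, 0], [4, 1, 1, 1, 1, 4, 0, 0], [4, 0, 4], 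
  [4, 4, 1, 4, 1, 1, 1], [1, 1, 1, 2, 0, 0], [3, 2, 0, 0, 0, 3, 0], [1, 4, 0, 2, 1, 4], [3, 1, 4, 4, 0], 
  [1, 4, 1, 3, 0, 3, 3], [0, 4, 2, 0, 0, 3], [0, 4, 1, 4, 0, 3], [0, 4, 1, 4, 4, 0, 0], [4, 4, 1, 4], 
  [4, 1, 1, 4, 4], [4, 1, 3, 3, 1, 3], [0, 3, 3], [3, 1, 3, 3, 1], [2, 0, 3, 1, 1], [0, 0, 4, 0, 0, 3, 1], 
  [4, 1, 3, 1, 1, 4], [3, 0, 4, 2, 0, 3], [3, 1, 1, 3, 2, 1], [3, 0, 4, 4, 2, 0], [1, 1, 3, 1], 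
  [3, 0, 3, 2, 0, 3, 0], [1, 1, 4, 4, 0, 0], [0, 0, 3, 0, 2, 0], [0, 4, 1, 2, 0], [1, 1, 2, 0, 3, 2, 0], 
  [0, 4, 4, 2, 1, 4], [0, 4, 1, 2, 0, 0, 0], [0, 0, 3, 1, 3, 3, 0], [4, 4, 1, 3, 3, 1, 3], [4, 4, 0, 4], 
  [1, 1, 3, 0, 0], [1, 1, 4, 2, 0], [1, 1, 3, 0, 0, 0], [0, 4, 2, 0, 0, 0, 0], [0, 3, 1], [1, 4, 4, 1, 1], 
  [3, 0, 0, 4, 0, 0], [3, 0, 3, 0, 3, 1, 3], [0, 2, 1, 3, 1, 4], [0, 4, 1, 4, 2, 0], [0, 3, 1, 3, 0, 3], 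
  [3, 2, 1, 3, 0], [1, 1, 4, 0, 3, 0], [4, 4, 1, 3, 2, 1], [2, 0, 0, 3, 1, 2], [2, 1, 1, 3, 3], 
  [0, 0, 0, 4, 4, 0, 0, 0], [1, 1, 3, 3, 0, 3, 1], [3, 3, 1, 4], [4, 0, 0, 3, 2, 0], [3, 2, 0, 3], 
  [4, 0, 3, 3, 1, 1, 1], [4, 1, 1, 3, 0, 3], [1, 3, 0, 0, 2, 0, 0, 0], [4, 0, 3, 3, 0], [1, 4, 4, 1, 3, 0, 0], 
  [2, 1, 4, 1, 3, 1], [4, 0, 3, 1, 1, 3, 1], [0, 3, 1, 1, 3, 1], [1, 4, 0, 4, 1, 2, 0], [0, 0, 3, 0, 4, 0, 0], 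
  [3, 3, 1, 4, 0, 0, 3], [3, 1, 1, 3, 2, 0], [4, 0, 3, 3], [2, 1, 4, 1, 1, 3, 0], [0, 0, 0, 2, 1], 
  [4, 0, 3, 3, 1], [0, 4, 0, 0, 4, 1, 1], [0, 4, 1, 3, 0], [0, 0, 4, 0, 0, 0], [4, 1, 1, 1, 3, 0], 
  [0, 0, 3, 0, 2, 1], [1, 1, 3, 3, 1], [0, 3, 0, 3, 1, 3], [4, 4, 2, 0, 0, 3], [3, 1, 1, 3, 3, 0], 
  [2, 1, 3, 1, 3, 3, 0], [1, 4, 4, 1, 4, 2, 0], [2, 1, 3, 0], [1, 1, 4, 4, 0], [2, 1, 3, 2, 1, 1, 2], 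
  [0, 4, 2, 0, 3, 1], [3, 1, 1, 2, 0], [4, 4, 1, 2, 0], [2, 1, 1, 3, 3, 0], [3, 1, 1, 3, 3, 1], 
  [1, 1, 1, 2, 0], [0, 0, 0, 4, 2, 0], [0, 3, 2, 0, 3, 0], [3, 3, 0, 2, 0, 0], [3, 1, 3, 3, 2, 0], 
  [3, 1, 1, 4, 4, 0], [0, 0, 0, 0, 3, 2, 1], [4, 4, 1, 4, 0], [1, 4, 4, 0, 3, 3], [3, 1, 4, 0, 0], 
  [1, 3, 1, 1, 4], [1, 1, 1], [1, 1, 3, 0, 3, 0], [1, 1, 3, 0, 3, 1], [4, 0, 2, 1, 1, 2, 1], 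
  [3, 2, 1, 4, 0, 0], [2, 0, 4, 1, 3], [3, 1, 3, 3, 2, 0, 0], [3, 1, 1, 1, 2, 1], [0, 4, 0, 4, 0, 4, 4], 
  [4, 0, 3, 3, 0, 0], [4, 0, 4, 0, 0], [4, 1, 2, 0, 3], [3, 0, 0, 4, 2, 1], [4, 0, 4, 1, 4, 0], 
  [4, 1, 1, 3, 0], [2, 1, 3, 0, 4], [0, 3, 0, 4, 1, 3, 0], [1, 4, 1, 4, 0, 3], [4, 1, 4, 1, 4, 1], 
  [3, 2, 0, 0, 0, 0], [3, 0, 3, 3, 0, 0], [4, 4, 2, 0, 3, 1], [3, 0, 2, 0], [1, 1, 1, 1, 4, 2, 0], 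
  [3, 1, 2, 0, 3], [3, 0, 3, 1, 4], [4, 4, 0, 0, 2, 0], [0, 4, 0, 3, 1, 1], [0, 0, 4, 1, 2, 0, 0], 
  [2, 0, 4, 1, 1, 1], [4, 0, 4, 1, 1], [3, 1, 3, 1, 2, 0, 3], [4, 1, 4, 1, 4, 0, 0], [4, 1, 3, 1, 4], 
  [2, 0, 3, 0, 2, 1, 1], [4, 0, 0, 0], [3, 1, 1, 1, 1, 4], [3, 1, 2, 1], [1, 3, 3, 0, 3, 3], [0, 4, 1, 4, 4], 
  [0, 4, 2, 0], [1, 4, 1, 3, 1], [0, 4, 4, 0, 2, 0], [3, 1, 4, 0, 2, 0], [3, 0, 3, 1, 1], [3, 1, 3, 0, 2, 0], 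
  [0, 3, 0, 0, 0], [3, 0, 4, 0, 2, 0], [1, 1, 3, 1, 2, 0, 3], [0, 0, 4, 4, 1], [1, 3, 1, 3, 1], 
  [0, 4, 1, 4, 1, 1, 1], [1, 4, 1, 4, 4], [3, 2, 1, 1, 3, 1], [4, 1, 4, 1, 4], [0, 4, 4, 1, 1, 3, 0], 
  [0, 0, 0, 0, 3, 1], [3, 3, 2, 1, 4, 0], [0, 0, 4, 0, 3], [3, 1, 3, 0, 4], [1, 3, 3, 1, 4, 4], 
  [0, 4, 0, 0, 3, 2, 1], [0, 0, 4, 4, 1, 1], [3, 3, 0, 0], [3, 3, 1, 4, 1], [0, 4, 0, 0, 4, 0], 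
  [3, 3, 0, 0, 4, 4], [0, 3, 1, 3, 2, 0], [2, 0, 3, 0, 0, 4, 4], [4, 1, 1, 4, 1], [3, 1, 1, 4, 4], 
  [4, 4, 1, 4, 4], [3, 3, 1, 3], [4, 0], [0, 0, 3, 3, 0, 0], [0, 4, 1, 1, 2, 1], [4, 1, 4, 4, 2, 0], 
  [1, 3, 1, 3], [4, 4, 0, 3, 1, 1], [4, 0, 4, 0], [4], [0, 4, 2, 1], [1, 4, 0, 0, 2, 0], [3, 3, 2, 1, 4], 
  [4, 1, 3, 0, 3, 1], [3, 1, 2, 0], [1, 3, 1, 3, 0, 0], [4, 0, 0, 0, 0], [4, 0, 4, 2, 1, 4, 0], 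
  [1, 2, 0, 4, 2], [3, 3, 0, 4], [0, 3, 3, 0, 3], [0, 0, 0, 2, 0, 0], [3, 1, 4, 0, 4, 0, 0], [0, 0, 0, 3], 
  [3, 0, 4, 0, 0, 0, 0], [3, 1, 4, 0, 4, 1], [3, 3, 1, 4, 0, 3], [3, 3, 0, 4, 4, 1, 1], [3, 1, 4, 0, 4, 0], 
  [0, 4, 0, 0, 4], [1, 3, 0, 3, 3, 0], [1, 4, 1, 3, 1, 4, 0], [2, 0, 0, 0, 3, 0], [4, 4, 0, 4, 2, 1], 
  [3, 1, 3, 3, 0, 0, 0], [0, 3, 0, 0, 2, 0], [0, 4, 4, 1, 1, 4], [1, 1, 4, 1, 3, 0], [4, 1, 1, 1, 2, 0], 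
  [1, 3, 2, 1, 3, 2], [0, 4, 0, 4, 2, 0], [3, 2, 1, 1, 1, 2, 1], [3, 0, 3, 1, 2, 0], [0, 4, 1, 1, 1, 3], 
  [4, 0, 0, 0, 0, 0, 3], [3, 1, 1, 3, 1, 3], [0, 3, 1, 1, 1], [3, 0, 3, 3, 1, 4, 0], [0, 0, 4, 0], 
  [1, 1, 1, 4], [0, 4, 0, 3, 0], [1, 4, 1, 3, 0, 0, 0], [3, 1, 3, 2, 1], [3, 0, 4, 0], [3, 1, 3, 3, 2, 1], 
  [0, 2, 0, 0, 0], [1, 3, 1, 1, 3], [4, 1, 4, 4, 1, 3], [1, 2, 1, 1, 1, 2], [1, 1, 2, 0, 0, 4], [0, 3, 1, 3], 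
  [1, 1, 1, 1, 4, 4], [2, 0, 3], [4, 1, 1, 3, 1], [3, 0, 4, 0, 4, 0], [1, 3, 1, 3, 3], [1, 3, 0, 0, 4, 4], 
  [4, 0, 2, 0], [4, 2, 1, 1, 3, 1, 4], [3, 1, 1, 3, 3], [0, 2, 0, 0, 4], [0, 3, 3, 0, 3, 1, 1], [4, 1, 1, 3], 
  [0, 0, 4], [3, 1, 4], [1, 1, 4, 4, 0, 3], [1, 4, 4, 0, 4, 0], [3, 0, 4, 1, 1, 1], [0, 0, 4, 0, 4, 1], 
  [3, 3, 1, 4, 0], [4, 0, 4, 1, 2, 0, 0, 0], [0, 4, 0, 0, 2, 0], [3, 0, 4, 1, 1, 3], [4, 1, 3, 1, 4, 4], 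
  [2, 0, 4, 1, 1], [0, 3, 0, 4, 1, 1], [0, 3, 1, 1, 4, 1], [0, 4, 0, 3, 2, 0, 0], [4, 4, 1, 1, 4, 4], 
  [1, 1, 1, 1, 3, 3], [0, 0, 4, 1, 1, 4, 0], [1, 1, 2, 1], [0, 0, 2, 0], [4, 4, 0, 3, 1, 3], [1, 4, 4], 
  [0, 0, 3, 1, 2, 0], [0, 0, 4, 0, 0], [1, 4, 1, 1, 1], [0, 3, 0], [4, 1, 1, 3, 0, 0], [4, 2, 1, 3, 0], 
  [0, 0, 0, 3, 2, 0, 3], [4, 0, 3, 2, 0], [0, 4, 2, 0, 3], [1, 1, 1, 3, 0, 4], [1, 3, 3, 1, 1, 4], 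
  [4, 4, 0, 2, 0, 0], [3, 3, 0, 4, 0], [2, 1, 4], [0, 3, 1, 1, 1, 1], [3, 3, 1, 1, 2, 0], [1, 3, 1, 4, 4], 
  [4, 2, 1, 3, 2], [0, 0, 3, 3, 2, 0, 0], [1, 1, 4, 4, 1, 3], [0, 0, 4, 0, 2, 1], [0, 3, 2, 0, 0, 0], 
  [0, 0, 3, 3, 0, 4], [3, 1, 1, 3, 3, 2, 1], [1, 1, 1, 1, 4, 1], [2, 0, 4, 4, 1, 3], [4, 1, 4, 4, 0], 
  [3, 0, 0, 0, 3], [3, 2, 0, 0, 3, 1, 2], [0, 3, 2, 0], [4, 0, 3, 1, 3, 0], [3, 1, 2, 0, 3, 0], 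
  [1, 4, 0, 3, 0, 2, 0], [0, 0, 0, 0, 0, 3], [3, 3, 0, 4, 1, 1, 1], [4, 1, 3, 0, 0], [1, 4, 2, 0, 0, 2], 
  [1, 1, 3], [4, 1, 4, 1, 1, 4, 0], [1, 1, 1, 1, 3, 0], [1, 3, 0, 3, 3], [4, 1, 3, 3, 2, 1], 
  [3, 0, 3, 3, 0, 3], [0, 3, 3, 0], [1, 3, 1, 1, 1, 4], [4, 1, 1, 2, 0], [0, 3, 3, 1, 3, 3, 0], [1, 4, 0, 4], 
  [1, 1, 1, 1, 2, 0, 0], [1, 3, 1, 4, 4, 0], [4, 2, 0, 0, 3], [4, 1, 4, 4, 0, 0], [4, 1, 3, 1, 3, 3, 0], 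
  [3, 3], [4, 2, 1, 3, 2, 1], [0, 4, 0, 0, 3, 1], [3, 3, 1, 3, 3, 2, 1], [4, 4, 1, 4, 0, 4], 
  [0, 3, 0, 3, 3, 1], [4, 1, 2, 0], [4, 2, 0, 3, 1, 3, 2], [4, 1, 2, 0, 0, 0], [0, 3, 1, 3, 3, 0], 
  [4, 1, 3, 0, 3, 2, 0], [1, 4, 4, 0, 4], [3, 0, 4, 1, 3], [4, 2, 0, 0, 0, 0], [1, 1, 4, 4, 1, 1], 
  [4, 4, 1, 4, 0, 0, 3], [4, 1, 4, 2, 0], [0, 3, 3, 2, 1], [2, 1, 4, 0, 3, 1], [0, 0, 4, 4, 0, 0, 0], 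
  [3, 2, 1, 1, 3, 3], [3, 1, 3, 2, 1, 4], [4, 4, 1, 3, 0, 4], [4, 1, 3, 1, 4, 2, 1], [1, 4, 0, 3, 3, 0], 
  [3, 0, 4, 1, 1, 1, 3], [3, 1, 1, 3, 1], [0, 3, 0, 4, 0, 0], [0, 0, 0, 0, 0, 4], [1, 4, 0, 3, 3], 
  [0, 0, 2, 1], [4, 0, 0, 4, 1, 1], [4, 1, 3, 0], [0, 2, 1, 1, 3, 2, 0], [3, 0, 3, 1, 3], [4, 1, 1, 3, 3, 0], 
  [1, 1, 1, 4, 4, 0], [2, 0, 3, 1, 1, 2], [1, 3, 1, 1, 2, 0], [4, 1, 3, 2, 1], [3, 2, 0, 3, 0], 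
  [0, 0, 4, 4, 0], [1, 3, 1, 1, 4, 4, 0], [0, 0, 0, 3, 2, 1], [0, 0, 0, 3, 1, 4], [1, 1, 1, 1], 
  [1, 1, 1, 3, 0, 3, 0], [3, 2, 1, 4, 4, 2, 0], [0, 0, 0, 3, 1, 1], [4, 0, 4, 0, 4, 4], [1, 4, 0, 3, 3, 0, 0], 
  [4, 0, 3, 1, 3], [0, 4, 0, 0, 3, 0], [1, 4, 1, 1, 3, 0], [3, 0, 4, 1, 3, 0], [3, 0, 3, 0, 3], 
  [0, 4, 1, 3, 3, 0], [1, 3, 0, 2, 0], [0, 4, 1, 4, 2, 1], [1, 3, 0, 3, 1, 4], [4, 0, 3, 1, 4, 0], 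
  [0, 4, 1, 2, 0, 0], [3, 3, 1, 4, 0, 3, 0], [4, 2, 0, 4, 1, 1], [0, 3, 0, 4, 4], [1, 3, 1, 2, 1], 
  [4, 2, 0, 4, 1, 1, 1], [4, 4, 0, 2, 0], [3, 0, 3, 1, 3, 0], [4, 1, 4, 1, 3, 0, 0], [0, 3, 3, 1, 1], 
  [0, 4, 4, 1], [1, 1, 3, 1, 3, 1], [4, 0, 4, 2, 1], [4, 4, 1, 1, 3, 0], [0, 4, 0, 3], [3, 1, 4, 1, 1, 4, 0], 
  [4, 0, 0, 3, 2, 1], [4, 0, 0, 4, 0], [3, 0, 4, 0, 0, 3], [3, 1, 3, 2, 0], [1, 4, 1, 1, 4, 1], 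
  [2, 1, 1, 3, 1, 4], [1, 3, 3, 1, 3], [4, 1, 1, 2, 1], [1, 1, 3, 1, 3], [1, 4, 0, 4, 0], [1, 4], 
  [3, 0, 0, 0, 0, 0], [4, 4, 0, 0, 4, 0, 0], [4, 1, 4, 1, 3, 1], [1, 1, 2, 0, 4, 2], [3, 2, 0, 3, 1], 
  [0, 0, 2, 0, 0], [0, 3, 3, 1, 1, 1], [0, 4, 2, 1, 4, 0], [3, 0, 4, 1, 4, 2, 0], [2, 1, 1, 4, 4], 
  [4, 0, 0, 4], [3, 1, 4, 0, 3], [0, 2, 1, 3, 2, 1], [3, 0, 0, 2, 0], [4, 4, 0, 4, 4, 0], [0, 0, 3, 1, 4, 0], 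
  [4, 0, 4, 2, 0], [3, 2, 0, 4, 2, 0], [4, 1, 1, 1, 3], [0, 0, 0, 2, 0, 0, 0], [2, 1, 3, 0, 4, 4, 0], 
  [1, 1, 1, 1, 4], [3, 3, 0, 0, 2, 0, 0, 0], [3, 1, 4, 1], [3, 3, 0, 0, 0, 0], [3, 2, 0, 3, 1, 1], 
  [3, 3, 1, 4, 0, 0], [3, 0, 4, 0, 3, 3], [3, 2, 0, 3, 3, 1], [1, 4, 0, 2, 0], [2, 0, 0, 4], [0, 3, 3, 1], 
  [1, 1, 1, 4, 4, 0, 3], [1, 1, 4, 4, 0, 4, 0], [0, 4, 0, 4, 1], [2, 0, 0, 3, 0, 3, 0], [4, 0, 4, 1, 1, 2, 1], 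
  [3, 0, 4, 1, 1], [4, 0, 3, 2, 0, 0], [0, 4, 1, 1, 4, 0], [0, 2, 0], [1, 1, 4, 4], [2, 1, 1, 3, 1], 
  [4, 2, 0, 3], [4, 0, 4, 4, 0, 0, 0], [0, 3, 2, 1, 4, 0], [1, 3, 3, 0, 4, 0], [3, 1, 1, 1, 1], 
  [3, 3, 0, 0, 3], [0, 3, 2, 0, 0], [0, 3, 3, 2, 0, 0], [0, 3, 1, 3, 3], [0, 4, 0, 2, 1], [3, 2, 0, 0, 0], 
  [0, 3, 0, 0, 4, 4], [1, 4, 1, 4, 4, 0], [3, 0, 4, 0, 4, 4, 0], [0, 4, 4, 1, 1, 3], [0, 0, 4, 0, 2, 0], 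
  [1, 4, 1, 3, 0, 0], [1, 1, 1, 3], [4, 0, 0, 4, 4, 2, 0], [0, 2, 1, 4, 1], [3, 3, 0], [1, 4, 1, 1, 2, 0], 
  [1, 1, 4, 0, 4], [4, 0, 0, 0, 0, 0, 0], [1, 3, 3], [4, 0, 0, 3, 1], [4, 0, 4, 0, 3, 3], [3, 0, 3, 3, 1], 
  [3, 0, 4, 1, 2, 0, 0], [3, 1, 3, 3, 0], [4, 1, 1, 4], [1, 1, 1, 4, 4, 1, 1], [4, 0, 4, 0, 3, 3, 0], 
  [1, 4, 1, 4, 2, 0], [3, 3, 2, 1], [0, 4, 4, 0, 0, 0], [0, 0, 3, 2, 1, 4], [0, 0, 4, 1, 1, 3], 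
  [4, 1, 4, 4, 0, 3, 2, 0], [3, 0, 4, 0, 0], [0, 0, 0, 0, 4], [0, 2, 1], [2, 1, 1, 3, 2, 0], 
  [3, 3, 0, 3, 2, 0], [0, 0, 4, 0, 4, 4], [0, 4, 4, 0], [0, 0, 3, 2, 1], [0, 0, 3, 1, 4], [4, 4, 0, 3], 
  [0, 3, 1, 3, 1, 4], [0, 0, 3, 1, 1], [4, 0, 0, 3, 0], [3, 3, 0, 4, 1, 1], [4, 1, 3, 3, 0], [4, 1, 2, 1], 
  [4, 1, 4, 2, 1], [0, 3, 0, 4, 4, 1], [2, 1, 4, 0, 4, 0, 2], [3, 0, 4, 4], [1, 1, 3, 1, 2, 1], [0, 0, 4, 4], 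
  [4, 2, 0, 4, 2, 1], [3, 3, 1, 1], [4, 4, 2, 0, 3, 2, 0], [4, 1, 4, 0, 4, 4], [0, 3, 0, 4, 0, 3, 1], 
  [2, 0, 0, 4, 4, 2, 0], [0, 3, 3, 0, 0, 2, 0], [4, 2, 1, 1, 3, 2, 1], [3, 3, 1, 3, 0, 0], [3, 2, 0, 0, 0, 3], 
  [0, 3, 0, 3, 2, 0], [0, 3, 3, 1, 3, 3], [0, 2, 0, 0], [3, 3, 1, 1, 1], [3, 1, 3, 1, 3, 3, 0], 
  [1, 3, 1, 4, 0, 3], [1, 3, 0, 0, 2, 0], [0, 3, 1, 4, 0], [1, 4, 1, 1, 1, 3], [3, 1, 3, 1, 2, 0], 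
  [3, 1, 4, 1, 1, 3, 0], [3, 2, 0, 4, 2, 1], [1, 1, 4, 0, 2, 0], [3, 0, 3, 3, 1, 1, 1], [4, 0, 4, 1], 
  [3, 1, 3, 3, 1, 3], [4, 4, 0, 3, 1], [2, 0], [0, 0, 4, 0, 3, 1], [3, 2, 1, 4, 0], [0, 0, 3, 0, 4], 
  [3, 2, 0, 0], [3, 3, 2, 0, 0], [4, 0, 2, 1], [2, 1, 3, 3, 0, 3, 0], [3, 1, 4, 1, 1, 4, 1], [4, 4, 1, 1, 3], 
  [3, 1, 3, 1, 4, 0], [1, 1, 1, 1, 3], [2, 1, 4, 1], [4, 4, 0, 0, 0, 0], [1, 1, 3, 3], [0, 0, 0, 0, 3, 0], 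
  [1, 4, 0, 4, 0, 3, 3], [1, 4, 1, 1, 4], [3, 3, 1, 3, 1, 4], [0, 3, 3, 1, 3, 1], [4, 4, 0, 0, 0], 
  [0, 3, 2, 1, 4], [4, 0, 4, 0, 0, 4, 0], [2, 1], [0, 4, 0, 4, 4], [0, 3, 2, 1], [3, 1, 3, 1, 4], [0, 3, 1, 1], 
  [0, 3, 3, 0, 0, 0], [1, 4, 1, 2, 1], [3, 0, 4, 4, 1], [3, 1, 4, 1, 1, 4], [2, 1, 4, 0, 3, 3, 0], [0, 4, 4], 
  [1, 3, 3, 1, 1], [3, 0, 4, 0, 3, 1], [3, 3, 0, 0, 2, 0], [3, 2, 1, 4, 1], [3, 3, 1, 3, 3], [3, 0, 0, 3], 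
  [3, 1, 4, 0], [4, 0, 3, 2, 1], [4, 1, 4, 1, 4, 4], [2, 1, 4, 1, 4, 0], [0, 3, 0, 4], [0, 4, 1, 1, 1], 
  [0, 3, 1, 3, 0, 4, 4], [4, 4, 1, 1, 4, 1], [3, 3, 2, 0, 3, 1], [0, 0, 0, 3, 0], [2, 1, 4, 0, 0], 
  [3, 3, 1, 3, 1], [0, 4, 4, 1, 3, 1, 4], [3, 2, 1], [3, 3, 0, 0, 0], [1, 1, 4, 1, 2, 1], [4, 0, 3, 0, 0, 0], 
  [1, 1, 3, 3, 1, 1], [3, 3, 0, 3, 0, 3], [0, 4, 0, 4, 4, 0], [3, 0, 0, 0, 3, 0], [0, 4, 0, 0, 4, 0, 0], 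
  [3, 0, 4], [3, 1, 3, 0, 4, 4], [1, 4, 4, 1, 1, 4, 1], [3, 0, 3, 3, 1, 1], [4, 4, 1, 3, 1, 4], 
  [4, 2, 1, 3, 0, 4], [4, 0, 4, 4, 0], [4, 0, 0, 4, 0, 0], [1, 3, 0, 4], [4, 4, 0, 3, 3, 0, 0], 
  [3, 0, 3, 1, 1, 4], [3, 0, 4, 4, 1, 1], [0, 4, 0, 3, 1, 2], [3, 0, 4, 0, 2], [2, 0, 4, 1, 3, 0], 
  [3, 2, 0, 0, 4, 0, 2], [1, 3, 2, 0, 4, 0], [0, 4, 1, 2, 1, 1, 1], [0, 0, 4, 0, 2], [2, 0, 4, 2, 0, 4, 0], 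
  [3, 1, 4, 2, 1, 1], [2, 0, 4, 0, 0, 0, 0], [2, 1, 1, 2, 1, 1], [1, 3, 1, 1, 1, 2], [3, 2, 0, 4, 0], 
  [3, 1, 1, 3, 3, 1, 2], [1, 3, 2, 1, 1, 3], [3, 1, 4, 0, 0, 2], [3, 1, 4, 2], [4, 2, 0, 4, 0, 2], 
  [3, 2, 0, 4], [4, 1, 2, 0, 3, 2, 1], [1, 4, 1, 4, 4, 0, 2], [2, 1, 4, 0, 4, 0], [2, 0, 3, 3, 1, 4], 
  [1, 1, 3, 3, 0, 2], [1, 1, 3, 3, 1, 2], [4, 0, 4, 4, 2], [1, 2, 0, 0, 3, 0], [3, 2, 1, 1, 2, 0], 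
  [4, 0, 0, 3, 2], [3, 1, 1, 1, 2], [3, 2, 0, 0, 2, 1, 1], [0, 3, 2, 0, 4, 0], [4, 4, 1, 4, 4, 0, 2], 
  [2, 1, 1, 2], [2, 0, 4, 4, 1, 2], [3, 2, 1, 1, 3], [3, 3, 2, 0, 0, 0, 2], [2, 1, 4, 1, 1, 2, 0], 
  [2, 1, 3, 0, 0, 0, 0, 2], [0, 3, 1, 4, 2], [1, 4, 0, 4, 2], [2, 0, 4, 2, 0, 4], [3, 1, 3, 3, 0, 2], 
  [1, 4, 2, 0, 3, 3], [0, 3, 2, 0, 4], [2, 1, 4, 1, 4, 4], [1, 1, 2, 0, 4, 0], [4, 0, 4, 1, 2, 0, 4], 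
  [4, 1, 4, 4, 0, 2], [0, 4, 1, 4, 0, 4, 2], [0, 3, 3, 2, 1, 1, 4], [0, 2, 1, 4, 0, 4, 0], 
  [3, 3, 0, 4, 1, 3, 2], [1, 2, 0, 3, 2, 1], [1, 2, 0, 3, 3, 0, 0], [0, 4, 1, 2, 0, 4], [1, 3, 3, 0, 2], 
  [1, 3, 3, 1, 3, 3, 0, 2], [1, 3, 3, 1, 2], [1, 4, 2, 1, 1, 3], [3, 3, 0, 2, 1, 1], [3, 2, 0, 0, 0, 2], 
  [1, 2, 1, 1, 1, 3], [3, 2, 0, 0, 2, 0], [2, 0, 0, 3, 0], [0, 3, 2, 1, 1, 2, 0], [3, 3, 0, 4, 0, 2], 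
  [0, 4, 0, 0, 3, 2], [3, 0, 4, 1, 1, 2], [0, 4, 1, 1, 2], [0, 3, 1, 1, 1, 2], [1, 1, 2], [2, 1, 1, 3, 1, 2], 
  [1, 2, 0, 3, 2, 1, 4, 0], [2, 0, 4, 4, 2], [1, 3, 3, 1, 3, 2], [1, 2, 0, 3, 3, 2, 1], [2, 0, 0, 0, 4], 
  [1, 2, 1, 1, 1, 3, 3], [1, 4, 1, 3, 3, 0, 2], [3, 1, 2, 0, 3, 3, 0], [4, 2, 0, 0, 2, 1, 1], 
  [3, 2, 1, 4, 0, 2], [0, 2, 1, 1, 2], [3, 3, 1, 4, 0, 0, 2], [1, 4, 1, 3, 2, 1, 3], [0, 2, 1, 1, 2, 0], 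
  [2, 0, 0, 4, 4], [0, 4, 0, 4, 1, 1, 2], [2, 0, 0, 4, 2, 0], [4, 1, 1, 1, 4, 0, 2], [4, 4, 1, 3, 3, 2], 
  [2, 0, 4, 0, 4, 4, 0], [0, 4, 0, 3, 1, 3, 0, 2], [3, 2, 1, 1, 4, 1], [1, 1, 2, 0, 0, 2, 0, 0, 0], 
  [3, 2, 0, 4, 0, 0, 0, 0], [1, 4, 2, 0, 3, 3, 0], [3, 1, 1, 2, 1, 1, 1], [1, 1, 4, 2, 1, 1], 
  [0, 0, 0, 0, 3, 2], [4, 0, 4, 2], [2, 1, 4, 0, 4], [3, 1, 4, 0, 4, 2], [2, 0, 0, 0, 0, 3], [4, 2, 0, 3, 3], 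
  [0, 0, 2, 0, 0, 4, 4, 0], [3, 2, 1, 1, 4], [3, 1, 3, 1, 4, 2], [3, 1, 1, 1, 1, 1, 2], [3, 3, 2, 1, 1, 3], 
  [1, 2, 0, 4, 0], [1, 2, 0, 4, 0, 0, 0], [0, 3, 2, 1, 1, 1], [4, 2, 0, 0, 0, 0, 2], [2, 1, 4, 1, 1, 4, 0], 
  [2, 0, 4, 4, 2, 0, 4, 0], [2, 0, 0, 0, 3, 1, 4], [2, 1, 1, 2, 1, 1, 1], [4, 4, 2, 1, 1, 2, 1, 1], 
  [3, 0, 4, 0, 0, 3, 2], [4, 0, 2, 1, 4, 4, 0], [0, 4, 0, 3, 0, 2], [3, 3, 0, 0, 3, 1, 2], [0, 0, 2, 1, 3, 3], 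
  [4, 1, 3, 1, 4, 0, 2], [2, 0, 3, 2, 1], [1, 2, 0, 4, 0, 4, 1], [2, 0, 3, 3, 0, 0], [2, 1, 4, 0, 0, 2, 0], 
  [0, 3, 1, 2], [3, 3, 0, 2], [4, 4, 1, 3, 1, 4, 2], [1, 2, 0, 3, 3, 2, 0, 0], [2, 1, 4, 2], 
  [3, 3, 1, 3, 3, 0, 2], [3, 3, 1, 2], [4, 2, 1, 1, 3], [4, 0, 0, 4, 0, 2, 1, 1], [2, 0, 0, 0, 3, 0, 2], 
  [3, 3, 2, 0, 0, 2, 0], [1, 4, 2, 1, 1, 3, 0], [3, 2, 1, 4, 0, 2, 0], [1, 1, 2, 0, 4, 4, 2, 0], 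
  [2, 1, 1, 1, 3], [4, 2, 1, 4, 0, 3], [0, 4, 4, 2, 1, 1], [0, 2, 0, 0, 3, 0], [4, 0, 0, 2, 1, 3], 
  [2, 1, 1, 3, 0, 0], [0, 0, 4, 2], [0, 2, 0, 0, 4, 0, 2], [1, 3, 1, 1, 1, 1, 2], [0, 2, 1, 1, 3], 
  [4, 0, 3, 1, 3, 2], [3, 2, 1, 4, 4], [3, 2, 0, 4, 4, 1, 2], [4, 4, 1, 1, 4, 2], [2, 0, 0, 2, 1, 3, 3], 
  [1, 2], [4, 2, 0, 3, 2, 1], [0, 2, 0, 0, 0, 0, 2], [2, 0, 3, 3, 2, 1, 1], [4, 1, 3, 0, 2], 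
  [2, 0, 3, 2, 1, 4, 0], [2, 1, 3, 1, 3, 3, 2], [2, 1, 4, 4], [1, 1, 1, 1, 1, 2], [3, 3, 1, 3, 2], 
  [4, 2, 0, 3, 2], [2, 0, 3, 3, 2, 1], [4, 0, 0, 4, 2], [0, 2, 0, 0, 0, 4], [2, 0, 3, 3, 2], [1, 1, 2, 0, 4], 
  [2, 1, 1, 1, 3, 3], [1, 4, 2], [4, 1, 3, 3, 0, 2], [1, 3, 2, 1, 4, 0, 4, 0], [3, 0, 2, 1, 1, 1], 
  [3, 0, 2, 1, 1], [3, 3, 0, 0, 0, 2], [1, 2, 0, 3, 1, 2, 0], [1, 1, 4, 4, 0, 2], [4, 2, 0, 4, 2, 0, 4], 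
  [1, 4, 2, 1, 4, 4, 0, 0], [4, 2, 1, 1, 1, 3], [3, 1, 4, 1, 1, 2], [4, 2, 1, 4, 1, 1, 2], [0, 0, 2, 1, 1, 2], 
  [1, 2, 1, 1, 1, 3, 0], [3, 2, 1, 3, 1, 4, 0], [1, 1, 4, 2, 0, 0, 2, 0], [4, 1, 3, 2, 1, 3], 
  [0, 4, 1, 1, 4, 2], [4, 0, 3, 0, 0, 2], [1, 1, 3, 2, 1, 3], [0, 4, 4, 1, 1, 2], [2, 1, 1, 4, 1, 1], 
  [1, 2, 0, 3, 0, 3, 0], [4, 4, 0, 4, 4, 2], [4, 1, 2, 1, 1, 4], [1, 4, 1, 4, 0, 3, 2], [1, 1, 3, 0, 0, 2], 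
  [3, 0, 4, 0, 2, 1, 1], [0, 4, 4, 0, 2], [4, 0, 4, 0, 3, 0, 0, 2], [2, 0, 4, 0, 4, 2, 0], [1, 4, 4, 1, 3, 2], 
  [2, 1, 1, 2, 0, 0, 0], [1, 2, 1, 1, 1, 4, 4, 0], [3, 2, 1, 3, 3, 1, 3], [1, 3, 2, 1, 4, 0, 3], 
  [1, 3, 0, 4, 2], [4, 1, 3, 3, 2, 1, 3], [1, 2, 0, 0, 2, 0, 0, 0], [4, 2, 1, 4, 0, 4, 0], [2, 0, 0, 0, 2], 
  [4, 2, 0, 3, 3, 0], [2, 0, 0, 0, 0, 3, 2], [2, 0, 4, 1, 4, 2, 1], [1, 2, 0, 0, 4, 4, 1], [1, 4, 2, 1, 1], 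
  [0, 0, 0, 0, 0, 3, 2], [1, 1, 2, 1, 1, 4, 1], [2, 0, 0, 3, 1], [3, 1, 3, 1, 2], [0, 2, 1, 4, 0, 4], 
  [3, 2, 1, 1, 4, 4, 0], [4, 1, 2, 0, 3, 3, 1, 1], [4, 2, 1, 4, 0, 4], [1, 3, 3, 2, 0, 4, 0], 
  [4, 0, 2, 1, 1, 2], [1, 2, 1, 1, 1, 2, 0], [4, 0, 3, 0, 2, 1, 1], [0, 3, 2, 1, 1, 4], [0, 3, 1, 3, 1, 4, 2], 
  [1, 4, 0, 0, 2], [4, 2, 0, 3, 3, 0, 0], [1, 2, 0, 3, 3, 0], [0, 3, 3, 2, 1, 1, 3], [3, 0, 3, 1, 3, 0, 2], 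
  [1, 1, 3, 1, 2, 1, 1], [2, 1, 3, 0, 0, 3, 2], [2, 0, 4, 0], [1, 3, 3, 2, 0, 4], [2, 0, 4, 0, 0, 0], 
  [2, 0, 0, 3, 1, 1], [2, 0, 0, 4, 0, 4, 4], [4, 4, 2, 1, 4, 4, 0], [2, 1, 1, 1, 4, 0, 2], 
  [2, 1, 4, 4, 0, 4, 0], [2, 1, 1, 4, 0, 3, 2], [3, 0, 2, 1, 3], [2, 1, 3, 0, 2, 1, 1], [3, 2, 0, 3, 0, 3, 0], 
  [4, 4, 2, 1, 4, 4], [3, 0, 3, 2, 1, 1], [2, 0, 3, 1, 3, 2, 1, 1], [4, 0, 4, 1, 2, 1, 1], 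
  [3, 2, 1, 1, 2, 0, 4], [3, 1, 4, 0, 3, 1, 2], [2, 0, 4, 0, 3, 2, 0], [0, 0, 0, 3, 0, 2], 
  [1, 3, 2, 1, 3, 1, 3, 0], [1, 3, 1, 3, 2], [1, 4, 1, 3, 2, 1, 1], [2, 0, 3, 1, 1, 3, 2, 0], [0, 4, 2, 0, 4], 
  [0, 0, 0, 2, 1, 3, 3], [4, 2, 0, 0, 4, 0, 2], [4, 4, 1, 1, 1, 1, 2], [4, 1, 4, 0, 3, 1, 2], [2, 1, 3, 1], 
  [1, 4, 1, 1, 3, 2, 1, 1], [2, 0, 4, 0, 4, 1], [2, 1, 3, 3, 2, 0, 0], [4, 2, 1, 3, 0, 2, 0], [0, 0, 3, 1, 2], 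
  [4, 4, 1, 2, 1, 1, 1], [4, 4, 0, 0, 2, 1, 1], [0, 3, 3, 0, 2], [0, 4, 2, 0, 0, 2, 0], [2, 0, 3, 1, 3, 3, 0], 
  [0, 2, 1, 1, 3, 0], [2, 0, 3, 3, 2, 0, 0], [1, 2, 0, 4, 1, 1, 2, 1], [0, 2, 1, 4, 2], [3, 2, 1, 4, 0, 3, 0], 
  [3, 1, 2, 0, 4, 0, 2, 1], [0, 3, 3, 1, 2], [3, 1, 2, 1, 1, 3], [0, 4, 2, 1, 1, 3], [1, 1, 4, 4, 2, 1, 3], 
  [4, 0, 4, 0, 2, 1, 3], [4, 4, 0, 4, 4, 1, 2], [2, 1, 1, 2, 0, 3, 2], [4, 1, 3, 1, 3, 1, 2], 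
  [2, 1, 1, 3, 1, 2, 1], [0, 4, 1, 3, 1, 4, 2], [0, 3, 3, 2, 0, 0, 2, 0], [1, 3, 1, 4, 4, 0, 2], 
  [4, 2, 1, 1, 3, 0], [0, 3, 2, 1, 3], [4, 0, 0, 0, 3, 3, 2], [1, 2, 0, 3, 0, 3, 1], [3, 1, 4, 0, 2], 
  [1, 2, 0, 4, 4, 2, 0], [3, 2, 1, 3, 3], [3, 0, 4, 0, 3, 2], [0, 4, 2, 1, 4, 0, 3], [3, 0, 0, 3, 2], 
  [4, 0, 4, 0, 2], [2, 0, 3, 2, 0, 0, 0], [2, 0, 4, 4, 1, 2, 0], [0, 0, 4, 2, 1, 3, 1], [1, 2, 0, 0, 3, 2, 0], 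
  [1, 1, 3, 2, 1, 1], [4, 0, 0, 4, 0, 3, 2], [0, 2, 1, 1, 3, 0, 0], [0, 0, 4, 2, 1, 4, 4], [0, 0, 0, 4, 2], 
  [3, 0, 0, 3, 3, 2], [1, 1, 2, 1, 1], [1, 1, 4, 2, 1, 3], [3, 1, 1, 1, 1, 2], [0, 0, 2, 1, 1, 3], 
  [1, 2, 0, 4, 1, 4, 0], [0, 3, 2, 1, 4, 4], [2, 0, 4, 1, 3, 2], [1, 2, 0, 4, 0, 0, 3], [0, 4, 4, 1, 1, 4, 2], 
  [2, 0, 4, 4, 0, 2], [1, 3, 1, 1, 1, 4, 2], [1, 3, 1, 2, 0, 4], [2], [0, 4, 2, 0, 3, 2, 1], 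
  [2, 0, 4, 2, 0, 3], [1, 2, 0, 0, 2, 1], [0, 4, 1, 3, 1, 2], [3, 1, 1, 2, 0, 4], [2, 1, 3, 3, 1, 1], 
  [4, 1, 1, 4, 0, 3, 2], [4, 4, 0, 3, 0, 0, 2], [1, 2, 0, 0, 2, 0], [4, 4, 0, 4, 0, 3, 2], [0, 4, 1, 3, 0, 2], 
  [0, 3, 1, 3, 0, 2], [2, 1, 3, 1, 4, 0], [0, 0, 0, 4, 1, 3, 2], [1, 4, 1, 2, 0, 4], [0, 3, 0, 0, 2], 
  [3, 3, 1, 3, 0, 2], [0, 2, 1, 4, 4], [1, 4, 2, 1, 4, 2, 0], [1, 1, 1, 1, 2], [1, 2, 0, 3, 3, 1, 1], 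
  [1, 3, 0, 0, 3, 1, 2], [0, 3, 3, 1, 3, 2], [3, 0, 4, 4, 1, 2], [2, 0, 0, 2, 0, 0], [3, 2, 1, 1, 2], 
  [2, 1, 3, 3, 1], [0, 0, 3, 2], [2, 0, 0, 4, 4, 0], [1, 3, 2, 1, 1, 1], [3, 0, 4, 4, 0, 2], 
  [2, 1, 1, 2, 0, 4], [2, 1, 3, 3], [1, 3, 1, 2], [1, 2, 0, 4], [1, 4, 1, 1, 1, 4, 2], [0, 0, 0, 0, 2, 1, 1], 
  [1, 4, 4, 2, 1, 1], [4, 2], [1, 2, 1, 1, 3], [2, 0, 4, 1, 4, 0, 0], [4, 0, 3, 3, 2, 1, 1], 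
  [3, 0, 2, 0, 0, 0, 0, 2], [3, 2, 1, 4, 0, 4, 0], [2, 0, 4, 4, 2, 0, 4], [0, 2, 1, 3, 0, 3, 3], 
  [1, 1, 1, 4, 2], [0, 3, 0, 2, 1, 1], [3, 3, 1, 4, 2], [4, 1, 4, 4, 1, 3, 2], [1, 2, 0, 4, 0, 2, 1], 
  [1, 4, 1, 1, 4, 2], [4, 4, 0, 2, 1, 3], [2, 0, 3, 1, 2, 0], [1, 2, 0, 0, 3, 0, 4], [1, 4, 4, 0, 2], 
  [1, 3, 3, 2, 1, 3], [3, 2, 1, 1, 1, 4], [1, 3, 0, 4, 0, 0, 2], [4, 2, 1, 4, 4, 0, 0], [4, 4, 0, 4, 0, 2], 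
  [1, 1, 1, 4, 0, 0, 2], [1, 3, 0, 3, 3, 0, 2], [1, 2, 1, 1, 1, 4, 1], [2, 1, 1, 3, 1, 3], 
  [1, 1, 3, 0, 2, 1, 3], [2, 0, 3, 1, 4], [2, 1, 1, 1, 3, 0], [0, 3, 0, 2], [3, 0, 3, 1, 1, 2], 
  [1, 4, 2, 0, 4], [0, 3, 0, 4, 1, 3, 2], [0, 3, 2, 1, 3, 0, 0], [1, 4, 2, 0, 0, 2, 0], [1, 2, 1, 1, 3, 0], 
  [0, 0, 4, 1, 1, 4, 2], [0, 4, 0, 3, 0, 0, 2], [0, 4, 4, 0, 0, 2], [1, 3, 2, 1, 3], [2, 1, 4, 0, 0, 2], 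
  [0, 0, 4, 4, 1, 1, 2], [1, 1, 4, 0, 4, 0, 2], [4, 2, 1, 3, 1], [2, 0, 3, 0, 3, 0], [4, 0, 3, 2, 1, 3], 
  [1, 1, 1, 1, 2, 1, 1], [0, 4, 1, 2, 1, 1, 4], [0, 0, 3, 0, 4, 2], [4, 4, 0, 2, 1, 1], [4, 1, 4, 0, 3, 2], 
  [0, 0, 4, 2, 1, 4, 4, 0], [1, 3, 0, 0, 2], [4, 4, 0, 0, 3, 2, 1, 1], [3, 1, 2, 0, 3, 3, 0, 0], 
  [1, 1, 3, 2, 1, 1, 2], [0, 0, 4, 4, 0, 2], [2, 1, 1, 3, 0, 3, 2, 0], [3, 1, 1, 3, 1, 2], 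
  [3, 0, 2, 1, 4, 0, 4], [0, 4, 2, 0, 0, 4, 2], [4, 4, 1, 3, 2], [4, 4, 2, 0, 0, 0, 2], [0, 4, 2, 1, 1, 2], 
  [2, 0, 0, 0, 4, 0], [2, 1, 1, 1, 4, 4, 0], [1, 3, 0, 2], [1, 3, 2, 1, 3, 0, 0], [2, 0, 0, 4, 2], 
  [3, 2, 1, 4, 0, 3], [3, 0, 4, 2], [4, 1, 2, 0, 0, 3, 2], [4, 4, 0, 0, 0, 2], [3, 2, 0, 4, 1, 1, 2], 
  [1, 4, 1, 2], [2, 0, 0, 2, 0, 0, 0], [3, 1, 3, 0, 4, 2], [0, 4, 0, 2, 1, 1, 3], [1, 2, 1, 1, 4], 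
  [3, 1, 1, 2], [0, 0, 4, 4, 1, 2], [3, 3, 0, 0, 2], [4, 0, 0, 0, 0, 2], [0, 2, 1, 4, 4, 1, 3], 
  [2, 0, 3, 3, 0, 0, 0], [2, 1, 3, 1, 3, 1, 2], [2, 1, 4, 0, 4, 0, 0], [2, 0, 0, 4, 4, 1], [4, 2, 1, 4, 0, 2], 
  [4, 2, 1, 1], [2, 0, 4, 0, 2], [2, 1, 4, 0, 0, 3], [4, 1, 1, 3, 1, 2], [1, 2, 1, 1, 4, 1], 
  [0, 2, 0, 0, 3, 1], [4, 0, 2, 1, 4, 4, 1, 1], [2, 1, 4, 1, 1, 2], [3, 1, 1, 2, 0, 0, 2, 1], 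
  [0, 3, 1, 3, 1, 2], [4, 4, 2, 1, 1, 4], [4, 2, 1, 4, 4, 1, 1], [4, 1, 4, 0, 2, 1, 1], [4, 2, 1, 4, 4, 1, 3], 
  [1, 2, 0, 0, 3, 3, 0], [1, 4, 2, 1, 1, 2, 0], [3, 2, 1, 1, 3, 0, 3], [4, 4, 1, 1, 1, 1, 1, 2], 
  [3, 3, 1, 3, 1, 2], [3, 3, 2, 0, 4, 0], [2, 0, 3, 2], [0, 4, 0, 2, 1, 1, 2], [2, 1, 1, 1, 2, 0], 
  [0, 2, 1, 1, 3, 0, 3], [4, 0, 4, 0, 3, 3, 2], [4, 4, 2, 0, 0, 3, 1], [0, 4, 4, 2], [2, 0, 3, 2, 0, 3], 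
  [1, 2, 1, 1, 1], [4, 0, 0, 2], [0, 4, 0, 0, 4, 0, 2], [1, 1, 4, 4, 0, 3, 2], [3, 0, 0, 4, 0, 2], 
  [2, 0, 3, 3, 0], [2, 0, 3, 1, 4, 0, 0], [3, 1, 3, 2, 1, 1, 2], [0, 4, 1, 3, 0, 0, 2], [0, 4, 4, 2, 1, 3, 1], 
  [1, 3, 1, 2, 1, 1], [1, 2, 0, 4, 0, 3, 3, 0], [0, 2, 1, 1, 4, 1], [2, 1, 4, 2, 0], [1, 3, 2, 1, 1, 1, 2, 0], 
  [3, 1, 1, 3, 3, 0, 2], [0, 3, 1, 2, 1, 1, 1], [3, 3, 2, 0, 4], [2, 1, 1, 1, 4, 0], [0, 2, 0, 0, 3, 1, 1], 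
  [1, 4, 0, 2], [1, 3, 0, 3, 3, 1, 2], [4, 0, 3, 0, 0, 3, 2], [3, 3, 2, 1, 1, 2], [3, 0, 0, 2, 1, 4, 2], 
  [2, 0, 3, 0, 4, 4], [4, 0, 3, 3, 1, 2], [4, 1, 3, 1, 2, 0, 4], [4, 0, 0, 2, 1, 4, 2], [3, 3, 2, 1, 4, 2], 
  [0, 3, 0, 2, 1, 3], [1, 1, 3, 3, 1, 3, 3, 2], [0, 3, 3, 1, 1, 2], [2, 1, 3, 1, 2, 0, 4], 
  [1, 2, 0, 3, 3, 0, 4], [0, 3, 0, 4, 4, 2], [2, 0, 0, 4, 2, 1], [3, 2, 1, 4, 4, 0, 0], [3, 3, 1, 1, 2, 0, 4], 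
  [2, 0, 4, 0, 0, 4], [4, 1, 2, 1, 1, 1, 2, 0], [1, 3, 1, 1, 4, 2], [1, 2, 0, 0, 3, 2, 1], 
  [3, 2, 0, 0, 4, 2, 1], [1, 2, 0, 0, 4, 0, 4, 1], [4, 0, 3, 1, 3, 3, 2], [4, 0, 3, 1, 4, 0, 2], 
  [2, 0, 3, 2, 1, 3], [1, 1, 4, 4, 1, 1, 2], [3, 2, 0, 3, 1, 2, 0], [4, 2, 0, 3, 3, 2], 
  [3, 2, 0, 4, 1, 4, 0, 0], [3, 0, 4, 2, 1, 3], [2, 0, 3, 0, 4, 4, 1], [4, 1, 1, 2, 1, 1], 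
  [3, 2, 1, 3, 1, 3, 0], [3, 1, 3, 2], [0, 4, 2, 1, 1, 2, 0], [4, 1, 3, 2, 1, 1], [4, 4, 1, 3, 2, 1, 1], 
  [3, 0, 4, 2, 0, 0, 3, 1], [3, 3, 0, 4, 2, 1, 3], [0, 0, 4, 2, 0, 4], [3, 0, 2, 1, 4, 4], [1, 4, 2, 1, 4, 4], 
  [2, 0, 3, 2, 1, 3, 0], [1, 1, 4, 1, 3, 1, 2], [4, 2, 0, 0, 3, 2, 0], [1, 3, 3, 2, 1, 3, 1], 
  [4, 4, 1, 4, 0, 2], [1, 3, 2], [1, 1, 1, 1, 3, 1, 2], [4, 1, 1, 3, 2, 1, 1], [0, 2, 1, 3], 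
  [2, 1, 4, 4, 0, 0], [4, 4, 1, 1, 2, 0, 4], [2, 0, 3, 1, 2], [1, 4, 0, 3, 0, 4, 2], [1, 4, 2, 1, 4, 4, 0], 
  [2, 1, 1, 4, 1, 3, 1], [3, 1, 2, 0, 0, 2, 0], [0, 0, 0, 3, 1, 2], [1, 4, 4, 1, 2], [2, 0, 4, 0, 0, 4, 0], 
  [1, 4, 2, 0, 3, 0, 2, 0], [4, 1, 1, 2, 0, 4], [4, 1, 4, 2, 1, 1], [0, 0, 3, 3, 0, 2], [4, 1, 4, 4, 2, 1, 3], 
  [4, 0, 0, 3, 1, 2], [4, 1, 2, 1, 1], [1, 1, 3, 3, 1, 1, 2], [2, 1, 3, 3, 0, 0], [2, 0, 4, 1, 1, 2, 1], 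
  [4, 0, 2, 1, 1, 3, 0], [4, 0, 2, 1, 3], [0, 0, 2, 1, 4, 2], [0, 3, 3, 2, 1, 1], [2, 0, 4, 4, 1, 4], 
  [1, 3, 0, 2, 1, 1, 2], [3, 2, 0, 4, 2, 0, 3], [4, 1, 4, 0, 2], [0, 0, 3, 3, 1, 2], [0, 2, 1, 1, 1], 
  [2, 0, 3, 0, 4, 0, 0], [4, 2, 0, 3, 0, 3, 1], [1, 4, 4, 2, 1, 3], [0, 0, 4, 0, 0, 2], [4, 0, 0, 0, 0, 0, 2], 
  [1, 3, 1, 4, 2, 1, 3], [4, 1, 1, 4, 0, 2], [3, 1, 3, 2, 1, 3], [4, 4, 0, 0, 4, 0, 2], [1, 1, 3, 2, 1, 4, 2], 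
  [4, 4, 0, 3, 2], [4, 0, 3, 2, 0, 3, 3], [2, 1, 1, 1, 1, 4, 1], [1, 4, 2, 0, 4, 0], [3, 0, 0, 3, 3, 0, 2], 
  [2, 0, 3, 2, 0, 3, 0], [0, 2, 1, 3, 3, 2, 0], [3, 2, 1, 3, 0, 3, 0], [3, 1, 4, 4, 0, 2], 
  [0, 3, 1, 2, 1, 1, 4], [4, 1, 1, 3, 3, 2], [3, 0, 3, 1, 3, 2], [0, 0, 3, 2, 1, 3], [4, 1, 1, 1, 2, 0, 3, 2], 
  [4, 0, 3, 3, 2], [2, 0, 3, 0, 3, 1], [0, 3, 0, 0, 0, 0, 2], [1, 4, 1, 3, 0, 4, 2], [0, 3, 1, 4, 0, 2], 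
  [3, 0, 3, 0, 2], [2, 0, 4, 4, 2, 0], [4, 0, 4, 0, 3, 2], [0, 3, 1, 2, 1, 1], [1, 3, 2, 1, 4, 4, 1, 1], 
  [0, 3, 2, 1, 3, 3], [3, 2, 0, 3, 1, 2], [4, 2, 1, 4, 1, 4, 1], [3, 1, 4, 4, 1, 1, 2], 
  [2, 1, 4, 2, 0, 3, 3, 0], [0, 3, 0, 0, 3, 2], [3, 2, 1, 4, 4, 0], [0, 4, 4, 2, 0, 4], [2, 1, 3, 0, 0, 0], 
  [3, 1, 3, 2, 1, 1, 1], [4, 0, 3, 2, 1, 1], [4, 2, 1, 1, 3, 0, 3], [2, 0, 0, 3, 2, 0], [1, 3, 2, 1, 1], 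
  [4, 0, 4, 0, 2, 1, 1], [2, 1, 1, 1, 1, 4], [1, 3, 3, 2], [4, 4, 2, 1, 1, 2, 0], [4, 2, 1, 3, 3, 1, 3], 
  [0, 0, 0, 0, 4, 2], [2, 1, 4, 0, 4, 2], [0, 3, 0, 0, 3, 3, 2], [1, 4, 2, 1, 1, 4], [1, 2, 1, 1], 
  [0, 0, 4, 4, 2, 1, 3], [1, 4, 2, 1, 3], [0, 3, 1, 1, 1, 1, 2], [4, 4, 2, 1, 1, 2], [3, 0, 3, 0, 2, 1, 1], 
  [2, 0, 4, 1, 4, 0], [0, 3, 1, 3, 3, 2], [2, 0, 4, 0, 4, 0, 0], [3, 1, 4, 4, 1, 2], [2, 0, 3, 2, 0, 0], 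
  [2, 0, 4, 0, 0, 3], [1, 1, 4, 0, 3, 2], [2, 1, 3, 1, 2, 0, 3], [2, 0, 0, 4, 0, 3], [3, 1, 1, 1, 4, 2], 
  [3, 1, 2, 0, 4], [0, 2], [3, 0, 3, 0, 0, 0, 2], [4, 0, 3, 1, 2], [1, 3, 0, 4, 0, 2], [2, 1, 1, 3, 0, 4], 
  [2, 1, 4, 0, 3], [4, 1, 2, 1, 1, 1], [0, 4, 0, 2], [3, 0, 4, 4, 2, 1, 3], [2, 0, 0, 2, 1], 
  [3, 1, 1, 3, 2, 1, 1], [1, 3, 1, 4, 0, 0, 2], [1, 3, 1, 4, 2], [3, 3, 1, 2, 1, 1], [4, 1, 4, 2, 0, 4], 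
  [3, 3, 0, 2, 1, 3], [1, 1, 1, 3, 3, 0, 2], [4, 4, 2, 1, 1, 3], [1, 4, 0, 4, 4, 2], [1, 4, 0, 0, 3, 2], 
  [2, 0, 4, 4, 1, 1, 2], [2, 0, 0, 2, 0], [4, 1, 1, 3, 3, 0, 2], [4, 2, 1, 4, 1, 4, 4], 
  [4, 1, 4, 2, 1, 1, 2, 0], [1, 1, 4, 0, 4, 2], [0, 0, 3, 1, 3, 0, 2], [4, 1, 2, 1, 1, 3], 
  [1, 1, 1, 2, 0, 4, 0], [0, 0, 0, 3, 2, 1, 1], [4, 1, 4, 0, 4, 2], [3, 3, 2, 1, 1, 4], [3, 2, 0, 4, 4, 0, 2], 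
  [3, 2, 1, 3, 3, 2], [4, 1, 2, 0, 4], [3, 1, 4, 0, 2, 1, 3], [2, 1, 4, 0, 2, 0], [2, 0, 4, 1, 4, 2, 0], 
  [1, 3, 2, 0, 0, 0, 2], [4, 1, 1, 1, 1, 2], [4, 4, 0, 0, 0, 0, 2], [4, 2, 1, 4, 2, 0], [4, 1, 1, 2], 
  [1, 1, 1, 2], [1, 2, 1, 1, 3, 1, 2], [2, 0, 4, 0, 4, 1, 1, 2], [2, 0, 3, 3, 1, 1], [3, 1, 1, 4, 0, 2], 
  [3, 3, 1, 3, 3, 2], [3, 0, 0, 3, 1, 2], [2, 0, 0, 4, 1, 3, 2], [2, 1, 4, 1, 3, 0], [0, 3, 0, 4, 4, 1, 2], 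
  [4, 0, 0, 4, 4, 1, 2], [2, 1, 1, 2, 0], [4, 0, 4, 1, 1, 2], [0, 0, 4, 2, 0, 4, 0], [2, 1, 1, 1, 4], 
  [4, 0, 3, 1, 3, 0, 2], [4, 0, 4, 1, 3, 0, 0, 2], [0, 2, 1, 3, 3, 1], [4, 1, 1, 3, 3, 1, 2], [0, 0, 0, 3, 2], 
  [4, 2, 1, 1, 2, 1, 1], [0, 2, 0, 0, 4, 4, 0], [1, 3, 1, 3, 1, 4, 2], [3, 1, 4, 0, 0, 4, 2], [3, 2, 1, 1, 1], 
  [4, 2, 1, 1, 1, 2, 0], [4, 0, 4, 2, 1, 1, 2], [2, 0, 0, 2, 1, 1], [0, 4, 4, 2, 0, 3, 3, 0], 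
  [0, 2, 1, 1, 2, 0, 4], [4, 0, 3, 0, 2], [0, 2, 1, 3, 3], [0, 0, 0, 3, 3, 2], [3, 1, 2], 
  [4, 0, 2, 1, 1, 2, 0], [0, 0, 4, 2, 0, 0, 3, 1], [2, 0, 4], [4, 1, 2, 0, 0, 2, 1], [4, 1, 1, 1, 4, 2], 
  [3, 3, 1, 3, 1, 4, 2], [2, 0, 4, 1, 4, 4, 0, 0], [4, 4, 2, 1, 1], [0, 4, 2], [2, 0, 0, 4, 0, 2], 
  [2, 1, 1, 3], [3, 1, 4, 0, 4, 0, 2], [0, 4, 0, 3, 3, 2, 1, 1], [2, 0, 0, 0, 0, 2], [4, 1, 3, 0, 2, 1, 3], 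
  [1, 4, 1, 3, 0, 2], [0, 2, 0, 0, 3, 2, 1], [2, 1, 4, 4, 0, 4], [3, 1, 1, 2, 1, 1], [1, 4, 0, 0, 4, 2], 
  [1, 2, 0, 3, 3, 2], [1, 1, 1, 2, 0, 4], [1, 1, 4, 2], [3, 2, 0, 0, 0, 3, 0, 2], [3, 2, 1, 3, 1], 
  [1, 3, 0, 2, 1, 1], [4, 0, 0, 0, 3, 2], [4, 4, 0, 0, 3, 3, 2], [2, 0, 4, 0, 0, 3, 2, 1], 
  [1, 3, 1, 4, 1, 1, 2], [4, 1, 4, 1, 1, 2], [2, 0, 4, 0, 2, 1], [0, 2, 1, 4, 4, 1, 2], [4, 1, 1, 4, 2], 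
  [1, 4, 0, 3, 0, 0, 2], [4, 4, 1, 1, 2], [2, 0, 3, 0, 3, 3], [3, 3, 0, 0, 3, 3, 2], [2, 0, 0, 3, 0, 4], 
  [3, 0, 0, 0, 3, 0, 2], [4, 4, 0, 2], [3, 3, 2, 1, 3], [4, 1, 1, 2, 0, 3, 2], [3, 2, 0, 4, 0, 3, 0, 2], 
  [3, 0, 0, 2, 1, 3, 3], [1, 2, 0, 0, 0, 2], [3, 1, 4, 0, 3, 3, 2], [4, 0, 3, 0, 0, 0, 2], [3, 0, 4, 0, 0, 2], 
  [1, 3, 1, 3, 1, 2], [0, 4, 2, 1, 4, 4, 0, 0], [2, 1, 4, 2, 0, 3, 3], [0, 4, 4, 0, 4, 0, 2], 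
  [1, 1, 4, 0, 0, 2], [3, 0, 3, 3, 0, 2], [2, 0, 4, 0, 2, 1, 1], [2, 1, 1, 1, 4, 1], [3, 0, 2, 1, 1, 2, 0], 
  [1, 1, 3, 3, 2, 0, 4], [3, 2, 0, 4, 1, 3, 2], [3, 2, 1, 4, 0, 4], [1, 3, 0, 2, 1, 3], [0, 0, 3, 1, 3, 2], 
  [2, 1, 3, 2, 1, 4], [0, 0, 0, 4, 0, 3, 3, 2], [0, 2, 1, 1, 1, 3, 0], [4, 0, 4, 0, 2, 1, 1, 1], 
  [0, 0, 3, 0, 2], [0, 3, 0, 3, 1, 1, 2], [4, 2, 0, 4], [0, 4, 0, 2, 1, 4, 2], [4, 4, 2, 0, 0, 2, 0], 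
  [2, 0, 3, 0, 4, 4, 2], [4, 4, 2, 1, 1, 4, 1], [4, 4, 0, 3, 0, 2], [4, 2, 0, 0, 2, 0], [2, 1, 1, 3, 0], 
  [0, 0, 3, 0, 0, 0, 2], [1, 3, 1, 2, 0, 4, 0, 2, 1], [1, 3, 1, 2, 1, 1, 3], [3, 2, 0, 4, 0, 2, 1, 1], 
  [3, 0, 0, 0, 4, 2], [4, 1, 3, 0, 4, 4, 2], [4, 0, 2, 1, 3, 3, 1], [4, 1, 3, 1, 4, 2], 
  [1, 1, 3, 1, 4, 4, 0, 2], [3, 2, 1, 3], [4, 0, 0, 3, 3, 2], [1, 3, 1, 4, 0, 2], [1, 3, 0, 4, 0, 3, 2], 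
  [1, 3, 0, 0, 3, 2], [1, 4, 0, 4, 0, 2], [0, 4, 2, 1, 3, 1], [1, 1, 2, 0, 0, 3, 2, 0], [2, 1, 3, 2, 0, 3, 0], 
  [0, 4, 2, 1, 4, 4], [3, 0, 2, 1, 4, 2], [1, 1, 1, 2, 1, 1], [4, 0, 0, 2, 1, 1], [3, 2, 0, 0, 4, 4], 
  [4, 0, 4, 2, 1, 3, 1], [1, 1, 2, 0, 0, 2, 1], [4, 1, 3, 1, 2], [0, 4, 4, 0, 2, 1, 1], 
  [4, 1, 4, 2, 1, 1, 3, 0], [2, 0, 4, 1, 1, 4, 1], [1, 1, 2, 0, 0, 2, 0], [2, 1, 4, 1, 3, 0, 0, 0], 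
  [3, 1, 3, 0, 2], [0, 0, 4, 1, 3, 2], [3, 0, 0, 2], [3, 2, 1, 3, 1, 2], [3, 1, 3, 0, 0, 0, 2], 
  [4, 2, 0, 4, 4, 2], [0, 0, 2, 1, 4, 4, 0], [4, 2, 1, 3, 1, 4, 0], [1, 3, 2, 1, 1, 2], [0, 3, 2], 
  [1, 3, 0, 4, 4, 0, 2], [2, 1, 3, 0, 3, 3, 1], [1, 1, 3, 1, 2], [4, 2, 0, 4, 1, 4, 0, 0], [0, 0, 0, 2, 1, 1], 
  [1, 1, 2, 1, 1, 3], [4, 0, 0, 0, 0, 3, 2], [0, 4, 0, 4, 4, 1, 2], [4, 2, 0, 0, 0, 4, 0], [2, 1, 3, 0, 3, 3], 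
  [0, 4, 4, 1, 3, 2], [2, 1, 4, 0, 2, 1, 1], [4, 2, 1, 1, 1, 3, 0], [0, 0, 0, 2, 1, 3], [3, 2, 1, 4, 0, 4, 2], 
  [2, 0, 0, 0, 3, 1, 1], [2, 1, 4, 4, 0, 3], [3, 0, 2, 1, 3, 0, 0], [2, 0, 4, 4, 0, 4], 
  [1, 1, 1, 3, 0, 2, 1, 3], [3, 0, 2], [2, 1, 4, 0, 2], [3, 0, 4, 1, 3, 2], [3, 2, 1, 3, 0, 0], 
  [4, 4, 0, 0, 2], [4, 2, 0, 4, 1, 3, 0], [4, 2, 0, 4, 4, 1, 2], [4, 0, 3, 2, 1, 1, 1], [0, 3, 0, 4, 2], 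
  [2, 1, 4, 0, 0, 0, 0], [0, 4, 2, 1, 4, 4, 0], [2, 0, 3, 3, 1, 3, 1], [2, 0, 3, 0, 0, 0, 2], 
  [4, 4, 2, 1, 4, 0, 2], [4, 2, 0, 0, 4, 2], [2, 1, 4, 1, 4, 2, 0], [4, 2, 1, 1, 2], [4, 1, 2], 
  [2, 1, 1, 2, 0, 0], [3, 2, 0, 3, 2, 0, 0], [3, 3, 1, 4, 4, 0, 2], [1, 1, 4, 1, 2], [4, 0, 2, 1, 1, 3], 
  [2, 1, 1, 4], [0, 4, 4, 1, 2], [0, 3, 1, 1, 2], [2, 1, 4, 4, 1, 3], [3, 1, 4, 2, 0, 4, 0], [2, 0, 0, 3, 3], 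
  [1, 2, 0, 4, 0, 2], [4, 1, 3, 3, 1, 2], [3, 3, 1, 3, 2, 1, 1, 2], [2, 0, 4, 2, 1, 1, 2], 
  [4, 0, 4, 1, 3, 0, 2], [2, 0, 4, 1, 1, 2], [2, 0, 4, 0, 0, 3, 1], [4, 1, 2, 1, 1, 1, 3], 
  [4, 2, 0, 3, 3, 1, 4], [0, 2, 0, 0, 4, 4, 1], [1, 2, 0, 3, 2], [2, 1, 1, 3, 0, 3], [4, 4, 2], 
  [1, 1, 2, 1, 1, 1], [4, 0, 0, 4, 0, 2], [2, 1, 4, 1, 2, 1], [4, 1, 3, 0, 0, 2], [4, 4, 2, 1, 3, 1], 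
  [2, 1, 1, 4, 1], [3, 0, 0, 4, 4, 1, 2], [0, 0, 2, 0, 0, 3, 1], [3, 1, 2, 1, 1, 1], [1, 1, 4, 0, 2], 
  [3, 2, 1, 4, 0, 4, 0, 0], [3, 1, 4, 0, 0, 0, 2], [0, 0, 4, 1, 2, 1, 1], [4, 1, 1, 1, 2, 1, 1], 
  [3, 2, 1, 3, 1, 2, 0, 3], [3, 3, 1, 1, 2], [3, 2, 0, 3, 0, 3, 1], [3, 0, 4, 4, 2], [0, 0, 2, 1, 3, 3, 0, 0], 
  [1, 4, 1, 2, 1, 1, 1, 2, 0], [3, 2, 1, 4, 1, 4, 1], [3, 3, 0, 3, 0, 2], [0, 4, 2, 1, 4, 4, 1, 1], 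
  [3, 1, 4, 2, 1, 1, 4], [1, 2, 0, 3, 2, 1, 3], [1, 4, 2, 0, 3, 3, 2], [2, 0, 0, 3, 3, 0], 
  [0, 3, 1, 2, 0, 4, 0], [4, 2, 1, 1, 2, 0], [4, 4, 0, 3, 0, 4, 2], [3, 3, 2, 1, 4, 0, 0, 3], 
  [0, 0, 4, 0, 2, 1, 3], [4, 1, 3, 3, 1, 1, 2], [1, 4, 4, 1, 4, 0, 2], [2, 0, 4, 1, 1, 3], [2, 1, 3], 
  [0, 4, 2, 0, 0, 3, 3, 0], [1, 2, 0, 3, 1, 2], [3, 0, 2, 1, 3, 3, 2, 0], [0, 2, 1, 1, 1, 2, 0], 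
  [1, 1, 4, 4, 1, 2], [2, 0, 3, 1, 1, 1, 1], [4, 4, 2, 1, 4, 2, 0], [4, 0, 0, 3, 2, 1, 1], 
  [3, 2, 1, 3, 0, 0, 0], [1, 4, 0, 2, 1, 3], [3, 3, 2, 1, 1], [0, 2, 1, 3, 1, 2], [2, 1, 3, 0, 3], 
  [2, 1, 1, 1], [0, 4, 0, 0, 2], [3, 2, 1, 4, 1, 1, 2], [2, 1, 4, 1, 3, 0, 0], [2, 1, 3, 0, 4, 0, 2], 
  [1, 4, 4, 0, 3, 2], [0, 3, 0, 0, 4, 0, 2], [2, 1, 3, 3, 2], [2, 1, 3, 3, 2, 0], [3, 1, 2, 1, 1, 4], 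
  [1, 4, 1, 1, 3, 3, 2], [1, 4, 0, 3, 3, 2], [3, 0, 0, 0, 0, 2], [3, 2, 1, 3, 0, 2, 0], [1, 3, 0, 3, 0, 2], 
  [4, 0, 4, 1, 3, 2], [3, 1, 2, 1, 1], [0, 0, 2, 0, 0, 0, 2, 1], [2, 0, 4, 0, 3, 0, 2], [2, 0, 4, 0, 3, 3, 0], 
  [4, 4, 2, 0, 4], [4, 1, 1, 1, 2], [3, 2, 1, 1, 1, 2, 0], [1, 1, 3, 3, 2], [2, 0, 3, 3, 1, 1, 1], 
  [1, 1, 4, 2, 1, 1, 4], [0, 4, 4, 2, 1, 3], [3, 0, 0, 2, 1, 1], [3, 1, 3, 3, 2], [2, 1, 3, 0, 3, 1], 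
  [0, 2, 1, 1, 1, 4, 0], [2, 1, 3, 0, 0, 0, 0], [1, 4, 0, 3, 1, 2], [3, 3, 1, 4, 0, 2], [3, 1, 1, 3, 3, 2], 
  [4, 0, 2], [0, 4, 2, 0, 0, 0, 2], [3, 0, 3, 3, 1, 2], [1, 4, 1, 4, 2, 0, 4], [0, 4, 0, 2, 1, 1, 1], 
  [2, 1, 1, 3, 1, 1, 3], [1, 1, 4, 0, 4, 4, 2], [0, 3, 3, 2, 1, 1, 2], [3, 2, 0, 0, 0, 0, 3], 
  [4, 2, 0, 3, 2, 1, 3], [2, 1, 4, 0, 3, 0], [0, 0, 3, 2, 1, 1], [1, 4, 1, 4, 0, 4, 2], [3, 3, 1, 1, 1, 1, 2], 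
  [3, 2, 1, 4, 2], [2, 0, 0, 3, 3, 2, 0, 0], [3, 0, 2, 1, 1, 1, 2, 0], [0, 3, 3, 2, 1, 4, 2], [1, 4, 1, 1, 2], 
  [4, 1, 4, 4, 1, 2], [0, 0, 3, 0, 2, 1, 3], [3, 0, 2, 1, 1, 3], [1, 3, 3, 1, 3, 3, 2], [3, 0, 0, 3, 1, 3, 2], 
  [2, 0, 4, 1, 1, 2, 0], [4, 0, 3, 1, 2, 1, 1], [0, 4, 2, 0, 4, 0], [3, 0, 2, 0, 0, 3, 0], 
  [3, 0, 0, 4, 2, 1, 3, 1], [2, 0, 3, 3, 0, 4], [0, 0, 3, 0, 4, 4, 2], [3, 3, 0, 0, 2, 1, 1], 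
  [0, 2, 0, 0, 4, 2, 1], [3, 0, 2, 1, 1, 3, 0, 0], [4, 1, 3, 3, 2], [4, 4, 2, 0, 3, 3, 0], [3, 0, 3, 1, 2], 
  [0, 0, 3, 3, 2], [2, 1, 1, 1, 4, 2, 0], [0, 4, 2, 0, 0, 3, 1], [4, 4, 0, 0, 3, 1, 2], [3, 3, 0, 3, 2, 1, 1], 
  [3, 1, 1, 4, 2], [0, 0, 4, 0, 2, 1, 1], [2, 0, 0, 3, 2, 1], [1, 3, 1, 1, 2, 1, 1], [1, 1, 4, 0, 0, 4, 2], 
  [2, 0, 0, 4, 0, 4, 1], [0, 0, 3, 1, 4, 4, 0, 2], [1, 1, 3, 0, 2, 1, 1], [4, 4, 0, 0, 0, 3, 3, 2], 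
  [3, 3, 2, 1, 4, 4], [2, 1, 3, 1, 3], [2, 1, 4, 4, 1, 2], [1, 4, 4, 1, 1, 2], [2, 1, 3, 0, 4, 2, 0], 
  [0, 4, 0, 4, 2, 0, 4], [2, 0, 4, 1, 4, 4, 0], [3, 3, 1, 4, 0, 4, 2], [3, 2, 0, 0, 0, 0, 2], 
  [1, 1, 2, 0, 0, 0, 2], [2, 1, 4, 2, 1, 1, 3, 0], [1, 1, 3, 1, 3, 1, 2], [2, 0, 4, 0, 3, 3], 
  [4, 0, 4, 2, 0, 0, 2, 0], [0, 4, 1, 1, 2, 1, 1], [3, 2, 0, 4, 0, 2, 1], [4, 2, 0, 3, 3, 2, 1, 1], 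
  [0, 3, 1, 3, 2], [0, 0, 4, 0, 3, 3, 2], [3, 1, 3, 0, 2, 1, 3], [4, 0, 2, 1, 4, 2], [3, 2, 0, 3, 1, 3, 3, 0], 
  [1, 4, 4, 0, 3, 0, 2], [0, 3, 0, 0, 0, 2], [0, 4, 4, 2, 1, 4, 0, 4], [4, 0, 3, 2, 1, 1, 4], 
  [4, 0, 0, 0, 3, 0, 2], [1, 4, 1, 3, 1, 4, 2], [2, 1, 4, 0, 4, 4, 2], [1, 4, 0, 0, 3, 3, 2], 
  [1, 1, 3, 0, 0, 3, 2], [3, 0, 4, 0, 3, 0, 2], [4, 2, 1, 4, 4], [2, 1, 3, 1, 3, 0], [0, 0, 4, 0, 3, 2], 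
  [1, 4, 1, 3, 1, 2], [0, 3, 2, 0, 3, 3, 0], [0, 0, 4, 2, 1, 1, 4], [2, 0, 4, 0, 4, 0], [0, 4, 1, 3, 2], 
  [3, 3, 2, 1, 3, 1], [2, 0, 3, 0, 0, 2, 0], [0, 2, 1, 4, 4, 0], [3, 2], [0, 2, 1, 1, 4, 4, 0], 
  [1, 1, 1, 3, 1, 2], [0, 0, 2, 1, 1], [3, 2, 1, 3, 0, 3], [4, 0, 4, 4, 1, 2], [3, 0, 2, 1, 1, 3, 0], 
  [0, 0, 2, 1, 3], [0, 2, 1, 4, 4, 0, 0], [1, 3, 0, 2, 1, 3, 0, 0], [0, 3, 2, 1, 4, 4, 1, 1], 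
  [2, 1, 3, 0, 2, 0], [2, 1, 1, 4, 0, 2], [3, 1, 2, 0, 0, 0, 2], [4, 0, 3, 0, 4, 2], [4, 2, 1, 4, 4, 0], 
  [0, 0, 0, 0, 0, 0, 2], [2, 1, 3, 1, 1, 3, 1], [3, 2, 1, 3, 3, 2, 0], [1, 4, 2, 1, 1, 2], [2, 0, 4, 0, 2, 0], 
  [3, 0, 4, 2, 0, 4], [4, 4, 1, 2], [4, 0, 4, 0, 0, 2], [4, 2, 0, 3, 0, 2, 0], [0, 4, 1, 1, 2, 0, 4], 
  [2, 0, 3, 1, 4, 4], [3, 3, 2, 1, 4, 0, 2], [1, 1, 2, 0, 3, 2], [1, 1, 1, 2, 1, 1, 1], [1, 4, 0, 0, 4, 0, 2], 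
  [4, 1, 1, 2, 1, 1, 1], [1, 3, 1, 2, 1, 1, 1], [1, 1, 1, 4, 0, 2], [3, 1, 2, 0, 4, 0, 4, 1], 
  [0, 4, 1, 2, 1, 1], [1, 3, 3, 1, 1, 2], [1, 3, 0, 4, 4, 2], [0, 2, 1, 3, 3, 0, 0], [2, 1, 1, 4, 0, 0, 4, 2], 
  [4, 0, 4, 2, 1, 3], [2, 1, 3, 1, 2, 0, 0], [3, 1, 2, 0, 4, 0], [0, 4, 0, 2, 1, 3], [4, 4, 0, 2, 1, 1, 1], 
  [4, 2, 0, 0, 3, 3, 0], [4, 0, 0, 0, 2, 1, 3], [0, 0, 3, 3, 2, 1, 1], [3, 2, 1, 1, 1, 3], [3, 0, 2, 1, 1, 2], 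
  [2, 1, 3, 1, 2], [4, 1, 3, 2, 1, 1, 2], [0, 3, 1, 4, 1, 2], [2, 0, 3, 3], [0, 0, 0, 3, 3, 1, 2], 
  [1, 3, 0, 0, 0, 0, 2], [0, 0, 2, 1, 1, 1], [0, 2, 0, 0, 0, 2, 1], [2, 1, 3, 1, 4, 2, 1], [1, 1, 1, 3, 3, 2], 
  [4, 4, 2, 1, 3], [4, 2, 1, 1, 4, 1], [1, 3, 1, 3, 3, 2], [3, 2, 0, 4, 4, 2, 0], [3, 3, 0, 0, 4, 0, 2], 
  [3, 1, 4, 2, 1, 3], [4, 2, 0, 0, 0, 2], [2, 0, 0, 0, 3, 2, 1], [4, 0, 2, 1, 1, 1], [3, 3, 1, 3, 2, 1, 1], 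
  [3, 2, 1, 1, 1, 4, 0], [0, 3, 2, 1, 1], [3, 0, 3, 2, 0, 3, 3], [1, 3, 2, 1, 4, 2], [1, 1, 4, 1, 1, 2], 
  [0, 2, 1, 4, 4, 1, 1], [1, 3, 0, 2, 1, 1, 3], [2, 1, 4, 0, 0, 4, 2], [3, 3, 1, 1, 1, 4, 2], [4, 2, 0, 4, 0], 
  [4, 0, 4, 1, 1, 4, 2], [4, 0, 3, 2, 1, 3, 3], [1, 4, 1, 3, 3, 2], [2, 1, 3, 0, 3, 0], [0, 3, 3, 2], 
  [4, 2, 0, 0, 3, 1], [2, 1, 1, 1, 3, 3, 0], [0, 4, 0, 2, 1, 1], [0, 3, 1, 3, 2, 1, 1], [0, 3, 1, 4, 4, 0, 2], 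
  [4, 4, 0, 2, 1, 1, 3, 0], [2, 0, 4, 4, 0, 2, 0], [4, 0, 4, 2, 0, 4], [0, 4, 1, 1, 3, 3, 2], 
  [4, 2, 0, 3, 1, 2], [2, 0, 4, 1, 1, 3, 0], [4, 4, 2, 1, 1, 1, 3], [3, 2, 0, 0, 2, 0, 0, 0], 
  [0, 4, 0, 3, 3, 2], [4, 2, 1, 3, 0, 0, 0], [3, 0, 0, 0, 2], [4, 4, 2, 1, 4, 0, 4], [4, 1, 3, 0, 4, 2], 
  [4, 1, 1, 1, 1, 1, 2], [4, 4, 1, 1, 2, 1, 1], [0, 4, 0, 3, 2], [3, 2, 0, 3, 3, 0], [0, 4, 2, 1, 1, 4], 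
  [4, 1, 3, 2], [2, 1, 4, 4, 0], [2, 1, 1, 4, 4, 0], [0, 2, 1, 1], [1, 4, 0, 4, 4, 1, 2], [2, 1, 3, 3, 1, 3], 
  [3, 2, 1, 4, 4, 1, 1], [0, 4, 2, 1, 3], [4, 0, 4, 2, 1, 1, 3], [0, 0, 0, 0, 0, 2], [2, 1, 1, 3, 0, 3, 0], 
  [3, 1, 4, 1, 3, 1, 2], [4, 4, 2, 0, 0, 4, 0, 2], [1, 1, 1, 2, 0, 3, 2], [4, 1, 4, 0, 0, 2], 
  [1, 1, 1, 1, 4, 0, 2], [0, 4, 2, 1, 3, 3, 2, 0], [3, 3, 2, 1, 4, 4, 0], [3, 0, 3, 1, 2, 1, 1, 1], 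
  [1, 4, 0, 4, 2, 1, 3], [0, 3, 2, 1, 4, 4, 0], [3, 3, 2, 1, 4, 0, 3], [2, 0, 3, 0, 2, 0], [3, 1, 4, 1, 2], 
  [3, 0, 0, 3, 2, 1, 3], [2, 0, 0, 0, 2, 1], [3, 1, 1, 1, 3, 1, 2], [0, 2, 0, 0, 3, 2, 0], [4, 0, 0, 0, 2], 
  [2, 0, 0, 3, 2], [3, 2, 1, 1], [0, 4, 4, 2, 0, 4, 0], [2, 1, 4, 4, 1, 1], [0, 3, 2, 0, 3, 3], 
  [3, 2, 1, 4, 0, 0, 3], [0, 2, 1, 3, 0, 0], [3, 3, 2], [4, 0, 2, 1, 1], [3, 1, 3, 2, 1, 1], 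
  [4, 0, 3, 1, 2, 0, 4, 0], [1, 4, 0, 4, 2, 0, 4], [0, 3, 2, 0, 4, 0, 2], [1, 3, 0, 0, 0, 2], 
  [3, 2, 0, 4, 0, 2, 0], [2, 1, 1, 1, 3, 2, 0], [4, 0, 3, 2], [4, 2, 1, 1, 4], [2, 1, 1], 
  [3, 2, 0, 4, 0, 4, 0], [4, 2, 1, 3], [0, 0, 0, 0, 2], [2, 0, 3, 1, 1, 1, 4, 0], [1, 4, 1, 4, 0, 0, 2], 
  [4, 2, 1, 3, 3, 2, 0], [3, 0, 3, 1, 2, 1, 1], [3, 2, 0, 0, 0, 4, 0], [1, 3, 1, 4, 1, 2], [1, 4, 0, 0, 0, 2], 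
  [1, 2, 0, 0, 3, 2], [4, 4, 2, 0, 4, 0], [3, 2, 0, 3, 3], [2, 1, 3, 0, 0], [1, 4, 0, 2, 1, 1], 
  [2, 1, 4, 2, 0, 0, 3], [3, 2, 0, 4, 0, 2], [1, 4, 0, 3, 2], [0, 0, 0, 2], [4, 1, 2, 0, 3, 1, 2], 
  [2, 1, 4, 1, 4, 1], [1, 1, 4, 0, 0, 0, 2], [1, 1, 4, 0, 2, 1, 1], [3, 3, 2, 0, 3, 3], [0, 0, 2], 
  [3, 0, 4, 2, 1, 1, 2], [3, 0, 0, 4, 4, 0, 2]]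

set_option maxRecDepth 100000 in
theorem dodCerts_ok :
    Cfsg.Agent.Lib.helper33.checkOrbit Cfsg.Agent.Lib.helper33.gens24 (fun _ => 28637)
      (wtList 12) dodCerts = true := by
  decide +kernel

theorem exists_smul_dod0 (d : Finset GolayPt) (hd : d ∈ dodecads) :
    ∃ g ∈ M24, g • decSet 28637 = d := by
  obtain ⟨n, hn, rfl⟩ := (mem_dodecads_iff d).1 hd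
  exact Cfsg.Agent.Lib.helper33.checkOrbit_spec Cfsg.Agent.Lib.helper33.gensIn_gens24 _ _ _
    dodCerts_ok n hn

/-- `M24` is transitive on dodecads. -/
theorem m24_dodecad_trans (d d' : Finset GolayPt) (hd : d ∈ dodecads) (hd' : d' ∈ dodecads) :
    ∃ g ∈ M24, g • d = d' := by
  obtain ⟨g₁, hg₁, rfl⟩ := exists_smul_dod0 d hd
  obtain ⟨g₂, hg₂, rfl⟩ := exists_smul_dod0 d' hd'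
  refine ⟨g₂ * g₁⁻¹, mul_mem hg₂ (inv_mem hg₁), ?_⟩
  rw [mul_smul, inv_smul_smul]

/-- The order of a dodecad stabiliser. -/
theorem card_stab_dodecad (d : Finset GolayPt) (hd : d ∈ dodecads) :
    Nat.card (MulAction.stabilizer M24 d) = 95040 := by
  have h := natCard_orbit_mul_stab (G := M24) d
  have horb : MulAction.orbit M24 d = dodecads := by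
    ext s
    constructor
    · rintro ⟨g, rfl⟩
      exact smul_mem_dodecads g.1 g.2 d hd
    · intro hs
      obtain ⟨g, hg, rfl⟩ := m24_dodecad_trans d s hd hs
      exact ⟨⟨g, hg⟩, rfl⟩
  have hcard : Nat.card (MulAction.orbit M24 d) = 2576 := by
    change Set.ncard (MulAction.orbit M24 d) = 2576
    rw [horb, ncard_dodecads]
  rw [hcard, card_M24] at h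
  omega

end Cfsg.Agent.Lib.helper9
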