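import Cfsg.Agent.Lib.helper9.M24NF
import Cfsg.Agent.Lib.helper9.M24Dodecads

/-!
Dodecad stabilisers in `Cfsg.M24`: a stabiliser chain for the stabiliser of an explicit dodecad,
sharp 5-transitivity on the dodecad, and the action of a point stabiliser on the complement.
-/

set_option autoImplicit false
open Cfsg
open scoped Pointwise

namespace Cfsg.Agent.Lib.helper9

open Cfsg.Agent.Lib.helper33 (IsTable)

section Generic

variable {α : Type*} [Finite α]

/-- Counting step: if the orbit of `p` is contained in `Δ`, the stabiliser has at most `m`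
elements and `|Δ| * m ≤ |H|`, then the orbit is `Δ` and the stabiliser has `m` elements. -/
theorem full_orbit (H : Subgroup (Equiv.Perm α)) (p : α) (Δ : Finset α)
    (hsub : ∀ g ∈ H, g p ∈ Δ) (m : ℕ)
    (hm : Nat.card ↥(H ⊓ MulAction.stabilizer (Equiv.Perm α) p) ≤ m)
    (hcard : Δ.card * m ≤ Nat.card H) :
    (∀ q ∈ Δ, ∃ g ∈ H, g p = q) ∧
      Nat.card ↥(H ⊓ MulAction.stabilizer (Equiv.Perm α) p) = m := by
  have h1 := card_eq_orbit_mul_stab H p
  have hs : 0 < Nat.card ↥(H ⊓ MulAction.stabilizer (Equiv.Perm α) p) := Nat.card_pos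
  have hH : 0 < Nat.card H := Nat.card_pos
  have horb : MulAction.orbit H p ⊆ (Δ : Set α) := by
    intro q hq
    obtain ⟨g, hg, rfl⟩ := (mem_orbit_subgroup_iff H p q).1 hq
    exact hsub g hg
  have ho : Nat.card (MulAction.orbit H p) ≤ Δ.card := by
    have h2 := Set.ncard_le_ncard horb (Set.toFinite _)
    rw [Set.ncard_coe_finset] at h2
    exact h2
  generalize Nat.card ↥(H ⊓ MulAction.stabilizer (Equiv.Perm α) p) = s at *
  generalize hoe : Nat.card (MulAction.orbit H p) = o at *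
  rw [h1] at hcard hH
  have ho0 : 0 < o := Nat.pos_of_mul_pos_right hH |> fun _ => by
    rcases Nat.eq_zero_or_pos o with h | h
    · rw [h] at hH; simp at hH
    · exact h
  have hD : 0 < Δ.card := lt_of_lt_of_le ho0 ho
  have e1 : Δ.card * s ≤ Δ.card * m := Nat.mul_le_mul_left _ hm
  have e2 : o * s ≤ Δ.card * s := Nat.mul_le_mul_right _ ho
  have e3 : Δ.card * s = Δ.card * m := le_antisymm e1 (le_trans hcard e2)
  have hsm : s = m := Nat.eq_of_mul_eq_mul_left hD e3
  have e4 : o * s = Δ.card * s := le_antisymm e2 (by rw [e3]; exact hcard)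
  have hoD : o = Δ.card := Nat.eq_of_mul_eq_mul_right hs e4
  refine ⟨?_, hsm⟩
  have heq : MulAction.orbit H p = (Δ : Set α) := by
    refine Set.eq_of_subset_of_ncard_le horb ?_ (Set.toFinite _)
    rw [Set.ncard_coe_finset, ← hoD, ← hoe]
    exact le_refl _
  intro q hq
  have : q ∈ MulAction.orbit H p := by rw [heq]; exact hq
  exact (mem_orbit_subgroup_iff H p q).1 this

end Generic

/-- The stabiliser of a point or set in a subgroup, as a subgroup of the subgroup. -/
theorem stabilizer_subgroup {G X : Type*} [Group G] [MulAction G X] (H : Subgroup G) (x : X) :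
    MulAction.stabilizer H x = (MulAction.stabilizer G x).subgroupOf H := by
  ext g
  rw [Subgroup.mem_subgroupOf, MulAction.mem_stabilizer_iff, MulAction.mem_stabilizer_iff]
  rfl

theorem card_subgroupOf {G : Type*} [Group G] (H K : Subgroup G) :
    Nat.card (K.subgroupOf H) = Nat.card ↥(H ⊓ K) := by
  rw [← Subgroup.inf_subgroupOf_left K H]
  exact Nat.card_congr (Subgroup.subgroupOfEquivOfLe inf_le_left).toEquiv

/-- One step of the chain: upper bound. -/
theorem upper_stepH (H : Subgroup (Equiv.Perm GolayPt)) (i : ℕ) (Δ : Finset GolayPt)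
    (hsub : ∀ g ∈ stabL H i, g (bp i) ∈ Δ) (n : ℕ) (hn : Nat.card (stabL H (i + 1)) ≤ n) :
    Nat.card (stabL H i) ≤ Δ.card * n :=
  le_trans (card_le_of_orbit (stabL H i) (bp i) Δ hsub) (Nat.mul_le_mul_left _ hn)

/-- One step of the chain: exact orbit. -/
theorem full_stepH (H : Subgroup (Equiv.Perm GolayPt)) (i : ℕ) (Δ : Finset GolayPt)
    (hsub : ∀ g ∈ stabL H i, g (bp i) ∈ Δ) (m : ℕ) (hm : Nat.card (stabL H (i + 1)) ≤ m)
    (hcard : Δ.card * m ≤ Nat.card (stabL H i)) :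
    (∀ q ∈ Δ, ∃ g ∈ stabL H i, g (bp i) = q) ∧ Nat.card (stabL H (i + 1)) = m :=
  full_orbit (stabL H i) (bp i) Δ hsub m hm hcard

/-- Moving points to base points along a chain with full orbits. -/
theorem move_to_base_gen (H : Subgroup (Equiv.Perm GolayPt)) (S : Set GolayPt) (i0 n : ℕ)
    (hS : ∀ g ∈ H, ∀ p ∈ S, g p ∈ S)
    (htr : ∀ i, i0 ≤ i → i < n → ∀ q ∈ S, (∀ j < i, q ≠ bp j) →
      ∃ g ∈ stabL H i, g (bp i) = q) :
    ∀ k, i0 + k ≤ n → ∀ x : ℕ → GolayPt, (∀ j < k, x j ∈ S) →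
      (∀ j < k, ∀ l < i0, x j ≠ bp l) → (∀ a < k, ∀ b < k, x a = x b → a = b) →
      ∃ g ∈ stabL H i0, ∀ j < k, g (x j) = bp (i0 + j) := by
  intro k
  induction k with
  | zero => intro _ x _ _ _; exact ⟨1, one_mem _, fun j hj => absurd hj (Nat.not_lt_zero j)⟩
  | succ k ih =>
    intro hk x hxS hxb hinj
    obtain ⟨g, hg, hfix⟩ := ih (by omega) x (fun j hj => hxS j (by omega))
      (fun j hj => hxb j (by omega)) (fun a ha b hb h => hinj a (by omega) b (by omega) h)
    have hgH := (mem_stabL _ _ _).1 hg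
    have hq : ∀ j < i0 + k, g (x k) ≠ bp j := by
      intro j hj h
      by_cases hj0 : j < i0
      · rw [← hgH.2 j hj0] at h
        exact hxb k (by omega) j hj0 (g.injective h)
      · have hje : j = i0 + (j - i0) := by omega
        rw [hje, ← hfix (j - i0) (by omega)] at h
        have := hinj k (by omega) (j - i0) (by omega) (g.injective h)
        omega
    obtain ⟨t, ht, htmap⟩ := htr (i0 + k) (by omega) (by omega) (g (x k))
      (hS g hgH.1 _ (hxS k (by omega))) hq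
    have htH := (mem_stabL _ _ _).1 ht
    refine ⟨t⁻¹ * g, mul_mem (inv_mem (stabL_anti H (by omega) ht)) hg, ?_⟩
    intro j hj
    show t⁻¹ (g (x j)) = bp (i0 + j)
    rw [Equiv.Perm.inv_eq_iff_eq]
    rcases Nat.lt_succ_iff_lt_or_eq.1 hj with h | rfl
    · rw [hfix j h, htH.2 (i0 + j) (by omega)]
    · exact htmap.symm

/-- The stabiliser in `M24` of the set of points of a mask. -/
def stabMask (d : ℕ) : Subgroup (Equiv.Perm GolayPt) :=
  M24 ⊓ MulAction.stabilizer (Equiv.Perm GolayPt) (decSet d)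

theorem mem_stabMask {d : ℕ} {g : Equiv.Perm GolayPt} :
    g ∈ stabMask d ↔ g ∈ M24 ∧ InvMask g d := by
  rw [stabMask, Subgroup.mem_inf, MulAction.mem_stabilizer_iff]
  exact ⟨fun h => ⟨h.1, invMask_of_smul_eq g d h.2⟩, fun h => ⟨h.1, smul_decSet_of_invMask h.2⟩⟩

theorem stabMask_le (d : ℕ) : stabMask d ≤ M24 := inf_le_left

theorem stabMask_smul {d : ℕ} {g : Equiv.Perm GolayPt} (hg : g ∈ stabMask d) :
    g • decSet d = decSet d :=
  MulAction.mem_stabilizer_iff.1 (Subgroup.mem_inf.1 hg).2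

theorem mem_stabMask_of {d : ℕ} {g : Equiv.Perm GolayPt} (hM : g ∈ M24)
    (h : g • decSet d = decSet d) : g ∈ stabMask d :=
  Subgroup.mem_inf.2 ⟨hM, MulAction.mem_stabilizer_iff.2 h⟩

theorem decSet_mem_dodecads (d : ℕ) (h1 : syn d = true) (h2 : pc d = 12) : decSet d ∈ dodecads :=
  ⟨⟨dec d, (dec_mem_golayCode_iff d).2 h1, support₂_dec d⟩, by rw [card_decSet, h2]⟩

theorem card_stabMask (d : ℕ) (hd : decSet d ∈ dodecads) : Nat.card (stabMask d) = 95040 := by
  rw [← card_stab_dodecad (decSet d) hd, stabilizer_subgroup, card_subgroupOf]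
  rfl

theorem mem_of_stabMask {d : ℕ} {g : Equiv.Perm GolayPt} (hg : g ∈ stabMask d) (p : GolayPt) :
    g p ∈ decSet d ↔ p ∈ decSet d := by
  rw [mem_decSet, mem_decSet, (mem_stabMask.1 hg).2 p]

/-! ### The dodecad `{0,1,2,3,4,5,6,8,9,10,15,17}` -/

/-- A dodecad containing the first five base points. -/
def d1 : ℕ := 165759

/-- The points of `d1`. -/
def dl1 : List ℕ := [0, 1, 2, 3, 4, 5, 6, 8, 9, 10, 15, 17]

theorem d1_ok : syn d1 = true ∧ pc d1 = 12 := by decide +kernel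

theorem d1_mem : decSet d1 ∈ dodecads := decSet_mem_dodecads d1 d1_ok.1 d1_ok.2

/-- The points of `d1` other than the first `i` base points. -/
def Δ1 (i : ℕ) : Finset GolayPt := ((dl1.drop i).map pt).toFinset

theorem Δ1_card : (List.range 5).map (fun i => (Δ1 i).card) = [12, 11, 10, 9, 8] := by
  decide +kernel

theorem d1_drop : ∀ i < 5, ∀ x < 24, (d1.testBit x = true ∧ ∀ j < i, x ≠ base.getD j 0) →
    x ∈ dl1.drop i := by
  decide +kernel

theorem d1_base : ∀ i < 5, d1.testBit (base.getD i 0) = true := by decide +kernel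

theorem mem_Δ1 (i : ℕ) (hi : i < 5) (q : GolayPt) (hq : q ∈ decSet d1)
    (hne : ∀ j < i, q ≠ bp j) : q ∈ Δ1 i := by
  simp only [Δ1, List.mem_toFinset, List.mem_map]
  refine ⟨idx q, d1_drop i hi _ (idx_lt _) ⟨mem_decSet.1 hq, ?_⟩, pt_idx _⟩
  intro j hj h
  rw [← idx_bp j (by omega)] at h
  exact hne j hj (idx_injective h)

theorem bp_mem_d1 (i : ℕ) (hi : i < 5) : bp i ∈ decSet d1 := by
  rw [mem_decSet, idx_bp i (by omega)]
  exact d1_base i hi

theorem orbit_sub1 (i : ℕ) (hi : i < 5) (g : Equiv.Perm GolayPt)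
    (hg : g ∈ stabL (stabMask d1) i) : g (bp i) ∈ Δ1 i := by
  have hgH := (mem_stabL _ _ _).1 hg
  refine mem_Δ1 i hi _ ((mem_of_stabMask hgH.1 _).2 (bp_mem_d1 i hi)) ?_
  intro j hj h
  rw [← hgH.2 j hj] at h
  have h2 := congrArg idx (g.injective h)
  rw [idx_bp i (by omega), idx_bp j (by omega)] at h2
  exact base_nodup i (by omega) j hj h2

theorem rig1_chk : ((orbL.getD 5 []).all fun c5 => (orbL.getD 6 []).all fun c6 =>
    (c5 == 7 && c6 == 5) || !invT (t56 c5 c6) d1) = true := by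
  decide +kernel

theorem tw_nil : tw 4 4 = [] ∧ tw 5 7 = [] ∧ tw 6 5 = [] := by decide +kernel

/-- An element of `M24` preserving `d1` and fixing the five base points is trivial. -/
theorem stab5_d1 (g : Equiv.Perm GolayPt) (hg : g ∈ stabL (stabMask d1) 5) : g = 1 := by
  have hM := stabL_mono (stabMask_le d1) 5 hg
  obtain ⟨c5, hc5, c6, hc6, hg', ht⟩ := nf5 g hM
  have hinv := invT_of_invMask ht (mem_stabMask.1 ((mem_stabL _ _ _).1 hg).1).2
  have h := rig1_chk
  rw [List.all_eq_true] at h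
  have h1 := h c5 hc5
  rw [List.all_eq_true] at h1
  have h2 := h1 c6 hc6
  rw [hinv] at h2
  simp only [Bool.not_true, Bool.or_false, Bool.and_eq_true, beq_iff_eq] at h2
  obtain ⟨rfl, rfl⟩ := h2
  rw [hg', tw_nil.2.1, tw_nil.2.2]
  rfl

theorem card_stab5_d1 : Nat.card (stabL (stabMask d1) 5) ≤ 1 := by
  have : Subsingleton (stabL (stabMask d1) 5) :=
    ⟨fun a b => Subtype.ext (by rw [stab5_d1 a.1 a.2, stab5_d1 b.1 b.2])⟩
  exact Finite.card_le_one_iff_subsingleton.2 this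

/-- The chain of the stabiliser of `d1`: full orbits and orders. -/
theorem chain1 : (∀ i < 5, ∀ q ∈ Δ1 i, ∃ g ∈ stabL (stabMask d1) i, g (bp i) = q) ∧
    Nat.card (stabL (stabMask d1) 1) = 7920 ∧ Nat.card (stabL (stabMask d1) 2) = 720 ∧
    Nat.card (stabL (stabMask d1) 3) = 72 ∧ Nat.card (stabL (stabMask d1) 4) = 8 ∧
    Nat.card (stabL (stabMask d1) 5) = 1 := by
  have hc := Δ1_card
  simp only [List.range, List.range.loop, List.map_cons, List.map_nil, List.cons.injEq,
    and_true] at hc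
  obtain ⟨c0, c1, c2, c3, c4⟩ := hc
  have h0 : Nat.card (stabL (stabMask d1) 0) = 95040 := card_stabMask d1 d1_mem
  have u5 := card_stab5_d1
  have u4 := upper_stepH (stabMask d1) 4 (Δ1 4) (orbit_sub1 4 (by norm_num)) 1 u5
  have u3 := upper_stepH (stabMask d1) 3 (Δ1 3) (orbit_sub1 3 (by norm_num)) _ u4
  have u2 := upper_stepH (stabMask d1) 2 (Δ1 2) (orbit_sub1 2 (by norm_num)) _ u3
  have u1 := upper_stepH (stabMask d1) 1 (Δ1 1) (orbit_sub1 1 (by norm_num)) _ u2
  rw [c4] at u4; rw [c3, c4] at u3; rw [c2, c3, c4] at u2; rw [c1, c2, c3, c4] at u1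
  obtain ⟨f0, e1⟩ := full_stepH (stabMask d1) 0 (Δ1 0) (orbit_sub1 0 (by norm_num)) 7920 u1
    (by rw [c0, h0])
  obtain ⟨f1, e2⟩ := full_stepH (stabMask d1) 1 (Δ1 1) (orbit_sub1 1 (by norm_num)) 720 u2
    (by rw [c1, e1])
  obtain ⟨f2, e3⟩ := full_stepH (stabMask d1) 2 (Δ1 2) (orbit_sub1 2 (by norm_num)) 72 u3
    (by rw [c2, e2])
  obtain ⟨f3, e4⟩ := full_stepH (stabMask d1) 3 (Δ1 3) (orbit_sub1 3 (by norm_num)) 8 u4
    (by rw [c3, e3])
  obtain ⟨f4, e5⟩ := full_stepH (stabMask d1) 4 (Δ1 4) (orbit_sub1 4 (by norm_num)) 1 u5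
    (by rw [c4, e4])
  refine ⟨?_, e1, e2, e3, e4, e5⟩
  intro i hi
  have hi' : i = 0 ∨ i = 1 ∨ i = 2 ∨ i = 3 ∨ i = 4 := by omega
  rcases hi' with rfl | rfl | rfl | rfl | rfl
  · exact f0
  · exact f1
  · exact f2
  · exact f3
  · exact f4

/-- The stabiliser of `d1` moves any `k ≤ 5` distinct points of `d1` to the first base points. -/
theorem move_to_base1 : ∀ k ≤ 5, ∀ x : ℕ → GolayPt, (∀ j < k, x j ∈ decSet d1) →
    (∀ a < k, ∀ b < k, x a = x b → a = b) →
    ∃ g ∈ stabMask d1, ∀ j < k, g (x j) = bp j := by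
  intro k hk x hx hinj
  obtain ⟨g, hg, h⟩ := move_to_base_gen (stabMask d1) (decSet d1 : Set GolayPt) 0 5
    (fun g hg p hp => Finset.mem_coe.2 ((mem_of_stabMask hg p).2 (Finset.mem_coe.1 hp)))
    (fun i _ hi q hq hne => chain1.1 i hi q (mem_Δ1 i hi q (Finset.mem_coe.1 hq) hne))
    k (by omega) x (fun j hj => Finset.mem_coe.2 (hx j hj))
    (fun j _ l hl => absurd hl (Nat.not_lt_zero l)) hinj
  exact ⟨g, hg, fun j hj => by simpa using h j hj⟩

end Cfsg.Agent.Lib.helper9
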