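import Cfsg.Agent.Lib.helper9.M24SimpleBase
import Cfsg.Agent.Lib.helper9.M12Chain

/-!
Simplicity of `Cfsg.M24` and of its one- and two-point stabilisers, by induction along the
stabiliser chain starting from the three-point stabiliser.
-/

set_option autoImplicit false
open Cfsg
open scoped Pointwise

namespace Cfsg.Agent.Lib.helper9

/-- The points other than the first `j` base points. -/
def XS (j : ℕ) : Set GolayPt := {q | ∀ k < j, q ≠ bp k}

/-- The points other than the first `j` base points, as a finset. -/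
def XF (j : ℕ) : Finset GolayPt := Finset.univ.filter fun q => ∀ k < j, q ≠ bp k

theorem XS_eq (j : ℕ) : XS j = (XF j : Set GolayPt) := by
  ext q
  simp [XS, XF]

theorem XF_card : (List.range 4).map (fun j => (XF j).card) = [24, 23, 22, 21] := by
  decide +kernel

theorem XS_ncard : (XS 0).ncard = 24 ∧ (XS 1).ncard = 23 ∧ (XS 2).ncard = 22 ∧
    (XS 3).ncard = 21 := by
  have hc := XF_card
  simp only [List.range, List.range.loop, List.map_cons, List.map_nil, List.cons.injEq,
    and_true] at hc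
  obtain ⟨c0, c1, c2, c3⟩ := hc
  refine ⟨?_, ?_, ?_, ?_⟩
  · rw [XS_eq, Set.ncard_coe_finset, c0]
  · rw [XS_eq, Set.ncard_coe_finset, c1]
  · rw [XS_eq, Set.ncard_coe_finset, c2]
  · rw [XS_eq, Set.ncard_coe_finset, c3]

theorem bp_mem_XS (j : ℕ) (hj : j < 7) : bp j ∈ XS j := by
  intro k hk h
  have h2 := congrArg idx h
  rw [idx_bp j hj, idx_bp k (by omega)] at h2
  exact base_nodup j hj k hk h2

theorem bp_ne (i j : ℕ) (hi : i < 7) (hj : j < i) : bp i ≠ bp j := by
  intro h
  have h2 := congrArg idx h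
  rw [idx_bp i hi, idx_bp j (by omega)] at h2
  exact base_nodup i hi j hj h2

/-- The stabiliser of the first `i` base points is transitive on the remaining points. -/
theorem m24_htr (i : ℕ) (hi : i < 5) (q : GolayPt) (hq : ∀ j < i, q ≠ bp j) :
    ∃ g ∈ stabL M24 i, g (bp i) = q := by
  have hmem : idx q ∈ orbL.getD i [] := by
    refine orb_first i hi _ (idx_lt q) (fun j hj h => hq j hj ?_)
    apply idx_injective
    rw [h, idx_bp j (by omega)]
  obtain ⟨t, ht, hfix, hmap⟩ := trans_exists i (idx q) (by omega) hmem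
  exact ⟨t, (mem_stabL _ _ _).2 ⟨genGroup_le_M24 ht, hfix⟩, by rw [hmap, pt_idx]⟩

theorem chain_two (j : ℕ) (hj : j ≤ 3) (x y : GolayPt) (hx : x ∈ XS j) (hy : y ∈ XS j)
    (hxy : x ≠ y) : ∃ g ∈ stabL M24 j, g x = bp j ∧ g y = bp (j + 1) := by
  obtain ⟨g, hg, h⟩ := move_to_base_gen M24 Set.univ j 5 (fun _ _ _ _ => Set.mem_univ _)
    (fun i _ hi q _ hne => m24_htr i hi q hne) 2 (by omega) (fun n => if n = 0 then x else y)
    (fun _ _ => Set.mem_univ _)
    (fun n _ l hl => by
      by_cases h0 : n = 0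
      · simp only [h0, if_true]; exact hx l hl
      · simp only [h0, if_false]; exact hy l hl)
    (fun a ha b hb hab => by
      have ha' : a = 0 ∨ a = 1 := by omega
      have hb' : b = 0 ∨ b = 1 := by omega
      rcases ha' with rfl | rfl <;> rcases hb' with rfl | rfl <;> simp at hab ⊢
      · exact hxy hab
      · exact hxy hab.symm)
  exact ⟨g, hg, by simpa using h 0 (by norm_num), by simpa using h 1 (by norm_num)⟩

/-- The stabiliser of the first `j ≤ 3` base points is doubly transitive on the other points. -/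
theorem chainT (j : ℕ) (hj : j ≤ 3) : TwoTrans (stabL M24 j) (XS j) where
  inv := by
    intro g hg x hx k hk h
    rw [← ((mem_stabL _ _ _).1 hg).2 k hk] at h
    exact hx k hk (g.injective h)
  faithful := by
    intro g hg hfix
    refine Equiv.ext fun p => ?_
    by_cases hp : p ∈ XS j
    · exact hfix p hp
    · simp only [XS, Set.mem_ofPred_eq, not_forall, not_not] at hp
      obtain ⟨k, hk, rfl⟩ := hp
      exact ((mem_stabL _ _ _).1 hg).2 k hk
  two := by
    intro x hx y hy x' hx' y' hy' hxy hxy'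
    obtain ⟨g₁, hg₁, h₁, h₁'⟩ := chain_two j hj x y hx hy hxy
    obtain ⟨g₂, hg₂, h₂, h₂'⟩ := chain_two j hj x' y' hx' hy' hxy'
    refine ⟨g₂⁻¹ * g₁, mul_mem (inv_mem hg₂) hg₁, ?_, ?_⟩
    · show g₂⁻¹ (g₁ x) = x'
      rw [Equiv.Perm.inv_eq_iff_eq, h₁, h₂]
    · show g₂⁻¹ (g₁ y) = y'
      rw [Equiv.Perm.inv_eq_iff_eq, h₁', h₂']

theorem z0_ne_one : z0 ≠ 1 := by
  intro h
  have h1 : idx (z0 (pt 5)) = getN z0T (idx (pt 5)) := z0_spec.2 (pt 5)
  have h2 : getN z0T 5 = 14 := by decide +kernel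
  rw [h, idx_pt (by norm_num), h2] at h1
  have h3 : idx (pt 5) = 14 := h1
  rw [idx_pt (by norm_num)] at h3
  omega

theorem stabL_ne_bot (j : ℕ) (hj : j ≤ 4) : stabL M24 j ≠ ⊥ := by
  intro h
  have h1 : z0 ∈ stabL M24 j := stabL_anti M24 hj z0_spec.1
  rw [h] at h1
  exact z0_ne_one (Subgroup.mem_bot.1 h1)

/-- The three-point stabiliser has no proper nontrivial normal subgroup. -/
theorem simple3 : ∀ N, NormalIn N (stabL M24 3) → N = ⊥ ∨ N = stabL M24 3 :=
  simple_step (chainT 3 (le_refl 3)) (bp 3) (bp_mem_XS 3 (by norm_num))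
    (fun _ hN hne => stab4_le hN hne)
    (fun _ hN hbot hreg => not_regular_of_two_primes (chainT 3 (le_refl 3)) hN hbot (bp 3)
      (bp_mem_XS 3 (by norm_num)) hreg 3 7 (by norm_num) (by norm_num) (by norm_num)
      (by rw [XS_ncard.2.2.2]; norm_num) (by rw [XS_ncard.2.2.2]; norm_num))

theorem isSimple_stabL3 : IsSimpleGroup ↥(stabL M24 3) :=
  isSimpleGroup_of_normalIn (stabL_ne_bot 3 (by norm_num)) simple3

/-- The two-point stabiliser has no proper nontrivial normal subgroup. -/
theorem simple2 : ∀ N, NormalIn N (stabL M24 2) → N = ⊥ ∨ N = stabL M24 2 :=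
  simple_step (chainT 2 (by norm_num)) (bp 2) (bp_mem_XS 2 (by norm_num))
    (le_of_simple (S := stabL M24 3) (stabL_anti M24 (by norm_num)) isSimple_stabL3)
    (fun _ hN hbot hreg => not_regular_of_two_primes (chainT 2 (by norm_num)) hN hbot (bp 2)
      (bp_mem_XS 2 (by norm_num)) hreg 2 11 (by norm_num) (by norm_num) (by norm_num)
      (by rw [XS_ncard.2.2.1]; norm_num) (by rw [XS_ncard.2.2.1]; norm_num))

theorem isSimple_stabL2 : IsSimpleGroup ↥(stabL M24 2) :=
  isSimpleGroup_of_normalIn (stabL_ne_bot 2 (by norm_num)) simple2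

/-- The one-point stabiliser has no proper nontrivial normal subgroup. -/
theorem simple1 : ∀ N, NormalIn N (stabL M24 1) → N = ⊥ ∨ N = stabL M24 1 :=
  simple_step (chainT 1 (by norm_num)) (bp 1) (bp_mem_XS 1 (by norm_num))
    (le_of_simple (S := stabL M24 2) (stabL_anti M24 (by norm_num)) isSimple_stabL2)
    (fun _ hN hbot hreg => not_regular_of_odd (chainT 1 (by norm_num)) hN hbot (bp 1)
      (bp_mem_XS 1 (by norm_num)) hreg (bp 2)
      (fun k hk => bp_ne 2 k (by norm_num) (by omega)) (bp_ne 2 1 (by norm_num) (by norm_num))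
      (by
        intro c hc hc1 hc2
        have hc3 : c ∈ XS 3 := by
          intro k hk
          have hk' : k = 0 ∨ k = 1 ∨ k = 2 := by omega
          rcases hk' with rfl | rfl | rfl
          · exact hc 0 (by norm_num)
          · exact hc1
          · exact hc2
        by_cases h3 : c = bp 3
        · obtain ⟨g, hg, hg1, -⟩ := (chainT 3 (le_refl 3)).two c hc3 (bp 4)
            (fun k hk => bp_ne 4 k (by norm_num) (by omega)) (bp 4)
            (fun k hk => bp_ne 4 k (by norm_num) (by omega)) c hc3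
            (by rw [h3]; exact (bp_ne 4 3 (by norm_num) (by norm_num)).symm)
            (by rw [h3]; exact bp_ne 4 3 (by norm_num) (by norm_num))
          have hgm := (mem_stabL _ _ _).1 hg
          refine ⟨g, stabL_anti M24 (by norm_num) hg, hgm.2 1 (by norm_num),
            hgm.2 2 (by norm_num), ?_⟩
          rw [hg1, h3]
          exact bp_ne 4 3 (by norm_num) (by norm_num)
        · obtain ⟨g, hg, hg1, -⟩ := (chainT 3 (le_refl 3)).two c hc3 (bp 3)
            (bp_mem_XS 3 (by norm_num)) (bp 3) (bp_mem_XS 3 (by norm_num)) c hc3 h3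
            (fun h => h3 h.symm)
          have hgm := (mem_stabL _ _ _).1 hg
          refine ⟨g, stabL_anti M24 (by norm_num) hg, hgm.2 1 (by norm_num),
            hgm.2 2 (by norm_num), ?_⟩
          rw [hg1]
          exact fun h => h3 h.symm)
      (by rw [XS_ncard.2.1]; norm_num))

theorem isSimple_stabL1 : IsSimpleGroup ↥(stabL M24 1) :=
  isSimpleGroup_of_normalIn (stabL_ne_bot 1 (by norm_num)) simple1

/-- `M24` has no proper nontrivial normal subgroup. -/
theorem simple0 : ∀ N, NormalIn N (stabL M24 0) → N = ⊥ ∨ N = stabL M24 0 :=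
  simple_step (chainT 0 (by norm_num)) (bp 0) (bp_mem_XS 0 (by norm_num))
    (le_of_simple (S := stabL M24 1) (stabL_anti M24 (by norm_num)) isSimple_stabL1)
    (fun _ hN hbot hreg => not_regular_of_two_primes (chainT 0 (by norm_num)) hN hbot (bp 0)
      (bp_mem_XS 0 (by norm_num)) hreg 2 3 (by norm_num) (by norm_num) (by norm_num)
      (by rw [XS_ncard.1]; norm_num) (by rw [XS_ncard.1]; norm_num))

/-- `M24` is simple. -/
theorem m24_simple : IsSimpleGroup ↥M24 :=
  isSimpleGroup_of_normalIn (H := stabL M24 0) (stabL_ne_bot 0 (by norm_num)) simple0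

theorem conj_inf_stab {α : Type*} (H H' : Subgroup (Equiv.Perm α)) (g : Equiv.Perm α)
    (hg : MulAut.conj g • H = H') (x : α) :
    MulAut.conj g • (H ⊓ MulAction.stabilizer (Equiv.Perm α) x) =
      H' ⊓ MulAction.stabilizer (Equiv.Perm α) (g x) := by
  rw [Subgroup.smul_inf, hg]
  congr 1
  ext k
  rw [Subgroup.mem_pointwise_smul_iff_inv_smul_mem, MulAction.mem_stabilizer_iff,
    MulAction.mem_stabilizer_iff, MulAut.smul_def, MulAut.conj_inv_apply]
  show g⁻¹ (k (g x)) = x ↔ k (g x) = g x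
  rw [Equiv.Perm.inv_eq_iff_eq]

theorem conj_stabL1 (g : Equiv.Perm GolayPt) (hg : g ∈ M24) :
    MulAut.conj g • stabL M24 1 =
      M24 ⊓ MulAction.stabilizer (Equiv.Perm GolayPt) (g (bp 0)) :=
  conj_inf_stab M24 M24 g (Subgroup.conj_smul_eq_self_of_mem hg) (bp 0)

/-- The stabiliser of a point in `M24` is simple. -/
theorem m23_simple (p : GolayPt) : IsSimpleGroup ↥(MulAction.stabilizer M24 p) := by
  obtain ⟨g, hg, hgp⟩ := m24_trans (bp 0) p
  have h1 := conj_stabL1 g hg
  rw [hgp] at h1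
  have h2 : IsSimpleGroup ↥(MulAut.conj g • stabL M24 1) :=
    haveI := isSimple_stabL1
    (Subgroup.equivSMul (MulAut.conj g) (stabL M24 1)).symm.isSimpleGroup
  rw [h1] at h2
  rw [stabilizer_subgroup M24 p,
    ← Subgroup.inf_subgroupOf_left (MulAction.stabilizer (Equiv.Perm GolayPt) p) M24]
  exact (Subgroup.subgroupOfEquivOfLe inf_le_left).isSimpleGroup

/-- The stabiliser of two points in `M24` is simple. -/
theorem m22_simple (p q : GolayPt) (hpq : p ≠ q) :
    IsSimpleGroup ↥(MulAction.stabilizer M24 p ⊓ MulAction.stabilizer M24 q) := by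
  obtain ⟨g, hg, hgp, hgq⟩ := m24_two_trans (bp 0) (bp 1) p q
    (bp_ne 1 0 (by norm_num) (by norm_num)).symm hpq
  have h1 := conj_inf_stab (stabL M24 1) _ g (conj_stabL1 g hg) (bp 1)
  rw [hgp, hgq] at h1
  have h2 : IsSimpleGroup ↥(MulAut.conj g • stabL M24 2) :=
    haveI := isSimple_stabL2
    (Subgroup.equivSMul (MulAut.conj g) (stabL M24 2)).symm.isSimpleGroup
  have h3 : MulAut.conj g • stabL M24 2 =
      M24 ⊓ MulAction.stabilizer (Equiv.Perm GolayPt) p ⊓
        MulAction.stabilizer (Equiv.Perm GolayPt) q := h1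
  rw [h3] at h2
  have e : MulAction.stabilizer M24 p ⊓ MulAction.stabilizer M24 q =
      (M24 ⊓ MulAction.stabilizer (Equiv.Perm GolayPt) p ⊓
        MulAction.stabilizer (Equiv.Perm GolayPt) q).subgroupOf M24 := by
    ext k
    simp only [Subgroup.mem_inf, Subgroup.mem_subgroupOf, MulAction.mem_stabilizer_iff]
    constructor
    · rintro ⟨hp, hq⟩
      exact ⟨⟨k.2, hp⟩, hq⟩
    · rintro ⟨⟨-, hp⟩, hq⟩
      exact ⟨hp, hq⟩
  rw [e]
  exact (Subgroup.subgroupOfEquivOfLe (inf_le_left.trans inf_le_left)).isSimpleGroup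

end Cfsg.Agent.Lib.helper9
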