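/-
Definitions for statement S2490 (a group of order 7920 with disconnected prime graph is simple):
the prime graph restricted to the primes 2, 3, 5, 11 and its connectedness.
-/
import Mathlib

set_option autoImplicit false

namespace Cfsg.Agent.Lib.helper9

/-- An edge of the prime graph between two of the primes 2, 3, 5, 11. -/
def pgE (G : Type*) [Group G] (p q : ℕ) : Prop :=
  (p = 2 ∨ p = 3 ∨ p = 5 ∨ p = 11) ∧ (q = 2 ∨ q = 3 ∨ q = 5 ∨ q = 11) ∧ ∃ g : G, orderOf g = p * q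

/-- The prime graph on 2, 3, 5, 11 is connected. -/
def PGConn (G : Type*) [Group G] : Prop :=
  Relation.EqvGen (pgE G) 2 11 ∧ Relation.EqvGen (pgE G) 3 11 ∧ Relation.EqvGen (pgE G) 5 11

theorem pgE_symm {G : Type*} [Group G] {p q : ℕ} (h : pgE G p q) : pgE G q p := by
  obtain ⟨hp, hq, g, hg⟩ := h
  exact ⟨hq, hp, g, by rw [hg, mul_comm]⟩

theorem prime_dvd_7920 {p : ℕ} (hp : p.Prime) (h : p ∣ 7920) : p = 2 ∨ p = 3 ∨ p = 5 ∨ p = 11 := by
  have e : (7920 : ℕ) = 2 ^ 4 * 3 ^ 2 * 5 * 11 := by norm_num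
  rw [e] at h
  rcases (Nat.Prime.dvd_mul hp).mp h with h | h
  · rcases (Nat.Prime.dvd_mul hp).mp h with h | h
    · rcases (Nat.Prime.dvd_mul hp).mp h with h | h
      · exact Or.inl ((Nat.prime_dvd_prime_iff_eq hp Nat.prime_two).mp (hp.dvd_of_dvd_pow h))
      · exact Or.inr (Or.inl ((Nat.prime_dvd_prime_iff_eq hp Nat.prime_three).mp
          (hp.dvd_of_dvd_pow h)))
    · exact Or.inr (Or.inr (Or.inl ((Nat.prime_dvd_prime_iff_eq hp Nat.prime_five).mp h)))
  · exact Or.inr (Or.inr (Or.inr ((Nat.prime_dvd_prime_iff_eq hp (by norm_num)).mp h)))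

theorem prime_of_mem_pgset {p : ℕ} (h : p = 2 ∨ p = 3 ∨ p = 5 ∨ p = 11) :
    p.Prime ∧ p ∣ 7920 := by
  rcases h with rfl | rfl | rfl | rfl <;> constructor <;> norm_num

/-- A connected prime graph admits no partition without crossing edges. -/
theorem pgconn_false {G : Type*} [Group G] [Finite G] (hord : Nat.card G = 7920) (h : PGConn G)
    (hdisc : ∃ A : Set ℕ, (∃ a ∈ A, a.Prime ∧ a ∣ Nat.card G) ∧
      (∃ b ∉ A, b.Prime ∧ b ∣ Nat.card G) ∧
      ∀ a ∈ A, ∀ b ∉ A, a.Prime → b.Prime → a ∣ Nat.card G → b ∣ Nat.card G →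
        ¬ ∃ g : G, orderOf g = a * b) : False := by
  obtain ⟨A, ⟨a, haA, hap, had⟩, ⟨b, hbA, hbp, hbd⟩, hno⟩ := hdisc
  rw [hord] at had hbd
  have key : ∀ x y : ℕ, Relation.EqvGen (pgE G) x y → (x ∈ A ↔ y ∈ A) := by
    intro x y hxy
    induction hxy with
    | rel x y hxy =>
      obtain ⟨hx, hy, g, hg⟩ := hxy
      have hx' := prime_of_mem_pgset hx
      have hy' := prime_of_mem_pgset hy
      constructor
      · intro hxA
        by_contra hyA
        exact hno x hxA y hyA hx'.1 hy'.1 (by rw [hord]; exact hx'.2) (by rw [hord]; exact hy'.2)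
          ⟨g, hg⟩
      · intro hyA
        by_contra hxA
        exact hno y hyA x hxA hy'.1 hx'.1 (by rw [hord]; exact hy'.2) (by rw [hord]; exact hx'.2)
          ⟨g, by rw [hg, mul_comm]⟩
    | refl x => exact Iff.rfl
    | symm x y _ ih => exact ih.symm
    | trans x y z _ _ ih1 ih2 => exact ih1.trans ih2
  have h11 : ∀ x : ℕ, (x = 2 ∨ x = 3 ∨ x = 5 ∨ x = 11) → (x ∈ A ↔ 11 ∈ A) := by
    intro x hx
    rcases hx with rfl | rfl | rfl | rfl
    · exact key _ _ h.1
    · exact key _ _ h.2.1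
    · exact key _ _ h.2.2
    · exact Iff.rfl
  have ha := h11 a (prime_dvd_7920 hap had)
  have hb := h11 b (prime_dvd_7920 hbp hbd)
  exact hbA (hb.mpr (ha.mp haA))

end Cfsg.Agent.Lib.helper9
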