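import Mathlib
import Cfsg.Agent.Lib.helper44.LODefs
import Cfsg.Agent.Lib.helper6.LOARITH

set_option autoImplicit false

namespace Cfsg.Agent.Lib.helper44.LO

theorem helper9_not_dvd_sub {p : ℕ} (hp : p.Prime) (f : ℕ) (hf : 1 ≤ f) (d : ℕ) (hd : 1 ≤ d) :
    ¬ p ∣ (p ^ f) ^ d - 1 := by
  intro h
  have h1 : p ∣ (p ^ f) ^ d := by
    rw [← pow_mul]
    exact dvd_pow_self p (by positivity)
  have hpos : 1 ≤ (p ^ f) ^ d := Nat.one_le_pow _ _ (Nat.pow_pos hp.pos)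
  have h2 : p ∣ (p ^ f) ^ d - ((p ^ f) ^ d - 1) := Nat.dvd_sub h1 h
  have h3 : (p ^ f) ^ d - ((p ^ f) ^ d - 1) = 1 := by omega
  rw [h3] at h2
  exact hp.one_lt.ne' (Nat.dvd_one.mp h2)

theorem helper9_not_dvd_add {p : ℕ} (hp : p.Prime) (f : ℕ) (hf : 1 ≤ f) (d : ℕ) (hd : 1 ≤ d) :
    ¬ p ∣ (p ^ f) ^ d + 1 := by
  intro h
  have h1 : p ∣ (p ^ f) ^ d := by
    rw [← pow_mul]
    exact dvd_pow_self p (by positivity)
  have h2 : p ∣ (p ^ f) ^ d + 1 - (p ^ f) ^ d := Nat.dvd_sub h h1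
  have h3 : (p ^ f) ^ d + 1 - (p ^ f) ^ d = 1 := by omega
  rw [h3] at h2
  exact hp.one_lt.ne' (Nat.dvd_one.mp h2)

theorem helper9_sub_lt {p : ℕ} (hp : p.Prime) (f d : ℕ) : (p ^ f) ^ d - 1 < (p ^ f) ^ d :=
  Nat.sub_lt (Nat.pow_pos (Nat.pow_pos hp.pos)) one_pos

theorem helper9_pm_lt {A B : ℕ} (hA : 1 ≤ A) (hAB : A ≤ B) : (A - 1) * (B + 1) < A * B := by
  obtain ⟨A', rfl⟩ : ∃ A', A = A' + 1 := ⟨A - 1, by omega⟩
  have h1 : (A' + 1 - 1) * (B + 1) = A' * B + A' := by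
    rw [Nat.add_sub_cancel]; ring
  have h2 : (A' + 1) * B = A' * B + B := by ring
  rw [h1, h2]
  omega

/-- E8: the arithmetic core (order formula as a hypothesis). -/
theorem helper9_lo_e8_core {p : ℕ} (hp : p.Prime) (f : ℕ) (hf : 1 ≤ f) (n : ℕ)
    (hn : n = (p ^ f) ^ 120 * ((p ^ f) ^ 2 - 1) * ((p ^ f) ^ 8 - 1) * ((p ^ f) ^ 12 - 1) *
      ((p ^ f) ^ 14 - 1) * ((p ^ f) ^ 18 - 1) * ((p ^ f) ^ 20 - 1) * ((p ^ f) ^ 24 - 1) *
      ((p ^ f) ^ 30 - 1)) : LOGood p n := by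
  refine lo_good hp f hf 1 n 120
    (((p ^ f) ^ 2 - 1) * ((p ^ f) ^ 8 - 1) * ((p ^ f) ^ 12 - 1) *
      ((p ^ f) ^ 14 - 1) * ((p ^ f) ^ 18 - 1) * ((p ^ f) ^ 20 - 1) * ((p ^ f) ^ 24 - 1) *
      ((p ^ f) ^ 30 - 1)) 128 ?_ ?_ ?_ ?_ (by norm_num) (by norm_num)
  · rw [one_mul, hn]
    ring
  · exact hp.not_dvd_one
  · intro h
    have hd := helper9_not_dvd_sub hp f hf
    rcases (Nat.Prime.dvd_mul hp).mp h with h | h
    · rcases (Nat.Prime.dvd_mul hp).mp h with h | h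
      · rcases (Nat.Prime.dvd_mul hp).mp h with h | h
        · rcases (Nat.Prime.dvd_mul hp).mp h with h | h
          · rcases (Nat.Prime.dvd_mul hp).mp h with h | h
            · rcases (Nat.Prime.dvd_mul hp).mp h with h | h
              · rcases (Nat.Prime.dvd_mul hp).mp h with h | h
                · exact hd 2 (by norm_num) h
                · exact hd 8 (by norm_num) h
              · exact hd 12 (by norm_num) h
            · exact hd 14 (by norm_num) h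
          · exact hd 18 (by norm_num) h
        · exact hd 20 (by norm_num) h
      · exact hd 24 (by norm_num) h
    · exact hd 30 (by norm_num) h
  · rw [one_mul]
    have hs := helper9_sub_lt hp f
    have e128 : (p ^ f) ^ 128 = (p ^ f) ^ 2 * (p ^ f) ^ 8 * (p ^ f) ^ 12 * (p ^ f) ^ 14 *
        (p ^ f) ^ 18 * (p ^ f) ^ 20 * (p ^ f) ^ 24 * (p ^ f) ^ 30 := by ring
    rw [e128]
    exact Nat.mul_lt_mul'' (Nat.mul_lt_mul'' (Nat.mul_lt_mul'' (Nat.mul_lt_mul''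
      (Nat.mul_lt_mul'' (Nat.mul_lt_mul'' (Nat.mul_lt_mul'' (hs 2) (hs 8)) (hs 12)) (hs 14))
      (hs 18)) (hs 20)) (hs 24)) (hs 30)

/-- 2E6: the arithmetic core (order formula as a hypothesis). -/
theorem helper9_lo_te6_core {p : ℕ} (hp : p.Prime) (f : ℕ) (hf : 1 ≤ f) (n : ℕ)
    (hn : Nat.gcd 3 (p ^ f + 1) * n = (p ^ f) ^ 36 * ((p ^ f) ^ 2 - 1) * ((p ^ f) ^ 5 + 1) *
      ((p ^ f) ^ 6 - 1) * ((p ^ f) ^ 8 - 1) * ((p ^ f) ^ 9 + 1) * ((p ^ f) ^ 12 - 1)) :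
    LOGood p n := by
  have hq1 : 1 ≤ p ^ f := Nat.pow_pos hp.pos
  have hc1 : 1 ≤ Nat.gcd 3 (p ^ f + 1) := Nat.gcd_pos_of_pos_left _ (by norm_num)
  refine lo_good hp f hf (Nat.gcd 3 (p ^ f + 1)) n 36
    (((p ^ f) ^ 2 - 1) * ((p ^ f) ^ 5 + 1) *
      ((p ^ f) ^ 6 - 1) * ((p ^ f) ^ 8 - 1) * ((p ^ f) ^ 9 + 1) * ((p ^ f) ^ 12 - 1)) 42
    ?_ ?_ ?_ ?_ (by norm_num) (by norm_num)
  · rw [hn]
    ring
  · intro h
    have h1 : p ∣ p ^ f + 1 := h.trans (Nat.gcd_dvd_right _ _)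
    have h2 := helper9_not_dvd_add hp f hf 1 le_rfl
    rw [pow_one] at h2
    exact h2 h1
  · intro h
    have hd := helper9_not_dvd_sub hp f hf
    have ha := helper9_not_dvd_add hp f hf
    rcases (Nat.Prime.dvd_mul hp).mp h with h | h
    · rcases (Nat.Prime.dvd_mul hp).mp h with h | h
      · rcases (Nat.Prime.dvd_mul hp).mp h with h | h
        · rcases (Nat.Prime.dvd_mul hp).mp h with h | h
          · rcases (Nat.Prime.dvd_mul hp).mp h with h | h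
            · exact hd 2 (by norm_num) h
            · exact ha 5 (by norm_num) h
          · exact hd 6 (by norm_num) h
        · exact hd 8 (by norm_num) h
      · exact ha 9 (by norm_num) h
    · exact hd 12 (by norm_num) h
  · have hs := helper9_sub_lt hp f
    have hpow : ∀ a b : ℕ, a ≤ b → (p ^ f) ^ a ≤ (p ^ f) ^ b :=
      fun a b hab => Nat.pow_le_pow_right hq1 hab
    have h25 : ((p ^ f) ^ 2 - 1) * ((p ^ f) ^ 5 + 1) < (p ^ f) ^ 2 * (p ^ f) ^ 5 :=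
      helper9_pm_lt (Nat.one_le_pow _ _ hq1) (hpow 2 5 (by norm_num))
    have h89 : ((p ^ f) ^ 8 - 1) * ((p ^ f) ^ 9 + 1) < (p ^ f) ^ 8 * (p ^ f) ^ 9 :=
      helper9_pm_lt (Nat.one_le_pow _ _ hq1) (hpow 8 9 (by norm_num))
    have hM : ((p ^ f) ^ 2 - 1) * ((p ^ f) ^ 5 + 1) *
        ((p ^ f) ^ 6 - 1) * ((p ^ f) ^ 8 - 1) * ((p ^ f) ^ 9 + 1) * ((p ^ f) ^ 12 - 1)
        < (p ^ f) ^ 42 := by
      have e42 : (p ^ f) ^ 42 = ((p ^ f) ^ 2 * (p ^ f) ^ 5) * (p ^ f) ^ 6 *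
          ((p ^ f) ^ 8 * (p ^ f) ^ 9) * (p ^ f) ^ 12 := by ring
      have e' : ((p ^ f) ^ 2 - 1) * ((p ^ f) ^ 5 + 1) *
          ((p ^ f) ^ 6 - 1) * ((p ^ f) ^ 8 - 1) * ((p ^ f) ^ 9 + 1) * ((p ^ f) ^ 12 - 1)
          = (((p ^ f) ^ 2 - 1) * ((p ^ f) ^ 5 + 1)) * ((p ^ f) ^ 6 - 1) *
            (((p ^ f) ^ 8 - 1) * ((p ^ f) ^ 9 + 1)) * ((p ^ f) ^ 12 - 1) := by
        simp only [mul_assoc]
      rw [e42, e']
      exact Nat.mul_lt_mul'' (Nat.mul_lt_mul'' (Nat.mul_lt_mul'' h25 (hs 6)) h89) (hs 12)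
    calc _ < (p ^ f) ^ 42 := hM
      _ = 1 * (p ^ f) ^ 42 := (one_mul _).symm
      _ ≤ Nat.gcd 3 (p ^ f + 1) * (p ^ f) ^ 42 := Nat.mul_le_mul_right _ hc1

end Cfsg.Agent.Lib.helper44.LO
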