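import Mathlib
import Cfsg.Prelude.Def_LieTypeChar
import Cfsg.Agent.Lib.helper44.LODefs
import Cfsg.Agent.Lib.helper9.LOE8core
import Cfsg.Agent.S1066

set_option autoImplicit false

namespace Cfsg.Agent.Lib.helper44.LO

open Cfsg

/-- TE6. -/
theorem lo_te6 {K : Type} [Field K] [Fintype K] (p : ℕ) (hp : p.Prime) [CharP K p] (q : ℕ) (hq : IsPrimePow q)
    (hK : Fintype.card K = q ^ 2) : LOGood p (Nat.card ↥(Cfsg.Lie.twistedE6 K q)) := by
  obtain ⟨f', -, hf'⟩ := FiniteField.card K p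
  have hdvd : q ∣ p ^ (f' : ℕ) := by
    rw [← hf', hK]
    exact dvd_pow_self q (by norm_num)
  obtain ⟨j, -, rfl⟩ := (Nat.dvd_prime_pow hp).mp hdvd
  have hj : 1 ≤ j := by
    rcases Nat.eq_zero_or_pos j with h0 | h0
    · subst h0
      have := hq.one_lt
      rw [pow_zero] at this
      omega
    · exact h0
  exact helper9_lo_te6_core hp j hj _ (Cfsg.Agent.S1066.result hq hK)

end Cfsg.Agent.Lib.helper44.LO
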