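import Mathlib
import Cfsg.Prelude.Def_Classical
import Cfsg.Agent.Lib.helper44.SUWDefs
import Cfsg.Agent.Lib.helper44.SUODefs

set_option autoImplicit false
set_option linter.unusedSimpArgs false

namespace Cfsg.Agent.Lib.helper44.SUW

open Matrix Cfsg

theorem helper9_blk_add {K : Type*} [Field K] {n : Type*} [Fintype n] [DecidableEq n]
    (C C' : Matrix n n K) (a b : K) (hab : a * b = -1) :
    Matrix.fromBlocks (1 + (C + C')) (b • (C + C')) (a • (C + C')) (1 - (C + C')) =
      Matrix.fromBlocks (1 + C) (b • C) (a • C) (1 - C) *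
        Matrix.fromBlocks (1 + C') (b • C') (a • C') (1 - C') := by
  have hba : b * a = -1 := by rw [mul_comm]; exact hab
  rw [Matrix.fromBlocks_multiply]
  congr 1
  · simp only [Matrix.add_mul, Matrix.mul_add, Matrix.sub_mul, Matrix.mul_sub, Matrix.one_mul,
      Matrix.mul_one, Matrix.smul_mul, Matrix.mul_smul, smul_smul, hab, hba]
    module
  · simp only [Matrix.add_mul, Matrix.mul_add, Matrix.sub_mul, Matrix.mul_sub, Matrix.one_mul,
      Matrix.mul_one, Matrix.smul_mul, Matrix.mul_smul, smul_smul, hab, hba]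
    module
  · simp only [Matrix.add_mul, Matrix.mul_add, Matrix.sub_mul, Matrix.mul_sub, Matrix.one_mul,
      Matrix.mul_one, Matrix.smul_mul, Matrix.mul_smul, smul_smul, hab, hba]
    module
  · simp only [Matrix.add_mul, Matrix.mul_add, Matrix.sub_mul, Matrix.mul_sub, Matrix.one_mul,
      Matrix.mul_one, Matrix.smul_mul, Matrix.mul_smul, smul_smul, hab, hba]
    module

/-- OUADD (S) -/
theorem uoMat_add {K : Type*} [Field K] (σ : K →+* K) (ε : K) (hε : ε * σ ε = -1) {m : ℕ}
    (C C' : Matrix (Fin m) (Fin m) K) : uoMat σ ε (C + C') = uoMat σ ε C * uoMat σ ε C' := by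
  unfold uoMat
  rw [Matrix.submatrix_mul_equiv, Matrix.fromBlocks_multiply, helper9_blk_add C C' ε (σ ε) hε]
  simp only [Matrix.zero_mul, Matrix.mul_zero, Matrix.one_mul, Matrix.mul_one, add_zero, zero_add]

end Cfsg.Agent.Lib.helper44.SUW
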