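import Mathlib
import Cfsg.Agent.Lib.helper49.SPEDefs

set_option autoImplicit false

namespace Cfsg.Agent.Lib.helper49.SPE

open Matrix

theorem helper9_sum_mul_eq_trace {F : Type*} [Field F] {n : ℕ} (X Y : Matrix (Fin n) (Fin n) F)
    (hY : ∀ i j, Y i j = Y j i) : ∑ i, ∑ j, X i j * Y i j = Matrix.trace (X * Y) := by
  simp only [Matrix.trace, Matrix.diag, Matrix.mul_apply]
  apply Finset.sum_congr rfl; intro i _
  apply Finset.sum_congr rfl; intro j _
  rw [hY i j]

theorem helper9_gam_syM {F : Type*} [Field F] {n : ℕ} (M a : Matrix (Fin n) (Fin n) F)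
    (ha : a ∈ symH F n) : gam (syM M) a = ∑ i, ∑ j, M i j * a i j := by
  have ha' : ∀ i j, a i j = a j i := ha
  have key : ∀ i j, upT (syM M) i j * a i j =
      ((if i = j then M i j * a i j else 0) + (if i < j then M i j * a i j else 0)) +
        (if i < j then M j i * a j i else 0) := by
    intro i j
    unfold upT syM
    rcases lt_trichotomy i j with h | h | h
    · have h1 : i ≤ j := le_of_lt h
      have h2 : i ≠ j := ne_of_lt h
      simp only [h1, h2, h, if_true, if_false]
      rw [ha' j i]; ring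
    · subst h
      simp
    · have h1 : ¬ i ≤ j := not_le.mpr h
      have h2 : i ≠ j := ne_of_gt h
      have h3 : ¬ i < j := not_lt.mpr (le_of_lt h)
      simp [h1, h2, h3]
  unfold gam
  have e1 : ∑ i, ∑ j, upT (syM M) i j * a i j =
      (∑ i, ∑ j, ((if i = j then M i j * a i j else 0) + (if i < j then M i j * a i j else 0))) +
        ∑ i, ∑ j, (if i < j then M j i * a j i else 0) := by
    rw [← Finset.sum_add_distrib]
    apply Finset.sum_congr rfl; intro i _
    rw [← Finset.sum_add_distrib]
    apply Finset.sum_congr rfl; intro j _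
    exact key i j
  have e2 : ∑ i : Fin n, ∑ j : Fin n, (if i < j then M j i * a j i else 0) =
      ∑ i : Fin n, ∑ j : Fin n, (if j < i then M i j * a i j else 0) := Finset.sum_comm
  rw [e1, e2, ← Finset.sum_add_distrib]
  apply Finset.sum_congr rfl; intro i _
  rw [← Finset.sum_add_distrib]
  apply Finset.sum_congr rfl; intro j _
  rcases lt_trichotomy i j with h | h | h
  · have h2 : i ≠ j := ne_of_lt h
    have h3 : ¬ j < i := not_lt.mpr (le_of_lt h)
    simp [h, h2, h3]
  · subst h; simp
  · have h2 : i ≠ j := ne_of_gt h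
    have h3 : ¬ i < j := not_lt.mpr (le_of_lt h)
    simp [h, h2, h3]

/-- GAM1 (M) -/
theorem gam_conj {F : Type*} [Field F] {n : ℕ} (B y a : Matrix (Fin n) (Fin n) F)
    (ha : a ∈ symH F n) : gam (conjY B y) a = gam y (B * a * Bᵀ) := by
  have ha' : ∀ i j, a i j = a j i := ha
  have haT : aᵀ = a := Matrix.ext (fun i j => ha' j i)
  have hsym : (B * a * Bᵀ)ᵀ = B * a * Bᵀ := by
    rw [Matrix.transpose_mul, Matrix.transpose_mul, Matrix.transpose_transpose, haT,
      Matrix.mul_assoc]
  have hsym' : ∀ k l, (B * a * Bᵀ) k l = (B * a * Bᵀ) l k :=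
    fun k l => congrFun (congrFun hsym l) k
  have e : gam y (B * a * Bᵀ) = Matrix.trace (upT y * (B * a * Bᵀ)) := by
    unfold gam
    exact helper9_sum_mul_eq_trace (upT y) _ hsym'
  unfold conjY
  rw [helper9_gam_syM _ a ha, helper9_sum_mul_eq_trace _ a ha', e]
  calc Matrix.trace (Bᵀ * upT y * B * a) = Matrix.trace (Bᵀ * (upT y * (B * a))) := by
        rw [Matrix.mul_assoc, Matrix.mul_assoc]
    _ = Matrix.trace (upT y * (B * a) * Bᵀ) := Matrix.trace_mul_comm _ _
    _ = Matrix.trace (upT y * (B * a * Bᵀ)) := by rw [Matrix.mul_assoc]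

end Cfsg.Agent.Lib.helper49.SPE
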