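import Cfsg.Agent.S3335
import Mathlib

set_option autoImplicit false
open Cfsg Cfsg.Agent.S3335

namespace Cfsg.Agent.Lib.helper70.SM

universe u

/-- The case `k = 3` of T6b, by an explicit computation in `Equiv.Perm (Fin 6)`. -/
theorem h9_exists_conj_three :
    ∃ h : PresentedGroup (rels 3),
      h * x 3 1 * h⁻¹ = x 3 1 * x 3 3 ∧
      h * (x 3 0 * x 3 1 * (x 3 0)⁻¹) * h⁻¹ = x 3 2 * (x 3 1 * x 3 3) * (x 3 2)⁻¹ := by
  obtain ⟨cs, hcs⟩ := Cfsg.Agent.S2530.result 5
  refine ⟨x 3 0 * x 3 1 * x 3 2 * x 3 0 * x 3 1 * x 3 3 * x 3 2, ?_, ?_⟩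
  · apply psi_injective 3 cs
    simp only [map_mul, map_inv, psi_x, gen, hcs]
    decide +kernel
  · apply psi_injective 3 cs
    simp only [map_mul, map_inv, psi_x, gen, hcs]
    decide +kernel

/-- The images of the generators of the degree-6 presentation in the degree-`(k+3)` one. -/
def h9_incFun (k : ℕ) (hk : 3 ≤ k) (j : Fin (3 + 1)) : PresentedGroup (rels k) :=
  x k ⟨j.val, by omega⟩

theorem h9_incFun_ok (k : ℕ) (hk : 3 ≤ k) :
    ∀ r ∈ rels 3, FreeGroup.lift (h9_incFun k hk) r = 1 := by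
  apply lift_ok
  · intro i hi
    exact x_cube k _ hi
  · intro i hi
    exact x_sq k _ hi
  · intro i j hij
    exact x_adj k _ _ hij
  · intro i j hij
    exact x_far k _ _ hij

/-- The homomorphism from the degree-6 presented group. -/
def h9_inc (k : ℕ) (hk : 3 ≤ k) : PresentedGroup (rels 3) →* PresentedGroup (rels k) :=
  PresentedGroup.toGroup (h9_incFun_ok k hk)

theorem h9_inc_x (k : ℕ) (hk : 3 ≤ k) (j : Fin (3 + 1)) :
    h9_inc k hk (x 3 j) = x k ⟨j.val, by omega⟩ :=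
  PresentedGroup.toGroup.of (h9_incFun_ok k hk)

/-- T6b (a conjugation inside the presented group). -/
theorem h9_exists_conj (k : ℕ) (i0 i1 i2 i3 : Fin (k + 1)) (h0 : i0.val = 0) (h1 : i1.val = 1)
    (h2 : i2.val = 2) (h3 : i3.val = 3) :
    ∃ h : PresentedGroup (rels k),
      h * x k i1 * h⁻¹ = x k i1 * x k i3 ∧
      h * (x k i0 * x k i1 * (x k i0)⁻¹) * h⁻¹ = x k i2 * (x k i1 * x k i3) * (x k i2)⁻¹ := by
  have hk : 3 ≤ k := by have := i3.isLt; omega
  obtain ⟨h, e1, e2⟩ := h9_exists_conj_three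
  have f0 : h9_inc k hk (x 3 0) = x k i0 := by
    rw [h9_inc_x]; congr 1; exact Fin.ext (by simp [h0])
  have f1 : h9_inc k hk (x 3 1) = x k i1 := by
    rw [h9_inc_x]; congr 1; exact Fin.ext (by simp [h1])
  have f2 : h9_inc k hk (x 3 2) = x k i2 := by
    rw [h9_inc_x]; congr 1; exact Fin.ext (by simp [h2])
  have f3 : h9_inc k hk (x 3 3) = x k i3 := by
    rw [h9_inc_x]; congr 1; exact Fin.ext (by simp [h3])
  refine ⟨h9_inc k hk h, ?_, ?_⟩
  · have := congrArg (h9_inc k hk) e1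
    simpa only [map_mul, map_inv, f0, f1, f2, f3] using this
  · have := congrArg (h9_inc k hk) e2
    simpa only [map_mul, map_inv, f0, f1, f2, f3] using this

end Cfsg.Agent.Lib.helper70.SM
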