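/-
Transport of automorphism groups of set systems along an isomorphism of set systems.
-/
import Mathlib
import Cfsg.Prelude.Def_Sporadic_a

set_option autoImplicit false

namespace Cfsg.Agent.Lib.helper9

open Cfsg
open scoped Pointwise

section

variable {α β : Type*} [DecidableEq α] [DecidableEq β]

theorem mem_setSystemAut_iff_image (B : Set (Finset α)) (g : Equiv.Perm α) :
    g ∈ setSystemAut B ↔ (fun b : Finset α => b.image g) '' B = B := by
  rw [MulAction.mem_stabilizer_iff]
  have : g • B = (fun b : Finset α => b.image g) '' B := by
    ext c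
    simp only [Set.mem_smul_set, Set.mem_image]
    constructor
    · rintro ⟨b, hb, rfl⟩
      exact ⟨b, hb, by ext x; simp [Finset.mem_smul_finset]⟩
    · rintro ⟨b, hb, rfl⟩
      exact ⟨b, hb, by ext x; simp [Finset.mem_smul_finset]⟩
  rw [this]

theorem setSystemIso_symm_image (e : α ≃ β) {B : Set (Finset α)} {B' : Set (Finset β)}
    (h : (fun b : Finset α => b.image e) '' B = B') :
    (fun b : Finset β => b.image e.symm) '' B' = B := by
  rw [← h, Set.image_image]
  have : (fun x : Finset α => (x.image e).image e.symm) = id := by
    funext x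
    rw [Finset.image_image]
    simp
  rw [this, Set.image_id]

theorem permCongr_mem_setSystemAut (e : α ≃ β) {B : Set (Finset α)} {B' : Set (Finset β)}
    (h : (fun b : Finset α => b.image e) '' B = B') (g : Equiv.Perm α)
    (hg : g ∈ setSystemAut B) : e.permCongr g ∈ setSystemAut B' := by
  rw [mem_setSystemAut_iff_image] at hg ⊢
  have h1 : (fun b : Finset β => b.image (e.permCongr g)) '' B' =
      (fun b : Finset α => b.image e) '' ((fun b : Finset α => b.image g) '' B) := by
    rw [← h, Set.image_image, Set.image_image]
    refine Set.image_congr' fun b => ?_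
    rw [Finset.image_image, Finset.image_image]
    refine Finset.image_congr fun x _ => ?_
    simp [Equiv.permCongr_apply]
  rw [h1, hg, h]

/-- Conjugation by an isomorphism of set systems, as an isomorphism of automorphism groups. -/
noncomputable def autCongr (e : α ≃ β) {B : Set (Finset α)} {B' : Set (Finset β)}
    (h : (fun b : Finset α => b.image e) '' B = B') : ↥(setSystemAut B) ≃* ↥(setSystemAut B') where
  toFun g := ⟨e.permCongr g, permCongr_mem_setSystemAut e h g g.2⟩
  invFun g := ⟨e.symm.permCongr g,
    permCongr_mem_setSystemAut e.symm (setSystemIso_symm_image e h) g g.2⟩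
  left_inv g := by
    apply Subtype.ext
    ext x
    simp [Equiv.permCongr_apply]
  right_inv g := by
    apply Subtype.ext
    ext x
    simp [Equiv.permCongr_apply]
  map_mul' g g' := by
    apply Subtype.ext
    ext x
    simp [Equiv.permCongr_apply]

theorem autCongr_apply (e : α ≃ β) {B : Set (Finset α)} {B' : Set (Finset β)}
    (h : (fun b : Finset α => b.image e) '' B = B') (g : ↥(setSystemAut B)) (x : α) :
    ((autCongr e h g : ↥(setSystemAut B')) : Equiv.Perm β) (e x) = e ((g : Equiv.Perm α) x) := by
  simp [autCongr, Equiv.permCongr_apply]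

/-- Multiple transitivity is transported along an isomorphism of set systems. -/
theorem multiplyPretransitive_of_iso (e : α ≃ β) {B : Set (Finset α)} {B' : Set (Finset β)}
    (h : (fun b : Finset α => b.image e) '' B = B') (n : ℕ)
    (hn : MulAction.IsMultiplyPretransitive ↥(setSystemAut B') β n) :
    MulAction.IsMultiplyPretransitive ↥(setSystemAut B) α n := by
  refine ⟨fun x y => ?_⟩
  obtain ⟨g', hg'⟩ := hn.exists_smul_eq (x.trans e.toEmbedding) (y.trans e.toEmbedding)
  refine ⟨(autCongr e h).symm g', ?_⟩
  ext i
  have h1 := congrArg (fun z : Fin n ↪ β => z i) hg'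
  simp only [Function.Embedding.smul_apply, Function.Embedding.trans_apply,
    Equiv.coe_toEmbedding] at h1
  have h2 := autCongr_apply e h ((autCongr e h).symm g') (x i)
  rw [MulEquiv.apply_symm_apply] at h2
  apply e.injective
  simp only [Function.Embedding.smul_apply]
  rw [← h1]
  exact h2.symm

/-- The stabilizer of a tuple is transported along an isomorphism of set systems. -/
theorem stabilizer_eq_bot_of_iso (e : α ≃ β) {B : Set (Finset α)} {B' : Set (Finset β)}
    (h : (fun b : Finset α => b.image e) '' B = B') (n : ℕ)
    (hn : ∀ x : Fin n ↪ β, MulAction.stabilizer ↥(setSystemAut B') x = ⊥) (x : Fin n ↪ α) :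
    MulAction.stabilizer ↥(setSystemAut B) x = ⊥ := by
  rw [Subgroup.eq_bot_iff_forall]
  intro g hg
  rw [MulAction.mem_stabilizer_iff] at hg
  have h1 : autCongr e h g ∈ MulAction.stabilizer ↥(setSystemAut B') (x.trans e.toEmbedding) := by
    rw [MulAction.mem_stabilizer_iff]
    ext i
    have h2 := congrArg (fun z : Fin n ↪ α => z i) hg
    have h4 : ((g : Equiv.Perm α)) (x i) = x i := h2
    have h3 := autCongr_apply e h g (x i)
    rw [h4] at h3
    exact h3
  rw [hn, Subgroup.mem_bot] at h1
  exact (autCongr e h).injective (by rw [h1, map_one])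

end

end Cfsg.Agent.Lib.helper9
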