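/-
The automorphism group of a Steiner system `S(4, 5, 11)` (given the uniqueness of the system and
the sharp 5-transitivity of the automorphism group of some `S(5, 6, 12)`).
-/
import Cfsg.Agent.Lib.helper9.AutTransport
import Cfsg.Agent.Lib.helper10.SharpTrans
import Cfsg.Agent.Lib.helper10.S3622Aut
import Cfsg.Agent.Lib.helper10.SteinerExt
import Cfsg.Agent.Lib.helper10.S3622Frame
import Cfsg.Agent.S0357
import Cfsg.Prelude.Def_Sporadic

set_option autoImplicit false

namespace Cfsg.Agent.Lib.helper9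

open Cfsg
open Cfsg.Agent.Lib.helper10
open scoped Pointwise

section

variable {γ : Type*} [Fintype γ] [DecidableEq γ]

theorem compl_map_ptEmb (p : γ) (l : Finset {y : γ // y ≠ p}) :
    (l.map (ptEmb p))ᶜ = insert p (lᶜ.map (ptEmb p)) := by
  ext z
  rw [Finset.mem_compl, Finset.mem_insert, Finset.mem_map, Finset.mem_map]
  constructor
  · intro h
    by_cases hz : z = p
    · exact Or.inl hz
    · refine Or.inr ⟨⟨z, hz⟩, ?_, rfl⟩
      rw [Finset.mem_compl]
      intro h'
      exact h ⟨⟨z, hz⟩, h', rfl⟩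
  · rintro (h | ⟨y, hy, rfl⟩)
    · rintro ⟨y, -, hy⟩
      exact y.2 (hy.trans h)
    · rintro ⟨y', hy', h'⟩
      have : y' = y := Subtype.ext h'
      rw [Finset.mem_compl] at hy
      exact hy (this ▸ hy')

theorem compl_insert_map_ptEmb (p : γ) (l : Finset {y : γ // y ≠ p}) :
    (insert p (l.map (ptEmb p)))ᶜ = lᶜ.map (ptEmb p) := by
  have h := compl_map_ptEmb p lᶜ
  rw [compl_compl] at h
  rw [← h, compl_compl]

theorem image_compl_equiv {δ : Type*} [Fintype δ] [DecidableEq δ] (τ : δ ≃ δ) (l : Finset δ) :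
    (lᶜ).image τ = (l.image τ)ᶜ := by
  ext z
  rw [Finset.mem_image, Finset.mem_compl, Finset.mem_image]
  constructor
  · rintro ⟨y, hy, rfl⟩ ⟨y', hy', h⟩
    rw [Finset.mem_compl] at hy
    exact hy (τ.injective h ▸ hy')
  · intro h
    refine ⟨τ.symm z, ?_, τ.apply_symm_apply z⟩
    rw [Finset.mem_compl]
    intro h'
    exact h ⟨τ.symm z, h', τ.apply_symm_apply z⟩

variable (hγ : Fintype.card γ = 12) {B₀ : Set (Finset γ)} (hB₀ : IsSteinerSystem 5 6 B₀)

include hγ hB₀ in
theorem res_of_der_compl (p : γ) {l : Finset {y : γ // y ≠ p}} (hl : l ∈ der B₀ p) :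
    lᶜ ∈ res B₀ p := by
  show lᶜ.map (ptEmb p) ∈ B₀
  rw [← compl_insert_map_ptEmb]
  exact Cfsg.Agent.S0357.result hγ hB₀ hl

include hγ hB₀ in
theorem der_of_res_compl (p : γ) {l : Finset {y : γ // y ≠ p}} (hl : l ∈ res B₀ p) :
    lᶜ ∈ der B₀ p := by
  show insert p (lᶜ.map (ptEmb p)) ∈ B₀
  rw [← compl_map_ptEmb]
  exact Cfsg.Agent.S0357.result hγ hB₀ hl

include hγ hB₀ in
/-- Every automorphism of the derived system of an `S(5, 6, 12)` extends. -/
theorem extPt_mem_aut_5612 (p : γ) (τ : Equiv.Perm {y : γ // y ≠ p})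
    (hτ : τ ∈ setSystemAut (der B₀ p)) : extPt p p τ ∈ setSystemAut B₀ := by
  have h1 := mem_aut_iff.1 hτ
  refine mem_aut_iff.2 (extPt_maps p p τ h1 (fun l hl => ?_))
  have h2 := res_of_der_compl hγ hB₀ p (h1 _ (der_of_res_compl hγ hB₀ p hl))
  rw [image_compl_equiv, compl_compl] at h2
  exact h2

include hγ hB₀ in
/-- The derived system of an `S(5, 6, 12)` with sharply 5-transitive automorphism group has a
sharply 4-transitive automorphism group. -/
theorem der_sharp_5612 (p : γ)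
    (h5 : MulAction.IsMultiplyPretransitive (setSystemAut B₀) γ 5)
    (hst : ∀ x : Fin 5 ↪ γ, MulAction.stabilizer (setSystemAut B₀) x = ⊥) :
    MulAction.IsMultiplyPretransitive (setSystemAut (der B₀ p)) {y : γ // y ≠ p} 4 ∧
      ∀ x : Fin 4 ↪ {y : γ // y ≠ p}, MulAction.stabilizer (setSystemAut (der B₀ p)) x = ⊥ := by
  have hra : ∀ x : Fin 4 ↪ {y : γ // y ≠ p}, p ∉ Set.range (x.trans (ptEmb p)) := by
    rintro x ⟨i, hi⟩
    exact (x i).2 hi
  refine ⟨?_, fun x => ?_⟩
  · rw [MulAction.isMultiplyPretransitive_iff]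
    intro x y
    obtain ⟨g, hg⟩ := (MulAction.isMultiplyPretransitive_iff.1 h5)
      (Fin.Embedding.cons (x.trans (ptEmb p)) (hra x)) (Fin.Embedding.cons (y.trans (ptEmb p)) (hra y))
    have hgp : (g : Equiv.Perm γ) p = p := by
      have := congrArg (fun z : Fin 5 ↪ γ => z 0) hg
      exact this
    refine ⟨⟨restrictPt (g : Equiv.Perm γ) hgp,
      mem_aut_iff.2 (restrictPt_der _ hgp (mem_aut_iff.1 g.2))⟩, ?_⟩
    refine Function.Embedding.ext fun i => Subtype.ext ?_
    have := congrArg (fun z : Fin 5 ↪ γ => z i.succ) hg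
    exact this
  · rw [Subgroup.eq_bot_iff_forall]
    intro τ hτ
    rw [MulAction.mem_stabilizer_iff] at hτ
    have hmem := extPt_mem_aut_5612 hγ hB₀ p (τ : Equiv.Perm {y : γ // y ≠ p}) τ.2
    have hfix : (⟨extPt p p (τ : Equiv.Perm {y : γ // y ≠ p}), hmem⟩ : setSystemAut B₀) ∈
        MulAction.stabilizer (setSystemAut B₀) (Fin.Embedding.cons (x.trans (ptEmb p)) (hra x)) := by
      rw [MulAction.mem_stabilizer_iff]
      refine Function.Embedding.ext fun i => ?_
      refine Fin.cases ?_ (fun j => ?_) i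
      · exact extPt_self p p _
      · have h1 : (extPt p p (τ : Equiv.Perm {y : γ // y ≠ p})) (x j).1 = ((τ : Equiv.Perm {y : γ // y ≠ p}) (x j)).1 :=
          extPt_coe p p _ (x j)
        have h2 := congrArg (fun z : Fin 4 ↪ {y : γ // y ≠ p} => (z j).1) hτ
        exact h1.trans h2
    rw [hst, Subgroup.mem_bot] at hfix
    have h3 : extPt p p (τ : Equiv.Perm {y : γ // y ≠ p}) = 1 := congrArg Subtype.val hfix
    apply Subtype.ext
    apply Equiv.ext
    intro y
    apply Subtype.ext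
    have h4 := extPt_coe p p (τ : Equiv.Perm {y : γ // y ≠ p}) y
    rw [h3] at h4
    exact h4.symm

end

/-- The automorphism group of a Steiner system `S(4, 5, 11)`, assuming uniqueness and given an
`S(5, 6, 12)` with sharply 5-transitive automorphism group. -/
theorem aut_4511 {α : Type*} [Fintype α] [DecidableEq α] (hα : Fintype.card α = 11)
    {B : Set (Finset α)}
    (huniq : ∀ (β : Type) [Fintype β] [DecidableEq β] (B' : Set (Finset β)),
      Fintype.card β = 11 → IsSteinerSystem 4 5 B' → SetSystemIso B B')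
    {γ : Type} [Fintype γ] [DecidableEq γ] (hγ : Fintype.card γ = 12) {B₀ : Set (Finset γ)}
    (hB₀ : IsSteinerSystem 5 6 B₀)
    (h5 : MulAction.IsMultiplyPretransitive (setSystemAut B₀) γ 5)
    (hst : ∀ x : Fin 5 ↪ γ, MulAction.stabilizer (setSystemAut B₀) x = ⊥) :
    IsM11 (setSystemAut B) ∧ MulAction.IsMultiplyPretransitive (setSystemAut B) α 4 ∧
      ∀ x : Fin 4 ↪ α, MulAction.stabilizer (setSystemAut B) x = ⊥ := by
  have hne : Nonempty γ := Fintype.card_pos_iff.1 (by rw [hγ]; norm_num)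
  obtain ⟨p⟩ := hne
  obtain ⟨h4, hs4⟩ := der_sharp_5612 hγ hB₀ p h5 hst
  obtain ⟨e, he⟩ := huniq _ (der B₀ p) (by rw [card_ptCompl, hγ]) (der_steiner hB₀ p)
  have h4' : MulAction.IsMultiplyPretransitive (setSystemAut B) α 4 :=
    multiplyPretransitive_of_iso e he 4 h4
  have hs4' : ∀ x : Fin 4 ↪ α, MulAction.stabilizer (setSystemAut B) x = ⊥ :=
    stabilizer_eq_bot_of_iso e he 4 hs4
  have hα' : Nat.card α = 11 := by rw [Nat.card_eq_fintype_card, hα]
  exact ⟨sharp_four_eleven hα' hs4', h4', hs4'⟩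

end Cfsg.Agent.Lib.helper9
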