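/-
Set systems on `Fin v` given by lists of bit masks; a Boolean test for being a Steiner system,
and a certificate checker showing that an automorphism fixing enough points is trivial.
-/
import Mathlib
import Cfsg.Prelude.Def_Sporadic_a
import Cfsg.Agent.Lib.helper9.AutTransport

set_option autoImplicit false

namespace Cfsg.Agent.Lib.helper9

open Cfsg

/-- The subset of `Fin v` encoded by the low bits of `c`. -/
def bitsOf (v c : ℕ) : Finset (Fin v) := Finset.univ.filter (fun i => c.testBit i.val = true)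

theorem mem_bitsOf {v c : ℕ} {i : Fin v} : i ∈ bitsOf v c ↔ c.testBit i.val = true := by
  simp [bitsOf]

/-- The number of set bits among the `v` low bits. -/
def pcv : ℕ → ℕ → ℕ
  | 0, _ => 0
  | v + 1, c => c % 2 + pcv v (c / 2)

theorem card_bitsOf (v c : ℕ) : (bitsOf v c).card = pcv v c := by
  induction v generalizing c with
  | zero => simp [bitsOf, pcv]
  | succ v ih =>
    rw [bitsOf, Finset.card_filter, Fin.sum_univ_succ, pcv, ← ih, bitsOf, Finset.card_filter]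
    congr 1
    · rcases Nat.mod_two_eq_zero_or_one c with h | h <;> simp [Nat.testBit_zero, h]
    · refine Finset.sum_congr rfl fun i _ => ?_
      simp [Nat.testBit_succ]

theorem bitsOf_and (v a b : ℕ) : bitsOf v (a &&& b) = bitsOf v a ∩ bitsOf v b := by
  ext i
  rw [Finset.mem_inter, mem_bitsOf, mem_bitsOf, mem_bitsOf, Nat.testBit_and, Bool.and_eq_true]

theorem exists_mask {v : ℕ} (s : Finset (Fin v)) : ∃ m, m < 2 ^ v ∧ bitsOf v m = s := by
  induction s using Finset.induction_on with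
  | empty =>
    refine ⟨0, Nat.two_pow_pos v, ?_⟩
    ext i
    simp [mem_bitsOf]
  | insert a s ha ih =>
    obtain ⟨m, hm, rfl⟩ := ih
    refine ⟨m ||| 2 ^ a.val, Nat.or_lt_two_pow hm (Nat.pow_lt_pow_right (by norm_num) a.2), ?_⟩
    ext i
    rw [Finset.mem_insert, mem_bitsOf, mem_bitsOf, Nat.testBit_or, Nat.testBit_two_pow,
      Bool.or_eq_true, decide_eq_true_eq]
    constructor
    · rintro (h | h)
      · exact Or.inr h
      · exact Or.inl (Fin.ext h.symm)
    · rintro (h | h)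
      · exact Or.inr (by rw [h])
      · exact Or.inl h

/-- The set system on `Fin v` given by a list of masks. -/
def stdSet (v : ℕ) (L : List ℕ) : Set (Finset (Fin v)) := {b | ∃ c ∈ L, b = bitsOf v c}

theorem bitsOf_mem_stdSet {v : ℕ} {L : List ℕ} {c : ℕ} (hc : c ∈ L) : bitsOf v c ∈ stdSet v L :=
  ⟨c, hc, rfl⟩

/-- Boolean test: the masks of `L` form a Steiner system `S(t, k, v)`. -/
def steinerChk (t k v : ℕ) (L : List ℕ) : Bool :=
  L.all (fun c => pcv v c == k) &&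
  (List.range (2 ^ v)).all
    (fun m => pcv v m != t || (L.filter (fun c => m &&& c == m)).length == 1)

theorem and_eq_of_bitsOf_subset {v m c : ℕ} (hm : m < 2 ^ v) (h : bitsOf v m ⊆ bitsOf v c) :
    m &&& c = m := by
  apply Nat.eq_of_testBit_eq
  intro i
  rw [Nat.testBit_and]
  by_cases hi : i < v
  · by_cases hmi : m.testBit i = true
    · have h0 : (⟨i, hi⟩ : Fin v) ∈ bitsOf v m := mem_bitsOf.2 hmi
      have := mem_bitsOf.1 (h h0)
      rw [hmi, this]
      rfl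
    · rw [Bool.not_eq_true] at hmi
      rw [hmi]
      rfl
  · have : m.testBit i = false :=
      Nat.testBit_eq_false_of_lt (lt_of_lt_of_le hm (Nat.pow_le_pow_right (by norm_num) (by omega)))
    rw [this]
    rfl

theorem bitsOf_subset_of_and_eq {v m c : ℕ} (h : m &&& c = m) : bitsOf v m ⊆ bitsOf v c := by
  intro i hi
  rw [← h, bitsOf_and] at hi
  exact (Finset.mem_inter.1 hi).2

theorem steiner_of_chk {t k v : ℕ} {L : List ℕ} (h : steinerChk t k v L = true) :
    IsSteinerSystem t k (stdSet v L) := by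
  rw [steinerChk, Bool.and_eq_true, List.all_eq_true, List.all_eq_true] at h
  obtain ⟨h1, h2⟩ := h
  refine ⟨?_, ?_⟩
  · rintro b ⟨c, hc, rfl⟩
    rw [card_bitsOf]
    exact beq_iff_eq.1 (h1 c hc)
  · intro s hs
    obtain ⟨m, hm, rfl⟩ := exists_mask s
    rw [card_bitsOf] at hs
    have h4 := h2 m (List.mem_range.2 hm)
    rw [Bool.or_eq_true] at h4
    rcases h4 with h4 | h4
    · simp [hs] at h4
    · obtain ⟨a, ha⟩ := List.length_eq_one_iff.1 (beq_iff_eq.1 h4)
      have hmem : ∀ c : ℕ, c ∈ L → bitsOf v m ⊆ bitsOf v c → c = a := by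
        intro c hc hsub
        have : c ∈ L.filter (fun c => m &&& c == m) :=
          List.mem_filter.2 ⟨hc, beq_iff_eq.2 (and_eq_of_bitsOf_subset hm hsub)⟩
        rw [ha] at this
        exact List.mem_singleton.1 this
      have ha' : a ∈ L.filter (fun c => m &&& c == m) := by rw [ha]; exact List.mem_singleton_self a
      rw [List.mem_filter] at ha'
      refine ⟨bitsOf v a, ⟨bitsOf_mem_stdSet ha'.1, bitsOf_subset_of_and_eq (beq_iff_eq.1 ha'.2)⟩, ?_⟩
      rintro b ⟨⟨c', hc', rfl⟩, hb⟩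
      rw [hmem c' hc' hb]

theorem aut_image {v : ℕ} {L : List ℕ} {σ : Equiv.Perm (Fin v)}
    (hσ : σ ∈ setSystemAut (stdSet v L)) {c : ℕ} (hc : c ∈ L) :
    ∃ c' ∈ L, (bitsOf v c).image σ = bitsOf v c' := by
  rw [mem_setSystemAut_iff_image] at hσ
  have h1 : (bitsOf v c).image σ ∈ (fun b : Finset (Fin v) => b.image σ) '' stdSet v L :=
    ⟨_, bitsOf_mem_stdSet hc, rfl⟩
  rw [hσ] at h1
  exact h1

/-- If an automorphism fixes all points of a block but one, it fixes that one too. -/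
theorem aut_fix {t v : ℕ} {L : List ℕ} (hL : IsSteinerSystem t (t + 1) (stdSet v L))
    {σ : Equiv.Perm (Fin v)} (hσ : σ ∈ setSystemAut (stdSet v L)) (c : ℕ) (j : Fin v)
    (hc : c ∈ L) (hj : c.testBit j.val = true)
    (hfix : ∀ i : Fin v, c.testBit i.val = true → i ≠ j → σ i = i) : σ j = j := by
  obtain ⟨c', hc', himg⟩ := aut_image hσ hc
  have hcard : ((bitsOf v c).erase j).card = t := by
    rw [Finset.card_erase_of_mem (mem_bitsOf.2 hj), hL.1 _ (bitsOf_mem_stdSet hc)]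
    rfl
  obtain ⟨b, -, huniq⟩ := hL.2 _ hcard
  have h1 : bitsOf v c = b := huniq _ ⟨bitsOf_mem_stdSet hc, Finset.erase_subset _ _⟩
  have h2 : bitsOf v c' = b := by
    refine huniq _ ⟨bitsOf_mem_stdSet hc', ?_⟩
    rw [← himg]
    intro i hi
    rw [Finset.mem_erase] at hi
    exact Finset.mem_image.2 ⟨i, hi.2, hfix i (mem_bitsOf.1 hi.2) hi.1⟩
  have h3 : σ j ∈ bitsOf v c := by
    rw [h1, ← h2, ← himg]
    exact Finset.mem_image_of_mem _ (mem_bitsOf.2 hj)
  by_contra hne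
  exact hne (σ.injective (hfix (σ j) (mem_bitsOf.1 h3) hne))

/-- The basic deduction step: two blocks sharing `t - 1` fixed points. -/
theorem aut_step {t v : ℕ} {L : List ℕ} (hL : IsSteinerSystem t (t + 1) (stdSet v L))
    {σ : Equiv.Perm (Fin v)} (hσ : σ ∈ setSystemAut (stdSet v L)) (S : ℕ) (y z y' w : Fin v)
    (hS : ∀ i : Fin v, S.testBit i.val = true → σ i = i)
    (hb : S ||| 2 ^ y.val ||| 2 ^ z.val ∈ L) (hb' : S ||| 2 ^ y'.val ||| 2 ^ w.val ∈ L)
    (hc : pcv v (S ||| 2 ^ y'.val) = t) (hyz : z ≠ y) (hzS : S.testBit z.val = false)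
    (hy : σ y = y') : σ z = w := by
  obtain ⟨c', hc', himg⟩ := aut_image hσ hb
  have hcard : (bitsOf v (S ||| 2 ^ y'.val)).card = t := by rw [card_bitsOf, hc]
  obtain ⟨b, -, huniq⟩ := hL.2 _ hcard
  have h1 : bitsOf v (S ||| 2 ^ y'.val ||| 2 ^ w.val) = b := by
    refine huniq _ ⟨bitsOf_mem_stdSet hb', ?_⟩
    intro i hi
    rw [mem_bitsOf] at hi ⊢
    rw [Nat.testBit_or, hi, Bool.true_or]
  have h2 : bitsOf v c' = b := by
    refine huniq _ ⟨bitsOf_mem_stdSet hc', ?_⟩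
    rw [← himg]
    intro i hi
    rw [mem_bitsOf, Nat.testBit_or, Nat.testBit_two_pow, Bool.or_eq_true,
      decide_eq_true_eq] at hi
    rcases hi with hi | hi
    · refine Finset.mem_image.2 ⟨i, ?_, hS i hi⟩
      rw [mem_bitsOf, Nat.testBit_or, Nat.testBit_or, hi, Bool.true_or, Bool.true_or]
    · refine Finset.mem_image.2 ⟨y, ?_, hy.trans (Fin.ext hi)⟩
      rw [mem_bitsOf, Nat.testBit_or, Nat.testBit_or, Nat.testBit_two_pow]
      simp
  have h3 : σ z ∈ bitsOf v (S ||| 2 ^ y'.val ||| 2 ^ w.val) := by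
    rw [h1, ← h2, ← himg]
    refine Finset.mem_image_of_mem _ ?_
    rw [mem_bitsOf, Nat.testBit_or, Nat.testBit_two_pow]
    simp
  rw [mem_bitsOf, Nat.testBit_or, Nat.testBit_or, Nat.testBit_two_pow, Nat.testBit_two_pow,
    Bool.or_eq_true, Bool.or_eq_true, decide_eq_true_eq, decide_eq_true_eq] at h3
  rcases h3 with (h3 | h3) | h3
  · exfalso
    have h4 := σ.injective (hS _ h3)
    rw [h4, hzS] at h3
    exact Bool.false_ne_true h3
  · exfalso
    exact hyz (σ.injective ((Fin.ext h3 : y' = σ z) ▸ hy.symm ▸ rfl))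
  · exact (Fin.ext h3).symm

/-- A step of a rigidity certificate: `clo c j` (all points of the block `c` but `j` are already
known to be fixed) or `mat y es` (for every possible image `y'` of `y`, an entry
`(y', S₁, z, w₁, S₂, w₂)` of `es` refutes it). -/
inductive RStep where
  | clo (c j : ℕ) : RStep
  | mat (y : ℕ) (es : List (ℕ × ℕ × ℕ × ℕ × ℕ × ℕ)) : RStep

/-- Validity of an entry of a `mat` step. -/
def RValid (t v : ℕ) (L : List ℕ) (F y : ℕ) (e : ℕ × ℕ × ℕ × ℕ × ℕ × ℕ) : Prop :=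
  (∀ i < v, e.2.1.testBit i = true → F.testBit i = true) ∧
  (∀ i < v, e.2.2.2.2.1.testBit i = true → F.testBit i = true) ∧
  e.2.2.1 < v ∧ e.2.2.2.1 < v ∧ e.2.2.2.2.2 < v ∧
  (e.2.1 ||| 2 ^ y ||| 2 ^ e.2.2.1) ∈ L ∧ (e.2.1 ||| 2 ^ e.1 ||| 2 ^ e.2.2.2.1) ∈ L ∧
  (e.2.2.2.2.1 ||| 2 ^ y ||| 2 ^ e.2.2.1) ∈ L ∧
  (e.2.2.2.2.1 ||| 2 ^ e.1 ||| 2 ^ e.2.2.2.2.2) ∈ L ∧
  pcv v (e.2.1 ||| 2 ^ e.1) = t ∧ pcv v (e.2.2.2.2.1 ||| 2 ^ e.1) = t ∧
  e.2.2.1 ≠ y ∧ e.2.1.testBit e.2.2.1 = false ∧ e.2.2.2.2.1.testBit e.2.2.1 = false ∧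
  e.2.2.2.1 ≠ e.2.2.2.2.2

instance (t v : ℕ) (L : List ℕ) (F y : ℕ) (e : ℕ × ℕ × ℕ × ℕ × ℕ × ℕ) :
    Decidable (RValid t v L F y e) := by
  unfold RValid
  infer_instance

/-- The certificate checker; `F` is the mask of the points known to be fixed. -/
def rchk (t v : ℕ) (L : List ℕ) : ℕ → List RStep → Bool
  | F, [] => decide (∀ i < v, F.testBit i = true)
  | F, .clo c j :: r =>
    decide (c ∈ L ∧ j < v ∧ c.testBit j = true ∧
      ∀ i < v, c.testBit i = true → i ≠ j → F.testBit i = true) && rchk t v L (F ||| 2 ^ j) r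
  | F, .mat y es :: r =>
    decide (y < v ∧ ∀ y' < v, F.testBit y' = true ∨ y' = y ∨
      ∃ e ∈ es, e.1 = y' ∧ RValid t v L F y e) && rchk t v L (F ||| 2 ^ y) r

theorem rigid_of_chk {t v : ℕ} {L : List ℕ} (hL : IsSteinerSystem t (t + 1) (stdSet v L))
    {σ : Equiv.Perm (Fin v)} (hσ : σ ∈ setSystemAut (stdSet v L)) :
    ∀ (steps : List RStep) (F : ℕ), rchk t v L F steps = true →
      (∀ i : Fin v, F.testBit i.val = true → σ i = i) → σ = 1 := by
  intro steps
  induction steps with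
  | nil =>
    intro F h hF
    rw [rchk, decide_eq_true_eq] at h
    ext i
    rw [hF i (h i.val i.2)]
    rfl
  | cons s r ih =>
    intro F h hF
    cases s with
    | clo c j =>
      rw [rchk, Bool.and_eq_true, decide_eq_true_eq] at h
      obtain ⟨⟨hc, hj, hcj, hall⟩, h⟩ := h
      refine ih _ h (fun i hi => ?_)
      rw [Nat.testBit_or, Nat.testBit_two_pow, Bool.or_eq_true, decide_eq_true_eq] at hi
      rcases hi with hi | hi
      · exact hF i hi
      · have hij : i = ⟨j, hj⟩ := Fin.ext hi.symm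
        rw [hij]
        refine aut_fix hL hσ c ⟨j, hj⟩ hc hcj (fun i' hi' hne => ?_)
        exact hF i' (hall i'.val i'.2 hi' (fun h' => hne (Fin.ext h')))
    | mat y es =>
      rw [rchk, Bool.and_eq_true, decide_eq_true_eq] at h
      obtain ⟨⟨hy, hall⟩, h⟩ := h
      refine ih _ h (fun i hi => ?_)
      rw [Nat.testBit_or, Nat.testBit_two_pow, Bool.or_eq_true, decide_eq_true_eq] at hi
      rcases hi with hi | hi
      · exact hF i hi
      · have hij : i = ⟨y, hy⟩ := Fin.ext hi.symm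
        rw [hij]
        rcases hall (σ ⟨y, hy⟩).val (σ ⟨y, hy⟩).2 with h1 | h1 | ⟨e, he, h1, hv⟩
        · exact σ.injective (hF _ h1)
        · exact Fin.ext h1
        · exfalso
          obtain ⟨hS1, hS2, hz, hw1, hw2, hb1, hb1', hb2, hb2', hp1, hp2, hzy, hz1, hz2, hww⟩ := hv
          have hy' : σ ⟨y, hy⟩ = ⟨e.1, h1 ▸ (σ ⟨y, hy⟩).2⟩ := Fin.ext h1.symm
          have k1 := aut_step hL hσ e.2.1 ⟨y, hy⟩ ⟨e.2.2.1, hz⟩ ⟨e.1, h1 ▸ (σ ⟨y, hy⟩).2⟩
            ⟨e.2.2.2.1, hw1⟩ (fun i hi => hF i (hS1 i.val i.2 hi)) hb1 hb1' hp1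
            (fun h' => hzy (congrArg Fin.val h')) hz1 hy'
          have k2 := aut_step hL hσ e.2.2.2.2.1 ⟨y, hy⟩ ⟨e.2.2.1, hz⟩ ⟨e.1, h1 ▸ (σ ⟨y, hy⟩).2⟩
            ⟨e.2.2.2.2.2, hw2⟩ (fun i hi => hF i (hS2 i.val i.2 hi)) hb2 hb2' hp2
            (fun h' => hzy (congrArg Fin.val h')) hz2 hy'
          exact hww (congrArg Fin.val (k1.symm.trans k2))

end Cfsg.Agent.Lib.helper9
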