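/-
An explicit Steiner system `S(5, 6, 12)` on `Fin 12` (the hexads of a dodecad, relabelled) and
the triviality of its automorphisms fixing five points.
-/
import Cfsg.Agent.Lib.helper9.BitSteiner

set_option autoImplicit false

namespace Cfsg.Agent.Lib.helper9

open Cfsg

/-- The 132 blocks, as bit masks. -/
def Std12 : List ℕ :=
  [63, 219, 238, 245, 350, 359, 377, 407, 427, 444, 461, 498, 599, 621, 634, 655, 694, 697, 732, 739, 797, 814, 819, 843, 884, 922, 933, 966, 977, 1000, 1117, 1131, 1142, 1182, 1197, 1203, 1223, 1272, 1295, 1333, 1338, 1363, 1388, 1433, 1446, 1482, 1492, 1505, 1563, 1575, 1596, 1614, 1649, 1685, 1706, 1737, 1746, 1764, 1814, 1833, 1861, 1880, 1890, 1923, 1932, 1968, 2127, 2163, 2172, 2205, 2215, 2234, 2262, 2281, 2331, 2349, 2358, 2389, 2410, 2446, 2481, 2499, 2520, 2532, 2590, 2603, 2613, 2649, 2662, 2707, 2732, 2757, 2762, 2800, 2823, 2872, 2892, 2898, 2913, 2953, 2964, 2978, 3095,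 3118, 3129, 3162, 3173, 3211, 3252, 3276, 3281, 3298, 3356, 3363, 3398, 3401, 3440, 3461, 3474, 3496, 3597, 3634, 3651, 3668, 3688, 3718, 3736, 3745, 3850, 3857, 3876, 4032]

theorem std12_steiner : IsSteinerSystem 5 6 (stdSet 12 Std12) :=
  steiner_of_chk (by decide +kernel)

/-- The rigidity certificate. -/
def rigCert12 : List RStep :=
  [RStep.clo 63 5,
   RStep.mat 6 [(7, 15, 11, 9, 51, 10), (8, 15, 11, 10, 51, 9), (9, 15, 11, 7, 51, 8), (10, 15, 11, 8, 51, 7), (11, 23, 9, 10, 45, 8)],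
   RStep.mat 7 [(6, 15, 9, 11, 57, 8), (8, 15, 9, 10, 57, 6), (9, 23, 8, 6, 43, 11), (10, 15, 9, 8, 57, 11), (11, 15, 9, 6, 57, 10)],
   RStep.mat 8 [(6, 15, 10, 11, 53, 7), (7, 15, 10, 9, 53, 6), (9, 15, 10, 7, 53, 11), (10, 23, 7, 11, 43, 6), (11, 15, 10, 6, 53, 9)],
   RStep.mat 9 [(6, 15, 7, 11, 57, 8), (7, 23, 6, 8, 45, 10), (8, 15, 7, 10, 57, 6), (10, 15, 7, 8, 57, 11), (11, 15, 7, 6, 57, 10)],
   RStep.mat 10 [(6, 15, 8, 11, 53, 7), (7, 15, 8, 9, 53, 6), (8, 23, 11, 7, 57, 6), (9, 15, 8, 7, 53, 11), (11, 15, 8, 6, 53, 9)],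
   RStep.mat 11 [(6, 23, 10, 9, 57, 8), (7, 15, 6, 9, 51, 10), (8, 15, 6, 10, 51, 9), (9, 15, 6, 7, 51, 8), (10, 15, 6, 8, 51, 7)]]

theorem rigCert12_ok : rchk 5 12 Std12 31 rigCert12 = true := by decide +kernel

/-- An automorphism fixing the points `0, ..., 4` is trivial. -/
theorem std12_rigid {σ : Equiv.Perm (Fin 12)} (hσ : σ ∈ setSystemAut (stdSet 12 Std12))
    (h : ∀ i : Fin 12, i.val < 5 → σ i = i) : σ = 1 := by
  refine rigid_of_chk std12_steiner hσ rigCert12 31 rigCert12_ok (fun i hi => h i ?_)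
  revert i
  decide

end Cfsg.Agent.Lib.helper9
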