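/-
The automorphism group of a Steiner system `S(5, 6, 12)` (given the uniqueness of the system):
sharp 5-transitivity, hence simplicity and order 95040.
-/
import Cfsg.Agent.Lib.helper9.Steiner12Data
import Cfsg.Agent.Lib.helper9.M12Simple
import Cfsg.Agent.Lib.helper10.S3622Aut
import Cfsg.Agent.S0385
import Cfsg.Prelude.Def_Sporadic

set_option autoImplicit false

namespace Cfsg.Agent.Lib.helper9

open Cfsg
open scoped Pointwise

/-- The hexads of a dodecad `d`, as a set system on the points of `d`. -/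
def hexSys (d : Finset GolayPt) : Set (Finset {p : GolayPt // p ∈ d}) :=
  {h | ∃ o ∈ octads, (o ∩ d).card = 6 ∧ h = Finset.subtype (fun p => p ∈ d) o}

theorem hexSys_steiner {d : Finset GolayPt} (hd : d ∈ dodecads) :
    IsSteinerSystem 5 6 (hexSys d) := Cfsg.Agent.S0385.result d hd

theorem card_dodPts {d : Finset GolayPt} (hd : d ∈ dodecads) :
    Fintype.card {p : GolayPt // p ∈ d} = 12 := by
  rw [Fintype.card_coe]
  exact hd.2

theorem hexSys_map {d : Finset GolayPt} (g : Equiv.Perm GolayPt) (hg : g ∈ M24) (hgd : g • d = d)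
    (hp : ∀ p, g p ∈ d ↔ p ∈ d) : ∀ b ∈ hexSys d, b.image (g.subtypePerm hp) ∈ hexSys d := by
  rintro b ⟨o, ho, h6, rfl⟩
  refine ⟨g • o, ?_, ?_, ?_⟩
  · have h1 := smul_octads_of_mem_M24 g hg
    rw [← h1]
    exact Set.smul_mem_smul_set ho
  · have h1 : g • o ∩ d = g • (o ∩ d) := by rw [Finset.smul_finset_inter, hgd]
    rw [h1, Finset.card_smul_finset]
    exact h6
  · ext ⟨p, hpd⟩
    rw [Finset.mem_image, Finset.mem_subtype]
    constructor
    · rintro ⟨⟨q, hqd⟩, hq, hqp⟩
      rw [Finset.mem_subtype] at hq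
      have h2 : g q = p := congrArg Subtype.val hqp
      show p ∈ g • o
      rw [← h2]
      exact Finset.smul_mem_smul_finset hq
    · intro h
      obtain ⟨q, hq, hqp⟩ := Finset.mem_smul_finset.1 h
      have hqd : q ∈ d := (hp q).1 (by rw [show g q = p from hqp]; exact hpd)
      exact ⟨⟨q, hqd⟩, Finset.mem_subtype.2 hq, Subtype.ext hqp⟩

theorem smul_mem_iff_of_smul_eq {d : Finset GolayPt} {g : Equiv.Perm GolayPt} (hgd : g • d = d)
    (p : GolayPt) : g p ∈ d ↔ p ∈ d := by
  conv_lhs => rw [← hgd]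
  exact Finset.smul_mem_smul_finset_iff g

/-- The automorphism group of the hexad system of a dodecad is 5-transitive. -/
theorem hexSys_trans {d : Finset GolayPt} (hd : d ∈ dodecads) :
    MulAction.IsMultiplyPretransitive (setSystemAut (hexSys d)) {p : GolayPt // p ∈ d} 5 := by
  rw [MulAction.isMultiplyPretransitive_iff]
  intro x y
  obtain ⟨g, hg, hgd, hmap, -⟩ := dod_sharp5 d hd
    (x.trans (Function.Embedding.subtype _)) (y.trans (Function.Embedding.subtype _))
    (fun i => (x i).2) (fun i => (y i).2)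
  refine ⟨⟨g.subtypePerm (smul_mem_iff_of_smul_eq hgd), ?_⟩, ?_⟩
  · exact Cfsg.Agent.Lib.helper10.mem_aut_iff.2 (hexSys_map g hg hgd _)
  · exact Function.Embedding.ext fun i => Subtype.ext (hmap i)

/-- If one tuple has trivial stabilizer, so has every tuple in a transitive action. -/
theorem stabilizer_eq_bot_of_pretransitive {G X : Type*} [Group G] [MulAction G X]
    (hp : MulAction.IsPretransitive G X) (x₀ : X) (h : MulAction.stabilizer G x₀ = ⊥) (x : X) :
    MulAction.stabilizer G x = ⊥ := by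
  obtain ⟨g, rfl⟩ := MulAction.exists_smul_eq G x₀ x
  rw [MulAction.stabilizer_smul_eq_stabilizer_map_conj, h, Subgroup.map_bot]

/-- Every automorphism of the explicit system on `Fin 12` fixing five points is trivial,
provided the automorphism group is 5-transitive. -/
theorem std12_stab (h5 : MulAction.IsMultiplyPretransitive (setSystemAut (stdSet 12 Std12)) (Fin 12) 5)
    (x : Fin 5 ↪ Fin 12) : MulAction.stabilizer (setSystemAut (stdSet 12 Std12)) x = ⊥ := by
  refine stabilizer_eq_bot_of_pretransitive h5 (Fin.castLEEmb (by norm_num : 5 ≤ 12)) ?_ x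
  rw [Subgroup.eq_bot_iff_forall]
  intro σ hσ
  rw [MulAction.mem_stabilizer_iff] at hσ
  apply Subtype.ext
  refine std12_rigid σ.2 (fun i hi => ?_)
  have := congrArg (fun z : Fin 5 ↪ Fin 12 => z ⟨i.val, hi⟩) hσ
  exact this

/-- The automorphism group of a Steiner system `S(5, 6, 12)`, assuming uniqueness. -/
theorem aut_5612 {α : Type*} [Fintype α] [DecidableEq α] (hα : Fintype.card α = 12)
    {B : Set (Finset α)}
    (huniq : ∀ (β : Type) [Fintype β] [DecidableEq β] (B' : Set (Finset β)),
      Fintype.card β = 12 → IsSteinerSystem 5 6 B' → SetSystemIso B B') :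
    IsM12 (setSystemAut B) ∧ MulAction.IsMultiplyPretransitive (setSystemAut B) α 5 ∧
      ∀ x : Fin 5 ↪ α, MulAction.stabilizer (setSystemAut B) x = ⊥ := by
  obtain ⟨e, he⟩ := huniq _ (hexSys (decSet d1)) (card_dodPts d1_mem) (hexSys_steiner d1_mem)
  have h5 : MulAction.IsMultiplyPretransitive (setSystemAut B) α 5 :=
    multiplyPretransitive_of_iso e he 5 (hexSys_trans d1_mem)
  obtain ⟨e2, he2⟩ := huniq (Fin 12) (stdSet 12 Std12) (by simp) std12_steiner
  have h5' : MulAction.IsMultiplyPretransitive (setSystemAut (stdSet 12 Std12)) (Fin 12) 5 :=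
    multiplyPretransitive_of_iso e2.symm (setSystemIso_symm_image e2 he2) 5 h5
  have hst : ∀ x : Fin 5 ↪ α, MulAction.stabilizer (setSystemAut B) x = ⊥ :=
    stabilizer_eq_bot_of_iso e2 he2 5 (std12_stab h5')
  have hα' : Nat.card α = 12 := by rw [Nat.card_eq_fintype_card, hα]
  exact ⟨Cfsg.Agent.Lib.helper10.sharp_five_twelve hα' hst, h5, hst⟩

end Cfsg.Agent.Lib.helper9
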