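import Mathlib
import Cfsg.Agent.Lib.helper86.IvDefs
import Cfsg.Agent.Lib.helper70.FlavellC

set_option autoImplicit false

namespace Cfsg.Agent.Lib.helper86.IV

/-- CEN core: GEN as a hypothesis. -/
theorem helper9_iv_central_core {G : Type*} [Group G] [Finite G] (α : MulAut G) (h : IvHyp α)
    (hgen : Subgroup.closure (ivI α) = ⊤) (N : Subgroup G)
    [N.Normal] (hN : ∀ n ∈ N, α n ∈ N)
    (hinj : ∀ x ∈ ivI α, ∀ x' ∈ ivI α, x⁻¹ * x' ∈ N → x = x') : N ≤ Subgroup.center G := by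
  classical
  -- an element commuting with all of `ivI α` is central
  have hcen : ∀ z : G, (∀ x ∈ ivI α, x * z = z * x) → z ∈ Subgroup.center G := by
    intro z hz
    rw [Subgroup.mem_center_iff]
    intro g
    have hg : g ∈ Subgroup.closure (ivI α) := by rw [hgen]; trivial
    have hle : Subgroup.closure (ivI α) ≤ Subgroup.centralizer {z} := by
      rw [Subgroup.closure_le]
      intro x hx
      rw [SetLike.mem_coe, Subgroup.mem_centralizer_iff]
      intro y hy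
      rw [Set.mem_singleton_iff] at hy
      subst hy
      exact (hz x hx).symm
    have h1 := hle hg
    rw [Subgroup.mem_centralizer_iff] at h1
    exact (h1 z rfl).symm
  -- key claim
  have hkey : ∀ x ∈ ivI α, ∀ k : G, α k = k⁻¹ → x⁻¹ * k ∈ N → ∃ e : ℕ, x = k ^ e := by
    intro x hx k hk hxk
    obtain ⟨hxo, hxa⟩ := hx
    obtain ⟨M, hM⟩ : ∃ M : ℕ, M = Nat.card G * Nat.totient (orderOf x) := ⟨_, rfl⟩
    refine ⟨2 ^ M, ?_⟩
    have h2M : 2 ^ M ≡ 1 [MOD orderOf x] := by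
      have h1 : 2 ^ Nat.totient (orderOf x) ≡ 1 [MOD orderOf x] :=
        Nat.ModEq.pow_totient (Nat.coprime_two_left.mpr hxo)
      have h2 := h1.pow (Nat.card G)
      rw [one_pow, ← pow_mul, mul_comm, ← hM] at h2
      exact h2
    have hxe : x ^ (2 ^ M) = x := by
      have h3 := (pow_eq_pow_iff_modEq (x := x) (n := 2 ^ M) (m := 1)).mpr h2M
      rwa [pow_one] at h3
    have hkI : k ^ (2 ^ M) ∈ ivI α := by
      refine ⟨?_, (Cfsg.Agent.Lib.helper70.flv_iter_pow α k hk M).2⟩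
      have htp : 1 ≤ Nat.totient (orderOf x) := Nat.totient_pos.mpr (orderOf_pos x)
      have hMe : M = Nat.card G + Nat.card G * (Nat.totient (orderOf x) - 1) := by
        rw [hM]
        obtain ⟨t, ht⟩ : ∃ t, Nat.totient (orderOf x) = t + 1 := ⟨_, (Nat.sub_add_cancel htp).symm⟩
        rw [ht]; simp; ring
      have h1 : k ^ (2 ^ M) =
          (k ^ (2 ^ Nat.card G)) ^ (2 ^ (Nat.card G * (Nat.totient (orderOf x) - 1))) := by
        rw [← pow_mul, ← pow_add, ← hMe]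
      rw [h1]
      exact Odd.of_dvd_nat (Cfsg.Agent.Lib.helper70.flv_odd_order_pow k) (orderOf_pow_dvd _)
    apply hinj x ⟨hxo, hxa⟩ _ hkI
    have h1 : ((x : G) : G ⧸ N) = (k : G ⧸ N) := QuotientGroup.eq.mpr hxk
    apply QuotientGroup.eq.mp
    rw [QuotientGroup.mk_pow, ← h1, ← QuotientGroup.mk_pow, hxe]
  -- `x ∈ ivI α` commutes with `n * (α n)⁻¹`
  have hz : ∀ n ∈ N, ∀ x ∈ ivI α, x * (n * (α n)⁻¹) = (n * (α n)⁻¹) * x := by
    intro n hn x hx
    obtain ⟨hxo, hxa⟩ := hx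
    obtain ⟨j, hj⟩ := hxo
    obtain ⟨w, hw⟩ : ∃ w : G, w = x ^ (j + 1) := ⟨_, rfl⟩
    have hww : w * w = x := by
      rw [hw, ← pow_add]
      have h1 : j + 1 + (j + 1) = orderOf x + 1 := by omega
      rw [h1, pow_succ, pow_orderOf_eq_one, one_mul]
    have hwa : α w = w⁻¹ := by rw [hw, map_pow, hxa, inv_pow]
    obtain ⟨z, hzdef⟩ : ∃ z : G, z = n * (α n)⁻¹ := ⟨_, rfl⟩
    have hzN : z ∈ N := by rw [hzdef]; exact N.mul_mem hn (N.inv_mem (hN n hn))
    have hza : α z = z⁻¹ := by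
      rw [hzdef, map_mul, map_inv, h.invol, mul_inv_rev, inv_inv]
    have hkα : α (w * z * w) = (w * z * w)⁻¹ := by
      rw [map_mul, map_mul, hwa, hza]; group
    have hxk : x⁻¹ * (w * z * w) ∈ N := by
      have e : x⁻¹ * (w * z * w) = w⁻¹ * z * w⁻¹⁻¹ := by
        rw [← hww]; group
      rw [e]
      exact (inferInstance : N.Normal).conj_mem z hzN w⁻¹
    obtain ⟨e, he⟩ := hkey x ⟨⟨j, hj⟩, hxa⟩ (w * z * w) hkα hxk
    have hxk_comm : Commute x (w * z * w) := by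
      have h1 : Commute ((w * z * w) ^ e) (w * z * w) := (Commute.refl (w * z * w)).pow_left e
      rw [← he] at h1
      exact h1
    have hxw : Commute x w := by rw [hw]; exact (Commute.refl x).pow_right _
    have hzk : z = w⁻¹ * (w * z * w) * w⁻¹ := by group
    have h5 : Commute x z := by
      rw [hzk]
      exact ((hxw.inv_right).mul_right hxk_comm).mul_right hxw.inv_right
    rw [← hzdef]
    exact h5.eq
  have hzc : ∀ n ∈ N, n * (α n)⁻¹ ∈ Subgroup.center G := fun n hn => hcen _ (hz n hn)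
  intro n hn
  apply hcen
  intro x hx
  obtain ⟨hxo, hxa⟩ := hx
  have hzn := hzc n hn
  rw [Subgroup.mem_center_iff] at hzn
  have hy : n⁻¹ * x * n ∈ ivI α := by
    refine ⟨?_, ?_⟩
    · have e : n⁻¹ * x * n = MulAut.conj n⁻¹ x := by rw [MulAut.conj_apply, inv_inv]
      rw [e, MulEquiv.orderOf_eq]; exact hxo
    · rw [map_mul, map_mul, map_inv, hxa]
      have e2 : (n * (α n)⁻¹) * x⁻¹ = x⁻¹ * (n * (α n)⁻¹) := (hzn x⁻¹).symm
      calc (α n)⁻¹ * x⁻¹ * α n = n⁻¹ * ((n * (α n)⁻¹) * x⁻¹) * α n := by group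
        _ = n⁻¹ * (x⁻¹ * (n * (α n)⁻¹)) * α n := by rw [e2]
        _ = (n⁻¹ * x * n)⁻¹ := by group
  have hmem : x⁻¹ * (n⁻¹ * x * n) ∈ N := by
    have e : x⁻¹ * (n⁻¹ * x * n) = (x⁻¹ * n⁻¹ * x⁻¹⁻¹) * n := by group
    rw [e]
    exact N.mul_mem ((inferInstance : N.Normal).conj_mem _ (N.inv_mem hn) _) hn
  have hxy := hinj x ⟨hxo, hxa⟩ _ hy hmem
  calc x * n = n * (n⁻¹ * x * n) := by group
    _ = n * x := by rw [← hxy]

end Cfsg.Agent.Lib.helper86.IV
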