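import Mathlib
import Cfsg.Agent.Lib.helper86.IvDefs
import Cfsg.Agent.Lib.helper98.IvGEN
import Cfsg.Agent.Lib.helper9.IvCENcore

set_option autoImplicit false

namespace Cfsg.Agent.Lib.helper86.IV

/-- CEN : an `α`-invariant normal subgroup mod which `ivI α` stays injective is central (uses GEN). -/
theorem iv_central {G : Type*} [Group G] [Finite G] (α : MulAut G) (h : IvHyp α) (N : Subgroup G)
    [N.Normal] (hN : ∀ n ∈ N, α n ∈ N)
    (hinj : ∀ x ∈ ivI α, ∀ x' ∈ ivI α, x⁻¹ * x' ∈ N → x = x') : N ≤ Subgroup.center G := by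
  exact helper9_iv_central_core α h (iv_gen α h) N hN hinj

end Cfsg.Agent.Lib.helper86.IV
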