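import Mathlib
import Cfsg.Agent.Lib.helper89.S60Defs

set_option autoImplicit false
set_option linter.unusedSimpArgs false

namespace Cfsg.Agent.Lib.helper89.S60

open Matrix Cfsg Cfsg.Geo

/-- Matrix-level core of AFR: a multiplicatively closed set `RM` of matrices with squares `±1`,
commutators `±1`, Schur, containing `w • 1` and not contained in any set of 16 matrices, has four
pairwise anticommuting involutions. -/
theorem helper9_s60_frame_core {F : Type*} [Field F] (RM : Set (Matrix (Fin 4) (Fin 4) F))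
    (w : F) (hw : w * w = -1)
    (hmul : ∀ m ∈ RM, ∀ n ∈ RM, m * n ∈ RM)
    (hwR : w • (1 : Matrix (Fin 4) (Fin 4) F) ∈ RM)
    (hschur : ∀ y : Matrix (Fin 4) (Fin 4) F, (∀ s ∈ RM, y * s = s * y) →
      ∃ c : F, y = c • (1 : Matrix (Fin 4) (Fin 4) F))
    (hscal : ∀ c : F, c • (1 : Matrix (Fin 4) (Fin 4) F) ∈ RM → c ^ 4 = 1)
    (hsq : ∀ s ∈ RM, s * s = 1 ∨ s * s = -1)
    (hcomm : ∀ s ∈ RM, ∀ t ∈ RM, s * t = t * s ∨ s * t = -(t * s))
    (hpick : ∀ A : Finset (Matrix (Fin 4) (Fin 4) F), A.card ≤ 16 → ∃ m ∈ RM, m ∉ A) :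
    ∃ T0 ∈ RM, ∃ T1 ∈ RM, ∃ T2 ∈ RM, ∃ T3 ∈ RM, T0 * T0 = 1 ∧ T1 * T1 = 1 ∧ T2 * T2 = 1 ∧
      T3 * T3 = 1 ∧ T0 * T1 = -(T1 * T0) ∧ T0 * T2 = -(T2 * T0) ∧ T0 * T3 = -(T3 * T0) ∧
      T1 * T2 = -(T2 * T1) ∧ T1 * T3 = -(T3 * T1) ∧ T2 * T3 = -(T3 * T2) := by
  classical
  -- the scalars of fourth power one
  set S : Finset F := (Polynomial.nthRoots 4 (1 : F)).toFinset with hS
  have hScard : S.card ≤ 4 := (Multiset.toFinset_card_le _).trans (Polynomial.card_nthRoots 4 1)
  have hSmem : ∀ c : F, c ^ 4 = 1 → c ∈ S := fun c hc => by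
    rw [hS, Multiset.mem_toFinset, Polynomial.mem_nthRoots (by norm_num)]
    exact hc
  -- making involutions
  have hinv : ∀ s ∈ RM, ∃ s' ∈ RM, s' * s' = 1 ∧ ∃ μ : F, s' = μ • s := by
    intro s hs
    rcases hsq s hs with h | h
    · exact ⟨s, hs, h, 1, (one_smul _ _).symm⟩
    · refine ⟨w • s, ?_, ?_, w, rfl⟩
      · have h1 := hmul _ hwR s hs
        rwa [smul_mul_assoc, one_mul] at h1
      · rw [smul_mul_assoc, mul_smul_comm, smul_smul, hw, h]
        simp
  -- a non-scalar element has an anticommuting partner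
  have hpartner : ∀ s ∈ RM, (∀ c : F, s ≠ c • (1 : Matrix (Fin 4) (Fin 4) F)) →
      ∃ t ∈ RM, s * t = -(t * s) := by
    intro s hs hns
    by_contra hcon
    obtain ⟨c, hc⟩ := hschur s (fun t ht => by
      rcases hcomm s hs t ht with h | h
      · exact h
      · exact absurd ⟨t, ht, h⟩ hcon)
    exact hns c hc
  have hsc_anti : ∀ (a b : Matrix (Fin 4) (Fin 4) F) (μ ν : F), a * b = -(b * a) →
      (μ • a) * (ν • b) = -((ν • b) * (μ • a)) := by
    intro a b μ ν h
    rw [smul_mul_assoc, mul_smul_comm, smul_smul, smul_mul_assoc, mul_smul_comm, smul_smul, h,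
      smul_neg, mul_comm μ ν]
  have hsc_comm : ∀ (a b : Matrix (Fin 4) (Fin 4) F) (μ : F), a * b = b * a →
      (μ • a) * b = b * (μ • a) := by
    intro a b μ h
    rw [smul_mul_assoc, mul_smul_comm, h]
  -- first pair
  obtain ⟨s0, hs0, hs0A⟩ := hpick (S.image (fun c => c • (1 : Matrix (Fin 4) (Fin 4) F)))
    ((Finset.card_image_le).trans (hScard.trans (by norm_num)))
  have hs0ns : ∀ c : F, s0 ≠ c • (1 : Matrix (Fin 4) (Fin 4) F) := by
    intro c hc
    apply hs0A
    rw [Finset.mem_image]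
    exact ⟨c, hSmem c (hscal c (hc ▸ hs0)), hc.symm⟩
  obtain ⟨s1, hs1, hs01⟩ := hpartner s0 hs0 hs0ns
  obtain ⟨T0, hT0, sq0, μ0, hT0e⟩ := hinv s0 hs0
  obtain ⟨T1, hT1, sq1, μ1, hT1e⟩ := hinv s1 hs1
  have h01 : T0 * T1 = -(T1 * T0) := by
    rw [hT0e, hT1e]
    exact hsc_anti s0 s1 μ0 μ1 hs01
  have h10 : T1 * T0 = -(T0 * T1) := by rw [h01, neg_neg]
  have sq0' : ∀ x, T0 * (T0 * x) = x := fun x => by rw [← mul_assoc, sq0, one_mul]
  have sq1' : ∀ x, T1 * (T1 * x) = x := fun x => by rw [← mul_assoc, sq1, one_mul]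
  have h10' : ∀ x, T1 * (T0 * x) = -(T0 * (T1 * x)) := fun x => by
    rw [← mul_assoc, h10, neg_mul, mul_assoc]
  -- adjusting an element into the centralizer of T0, T1
  have hadj : ∀ g ∈ RM, ∃ i j : Bool,
      (g * (if i then T1 else 1) * (if j then T0 else 1)) ∈ RM ∧
      (g * (if i then T1 else 1) * (if j then T0 else 1)) * T0 =
        T0 * (g * (if i then T1 else 1) * (if j then T0 else 1)) ∧
      (g * (if i then T1 else 1) * (if j then T0 else 1)) * T1 =
        T1 * (g * (if i then T1 else 1) * (if j then T0 else 1)) := by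
    intro g hg
    have step1 : ∃ i : Bool, (g * (if i then T1 else 1)) ∈ RM ∧
        (g * (if i then T1 else 1)) * T0 = T0 * (g * (if i then T1 else 1)) := by
      rcases hcomm g hg T0 hT0 with h | h
      · exact ⟨false, by simpa using hg, by simpa using h⟩
      · refine ⟨true, by simpa using hmul g hg T1 hT1, ?_⟩
        have h' : ∀ x, g * (T0 * x) = -(T0 * (g * x)) := fun x => by
          rw [← mul_assoc, h, neg_mul, mul_assoc]
        simp only [if_true, mul_assoc, h10, h', mul_neg, neg_neg]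
    obtain ⟨i, hgi, hci⟩ := step1
    rcases hcomm _ hgi T1 hT1 with h | h
    · exact ⟨i, false, by simpa using hgi, by simpa using hci, by simpa using h⟩
    · refine ⟨i, true, by simpa using hmul _ hgi T0 hT0, ?_, ?_⟩
      · simp only [if_true]
        rw [mul_assoc _ T0 T0, sq0, mul_one, ← mul_assoc T0, ← hci, mul_assoc _ T0 T0, sq0, mul_one]
      · simp only [if_true]
        rw [mul_assoc _ T0 T1, h01, mul_neg, ← mul_assoc, h, neg_mul, neg_neg, mul_assoc]
  -- an element outside the 16 matrices λ • T0^j T1^i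
  obtain ⟨g, hg, hgA⟩ := hpick ((S ×ˢ (Finset.univ : Finset (Bool × Bool))).image
      (fun p : F × Bool × Bool => p.1 • ((if p.2.2 then T0 else 1) * (if p.2.1 then T1 else 1))))
    ((Finset.card_image_le).trans (by
      rw [Finset.card_product]
      have : (Finset.univ : Finset (Bool × Bool)).card = 4 := by decide
      rw [this]
      omega))
  obtain ⟨i, j, hcR, hc0, hc1⟩ := hadj g hg
  set c := g * (if i then T1 else 1) * (if j then T0 else 1) with hcdef
  have hcns : ∀ l : F, c ≠ l • (1 : Matrix (Fin 4) (Fin 4) F) := by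
    intro l hl
    apply hgA
    rw [Finset.mem_image]
    refine ⟨(l, i, j), ?_, ?_⟩
    · rw [Finset.mem_product]
      exact ⟨hSmem l (hscal l (hl ▸ hcR)), Finset.mem_univ _⟩
    · have haa : (if i then T1 else 1) * (if i then T1 else 1)
          = (1 : Matrix (Fin 4) (Fin 4) F) := by
        cases i <;> simp [sq1]
      have hbb : (if j then T0 else 1) * (if j then T0 else 1)
          = (1 : Matrix (Fin 4) (Fin 4) F) := by
        cases j <;> simp [sq0]
      have hg' : g = c * ((if j then T0 else 1) * (if i then T1 else 1)) := by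
        rw [hcdef, mul_assoc (g * _) _ _, ← mul_assoc (if j then T0 else 1) _ _, hbb, one_mul,
          mul_assoc g _ _, haa, mul_one]
      show l • ((if j then T0 else 1) * (if i then T1 else 1)) = g
      rw [hg', hl, smul_mul_assoc, one_mul]
  -- second pair inside the centralizer
  obtain ⟨g2, hg2, hcg2⟩ := hpartner c hcR hcns
  obtain ⟨i', j', hdR, hd0, hd1⟩ := hadj g2 hg2
  set d := g2 * (if i' then T1 else 1) * (if j' then T0 else 1) with hddef
  have hcd : c * d = -(d * c) := by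
    have ha : c * (if i' then T1 else 1) = (if i' then T1 else 1) * c := by
      cases i' <;> simp [hc1]
    have hb : c * (if j' then T0 else 1) = (if j' then T0 else 1) * c := by
      cases j' <;> simp [hc0]
    have ha' : ∀ x, c * ((if i' then T1 else 1) * x) = (if i' then T1 else 1) * (c * x) :=
      fun x => by rw [← mul_assoc, ha, mul_assoc]
    have hg2' : ∀ x, c * (g2 * x) = -(g2 * (c * x)) := fun x => by
      rw [← mul_assoc, hcg2, neg_mul, mul_assoc]
    rw [hddef]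
    simp only [mul_assoc, hg2', ha', hb]
  obtain ⟨C, hC, sqC, μc, hCe⟩ := hinv c hcR
  obtain ⟨D, hD, sqD, μd, hDe⟩ := hinv d hdR
  have cT0 : C * T0 = T0 * C := by rw [hCe]; exact hsc_comm c T0 μc hc0
  have cT1 : C * T1 = T1 * C := by rw [hCe]; exact hsc_comm c T1 μc hc1
  have dT0 : D * T0 = T0 * D := by rw [hDe]; exact hsc_comm d T0 μd hd0
  have dT1 : D * T1 = T1 * D := by rw [hDe]; exact hsc_comm d T1 μd hd1
  have hCD : C * D = -(D * C) := by rw [hCe, hDe]; exact hsc_anti c d μc μd hcd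
  have hDC : D * C = -(C * D) := by rw [hCD, neg_neg]
  have cT0' : ∀ x, C * (T0 * x) = T0 * (C * x) := fun x => by rw [← mul_assoc, cT0, mul_assoc]
  have cT1' : ∀ x, C * (T1 * x) = T1 * (C * x) := fun x => by rw [← mul_assoc, cT1, mul_assoc]
  have dT0' : ∀ x, D * (T0 * x) = T0 * (D * x) := fun x => by rw [← mul_assoc, dT0, mul_assoc]
  have dT1' : ∀ x, D * (T1 * x) = T1 * (D * x) := fun x => by rw [← mul_assoc, dT1, mul_assoc]
  have hDC' : ∀ x, D * (C * x) = -(C * (D * x)) := fun x => by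
    rw [← mul_assoc, hDC, neg_mul, mul_assoc]
  have sqC' : ∀ x, C * (C * x) = x := fun x => by rw [← mul_assoc, sqC, one_mul]
  have sqD' : ∀ x, D * (D * x) = x := fun x => by rw [← mul_assoc, sqD, one_mul]
  -- the products U = T0 T1 C, V = T0 T1 D
  have hUR : T0 * T1 * C ∈ RM := hmul _ (hmul _ hT0 _ hT1) _ hC
  have hVR : T0 * T1 * D ∈ RM := hmul _ (hmul _ hT0 _ hT1) _ hD
  have hUU : (T0 * T1 * C) * (T0 * T1 * C) = -1 := by
    simp only [mul_assoc, cT0', cT1', cT0, cT1, h10', h10, sq0', sq1', sq0, sq1, sqC', sqC,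
      mul_neg, neg_mul, neg_neg, mul_one, one_mul]
  have hVV : (T0 * T1 * D) * (T0 * T1 * D) = -1 := by
    simp only [mul_assoc, dT0', dT1', dT0, dT1, h10', h10, sq0', sq1', sq0, sq1, sqD', sqD,
      mul_neg, neg_mul, neg_neg, mul_one, one_mul]
  have h0U : T0 * (T0 * T1 * C) = -((T0 * T1 * C) * T0) := by
    simp only [mul_assoc, cT0', cT1', cT0, cT1, h10', h10, sq0', sq1', sq0, sq1,
      mul_neg, neg_mul, neg_neg, mul_one, one_mul]
  have h1U : T1 * (T0 * T1 * C) = -((T0 * T1 * C) * T1) := by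
    simp only [mul_assoc, cT0', cT1', cT0, cT1, h10', h10, sq0', sq1', sq0, sq1,
      mul_neg, neg_mul, neg_neg, mul_one, one_mul]
  have h0V : T0 * (T0 * T1 * D) = -((T0 * T1 * D) * T0) := by
    simp only [mul_assoc, dT0', dT1', dT0, dT1, h10', h10, sq0', sq1', sq0, sq1,
      mul_neg, neg_mul, neg_neg, mul_one, one_mul]
  have h1V : T1 * (T0 * T1 * D) = -((T0 * T1 * D) * T1) := by
    simp only [mul_assoc, dT0', dT1', dT0, dT1, h10', h10, sq0', sq1', sq0, sq1,
      mul_neg, neg_mul, neg_neg, mul_one, one_mul]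
  have hUV : (T0 * T1 * C) * (T0 * T1 * D) = -((T0 * T1 * D) * (T0 * T1 * C)) := by
    simp only [mul_assoc, cT0', cT1', cT0, cT1, dT0', dT1', dT0, dT1, hDC', hDC, h10', h10,
      sq0', sq1', sq0, sq1, mul_neg, neg_mul, neg_neg, mul_one, one_mul]
  have hwU : w • (T0 * T1 * C) ∈ RM := by
    have h1 := hmul _ hwR _ hUR
    rwa [smul_mul_assoc, one_mul] at h1
  have hwV : w • (T0 * T1 * D) ∈ RM := by
    have h1 := hmul _ hwR _ hVR
    rwa [smul_mul_assoc, one_mul] at h1
  refine ⟨T0, hT0, T1, hT1, w • (T0 * T1 * C), hwU, w • (T0 * T1 * D), hwV, sq0, sq1, ?_, ?_, h01,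
    ?_, ?_, ?_, ?_, ?_⟩
  · rw [smul_mul_assoc, mul_smul_comm, smul_smul, hw, hUU]
    simp
  · rw [smul_mul_assoc, mul_smul_comm, smul_smul, hw, hVV]
    simp
  · rw [mul_smul_comm, smul_mul_assoc, h0U, smul_neg]
  · rw [mul_smul_comm, smul_mul_assoc, h0V, smul_neg]
  · rw [mul_smul_comm, smul_mul_assoc, h1U, smul_neg]
  · rw [mul_smul_comm, smul_mul_assoc, h1V, smul_neg]
  · rw [smul_mul_assoc, mul_smul_comm, smul_smul, smul_mul_assoc, mul_smul_comm, smul_smul, hUV,
      smul_neg]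

/-- AFR (L). Four pairwise anticommuting involutions. R has at most 4 scalars (c^4 = 1), so some s0 ∈ R is not scalar; by Schur some
s1 ∈ R does not commute with s0, so anticommutes (hcomm). Make them involutions (multiply by w•1 ∈ R when the square is -1): t0, t1.
Every g ∈ R is t0^i t1^j c with c commuting with t0 and t1 (i = 1 iff g,t1 anticommute; j = 1 iff g,t0 anticommute), so the set C of
elements commuting with both has 16 elements; take c ∈ C not scalar, g ∈ R not commuting with c, adjust g by t0, t1 into C: d ∈ C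
anticommuting with c; make c, d involutions. t2 := w•(t0 t1 c), t3 := w•(t0 t1 d): (t0 t1 c)² = -1, so these are involutions;
t2, t3 anticommute with t0, t1 and with each other. -/
theorem s60_frame4 {F : Type*} [Field F] [Fintype F] (h2 : (2 : F) ≠ 0) (R : Subgroup (GL (Fin 4) F)) (w : F) (hw : w * w = -1) (hwR : ∃ z ∈ R, (z : Matrix (Fin 4) (Fin 4) F) = w • (1 : Matrix (Fin 4) (Fin 4) F))
    (hschur : ∀ y : Matrix (Fin 4) (Fin 4) F, (∀ s ∈ R, y * (s : Matrix (Fin 4) (Fin 4) F) = (s : Matrix (Fin 4) (Fin 4) F) * y) → ∃ c : F, y = c • (1 : Matrix (Fin 4) (Fin 4) F))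
    (hscal : ∀ s ∈ R, ∀ c : F, (s : Matrix (Fin 4) (Fin 4) F) = c • (1 : Matrix (Fin 4) (Fin 4) F) → c ^ 4 = 1)
    (hsq : ∀ s ∈ R, (s : Matrix (Fin 4) (Fin 4) F) * (s : Matrix (Fin 4) (Fin 4) F) = 1 ∨ (s : Matrix (Fin 4) (Fin 4) F) * (s : Matrix (Fin 4) (Fin 4) F) = -1)
    (hcomm : ∀ s ∈ R, ∀ t ∈ R, (s : Matrix (Fin 4) (Fin 4) F) * (t : Matrix (Fin 4) (Fin 4) F) = (t : Matrix (Fin 4) (Fin 4) F) * (s : Matrix (Fin 4) (Fin 4) F) ∨ (s : Matrix (Fin 4) (Fin 4) F) * (t : Matrix (Fin 4) (Fin 4) F) = -((t : Matrix (Fin 4) (Fin 4) F) * (s : Matrix (Fin 4) (Fin 4) F)))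
    (hcard : Nat.card R = 64) :
    ∃ t : Fin 4 → GL (Fin 4) F, (∀ j, t j ∈ R) ∧ (∀ j, (t j : Matrix (Fin 4) (Fin 4) F) * (t j : Matrix (Fin 4) (Fin 4) F) = 1) ∧
      ∀ j k, j ≠ k → (t j : Matrix (Fin 4) (Fin 4) F) * (t k : Matrix (Fin 4) (Fin 4) F) = -((t k : Matrix (Fin 4) (Fin 4) F) * (t j : Matrix (Fin 4) (Fin 4) F)) := by
  classical
  have hpick : ∀ A : Finset (Matrix (Fin 4) (Fin 4) F), A.card ≤ 16 →
      ∃ m ∈ {m : Matrix (Fin 4) (Fin 4) F | ∃ g ∈ R, (g : Matrix (Fin 4) (Fin 4) F) = m}, m ∉ A := by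
    intro A hA
    by_contra hcon
    have h' : ∀ g : R, ((g : GL (Fin 4) F) : Matrix (Fin 4) (Fin 4) F) ∈ A := by
      intro g
      by_contra hg
      exact hcon ⟨_, ⟨g.1, g.2, rfl⟩, hg⟩
    have h1 : Nat.card R ≤ Nat.card {m // m ∈ A} :=
      Nat.card_le_card_of_injective (fun g : R => (⟨_, h' g⟩ : {m // m ∈ A}))
        (fun a b hab => Subtype.ext (Units.ext (by simpa using congrArg (fun y => y.1) hab)))
    have h3 : Nat.card {m // m ∈ A} = A.card := by
      rw [Nat.card_eq_fintype_card, Fintype.card_coe]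
    omega
  obtain ⟨T0, hT0, T1, hT1, T2, hT2, T3, hT3, sq0, sq1, sq2, sq3, h01, h02, h03, h12, h13, h23⟩ :=
    helper9_s60_frame_core {m : Matrix (Fin 4) (Fin 4) F | ∃ g ∈ R, (g : Matrix (Fin 4) (Fin 4) F) = m}
      w hw
      (by
        rintro _ ⟨g, hg, rfl⟩ _ ⟨g', hg', rfl⟩
        exact ⟨g * g', R.mul_mem hg hg', by simp⟩)
      (by
        obtain ⟨z, hz, hzw⟩ := hwR
        exact ⟨z, hz, hzw⟩)
      (fun y hy => hschur y (fun s hs => hy _ ⟨s, hs, rfl⟩))
      (by
        rintro c ⟨g, hg, hgc⟩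
        exact hscal g hg c hgc)
      (by
        rintro _ ⟨g, hg, rfl⟩
        exact hsq g hg)
      (by
        rintro _ ⟨g, hg, rfl⟩ _ ⟨g', hg', rfl⟩
        exact hcomm g hg g' hg')
      hpick
  obtain ⟨g0, hg0, rfl⟩ := hT0
  obtain ⟨g1, hg1, rfl⟩ := hT1
  obtain ⟨g2, hg2, rfl⟩ := hT2
  obtain ⟨g3, hg3, rfl⟩ := hT3
  have h10 := neg_eq_iff_eq_neg.mp h01.symm
  have h20 := neg_eq_iff_eq_neg.mp h02.symm
  have h30 := neg_eq_iff_eq_neg.mp h03.symm
  have h21 := neg_eq_iff_eq_neg.mp h12.symm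
  have h31 := neg_eq_iff_eq_neg.mp h13.symm
  have h32 := neg_eq_iff_eq_neg.mp h23.symm
  refine ⟨![g0, g1, g2, g3], ?_, ?_, ?_⟩
  · intro i
    fin_cases i
    · exact hg0
    · exact hg1
    · exact hg2
    · exact hg3
  · intro i
    fin_cases i
    · exact sq0
    · exact sq1
    · exact sq2
    · exact sq3
  · intro i j hij
    fin_cases i <;> fin_cases j <;>
      first
        | exact absurd rfl hij
        | exact h01 | exact h02 | exact h03 | exact h12 | exact h13 | exact h23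
        | exact h10 | exact h20 | exact h30 | exact h21 | exact h31 | exact h32

end Cfsg.Agent.Lib.helper89.S60
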