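import Cfsg.Agent.Lib.helper9.M12Fus
import Cfsg.Agent.Lib.helper33.M24Aut

/-!
The `2`-fusion systems of `M₂₂` and `M₂₃`: a common explicit Sylow `2`-subgroup of order `128`,
its self-normalisation in `M₂₃`, and the closure derivation in `M₂₂`.
-/

set_option autoImplicit false
open Cfsg
open scoped Pointwise

namespace Cfsg.Agent.Lib.helper9

theorem pt_none : pt 23 = (none : GolayPt) := by decide

/-- Table check of membership in `M₂₃`. -/
def g23chk (n : ℕ) : Bool := m24N n && Nat.beq (getN n 23) 23

/-- Table check of membership in `M₂₂`. -/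
def g22chk (n : ℕ) : Bool := g23chk n && Nat.beq (getN n 0) 0

theorem mem_M23_of_chk {σ : Equiv.Perm GolayPt} {n : ℕ} (ht : IsTableN σ n)
    (h : g23chk n = true) : σ ∈ Spor.M23 := by
  simp only [g23chk, Bool.and_eq_true, Nat.beq_eq] at h
  refine Subgroup.mem_inf.2 ⟨mem_M24_of_m24N ht h.1, ?_⟩
  rw [MulAction.mem_stabilizer_iff, ← pt_none, Equiv.Perm.smul_def,
    apply_pt_tbl ht (by norm_num), h.2]

theorem mem_M22_of_chk {σ : Equiv.Perm GolayPt} {n : ℕ} (ht : IsTableN σ n)
    (h : g22chk n = true) : σ ∈ Spor.M22 := by
  simp only [g22chk, Bool.and_eq_true, Nat.beq_eq] at h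
  refine Subgroup.mem_inf.2 ⟨mem_M23_of_chk ht h.1, ?_⟩
  rw [MulAction.mem_stabilizer_iff, ← pt_zero, Equiv.Perm.smul_def,
    apply_pt_tbl ht (by norm_num), h.2]

theorem fix_none_of_mem_M23 {g : Equiv.Perm GolayPt} (hg : g ∈ Spor.M23) :
    g (pt 23) = pt 23 := by
  have h := MulAction.mem_stabilizer_iff.1 (Subgroup.mem_inf.1 hg).2
  rw [pt_none]
  exact h

theorem card_sporM22 : Nat.card Spor.M22 = 443520 :=
  Cfsg.Agent.Lib.helper33.card_M23_stab (f := some 0) (by decide)

theorem invMask_full (g : Equiv.Perm GolayPt) : InvMask g 16777215 := fun p => by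
  rw [allOnes_testBit, allOnes_testBit]

/-- An element preserving a pair of points has a square fixing them. -/
theorem sq_fix_of_invMask_pair {g : Equiv.Perm GolayPt} {u v : ℕ} (hu : u < 24) (hv : v < 24)
    (huv : u ≠ v) (h : InvMask g (2 ^ u ||| 2 ^ v)) : (g ^ 2) (pt u) = pt u := by
  have key : ∀ p : GolayPt, (p = pt u ∨ p = pt v) → (g p = pt u ∨ g p = pt v) := by
    intro p hp
    have h1 := h p
    have h2 : (2 ^ u ||| 2 ^ v).testBit (idx p) = true := by
      rcases hp with rfl | rfl
      · rw [idx_pt hu, Nat.testBit_or, Nat.testBit_two_pow_self]; rfl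
      · rw [idx_pt hv, Nat.testBit_or, Nat.testBit_two_pow_self, Bool.or_true]
    rw [h2, Nat.testBit_or, Bool.or_eq_true, Nat.testBit_two_pow, Nat.testBit_two_pow,
      decide_eq_true_eq, decide_eq_true_eq] at h1
    rcases h1 with h1 | h1
    · left; rw [h1, pt_idx]
    · right; rw [h1, pt_idx]
  rw [pow_two, Equiv.Perm.mul_apply]
  rcases key (pt u) (Or.inl rfl) with h1 | h1
  · rw [h1, h1]
  · rw [h1]
    rcases key (pt v) (Or.inr rfl) with h2 | h2
    · exact h2
    · exact absurd (g.injective (h1.trans h2.symm)) (pt_ne hu hv huv)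

theorem fixMask_of_list {h : Equiv.Perm GolayPt} {f : ℕ} (P : List ℕ)
    (hf : ∀ i < 24, f.testBit i = true → i ∈ P) (hfix : ∀ i ∈ P, h (pt i) = pt i) :
    FixMask h f := by
  intro p hp
  have := hfix _ (hf _ (idx_lt p) hp)
  rwa [pt_idx] at this

/-- Polycyclic generators of a Sylow `2`-subgroup of `M₂₂` and `M₂₃` (packed tables). -/
def xs22 : List ℕ :=
  [981443362225953844553244091530990848, 975728796061394828824764886276933728,
   975728547052596797333694779596441888, 961437643366204820250834059550919136,
   960140314376248673045888314521356800, 982224155767909524168889505747699904,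
   970531819526550031117983620406741024]

/-- The central involution. -/
def z22 : ℕ := 974421764120477162002732052473186496

/-- Closure derivation for `M₂₂`. -/
def steps22 : List (ℕ × ℕ × ℕ) :=
  [(0, 974421764120477162002732052473186496, 956771151547996279144879971052475840),
   (0, 970531342981781179981564350474324160, 970095116509776244316550044926526944),
   (0, 974421764120477162002732052473186496, 973665044838573622173888888773858400),
   (0, 965329173741913349462495688547371360, 962377820140868190059132317656536192),
   (0, 974421764120477162002732052473186496, 977882436406347658824361579694470752),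
   (1, 974421764120477162002732052473186496, 982224155767909524168889505747699904),
   (1, 979618980548452006341703048953956640, 982224155767909524168889505747699904),
   (1, 975728758655945450531684590508247168, 965329173741913349462495688547371360),
   (1, 965329173741913349462495688547371360, 979618980548452006341703048953956640),
   (1, 966624790664968556689856877765789856, 982224155767909524168889505747699904),
   (1, 970531342981781179981564350474324160, 979618980548452006341703048953956640),
   (1, 982224155767909524168889505747699904, 979618980548452006341703048953956640),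
   (1, 979619017412302545981820193509443840, 982224155767909524168889505747699904),
   (1, 973662324848730782428376625876882528, 982224155767909524168889505747699904)]

def w22a : List ℕ :=
  [959363917997236977129397315646772576]

def w22b : List ℕ :=
  [959363917997236977129397315646772576]

def w22c : List ℕ :=
  [959363917997236977129397315646772576]

def w22d : List ℕ :=
  [984818244535754528103549039458486304, 979619164853802381550194940041005184,
   975728547052596797333694779596441888, 961437643366204820250834059550919136,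
   982224155767909524168889505747699904, 984817725554893800982497917446392032,
   979619208145322394971208538213517408, 975728590421488563575964438524168448,
   965329048522774669346099004409612736, 964032598524137131267297793271139008,
   960140851913554047273679183217887712, 961437127394284971752149738070575616,
   960140314376248673045888314521356800, 982223914627216435625744270302153312,
   980899720965404678145525523176458592, 957557519686765062037171563037985408]

def w22e : List ℕ :=
  [984818244535754528103549039458486304, 974422238081544939122441376219924512,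
   982224615119864135432614471389153312, 970531819526550031117983620406741024]

def w22f : List ℕ :=
  [961977242928237931100036375222801440]

def w22g : List ℕ :=
  [984818244535754528103549039458486304, 961977242928237931100036375222801440]

/-- Propagation certificate: an element of `M24` fixing an octad pointwise and a point outside is trivial. -/
def cert22 : List (ℕ × ℕ × ℕ) :=
  [(5279, 140167, 7), (5279, 208020, 4), (5279, 5279, 3), (10558, 42232, 5), (1188915, 1188915, 20), (2121909, 2121909, 14), (418953, 418953, 18), (10558, 133817, 11), (10558, 10558, 8), (133817, 133817, 9), (18147, 18147, 6), (36294, 36294, 15), (69395, 69395, 16), (525274, 525274, 19), (4196943, 4196943, 22)]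

theorem pc22 : pcChk xs22 = true := by decide +kernel

theorem nd22 : nodupB (expand xs22) = true := by decide +kernel

theorem cent22 : centChk xs22 z22 = true := by decide +kernel

theorem gen22 : xs22.all g22chk = true := by decide +kernel

theorem le22 : grpN xs22 ≤ Spor.M22 := by
  rw [grpN, Subgroup.closure_le]
  rintro σ ⟨a, ha, rfl⟩
  exact mem_M22_of_chk (permN_table (pcChk_ok pc22 a ha)) (List.all_eq_true.1 gen22 a ha)

theorem le23 : grpN xs22 ≤ Spor.M23 := le22.trans inf_le_left

theorem card22 : Nat.card (grpN xs22) = 2 ^ 7 := card_grpN pc22 nd22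

theorem fus22 : (xs22.all fun x => memB x (fusRun g22chk (expand xs22) steps22 [z22])) = true := by
  decide +kernel

theorem hsc22 (T : Subgroup (Equiv.Perm GolayPt)) (hT : T ≤ grpN xs22) (hne : T ≠ ⊥)
    (hcl : ∀ t ∈ T, ∀ g ∈ Spor.M22, g * t * g⁻¹ ∈ grpN xs22 → g * t * g⁻¹ ∈ T) :
    T = grpN xs22 :=
  sc_of_fus Spor.M22 xs22 z22 pc22 nd22 cent22 g22chk
    (fun _ hok hg => mem_M22_of_chk (permN_table hok) hg) le22 steps22 fus22 T hT hne hcl

theorem hsc23 (T : Subgroup (Equiv.Perm GolayPt)) (hT : T ≤ grpN xs22) (hne : T ≠ ⊥)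
    (hcl : ∀ t ∈ T, ∀ g ∈ Spor.M23, g * t * g⁻¹ ∈ grpN xs22 → g * t * g⁻¹ ∈ T) :
    T = grpN xs22 :=
  hsc22 T hT hne (fun t ht g hg => hcl t ht g (Subgroup.mem_inf.1 hg).1)

theorem wf22a : wfixChk (expand xs22) [23] 1 8388609 w22a = true := by decide +kernel

theorem wf22b : wfixChk (expand xs22) [0, 23] 2 10485765 w22b = true := by decide +kernel

theorem wf22c : wfixChk (expand xs22) [0, 23] 4 10630149 w22c = true := by decide +kernel

theorem tr22d : transChk (expand xs22) [0, 23] 6147066 1 w22d = true := by decide +kernel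

theorem tr22e : transChk (expand xs22) [1, 0, 23] 144384 10 w22e = true := by decide +kernel

theorem wf22f : wfixChk (expand xs22) [10, 1, 0, 23] 1 8398155 w22f = true := by decide +kernel

theorem tr22g : transChk (expand xs22) [13, 10, 1, 0, 23] 135168 12 w22g = true := by
  decide +kernel

theorem cert22_ok : propRun 10630151 cert22 = 16777215 := by decide +kernel

theorem hN23 : ∀ g ∈ Spor.M23, (∀ x ∈ grpN xs22, g * x * g⁻¹ ∈ grpN xs22) → g ∈ grpN xs22 := by
  intro g hg hn
  have iF1 : ∀ g, NF Spor.M23 (grpN xs22) [23] g → InvMask g 8388609 :=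
    fun g hg => invMask_of_wfixChk pc22 nd22 wf22a hg
  have iF2 : ∀ g, NF Spor.M23 (grpN xs22) [0, 23] g → InvMask g 10485765 :=
    fun g hg => invMask_of_wfixChk pc22 nd22 wf22b hg
  have iF4 : ∀ g, NF Spor.M23 (grpN xs22) [0, 23] g → InvMask g 10630149 :=
    fun g hg => invMask_of_wfixChk pc22 nd22 wf22c hg
  have iB : ∀ g, NF Spor.M23 (grpN xs22) [0, 23] g → InvMask g 144384 :=
    fun g hg => invMask_cast (invMask_xor (iF4 g hg) (iF2 g hg)) (by decide)
  have iFF : ∀ g, NF Spor.M23 (grpN xs22) [10, 1, 0, 23] g → InvMask g 9216 :=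
    fun g hg => invMask_cast (invMask_and (invMask_of_wfixChk pc22 nd22 wf22f hg)
      (iB g hg.tail.tail)) (by decide)
  have ipair : ∀ g, NF Spor.M23 (grpN xs22) [10, 1, 0, 23] g → InvMask g 135168 :=
    fun g hg => invMask_cast (invMask_xor (iB g hg.tail.tail) (iFF g hg)) (by decide)
  have s7 : ∀ g, NF Spor.M23 (grpN xs22) [17, 12, 13, 10, 1, 0, 23] g → g ∈ grpN xs22 := by
    intro g hg
    have hg24 : g ∈ M24 := (Subgroup.mem_inf.1 hg.1).1
    have h01 : NF Spor.M23 (grpN xs22) [0, 23] g := hg.tail.tail.tail.tail.tail
    have huv : InvMask g 2097156 :=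
      invMask_cast (invMask_xor (iF2 g h01) (iF1 g h01.tail)) (by decide)
    have h2 : (g ^ 2) (pt 2) = pt 2 :=
      sq_fix_of_invMask_pair (v := 21) (by norm_num) (by norm_num) (by norm_num)
        (invMask_cast huv (by decide))
    have h21 : (g ^ 2) (pt 21) = pt 21 :=
      sq_fix_of_invMask_pair (v := 2) (by norm_num) (by norm_num) (by norm_num)
        (invMask_cast huv (by decide))
    have hfix : FixMask (g ^ 2) 10630151 := by
      refine fixMask_of_list [2, 21, 17, 12, 13, 10, 1, 0, 23] (by decide +kernel) ?_
      intro i hi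
      rcases List.mem_cons.1 hi with rfl | hi
      · exact h2
      rcases List.mem_cons.1 hi with rfl | hi
      · exact h21
      · rw [pow_two, Equiv.Perm.mul_apply, hg.2.2 i hi, hg.2.2 i hi]
    have h1 : g ^ 2 = 1 :=
      eq_one_of_fixMask _ (cert22_ok ▸ propRun_sound (g ^ 2) (pow_mem hg24 2) cert22 _ hfix)
    exact mem_of_normalizes_of_pow Spor.M23 (grpN xs22) le23 7 card22
      (by rw [Cfsg.Agent.Lib.helper33.card_M23]; norm_num) g hg.1 hg.2.1 1
      (by rw [pow_one]; exact h1)
  have s6 : ∀ g, NF Spor.M23 (grpN xs22) [12, 13, 10, 1, 0, 23] g → g ∈ grpN xs22 :=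
    nf_free (fun g hg => fix_of_invMask (by norm_num) (invMask_cast
      (invMask_xor (ipair g hg.tail.tail) (invMask_of_fix (hg.2.2 12 (by decide))))
        (by decide))) s7
  have s5 : ∀ g, NF Spor.M23 (grpN xs22) [13, 10, 1, 0, 23] g → g ∈ grpN xs22 :=
    nf_reduce pc22 le23 tr22g (fun g hg => ipair g hg.tail) s6
  have s4 : ∀ g, NF Spor.M23 (grpN xs22) [10, 1, 0, 23] g → g ∈ grpN xs22 :=
    nf_free (fun g hg => fix_of_invMask (by norm_num) (invMask_cast
      (invMask_xor (iFF g hg) (invMask_of_fix (hg.2.2 10 (by decide)))) (by decide))) s5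
  have s3 : ∀ g, NF Spor.M23 (grpN xs22) [1, 0, 23] g → g ∈ grpN xs22 :=
    nf_reduce pc22 le23 tr22e (fun g hg => iB g hg.tail) s4
  have s2 : ∀ g, NF Spor.M23 (grpN xs22) [0, 23] g → g ∈ grpN xs22 :=
    nf_reduce pc22 le23 tr22d
      (fun g hg => invMask_cast (invMask_xor (iF4 g hg) (invMask_full g)) (by decide)) s3
  have s1 : ∀ g, NF Spor.M23 (grpN xs22) [23] g → g ∈ grpN xs22 :=
    nf_free (fun g hg => fix_of_invMask (by norm_num) (invMask_cast
      (invMask_xor (iF1 g hg) (invMask_of_fix (hg.2.2 23 (by decide)))) (by decide))) s2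
  have s0 : ∀ g, NF Spor.M23 (grpN xs22) [] g → g ∈ grpN xs22 :=
    nf_free (fun g hg => fix_none_of_mem_M23 hg.1) s1
  exact s0 g ⟨hg, hn, fun i hi => absurd hi List.not_mem_nil⟩

theorem hN22 : ∀ g ∈ Spor.M22, (∀ x ∈ grpN xs22, g * x * g⁻¹ ∈ grpN xs22) → g ∈ grpN xs22 :=
  fun g hg hn => hN23 g (Subgroup.mem_inf.1 hg).1 hn

end Cfsg.Agent.Lib.helper9
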