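import Mathlib
import Cfsg.Agent.Lib.helper9.M22Fus
import Cfsg.Agent.Lib.helper9.B22Defs

/-!
# Bridging packed tables and elements of `M₂₂` (helper9, S5005)
-/

set_option autoImplicit false

namespace Cfsg.Agent.Lib.helper9.B22

open Cfsg Cfsg.Agent.Lib.helper9

universe u

section generic

variable {G : Type u} [Group G] [Fintype G] [DecidableEq G]

theorem sq_eq_countP (l : List G) (hl : l.Nodup) (hmem : ∀ a : G, a * a = 1 ↔ a ∈ l)
    (S : Finset G) (v : G) : sq S v = l.countP (fun a => decide (a * v ∈ S)) := by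
  unfold sq
  have h1 : Finset.univ.filter (fun a : G => a * a = 1 ∧ a * v ∈ S)
      = (l.filter (fun a => decide (a * v ∈ S))).toFinset := by
    ext x
    simp only [Finset.mem_filter, Finset.mem_univ, true_and, List.mem_toFinset, List.mem_filter,
      decide_eq_true_eq, hmem]
  rw [h1, List.toFinset_card_of_nodup (hl.filter _), List.countP_eq_length_filter]

theorem filt_eq_countP (t z : G) (l : List G) (hl : l.Nodup)
    (hmem : ∀ x : G, (orderOf x = 3 ∧ x * t = t * x) ↔ x ∈ l) :
    ((ordF G 3).filter (fun x => x * t = t * x ∧ x⁻¹ * z ∈ ordF G 3)).card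
      = l.countP (fun x => decide (x⁻¹ * z ∈ ordF G 3)) := by
  have h1 : (ordF G 3).filter (fun x => x * t = t * x ∧ x⁻¹ * z ∈ ordF G 3)
      = (l.filter (fun x => decide (x⁻¹ * z ∈ ordF G 3))).toFinset := by
    ext x
    simp only [Finset.mem_filter, List.mem_toFinset, List.mem_filter, decide_eq_true_eq,
      ← hmem, ordF, Finset.mem_univ, true_and]
    tauto
  rw [h1, List.toFinset_card_of_nodup (hl.filter _), List.countP_eq_length_filter]

theorem mem_ordF {n : ℕ} {x : G} : x ∈ ordF G n ↔ orderOf x = n := by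
  simp [ordF]

end generic

/-- The group `M₂₂`. -/
abbrev G22 : Type := ↥Spor.M22

/-- `n` is the packed table of `g`. -/
def T (g : G22) (n : ℕ) : Prop := IsTableN (g : Equiv.Perm GolayPt) n ∧ n < 32 ^ 24

/-- `n` is the packed table of an element of `M₂₂`. -/
def Rep (n : ℕ) : Prop := ∃ g : G22, T g n

open scoped Classical in
/-- The element of `M₂₂` with table `n` (the identity if there is none). -/
noncomputable def toG (n : ℕ) : G22 := if h : Rep n then h.choose else 1

theorem T_toG {n : ℕ} (h : Rep n) : T (toG n) n := by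
  unfold toG
  rw [dif_pos h]
  exact h.choose_spec

theorem T_one : T 1 idN := ⟨isTableN_one, idN_lt⟩

theorem T_mul {g h : G22} {a b : ℕ} (hg : T g a) (hh : T h b) : T (g * h) (compN a b) :=
  ⟨isTableN_mul hg.1 hh.1, compN_lt a b⟩

theorem T_inj {g h : G22} {n : ℕ} (hg : T g n) (hh : T h n) : g = h :=
  Subtype.ext (eq_of_isTableN hg.1 hh.1)

theorem T_uniq {g : G22} {a b : ℕ} (ha : T g a) (hb : T g b) : a = b :=
  eq_of_isTableN_lt ha.1 hb.1 ha.2 hb.2

theorem rep_one : Rep idN := ⟨1, T_one⟩

theorem rep_mul {a b : ℕ} (ha : Rep a) (hb : Rep b) : Rep (compN a b) := by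
  obtain ⟨g, hg⟩ := ha
  obtain ⟨h, hh⟩ := hb
  exact ⟨g * h, T_mul hg hh⟩

theorem toG_eq {g : G22} {n : ℕ} (h : T g n) : toG n = g := T_inj (T_toG ⟨g, h⟩) h

theorem toG_one : toG idN = 1 := toG_eq T_one

theorem toG_mul {a b : ℕ} (ha : Rep a) (hb : Rep b) : toG a * toG b = toG (compN a b) :=
  (toG_eq (T_mul (T_toG ha) (T_toG hb))).symm

theorem toG_inj {a b : ℕ} (ha : Rep a) (hb : Rep b) (h : toG a = toG b) : a = b := by
  have h1 := T_toG ha
  have h2 := T_toG hb
  rw [← h] at h2
  exact T_uniq h1 h2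

theorem rep_of_good {n : ℕ} (h1 : okN n = true) (h2 : g22chk n = true) (h3 : n < 32 ^ 24) :
    Rep n :=
  ⟨⟨permN n, mem_M22_of_chk (permN_table h1) h2⟩, permN_table h1, h3⟩

theorem toG_inv {k : ℕ} (hk : Rep k) (h : okN k = true) (h2 : invtN k < 32 ^ 24) :
    Rep (invtN k) ∧ toG (invtN k) = (toG k)⁻¹ := by
  have h1 : T (toG k)⁻¹ (invtN k) := ⟨isTableN_inv (T_toG hk).1 h, h2⟩
  exact ⟨⟨_, h1⟩, toG_eq h1⟩

/-- Evaluation of a word in a list of generators. -/
def evalW (gens : List ℕ) (w : List ℕ) : ℕ :=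
  w.foldl (fun acc i => compN acc (gens.getD i idN)) idN

theorem rep_getD (gens : List ℕ) (hg : ∀ c ∈ gens, Rep c) (i : ℕ) : Rep (gens.getD i idN) := by
  induction gens generalizing i with
  | nil => simpa using rep_one
  | cons a l ih =>
    cases i with
    | zero => simpa using hg a (List.mem_cons_self ..)
    | succ i => simpa using ih (fun c hc => hg c (List.mem_cons_of_mem _ hc)) i

theorem rep_foldl (gens : List ℕ) (hg : ∀ c ∈ gens, Rep c) (w : List ℕ) :
    ∀ acc, Rep acc → Rep (w.foldl (fun acc i => compN acc (gens.getD i idN)) acc) := by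
  induction w with
  | nil => intro acc h; exact h
  | cons i w ih => intro acc h; exact ih _ (rep_mul h (rep_getD gens hg i))

theorem rep_evalW (gens : List ℕ) (hg : ∀ c ∈ gens, Rep c) (w : List ℕ) : Rep (evalW gens w) :=
  rep_foldl gens hg w idN rep_one

/-- Powers of a packed table. -/
def powN (c k : ℕ) : ℕ := Nat.rec (motive := fun _ => ℕ) idN (fun _ acc => compN acc c) k

theorem powN_zero (c : ℕ) : powN c 0 = idN := rfl

theorem powN_succ (c k : ℕ) : powN c (k + 1) = compN (powN c k) c := rfl

theorem rep_pow {c : ℕ} (hc : Rep c) (k : ℕ) : Rep (powN c k) := by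
  induction k with
  | zero => exact rep_one
  | succ k ih => rw [powN_succ]; exact rep_mul ih hc

theorem toG_pow {c : ℕ} (hc : Rep c) (k : ℕ) : toG c ^ k = toG (powN c k) := by
  induction k with
  | zero => rw [pow_zero, powN_zero, toG_one]
  | succ k ih => rw [pow_succ, ih, powN_succ, toG_mul (rep_pow hc k) hc]

/-- The table `c` is not the identity and its `p`-th power is. -/
def ordB (p c : ℕ) : Bool := !(Nat.beq c idN) && Nat.beq (powN c p) idN

theorem toG_eq_one_iff {c : ℕ} (hc : Rep c) : toG c = 1 ↔ c = idN := by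
  constructor
  · intro h
    rw [← toG_one] at h
    exact toG_inj hc rep_one h
  · intro h
    rw [h, toG_one]

theorem orderOf_toG_iff {p c : ℕ} (hp : p.Prime) (hc : Rep c) :
    orderOf (toG c) = p ↔ ordB p c = true := by
  have : Fact p.Prime := ⟨hp⟩
  simp only [ordB, Bool.and_eq_true, Bool.not_eq_true', Nat.beq_eq]
  constructor
  · intro h
    have h1 : toG c ^ p = 1 := by rw [← h]; exact pow_orderOf_eq_one _
    have h2 : toG c ≠ 1 := by
      intro h3
      rw [h3, orderOf_one] at h
      exact hp.ne_one h.symm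
    refine ⟨?_, ?_⟩
    · cases hb : Nat.beq c idN with
      | false => rfl
      | true => exact absurd ((toG_eq_one_iff hc).2 (Nat.eq_of_beq_eq_true hb)) h2
    · rw [toG_pow hc] at h1
      exact (toG_eq_one_iff (rep_pow hc p)).1 h1
  · rintro ⟨h1, h2⟩
    apply orderOf_eq_prime
    · rw [toG_pow hc, h2, toG_one]
    · intro h3
      have h4 := (toG_eq_one_iff hc).1 h3
      have h5 : Nat.beq c idN = true := by rw [h4]; exact Nat.beq_refl _
      rw [h5] at h1
      exact absurd h1 (by decide)

/-- The number of fixed points of a packed table. -/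
def fixN (c : ℕ) : ℕ := ((List.range 24).filter (fun i => Nat.beq (getN c i) i)).length

theorem fixc_eq {g : G22} {c : ℕ} (h : T g c) : fixc (g : Equiv.Perm GolayPt) = fixN c := by
  unfold fixc fixN
  rw [← List.toFinset_card_of_nodup (List.nodup_range.filter _)]
  apply Finset.card_nbij' idx pt
  · intro p hp
    simp only [Finset.mem_coe, Finset.mem_filter, Finset.mem_univ, true_and] at hp
    simp only [Finset.mem_coe, List.mem_toFinset, List.mem_filter, List.mem_range, Nat.beq_eq]
    refine ⟨idx_lt p, ?_⟩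
    rw [← h.1 p, hp]
  · intro i hi
    simp only [Finset.mem_coe, List.mem_toFinset, List.mem_filter, List.mem_range, Nat.beq_eq] at hi
    simp only [Finset.mem_coe, Finset.mem_filter, Finset.mem_univ, true_and]
    apply idx_injective
    rw [h.1, idx_pt hi.1, hi.2]
  · intro p _
    exact pt_idx p
  · intro i hi
    simp only [Finset.mem_coe, List.mem_toFinset, List.mem_filter, List.mem_range] at hi
    exact idx_pt hi.1

/-- Equality of lists of numbers. -/
def eqL : List ℕ → List ℕ → Bool
  | [], [] => true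
  | a :: l, b :: m => Nat.beq a b && eqL l m
  | _, _ => false

theorem eqL_spec : ∀ {l m : List ℕ}, eqL l m = true → l = m
  | [], [], _ => rfl
  | a :: l, b :: m, h => by
    rw [eqL, Bool.and_eq_true, Nat.beq_eq] at h
    rw [h.1, eqL_spec h.2]
  | [], _ :: _, h => by simp [eqL] at h
  | _ :: _, [], h => by simp [eqL] at h

end Cfsg.Agent.Lib.helper9.B22
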