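import Cfsg.Agent.Lib.helper9.B22Data

/-!
# Kernel checks on the data for S5005 (helper9)
-/

set_option autoImplicit false
set_option maxRecDepth 1000000

namespace Cfsg.Agent.Lib.helper9.B22

open Cfsg Cfsg.Agent.Lib.helper9

/-- A valid table of an element of `M₂₂`. -/
def goodB (n : ℕ) : Bool := okN n && g22chk n && Nat.blt n (32 ^ 24)

/-- A valid table whose inverse table is small. -/
def invB (k : ℕ) : Bool := okN k && Nat.blt (invtN k) (32 ^ 24)

theorem ck_gens : gensW.all goodB = true := by decide +kernel

theorem ck_WK : eqL (WK.map (evalW gensW)) LK = true := by decide +kernel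

theorem ck_WC : eqL (WC.map (evalW gensW)) LC = true := by decide +kernel

theorem ck_WM : eqL (WM.map (evalW gensW)) (L3p ++ K3 ++ [c5c, c7c, c11c]) = true := by
  decide +kernel

theorem ck_K : LK.all invB = true := by decide +kernel

theorem ck_LI : eqL (LK.map (fun k => compN (compN k z22) (invtN k))) LI = true := by
  decide +kernel

theorem ck_ndI : nodupB (idN :: LI) = true := by decide +kernel

theorem ck_ordI : LI.all (ordB 2) = true := by decide +kernel

theorem ck_ndC : nodupB LC = true := by decide +kernel

theorem ck_comC : LC.all (fun c => Nat.beq (compN c z22) (compN z22 c)) = true := by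
  decide +kernel

theorem ck_lenI : LI.length = 1155 := by decide +kernel

theorem ck_lenC : LC.length = 384 := by decide +kernel

theorem ck_P : (expand xs22).all (fun a => !(ordB 2 a) || memB a LI) = true := by
  decide +kernel

theorem ck_z : memB z22 (expand xs22) = true ∧ ordB 2 z22 = true := by decide +kernel

theorem ck_L3a : nodupB (idN :: L3p) = true ∧ (idN :: L3p).length = 9 := by decide +kernel

theorem ck_L3b : (idN :: L3p).all
    (fun a => (idN :: L3p).all (fun b => memB (compN a b) (idN :: L3p))) = true := by
  decide +kernel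

theorem ck_L3c : L3p.all
    (fun a => Nat.beq (powN a 3) idN && Nat.beq (fixN a) 6 && !(Nat.beq a idN)) = true := by
  decide +kernel

theorem ck_K3a : K3.all invB = true := by decide +kernel

theorem ck_K3b : eqL (K3.map (fun k => compN (compN k r3c) (invtN k))) L3p = true := by
  decide +kernel

theorem ck_ord : ordB 5 c5c = true ∧ ordB 7 c7c = true ∧ ordB 11 c11c = true ∧
    fixN c5c = 4 ∧ fixN c7c = 3 ∧ fixN c11c = 2 ∧ ordB 3 r3c = true := by decide +kernel

/-- Representatives of the classes of elements of odd order, up to inversion. -/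
def LR : List ℕ :=
  [r3c, c5c, powN c5c 2, c7c, powN c7c 2, powN c7c 3, c11c, powN c11c 2, powN c11c 3,
    powN c11c 4, powN c11c 5]

/-- The number of `a` in `idN :: LI` with `a * r` of order `n`. -/
def cntB (n r : ℕ) : ℕ := (idN :: LI).countP (fun a => ordB n (compN a r))

/-- The four parities at the representative `r`. -/
def chk4 (r : ℕ) : Bool :=
  Nat.beq (cntB 2 r % 2) (cond (ordB 5 r) 1 0) && Nat.beq (cntB 5 r % 2) 0 &&
    Nat.beq (cntB 3 r % 2) (cond (ordB 11 r) 1 0) && Nat.beq (cntB 11 r % 2) 0

theorem ck_sq : LR.all chk4 = true := by decide +kernel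

theorem ck_X3 : eqL (LC.filter (ordB 3)) LX3 = true := by decide +kernel

theorem ck_Q : LC.all (fun cz =>
    Nat.beq ((LX3.countP (fun x => ordB 3 (compN (compN x x) cz))) % 2) 0) = true := by
  decide +kernel

end Cfsg.Agent.Lib.helper9.B22
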