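import Cfsg.Agent.Lib.helper9.B22Chk
import Cfsg.Agent.Lib.helper25.B22_D
import Cfsg.Agent.Lib.helper25.B22_J
import Cfsg.Agent.Lib.helper25.B22_K
import Cfsg.Agent.Lib.helper73.B22E

/-!
# `M₂₂` has a single 2-block (helper9, S5005): the concrete facts and the assembly
-/

set_option autoImplicit false
set_option maxRecDepth 100000

namespace Cfsg.Agent.Lib.helper9.B22

open Cfsg Cfsg.Agent.Lib.helper9

/-- A `Fintype` structure on `M₂₂`. -/
@[reducible] noncomputable def fintypeG22 : Fintype G22 := Fintype.ofFinite _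

attribute [local instance] fintypeG22

theorem card_G22 : Fintype.card G22 = 443520 := by
  rw [← Nat.card_eq_fintype_card]
  exact card_sporM22

/-! ### Representability of the data -/

theorem rep_gens : ∀ c ∈ gensW, Rep c := by
  intro c hc
  have h := List.all_eq_true.1 ck_gens c hc
  simp only [goodB, Bool.and_eq_true, Nat.blt_eq] at h
  exact rep_of_good h.1.1 h.1.2 h.2

theorem rep_of_words {W : List (List ℕ)} {L : List ℕ}
    (h : eqL (W.map (evalW gensW)) L = true) : ∀ c ∈ L, Rep c := by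
  intro c hc
  rw [← eqL_spec h, List.mem_map] at hc
  obtain ⟨w, -, rfl⟩ := hc
  exact rep_evalW gensW rep_gens w

theorem rep_LK : ∀ k ∈ LK, Rep k := rep_of_words ck_WK

theorem rep_LC : ∀ c ∈ LC, Rep c := rep_of_words ck_WC

theorem rep_misc : ∀ c ∈ L3p ++ K3 ++ [c5c, c7c, c11c], Rep c := rep_of_words ck_WM

theorem rep_L3p : ∀ c ∈ L3p, Rep c := fun c hc => rep_misc c (by simp [hc])

theorem rep_K3 : ∀ c ∈ K3, Rep c := fun c hc => rep_misc c (by simp [hc])

theorem rep_c5 : Rep c5c := rep_misc _ (by simp)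

theorem rep_c7 : Rep c7c := rep_misc _ (by simp)

theorem rep_c11 : Rep c11c := rep_misc _ (by simp)

theorem ck_r3 : memB r3c L3p = true := by decide +kernel

theorem rep_r3 : Rep r3c := rep_L3p _ (memB_iff.1 ck_r3)

theorem rep_z22 : Rep z22 := by
  have hm : z22 ∈ expand xs22 := memB_iff.1 ck_z.1
  obtain ⟨τ, hτ, ht⟩ := expand_realize (pcChk_ok pc22) z22 hm
  exact ⟨⟨τ, le22 hτ⟩, ht, expand_lt xs22 z22 hm⟩

/-- The central involution of the Sylow 2-subgroup. -/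
noncomputable def t22 : G22 := toG z22

theorem t22_order : orderOf t22 = 2 := (orderOf_toG_iff Nat.prime_two rep_z22).2 ck_z.2

theorem inv_of_invB {k : ℕ} (hk : Rep k) (h : invB k = true) :
    Rep (invtN k) ∧ toG (invtN k) = (toG k)⁻¹ := by
  simp only [invB, Bool.and_eq_true, Nat.blt_eq] at h
  exact toG_inv hk h.1 h.2

theorem conj_spec {k c : ℕ} (hk : Rep k) (hc : Rep c) (h : invB k = true) :
    Rep (compN (compN k c) (invtN k)) ∧ IsConj (toG c) (toG (compN (compN k c) (invtN k))) := by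
  obtain ⟨h1, h2⟩ := inv_of_invB hk h
  refine ⟨rep_mul (rep_mul hk hc) h1, ?_⟩
  rw [isConj_iff]
  refine ⟨toG k, ?_⟩
  rw [← h2, toG_mul hk hc, toG_mul (rep_mul hk hc) h1]

theorem LI_spec : ∀ s ∈ LI, Rep s ∧ IsConj t22 (toG s) := by
  intro s hs
  rw [← eqL_spec ck_LI, List.mem_map] at hs
  obtain ⟨k, hk, rfl⟩ := hs
  exact conj_spec (rep_LK k hk) rep_z22 (List.all_eq_true.1 ck_K k hk)

theorem rep_LI' : ∀ c ∈ idN :: LI, Rep c := by
  intro c hc
  rcases List.mem_cons.1 hc with rfl | h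
  · exact rep_one
  · exact (LI_spec c h).1

theorem toG_inj_on {L : List ℕ} (hL : ∀ c ∈ L, Rep c) :
    ∀ a ∈ L, ∀ b ∈ L, toG a = toG b → a = b :=
  fun a ha b hb h => toG_inj (hL a ha) (hL b hb) h

theorem ordI_spec {c : ℕ} (hc : c ∈ LI) : orderOf (toG c) = 2 :=
  (orderOf_toG_iff Nat.prime_two (LI_spec c hc).1).2 (List.all_eq_true.1 ck_ordI c hc)

/-! ### The class of involutions and the centralizer -/

/-- The involutions of `M₂₂`. -/
noncomputable def SS : Finset G22 := (LI.map toG).toFinset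

/-- The centralizer of the central involution. -/
noncomputable def LL : Finset G22 := (LC.map toG).toFinset

theorem mem_SS {x : G22} : x ∈ SS ↔ ∃ c ∈ LI, toG c = x := by
  simp only [SS, List.mem_toFinset, List.mem_map]

theorem mem_LL {x : G22} : x ∈ LL ↔ ∃ c ∈ LC, toG c = x := by
  simp only [LL, List.mem_toFinset, List.mem_map]

theorem nd_LI' : ((idN :: LI).map toG).Nodup :=
  List.Nodup.map_on (toG_inj_on rep_LI') (nodupB_spec ck_ndI)

theorem SS_card : SS.card = 1155 := by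
  rw [SS, List.toFinset_card_of_nodup
    (List.Nodup.map_on (toG_inj_on (fun c hc => (LI_spec c hc).1))
      (List.nodup_cons.1 (nodupB_spec ck_ndI)).2), List.length_map, ck_lenI]

theorem LL_card : LL.card = 384 := by
  rw [LL, List.toFinset_card_of_nodup
    (List.Nodup.map_on (toG_inj_on rep_LC) (nodupB_spec ck_ndC)), List.length_map, ck_lenC]

theorem LL_comm : ∀ x ∈ LL, x * t22 = t22 * x := by
  intro x hx
  obtain ⟨c, hc, rfl⟩ := mem_LL.1 hx
  have h := Nat.eq_of_beq_eq_true (List.all_eq_true.1 ck_comC c hc)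
  rw [t22, toG_mul (rep_LC c hc) rep_z22, toG_mul rep_z22 (rep_LC c hc), h]

theorem SS_conj : ∀ s ∈ SS, IsConj t22 s := by
  intro s hs
  obtain ⟨c, hc, rfl⟩ := mem_SS.1 hs
  exact (LI_spec c hc).2

theorem cls : (∀ g : G22, IsConj t22 g → g ∈ SS) ∧ (∀ x : G22, x * t22 = t22 * x → x ∈ LL) :=
  Cfsg.Agent.Lib.helper25.B22.class_of_card t22 LL SS LL_comm SS_conj
    (by rw [SS_card, LL_card, card_G22])

/-! ### The Sylow 2-subgroup -/

/-- The Sylow 2-subgroup. -/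
noncomputable def P22 : Subgroup G22 := (grpN xs22).subgroupOf Spor.M22

theorem P22_card : Nat.card P22 = 128 := by
  rw [P22, Nat.card_congr (Subgroup.subgroupOfEquivOfLe le22).toEquiv, card22]
  norm_num

theorem P22_norm : ∀ g : G22, (∀ x ∈ P22, g * x * g⁻¹ ∈ P22) → g ∈ P22 := by
  intro g hg
  rw [P22, Subgroup.mem_subgroupOf]
  apply hN22 g.1 g.2
  intro x hx
  have h := hg ⟨x, le22 hx⟩ (by rw [P22, Subgroup.mem_subgroupOf]; exact hx)
  rw [P22, Subgroup.mem_subgroupOf] at h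
  exact h

theorem P22_inv : ∀ x ∈ P22, orderOf x = 2 → x ∈ SS := by
  intro x hx h2
  rw [P22, Subgroup.mem_subgroupOf] at hx
  obtain ⟨a, ha, hT⟩ := (mem_grpN_iff pc22 _).1 hx
  have hTx : T x a := ⟨hT, expand_lt xs22 a ha⟩
  have hrep : Rep a := ⟨x, hTx⟩
  have hxa : toG a = x := toG_eq hTx
  have hb := List.all_eq_true.1 ck_P a ha
  rw [← hxa, orderOf_toG_iff Nat.prime_two hrep] at h2
  rw [h2] at hb
  simp only [Bool.not_true, Bool.false_or] at hb
  exact mem_SS.2 ⟨a, memB_iff.1 hb, hxa⟩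

theorem inv22 : ∀ q : G22, orderOf q = 2 → IsConj t22 q :=
  Cfsg.Agent.Lib.helper25.B22.inv_class P22 P22_card card_G22 t22 SS P22_inv cls.1 SS_conj

theorem cent22' : ∀ q x : G22, IsConj t22 q → x * q = q * x → orderOf x ∣ 384 := by
  intro q x hq hx
  have h := Cfsg.Agent.Lib.helper25.B22.cent_order t22 LL LL_comm cls.2 q x hq hx
  rwa [LL_card] at h

theorem ordF2 : ordF G22 2 = SS := by
  ext x
  rw [mem_ordF]
  constructor
  · intro h
    exact cls.1 x (inv22 x h)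
  · intro h
    obtain ⟨c, hc, rfl⟩ := mem_SS.1 h
    exact ordI_spec hc

theorem hodd22 : Odd (ordF G22 2).card := by
  rw [ordF2, SS_card]
  decide

/-! ### Elements of odd order -/

/-- A Sylow 3-subgroup. -/
noncomputable def Q3 : Finset G22 := ((idN :: L3p).map toG).toFinset

theorem mem_Q3 {x : G22} : x ∈ Q3 ↔ ∃ c ∈ idN :: L3p, toG c = x := by
  simp only [Q3, List.mem_toFinset, List.mem_map]

theorem rep_L3 : ∀ c ∈ idN :: L3p, Rep c := by
  intro c hc
  rcases List.mem_cons.1 hc with rfl | h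
  · exact rep_one
  · exact rep_L3p c h

theorem L3p_spec {c : ℕ} (hc : c ∈ L3p) : powN c 3 = idN ∧ fixN c = 6 ∧ c ≠ idN := by
  have h := List.all_eq_true.1 ck_L3c c hc
  simp only [Bool.and_eq_true, Bool.not_eq_true'] at h
  refine ⟨Nat.eq_of_beq_eq_true h.1.1, Nat.eq_of_beq_eq_true h.1.2, ?_⟩
  intro h2
  have h3 : Nat.beq c idN = true := by rw [h2]; exact Nat.beq_refl _
  rw [h3] at h
  exact absurd h.2 (by decide)

theorem conj_r3 : ∀ c ∈ L3p, IsConj (toG r3c) (toG c) := by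
  intro c hc
  rw [← eqL_spec ck_K3b, List.mem_map] at hc
  obtain ⟨k, hk, rfl⟩ := hc
  exact (conj_spec (rep_K3 k hk) rep_r3 (List.all_eq_true.1 ck_K3a k hk)).2

theorem fix_none (g : G22) : (Spor.M22.subtype g) (none : GolayPt) = none := by
  have h := MulAction.mem_stabilizer_iff.1 (Subgroup.mem_inf.1 (Subgroup.mem_inf.1 g.2).1).2
  exact h

theorem fix_zero (g : G22) : (Spor.M22.subtype g) (some 0 : GolayPt) = some 0 := by
  have h := MulAction.mem_stabilizer_iff.1 (Subgroup.mem_inf.1 g.2).2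
  exact h

theorem fixc_toG {c : ℕ} (hc : Rep c) : fixc (Spor.M22.subtype (toG c)) = fixN c :=
  fixc_eq (T_toG hc)

theorem E22 :
    (∀ v : G22, orderOf v = 3 → ∃ x ∈ Q3, x ≠ 1 ∧ IsConj x v) ∧
    (∀ v : G22, Odd (orderOf v) → v = 1 ∨ (∃ x ∈ Q3, x ≠ 1 ∧ IsConj x v) ∨
      (∃ k : ℕ, 1 ≤ k ∧ k ≤ 2 ∧ (IsConj (toG c5c ^ k) v ∨ IsConj (toG c5c ^ k)⁻¹ v)) ∨
      (∃ k : ℕ, 1 ≤ k ∧ k ≤ 3 ∧ (IsConj (toG c7c ^ k) v ∨ IsConj (toG c7c ^ k)⁻¹ v)) ∨
      (∃ k : ℕ, 1 ≤ k ∧ k ≤ 5 ∧ (IsConj (toG c11c ^ k) v ∨ IsConj (toG c11c ^ k)⁻¹ v))) := by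
  apply Cfsg.Agent.Lib.helper73.B22.odd_class Spor.M22.subtype card_G22 (none : GolayPt) (some 0)
    (by decide) fix_none fix_zero Q3
  · exact mem_Q3.2 ⟨idN, List.mem_cons_self .., toG_one⟩
  · intro x hx y hy
    obtain ⟨a, ha, rfl⟩ := mem_Q3.1 hx
    obtain ⟨b, hb, rfl⟩ := mem_Q3.1 hy
    have h := List.all_eq_true.1 (List.all_eq_true.1 ck_L3b a ha) b hb
    exact mem_Q3.2 ⟨compN a b, memB_iff.1 h, (toG_mul (rep_L3 a ha) (rep_L3 b hb)).symm⟩
  · rw [Q3, List.toFinset_card_of_nodup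
      (List.Nodup.map_on (toG_inj_on rep_L3) (nodupB_spec ck_L3a.1)), List.length_map]
    exact ck_L3a.2
  · intro x hx
    obtain ⟨a, ha, rfl⟩ := mem_Q3.1 hx
    rcases List.mem_cons.1 ha with rfl | h
    · rw [toG_one, one_pow]
    · rw [toG_pow (rep_L3p a h), (L3p_spec h).1, toG_one]
  · intro x hx hx1
    obtain ⟨a, ha, rfl⟩ := mem_Q3.1 hx
    rcases List.mem_cons.1 ha with rfl | h
    · exact absurd toG_one hx1
    · rw [fixc_toG (rep_L3p a h), (L3p_spec h).2.1]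
  · exact (orderOf_toG_iff Nat.prime_five rep_c5).2 ck_ord.1
  · exact (orderOf_toG_iff (by norm_num) rep_c7).2 ck_ord.2.1
  · exact (orderOf_toG_iff (by norm_num) rep_c11).2 ck_ord.2.2.1
  · rw [fixc_toG rep_c5]; exact ck_ord.2.2.2.1
  · rw [fixc_toG rep_c7]; exact ck_ord.2.2.2.2.1
  · rw [fixc_toG rep_c11]; exact ck_ord.2.2.2.2.2.1

theorem conj_Q3 (x : G22) (hx : x ∈ Q3) (hx1 : x ≠ 1) : IsConj (toG r3c) x := by
  obtain ⟨a, ha, rfl⟩ := mem_Q3.1 hx
  rcases List.mem_cons.1 ha with rfl | h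
  · exact absurd toG_one hx1
  · exact conj_r3 a h

theorem h3_22 : ∀ x y : G22, orderOf x = 3 → orderOf y = 3 → IsConj x y := by
  intro x y hx hy
  obtain ⟨a, ha, ha1, hax⟩ := E22.1 x hx
  obtain ⟨b, hb, hb1, hby⟩ := E22.1 y hy
  exact ((conj_Q3 a ha ha1).trans hax).symm.trans ((conj_Q3 b hb hb1).trans hby)

/-- Representatives of the elements of odd order, up to conjugacy and inversion. -/
noncomputable def R22 : Finset G22 := (LR.map toG).toFinset

theorem mem_R22 {c : ℕ} (hc : c ∈ LR) : toG c ∈ R22 := by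
  simp only [R22, List.mem_toFinset, List.mem_map]
  exact ⟨c, hc, rfl⟩

theorem R22_pow {c : ℕ} (hc : Rep c) (hc1 : c ∈ LR) (k : ℕ) (hk : k = 1 ∨ powN c k ∈ LR) :
    toG c ^ k ∈ R22 := by
  rcases hk with rfl | h
  · rw [pow_one]; exact mem_R22 hc1
  · rw [toG_pow hc]; exact mem_R22 h

theorem rep_LR : ∀ r ∈ LR, Rep r := by
  intro r hr
  simp only [LR, List.mem_cons, List.not_mem_nil, or_false] at hr
  rcases hr with rfl | rfl | rfl | rfl | rfl | rfl | rfl | rfl | rfl | rfl | rfl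
  · exact rep_r3
  · exact rep_c5
  · exact rep_pow rep_c5 2
  · exact rep_c7
  · exact rep_pow rep_c7 2
  · exact rep_pow rep_c7 3
  · exact rep_c11
  · exact rep_pow rep_c11 2
  · exact rep_pow rep_c11 3
  · exact rep_pow rep_c11 4
  · exact rep_pow rep_c11 5

theorem hR22 : ∀ v : G22, Odd (orderOf v) → v = 1 ∨ ∃ r ∈ R22, IsConj r v ∨ IsConj r⁻¹ v := by
  intro v hv
  rcases E22.2 v hv with h | ⟨x, hx, hx1, hc⟩ | ⟨k, h1, h2, hc⟩ | ⟨k, h1, h2, hc⟩ |
    ⟨k, h1, h2, hc⟩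
  · exact Or.inl h
  · exact Or.inr ⟨toG r3c, mem_R22 (by simp [LR]), Or.inl ((conj_Q3 x hx hx1).trans hc)⟩
  · refine Or.inr ⟨toG c5c ^ k, R22_pow rep_c5 (by simp [LR]) k ?_, hc⟩
    interval_cases k <;> simp [LR]
  · refine Or.inr ⟨toG c7c ^ k, R22_pow rep_c7 (by simp [LR]) k ?_, hc⟩
    interval_cases k <;> simp [LR]
  · refine Or.inr ⟨toG c11c ^ k, R22_pow rep_c11 (by simp [LR]) k ?_, hc⟩
    interval_cases k <;> simp [LR]

/-! ### The parities -/

theorem sq_list : ∀ a : G22, a * a = 1 ↔ a ∈ (idN :: LI).map toG := by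
  intro a
  rw [List.mem_map]
  constructor
  · intro h
    by_cases h1 : a = 1
    · exact ⟨idN, List.mem_cons_self .., by rw [toG_one, h1]⟩
    · have : Fact (Nat.Prime 2) := ⟨Nat.prime_two⟩
      have h2 : orderOf a = 2 := orderOf_eq_prime (by rw [pow_two]; exact h) h1
      obtain ⟨c, hc, rfl⟩ := mem_SS.1 (cls.1 a (inv22 a h2))
      exact ⟨c, List.mem_cons_of_mem _ hc, rfl⟩
  · rintro ⟨c, hc, rfl⟩
    rcases List.mem_cons.1 hc with rfl | h
    · rw [toG_one, mul_one]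
    · rw [← pow_two, ← ordI_spec h]
      exact pow_orderOf_eq_one _

theorem sq_eq {n : ℕ} (hn : n.Prime) {r : ℕ} (hr : Rep r) :
    sq (ordF G22 n) (toG r) = cntB n r := by
  rw [sq_eq_countP _ nd_LI' sq_list, List.countP_map, cntB]
  apply List.countP_congr
  intro a ha
  simp only [Function.comp, decide_eq_true_eq]
  rw [mem_ordF, toG_mul (rep_LI' a ha) hr, orderOf_toG_iff hn (rep_mul (rep_LI' a ha) hr)]

theorem cast_par {k : ℕ} {b : Bool} {P : Prop} [Decidable P] (hP : P ↔ b = true)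
    (h : Nat.beq (k % 2) (cond b 1 0) = true) : ((k : ℕ) : ZMod 2) = if P then 1 else 0 := by
  have h1 := Nat.eq_of_beq_eq_true h
  rw [← ZMod.natCast_mod, h1]
  cases b with
  | false => rw [if_neg (fun hh => absurd (hP.1 hh) (by decide))]; simp
  | true => rw [if_pos (hP.2 rfl)]; simp

theorem cast_par0 {k : ℕ} (h : Nat.beq (k % 2) 0 = true) : ((k : ℕ) : ZMod 2) = 0 := by
  rw [← ZMod.natCast_mod, Nat.eq_of_beq_eq_true h]
  simp

theorem hsq22 : ∀ r ∈ R22,
    (((sq (ordF G22 2) r : ℕ) : ZMod 2) = if orderOf r = 5 then 1 else 0) ∧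
    (((sq (ordF G22 5) r : ℕ) : ZMod 2) = 0) ∧
    (((sq (ordF G22 3) r : ℕ) : ZMod 2) = if orderOf r = 11 then 1 else 0) ∧
    (((sq (ordF G22 11) r : ℕ) : ZMod 2) = 0) := by
  intro r hr
  simp only [R22, List.mem_toFinset, List.mem_map] at hr
  obtain ⟨c, hc, rfl⟩ := hr
  have hrep := rep_LR c hc
  have h := List.all_eq_true.1 ck_sq c hc
  simp only [chk4, Bool.and_eq_true] at h
  obtain ⟨⟨⟨h1, h2⟩, h3⟩, h4⟩ := h
  rw [sq_eq Nat.prime_two hrep, sq_eq Nat.prime_five hrep, sq_eq Nat.prime_three hrep,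
    sq_eq (by norm_num) hrep]
  exact ⟨cast_par (orderOf_toG_iff Nat.prime_five hrep) h1, cast_par0 h2,
    cast_par (orderOf_toG_iff (by norm_num) hrep) h3, cast_par0 h4⟩

theorem X3_mem {c : ℕ} : c ∈ LX3 ↔ c ∈ LC ∧ ordB 3 c = true := by
  rw [← eqL_spec ck_X3, List.mem_filter]

theorem X3_spec : ∀ x : G22, (orderOf x = 3 ∧ x * t22 = t22 * x) ↔ x ∈ LX3.map toG := by
  intro x
  rw [List.mem_map]
  constructor
  · rintro ⟨h3, hc⟩
    obtain ⟨c, hc', rfl⟩ := mem_LL.1 (cls.2 x hc)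
    exact ⟨c, X3_mem.2 ⟨hc', (orderOf_toG_iff Nat.prime_three (rep_LC c hc')).1 h3⟩, rfl⟩
  · rintro ⟨c, hc, rfl⟩
    obtain ⟨hc1, hc2⟩ := X3_mem.1 hc
    exact ⟨(orderOf_toG_iff Nat.prime_three (rep_LC c hc1)).2 hc2,
      LL_comm _ (mem_LL.2 ⟨c, hc1, rfl⟩)⟩

theorem nd_X3 : (LX3.map toG).Nodup := by
  apply List.Nodup.map_on (toG_inj_on (fun c hc => rep_LC c (X3_mem.1 hc).1))
  rw [← eqL_spec ck_X3]
  exact (nodupB_spec ck_ndC).filter _

theorem hQ22 : ∀ z : G22, z * t22 = t22 * z →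
    Even (((ordF G22 3).filter (fun x => x * t22 = t22 * x ∧ x⁻¹ * z ∈ ordF G22 3)).card) := by
  intro z hz
  obtain ⟨cz, hcz, rfl⟩ := mem_LL.1 (cls.2 z hz)
  rw [filt_eq_countP t22 (toG cz) (LX3.map toG) nd_X3 X3_spec, List.countP_map]
  have h := Nat.eq_of_beq_eq_true (List.all_eq_true.1 ck_Q cz hcz)
  have hcong : List.countP ((fun x => decide (x⁻¹ * toG cz ∈ ordF G22 3)) ∘ toG) LX3
      = List.countP (fun x => ordB 3 (compN (compN x x) cz)) LX3 := by
    apply List.countP_congr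
    intro x hx
    obtain ⟨hx1, hx3⟩ := X3_mem.1 hx
    have hxr := rep_LC x hx1
    simp only [Function.comp, decide_eq_true_eq]
    have hinv : (toG x)⁻¹ = toG x * toG x := by
      have h3 : toG x ^ 3 = 1 := by
        rw [← (orderOf_toG_iff Nat.prime_three hxr).2 hx3]
        exact pow_orderOf_eq_one _
      apply inv_eq_of_mul_eq_one_left
      rw [← pow_two, ← pow_succ]
      exact h3
    rw [hinv, mem_ordF, toG_mul hxr hxr, toG_mul (rep_mul hxr hxr) (rep_LC cz hcz),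
      orderOf_toG_iff Nat.prime_three (rep_mul (rep_mul hxr hxr) (rep_LC cz hcz))]
  rw [hcong]
  exact Nat.even_iff.2 h

/-! ### The theorem -/

theorem single_block_M22 (M : Ideal AlgInt) (hM : IsPModular 2 M) (χ ψ : IrrCharacter G22) :
    SameBlock M (χ : G22 → ℂ) (ψ : G22 → ℂ) := by
  obtain ⟨ha, hb, hc, hd⟩ := Cfsg.Agent.Lib.helper25.B22.parity_all t22 t22_order inv22 cent22'
    R22 hR22 hodd22 (fun r hr => (hsq22 r hr).1) (fun r hr => (hsq22 r hr).2.1)
    (fun r hr => (hsq22 r hr).2.2.1) (fun r hr => (hsq22 r hr).2.2.2) hQ22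
  exact Cfsg.Agent.Lib.helper25.B22.main_abstract P22 P22_card card_G22 P22_norm t22 t22_order
    inv22 cent22' h3_22 ha hb hc hd M hM χ ψ

end Cfsg.Agent.Lib.helper9.B22
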