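import Cfsg.Agent.Lib.helper9.HSSimple
import Cfsg.Agent.Lib.helper93.Co0Norm48

/-!
The order of `Cfsg.Co0`: it is transitive on the 16773120 vectors of norm 48, the stabiliser of one
of them is transitive on 11178 minimal vectors, with stabiliser the Higman–Sims group.
-/

set_option autoImplicit false
open Cfsg
open Cfsg.Agent.Lib.helper93

namespace Cfsg.Agent.Lib.helper9

/-- The orbit–stabiliser theorem. -/
theorem ncard_orbit_mul_stab {G α : Type*} [Group G] [MulAction G α] (x : α) :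
    Nat.card G = (MulAction.orbit G x).ncard * Nat.card ↥(MulAction.stabilizer G x) := by
  rw [← MulAction.index_stabilizer, mul_comm]
  exact (Subgroup.card_mul_index _).symm

/-- The stabiliser of a point in a subgroup. -/
theorem card_stab_inf {G α : Type*} [Group G] [MulAction G α] (H : Subgroup G) (x : α) :
    Nat.card ↥(MulAction.stabilizer ↥H x) = Nat.card ↥(H ⊓ MulAction.stabilizer G x) := by
  have e : MulAction.stabilizer ↥H x = (H ⊓ MulAction.stabilizer G x).subgroupOf H := by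
    rw [Subgroup.inf_subgroupOf_left]
    ext g
    rw [Subgroup.mem_subgroupOf, MulAction.mem_stabilizer_iff, MulAction.mem_stabilizer_iff]
    rfl
  rw [e]
  exact Nat.card_congr (Subgroup.subgroupOfEquivOfLe inf_le_left).toEquiv

theorem w0S_norm : sqNorm (w0S : GolayPt → ℤ) = 48 := by
  rw [w0S_val, Cfsg.Agent.Lib.helper93.sqNorm_sub_eq, m0S_norm, u0S_norm, dot_comm_eq, m0S_H]
  norm_num

theorem u0S_w0S_dot : dotInt (u0S : GolayPt → ℤ) (w0S : GolayPt → ℤ) = -32 := by
  rw [w0S_val, dot_comm_eq, dot_sub_left, dot_comm_eq, m0S_H, dot_self_eq, u0S_norm]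
  norm_num

theorem H3_inf_stab : H3 ⊓ MulAction.stabilizer ↥Co0 m0S =
    MulAction.stabilizer ↥Co0 u0S ⊓ MulAction.stabilizer ↥Co0 w0S := by
  ext g
  unfold H3
  rw [Subgroup.mem_inf, Subgroup.mem_inf, MulAction.mem_stabilizer_iff,
    MulAction.mem_stabilizer_iff, MulAction.mem_stabilizer_iff]
  show (g.1 u0S = u0S ∧ g.1 m0S = m0S) ↔ (g.1 u0S = u0S ∧ g.1 w0S = w0S)
  constructor
  · rintro ⟨h1, h2⟩
    refine ⟨h1, ?_⟩
    unfold w0S
    rw [Cfsg.Agent.Lib.helper93.co_map_sub, h1, h2]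
  · rintro ⟨h1, h2⟩
    refine ⟨h1, ?_⟩
    have h3 : m0S = w0S + u0S := by unfold w0S; rw [sub_add_cancel]
    rw [h3, g.2.1, h1, h2]

theorem H3_orbit : MulAction.orbit ↥H3 m0S =
    {m : ↥leechLattice | sqNorm (m : GolayPt → ℤ) = 32 ∧
      dotInt (u0S : GolayPt → ℤ) (m : GolayPt → ℤ) = 16} := by
  ext y
  constructor
  · rintro ⟨g, rfl⟩
    refine ⟨?_, ?_⟩
    · show sqNorm ((g.1.1 m0S : ↥leechLattice) : GolayPt → ℤ) = 32
      rw [g.1.2.2]
      exact m0S_norm
    · show dotInt (u0S : GolayPt → ℤ) ((g.1.1 m0S : ↥leechLattice) : GolayPt → ℤ) = 16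
      rw [inv_dot g.1 u0S m0S (H3_fix g.1 g.2)]
      exact m0S_H
  · intro hy
    obtain ⟨g, hg, hgm⟩ := Co3_trans m0S y ⟨m0S_norm, m0S_H⟩ hy
    exact ⟨⟨g, hg⟩, hgm⟩

theorem H3_orbit_ncard : (MulAction.orbit ↥H3 m0S).ncard = 11178 := by
  rw [H3_orbit]
  exact ncard_sub_filter (fun x => dotInt (u0S : GolayPt → ℤ) x = 16) qH 11178
    (fun x _ hn => qH_iff x hn) cnt_qH

theorem card_H3 : Nat.card ↥H3 = 495766656000 := by
  rw [ncard_orbit_mul_stab (G := ↥H3) m0S, H3_orbit_ncard, card_stab_inf, H3_inf_stab,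
    (isHS_of_pair u0S w0S u0S_norm w0S_norm u0S_w0S_dot).2]

theorem Co0_orbit_u0S : MulAction.orbit ↥Co0 u0S = orb48 := rfl

/-- The order of the automorphism group of the lattice. -/
theorem card_Co0 : Nat.card ↥Co0 = 8315553613086720000 := by
  have h : Nat.card ↥(MulAction.stabilizer ↥Co0 u0S) = 495766656000 := card_H3
  rw [ncard_orbit_mul_stab (G := ↥Co0) u0S, Co0_orbit_u0S, orb48_ncard, h]

end Cfsg.Agent.Lib.helper9
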