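import Cfsg.Agent.Lib.helper9.CrossStab

/-!
`Cfsg.Co0` is finite; general lemmas on stabilisers.
-/

set_option autoImplicit false
open Cfsg
open Cfsg.Agent.Lib.helper93

namespace Cfsg.Agent.Lib.helper9

theorem sqNorm_finite (n : ℤ) : {u : ↥leechLattice | sqNorm (u : GolayPt → ℤ) = n}.Finite := by
  have h1 : {f : GolayPt → ℤ | ∀ i, f i ∈ Set.Icc (-n) n}.Finite :=
    Set.Finite.pi' (fun _ => Set.finite_Icc _ _)
  have h2 : {x : GolayPt → ℤ | sqNorm x = n} ⊆ {f : GolayPt → ℤ | ∀ i, f i ∈ Set.Icc (-n) n} := by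
    intro x hx i
    have hx' : sqNorm x = n := hx
    have h3 : x i ^ 2 ≤ sqNorm x := by
      unfold sqNorm
      exact Finset.single_le_sum (f := fun j => x j ^ 2) (fun j _ => sq_nonneg (x j))
        (Finset.mem_univ i)
    rw [hx'] at h3
    have ha : x i ≤ x i ^ 2 := by
      rcases le_or_gt (x i) 0 with h | h <;> nlinarith
    have hb : -(x i) ≤ x i ^ 2 := by
      rcases le_or_gt 0 (x i) with h | h <;> nlinarith
    rw [Set.mem_Icc]
    constructor <;> linarith
  exact Set.Finite.preimage (Subtype.val_injective.injOn) (h1.subset h2)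

/-- An automorphism of the lattice fixing the vectors `8 e_q` is the identity. -/
theorem co_eq_one_of_fix_E (h : ↥Co0) (hE : ∀ q, h.1 (E q) = E q) (v : ↥leechLattice) :
    h.1 v = v := by
  apply Subtype.ext
  funext q
  have h1 := dotInt_map h.1 h.2 v (E q)
  rw [hE q, E_coe, dotInt_single, dotInt_single] at h1
  exact mul_right_cancel₀ (by norm_num : (8 : ℤ) ≠ 0) h1

theorem finite_Co0 : Finite ↥Co0 := by
  have : Finite ↥{u : ↥leechLattice | sqNorm (u : GolayPt → ℤ) = 64} :=
    (sqNorm_finite 64).to_subtype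
  let f : ↥Co0 → (GolayPt → ↥{u : ↥leechLattice | sqNorm (u : GolayPt → ℤ) = 64}) :=
    fun g q => ⟨g.1 (E q), by
      show sqNorm ((g.1 (E q) : ↥leechLattice) : GolayPt → ℤ) = 64
      rw [g.2.2, E_coe]
      unfold sqNorm
      rw [Finset.sum_eq_single q]
      · rw [Pi.single_eq_same]; norm_num
      · intro j _ hj
        rw [Pi.single_eq_of_ne hj]; norm_num
      · intro hq
        exact absurd (Finset.mem_univ q) hq⟩
  apply Finite.of_injective f
  intro g g' hgg
  have hE : ∀ q, (g'⁻¹ * g).1 (E q) = E q := by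
    intro q
    have h1 : g.1 (E q) = g'.1 (E q) := congrArg Subtype.val (congrFun hgg q)
    show (g'⁻¹ : ↥Co0).1 (g.1 (E q)) = E q
    rw [h1]
    exact g'.1.symm_apply_apply (E q)
  apply Subtype.ext
  apply Equiv.ext
  intro v
  have h2 := co_eq_one_of_fix_E (g'⁻¹ * g) hE v
  have h3 : (g'⁻¹ : ↥Co0).1 (g.1 v) = v := h2
  have h4 := congrArg g'.1 h3
  rw [show g'.1 ((g'⁻¹ : ↥Co0).1 (g.1 v)) = g.1 v from g'.1.apply_symm_apply (g.1 v)] at h4
  exact h4

/-- Conjugate joint stabilisers of two points are isomorphic. -/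
theorem stab2_conj {G α : Type*} [Group G] [MulAction G α] (h : G) (a b : α) :
    Nonempty (↥(MulAction.stabilizer G a ⊓ MulAction.stabilizer G b) ≃*
      ↥(MulAction.stabilizer G (h • a) ⊓ MulAction.stabilizer G (h • b))) := by
  rw [MulAction.stabilizer_smul_eq_stabilizer_map_conj,
    MulAction.stabilizer_smul_eq_stabilizer_map_conj,
    ← Subgroup.map_inf _ _ _ (MulAut.conj h).injective]
  exact ⟨Subgroup.equivMapOfInjective _ _ (MulAut.conj h).injective⟩

/-- Conjugate stabilisers are isomorphic. -/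
theorem stab1_conj {G α : Type*} [Group G] [MulAction G α] (h : G) (a : α) :
    Nonempty (↥(MulAction.stabilizer G a) ≃* ↥(MulAction.stabilizer G (h • a))) := by
  rw [MulAction.stabilizer_smul_eq_stabilizer_map_conj]
  exact ⟨Subgroup.equivMapOfInjective _ _ (MulAut.conj h).injective⟩

/-- A point stabiliser moving a point of the orbit is not normal. -/
theorem stab_not_normal {G α : Type*} [Group G] [MulAction G α] (x y y' : α)
    (hy : y ∈ MulAction.orbit G x) (hne : y ≠ y')
    (h : ∃ h ∈ MulAction.stabilizer G x, h • y = y') : ¬ (MulAction.stabilizer G x).Normal := by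
  intro hN
  obtain ⟨g, hg⟩ := hy
  have hg' : g • x = y := hg
  obtain ⟨h, hh, hy'⟩ := h
  have h1 := hN.conj_mem h hh g⁻¹
  rw [inv_inv, MulAction.mem_stabilizer_iff, mul_smul, mul_smul, hg', hy'] at h1
  apply hne
  rw [← hg', ← h1, smul_inv_smul]

end Cfsg.Agent.Lib.helper9
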