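import Cfsg.Agent.Lib.helper9.McLSimple
import Cfsg.Agent.Lib.helper9.Co0Card
import Cfsg.Agent.Lib.helper93.Co0Rk5

/-!
The stabiliser in `Cfsg.Co0` of a vector of norm 48 is simple of order 495766656000 (the third
Conway group).
-/

set_option autoImplicit false
open Cfsg
open Cfsg.Agent.Lib.helper93

namespace Cfsg.Agent.Lib.helper9

theorem sqNorm_neg_eq (a : GolayPt → ℤ) : sqNorm (-a) = sqNorm a := by
  unfold sqNorm
  refine Finset.sum_congr rfl fun i _ => ?_
  simp only [Pi.neg_apply]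
  ring

theorem dot_neg_right (a b : GolayPt → ℤ) : dotInt a (-b) = -dotInt a b := by
  unfold dotInt
  rw [← Finset.sum_neg_distrib]
  refine Finset.sum_congr rfl fun i _ => ?_
  simp only [Pi.neg_apply]
  ring

/-- The base point for the action of the stabiliser of `u0S` on 11178 points. -/
def c3X : ↥leechLattice := -m0S

theorem c3X_mem : c3X ∈ {x : ↥leechLattice | sqNorm (x : GolayPt → ℤ) = 32 ∧
    dotInt (u0S : GolayPt → ℤ) (x : GolayPt → ℤ) = -16} := by
  refine ⟨?_, ?_⟩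
  · show sqNorm (-(m0S : GolayPt → ℤ)) = 32
    rw [sqNorm_neg_eq]
    exact m0S_norm
  · show dotInt (u0S : GolayPt → ℤ) (-(m0S : GolayPt → ℤ)) = -16
    rw [dot_neg_right, m0S_H]

theorem c3_stab_eq : MulAction.stabilizer ↥H3 c3X = MulAction.stabilizer ↥H3 m0S := by
  ext g
  rw [MulAction.mem_stabilizer_iff, MulAction.mem_stabilizer_iff]
  show g.1.1 (-m0S) = -m0S ↔ g.1.1 m0S = m0S
  rw [co_map_neg, neg_inj]

theorem c3_orbit_ncard : (MulAction.orbit ↥H3 c3X).ncard = 11178 := by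
  rw [← MulAction.index_stabilizer, c3_stab_eq, MulAction.index_stabilizer]
  exact H3_orbit_ncard

theorem c3_mem_orbit (y : ↥leechLattice)
    (hy : y ∈ {x : ↥leechLattice | sqNorm (x : GolayPt → ℤ) = 32 ∧
      dotInt (u0S : GolayPt → ℤ) (x : GolayPt → ℤ) = -16}) :
    y ∈ MulAction.orbit ↥H3 c3X := by
  obtain ⟨h1, h2⟩ := hy
  have h3 : sqNorm ((-y : ↥leechLattice) : GolayPt → ℤ) = 32 ∧
      dotInt (u0S : GolayPt → ℤ) ((-y : ↥leechLattice) : GolayPt → ℤ) = 16 := by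
    refine ⟨?_, ?_⟩
    · show sqNorm (-(y : GolayPt → ℤ)) = 32
      rw [sqNorm_neg_eq]
      exact h1
    · show dotInt (u0S : GolayPt → ℤ) (-(y : GolayPt → ℤ)) = 16
      rw [dot_neg_right, h2]
      norm_num
  obtain ⟨g, hg, hgm⟩ := Co3_trans m0S (-y) ⟨m0S_norm, m0S_H⟩ h3
  refine ⟨⟨g, hg⟩, ?_⟩
  show g.1 (-m0S) = y
  rw [co_map_neg, hgm, neg_neg]

theorem c3_arith : ∀ J : Finset (Fin 4), (1 + ∑ i ∈ J, ![352, 1100, 4125, 5600] i) ∣ 11178 →
    J = ∅ ∨ J = Finset.univ := by decide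

theorem c3_stab_simple : IsSimpleGroup ↥(MulAction.stabilizer ↥H3 c3X) ∧
    Nat.card ↥(MulAction.stabilizer ↥H3 c3X) = 44352000 := by
  rw [c3_stab_eq]
  obtain ⟨e⟩ := stab_sub_equiv H3 m0S
  rw [H3_inf_stab] at e
  have hs := isHS_of_pair u0S w0S u0S_norm w0S_norm u0S_w0S_dot
  have hsimp := hs.1
  exact ⟨e.isSimpleGroup, (Nat.card_congr e.toEquiv).trans hs.2⟩

/-- A subgroup of the stabiliser of `u0S` which is a McLaughlin group. -/
def c3M : Subgroup ↥Co0 :=
  MulAction.stabilizer ↥Co0 wSS ⊓ MulAction.stabilizer ↥Co0 (u0S - wSS)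

theorem c3M_le : c3M ≤ H3 := by
  intro g hg
  unfold c3M at hg
  rw [Subgroup.mem_inf, MulAction.mem_stabilizer_iff, MulAction.mem_stabilizer_iff] at hg
  obtain ⟨h1, h2⟩ := hg
  have h1' : g.1 wSS = wSS := h1
  have h2' : g.1 (u0S - wSS) = u0S - wSS := h2
  unfold H3
  rw [MulAction.mem_stabilizer_iff]
  show g.1 u0S = u0S
  have h3 : u0S = (u0S - wSS) + wSS := by rw [sub_add_cancel]
  rw [h3, g.2.1, h1', h2']

theorem c3M_isMcL : IsMcL ↥c3M := by
  apply isMcL_of_pair wSS (u0S - wSS) wSS_norm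
  · rw [AddSubgroup.coe_sub, Cfsg.Agent.Lib.helper93.sqNorm_sub_eq, u0S_norm, wSS_norm, wSS_100.1]
    norm_num
  · rw [AddSubgroup.coe_sub, dot_comm_eq, dot_sub_left, wSS_100.1, dot_self_sq, wSS_norm]
    norm_num

/-- The stabiliser of `u0S` is simple. -/
theorem H3_simple : IsSimpleGroup ↥H3 := by
  have : Finite ↥Co0 := finite_Co0
  have hfr := c3_stab_simple
  have hidx : (MulAction.stabilizer ↥H3 c3X).index = 11178 := by
    rw [MulAction.index_stabilizer]
    exact c3_orbit_ncard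
  obtain ⟨y1, y2, y3, y4, hy1, hy2, hy3, hy4, c1, c2, c3, c4, -⟩ :=
    rank5 u0S c3X u0S_norm c3X_mem
  have hmax : ∀ K : Subgroup ↥H3, MulAction.stabilizer ↥H3 c3X ≤ K →
      K = MulAction.stabilizer ↥H3 c3X ∨ K = ⊤ := by
    apply max_of_orbits c3X ![y1, y2, y3, y4] ![352, 1100, 4125, 5600] 11178 c3_orbit_ncard
    · intro i
      fin_cases i
      · exact c3_mem_orbit y1 hy1
      · exact c3_mem_orbit y2 hy2
      · exact c3_mem_orbit y3 hy3
      · exact c3_mem_orbit y4 hy4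
    · intro i
      rw [orbit_stab_sub]
      fin_cases i
      · exact c1
      · exact c2
      · exact c3
      · exact c4
    · decide
    · decide
    · decide
    · exact c3_arith
  have hnn : ¬ (MulAction.stabilizer ↥H3 c3X).Normal := by
    apply not_normal_of_orbit c3X y1 (c3_mem_orbit y1 hy1)
    rw [orbit_stab_sub]
    have c1' : (MulAction.orbit ↥(H3 ⊓ MulAction.stabilizer ↥Co0 c3X) y1).ncard = 352 := c1
    rw [c1']
    norm_num
  have hM := c3M_isMcL
  have hMs := hM.1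
  have hM1 : IsSimpleGroup ↥(c3M.subgroupOf H3) :=
    (Subgroup.subgroupOfEquivOfLe c3M_le).isSimpleGroup
  have hM2 : Nat.card ↥(c3M.subgroupOf H3) = 898128000 :=
    (Nat.card_congr (Subgroup.subgroupOfEquivOfLe c3M_le).toEquiv).trans hM.2
  have hreg := no_regular_aux_simple (MulAction.stabilizer ↥H3 c3X) (c3M.subgroupOf H3) hM1
    (by rw [hidx, hM2]; norm_num) (by rw [hidx, hM2, card_H3]; norm_num)
  exact simple_of_max_simple (MulAction.stabilizer ↥H3 c3X) hfr.1 hmax hnn hreg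

/-- The stabiliser of a vector of norm 48 is simple of order 495766656000. -/
theorem isCo3_of_norm48 (u : ↥leechLattice) (hu : sqNorm (u : GolayPt → ℤ) = 48) :
    IsCo3 ↥(MulAction.stabilizer ↥Co0 u) := by
  obtain ⟨g, hg⟩ := mem_orb48 u hu
  have hg' : g • u0S = u := hg
  obtain ⟨e⟩ := stab1_conj g u0S
  rw [hg'] at e
  have hsimp : IsSimpleGroup ↥(MulAction.stabilizer ↥Co0 u0S) := H3_simple
  have hcard : Nat.card ↥(MulAction.stabilizer ↥Co0 u0S) = 495766656000 := card_H3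
  exact ⟨e.symm.isSimpleGroup, (Nat.card_congr e.symm.toEquiv).trans hcard⟩

end Cfsg.Agent.Lib.helper9
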