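/-
The stabiliser of the standard cross in the automorphism group of the Leech lattice is the
monomial group `2^12 : M24`.
-/
import Cfsg.Prelude.Def_SporadicCombinatorics
import Cfsg.Agent.Lib.helper93.Co0Elems
import Cfsg.Agent.Lib.helper93.LeechGolay
import Cfsg.Agent.Lib.helper93.Leech
import Cfsg.Agent.Lib.helper9.M24Order
import Cfsg.Agent.Lib.helper9.GolayThm
import Cfsg.Agent.Lib.helper10.S3622Aut

set_option autoImplicit false

namespace Cfsg.Agent.Lib.helper9

open Cfsg
open Cfsg.Agent.Lib.helper93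

theorem dotInt_single (x : GolayPt → ℤ) (i : GolayPt) (s : ℤ) :
    dotInt x (Pi.single i s) = x i * s := by
  unfold dotInt
  rw [Finset.sum_eq_single i]
  · rw [Pi.single_eq_same]
  · intro j _ hj
    rw [Pi.single_eq_of_ne hj, mul_zero]
  · intro h
    exact absurd (Finset.mem_univ i) h

theorem E_coe (q : GolayPt) : ((E q : ↥leechLattice) : GolayPt → ℤ) = Pi.single q 8 := by
  funext i
  rw [E_apply]
  by_cases h : i = q
  · rw [if_pos h, h, Pi.single_eq_same]
  · rw [if_neg h, Pi.single_eq_of_ne h]

theorem co_smul_def (g : ↥Co0) (v : ↥leechLattice) : g • v = g.1 v := rfl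

/-- The vector with entries `2` on `S` and `0` elsewhere. -/
def twoVec (S : Finset GolayPt) : GolayPt → ℤ := fun i => if i ∈ S then 2 else 0

theorem twoVec_mem {S : Finset GolayPt} (hS : ind S ∈ golayCode) : twoVec S ∈ leechLattice := by
  rw [mem_leechLattice_iff, mem_leechSet_iff]
  refine ⟨0, fun i => ?_, ?_, ?_⟩
  · unfold twoVec
    by_cases h : i ∈ S <;> simp [h, Int.ModEq]
  · have h4 := golay_dvd_four (ind S) hS
    have h5 : hammingNorm (ind S) = S.card := by
      have : hammingNorm (ind S) = (support₂ (ind S)).card := by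
        unfold hammingNorm support₂
        congr 1
      rw [this, support₂_ind]
    rw [h5] at h4
    obtain ⟨k, hk⟩ := h4
    have hsum : ∑ i, twoVec S i = 2 * (S.card : ℤ) := by
      unfold twoVec
      rw [Finset.sum_ite_mem, Finset.univ_inter, Finset.sum_const, nsmul_eq_mul, mul_comm]
    rw [hsum, hk]
    unfold Int.ModEq
    push_cast
    omega
  · have : wd 0 (twoVec S) = ind S := by
      funext i
      unfold wd ind twoVec
      by_cases h : i ∈ S <;> simp [h, Int.ModEq]
    rw [this]
    exact hS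

/-- An automorphism of the lattice preserving the standard cross is a signed permutation with
permutation part in `M24` and sign set a code word. -/
theorem crossStab_monomial (g : ↥Co0)
    (hg : ∀ v : ↥leechLattice, (v : GolayPt → ℤ) ∈ stdCross →
      ((g • v : ↥leechLattice) : GolayPt → ℤ) ∈ stdCross) :
    ∃ σ ∈ M24, ∃ c ∈ supports (golayCode : Set (GolayPt → ZMod 2)),
      ∀ v : ↥leechLattice,
        ((g • v : ↥leechLattice) : GolayPt → ℤ) = signedPerm σ c (v : GolayPt → ℤ) := by
  have h1 : ∀ q : GolayPt, ∃ i s, (s = 8 ∨ s = -8) ∧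
      ((g.1 (E q) : ↥leechLattice) : GolayPt → ℤ) = Pi.single i s :=
    fun q => hg (E q) ⟨q, 8, Or.inl rfl, E_coe q⟩
  choose π s hs hE using h1
  have hB : ∀ (v : ↥leechLattice) (q : GolayPt),
      ((g.1 v : ↥leechLattice) : GolayPt → ℤ) (π q) * s q = (v : GolayPt → ℤ) q * 8 := by
    intro v q
    have h := dotInt_map g.1 g.2 v (E q)
    rw [hE q, dotInt_single, E_coe, dotInt_single] at h
    exact h
  have hs0 : ∀ q, s q ≠ 0 := fun q => by rcases hs q with h | h <;> rw [h] <;> norm_num
  have hinj : Function.Injective π := by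
    intro q q' hqq
    by_contra hne
    have h := hB (E q') q
    rw [hE q', hqq, Pi.single_eq_same, E_coe, Pi.single_eq_of_ne hne, zero_mul] at h
    exact mul_ne_zero (hs0 q') (hs0 q) h
  let σ : Equiv.Perm GolayPt := Equiv.ofBijective π (Finite.injective_iff_bijective.1 hinj)
  have hσ : ∀ q, σ q = π q := fun q => rfl
  let c : Finset GolayPt := Finset.univ.filter (fun i => s (σ.symm i) = -8)
  have hform : ∀ v : ↥leechLattice,
      ((g.1 v : ↥leechLattice) : GolayPt → ℤ) = signedPerm σ c (v : GolayPt → ℤ) := by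
    intro v
    funext i
    have h := hB v (σ.symm i)
    rw [← hσ, Equiv.apply_symm_apply] at h
    unfold signedPerm
    by_cases hi : i ∈ c
    · rw [if_pos hi]
      have h' : s (σ.symm i) = -8 := (Finset.mem_filter.1 hi).2
      rw [h'] at h
      linarith
    · rw [if_neg hi]
      have h' : s (σ.symm i) = 8 := by
        rcases hs (σ.symm i) with h' | h'
        · exact h'
        · have hic : i ∈ c := Finset.mem_filter.2 ⟨Finset.mem_univ i, h'⟩
          exact absurd hic hi
      rw [h'] at h
      linarith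
  have hσM : σ ∈ M24 := by
    refine Cfsg.Agent.Lib.helper10.mem_aut_iff.2 (fun S hS => ?_)
    rw [mem_supports_iff] at hS ⊢
    have hgx : ((g.1 ⟨twoVec S, twoVec_mem hS⟩ : ↥leechLattice) : GolayPt → ℤ) ∈ leechLattice :=
      (g.1 ⟨twoVec S, twoVec_mem hS⟩).2
    rw [hform, mem_leechLattice_iff] at hgx
    rcases leechSet_cases _ hgx with ⟨-, -, hw⟩ | ⟨hodd, -, -⟩
    · have hwd : wd 0 (signedPerm σ c (twoVec S)) = ind (S.image σ) := by
        funext i
        have hmem : i ∈ S.image σ ↔ σ.symm i ∈ S := by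
          constructor
          · intro h
            obtain ⟨q, hq, rfl⟩ := Finset.mem_image.1 h
            rwa [Equiv.symm_apply_apply]
          · intro h
            exact Finset.mem_image.2 ⟨σ.symm i, h, Equiv.apply_symm_apply _ _⟩
        unfold wd ind signedPerm twoVec
        by_cases h1 : σ.symm i ∈ S <;> by_cases h2 : i ∈ c <;> simp [h1, h2, hmem, Int.ModEq]
      rw [hwd] at hw
      exact hw
    · exfalso
      have h := hodd none
      unfold signedPerm twoVec at h
      unfold Int.ModEq at h
      dsimp only at h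
      split_ifs at h <;> omega
  have hcC : c ∈ supports (golayCode : Set (GolayPt → ZMod 2)) := by
    rw [mem_supports_iff]
    have hgx : ((g.1 (-Spor.leechV) : ↥leechLattice) : GolayPt → ℤ) ∈ leechLattice :=
      (g.1 (-Spor.leechV)).2
    rw [hform, mem_leechLattice_iff] at hgx
    have hval : ∀ j : GolayPt, ((-Spor.leechV : ↥leechLattice) : GolayPt → ℤ) j = 5 ∨
        ((-Spor.leechV : ↥leechLattice) : GolayPt → ℤ) j = 1 := by
      intro j
      show -Spor.vecV j = 5 ∨ -Spor.vecV j = 1
      unfold Spor.vecV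
      by_cases hj : j = none
      · left; rw [if_pos hj]; norm_num
      · right; rw [if_neg hj]; norm_num
    rcases leechSet_cases _ hgx with ⟨heven, -, -⟩ | ⟨-, -, hw⟩
    · exfalso
      have h := heven none
      unfold signedPerm at h
      unfold Int.ModEq at h
      rcases hval (σ.symm none) with h' | h' <;> rw [h'] at h <;> split_ifs at h <;> omega
    · have hwd : wd 1 (signedPerm σ c ((-Spor.leechV : ↥leechLattice) : GolayPt → ℤ)) = ind c := by
        funext i
        unfold wd ind signedPerm
        rcases hval (σ.symm i) with h' | h' <;> rw [h'] <;> by_cases h2 : i ∈ c <;>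
          simp [h2, Int.ModEq]
      rw [hwd] at hw
      exact hw
  exact ⟨σ, hσM, c, hcC, hform⟩

/-- The monomial element of `Co0` attached to `σ ∈ M24` and a code word `w`. -/
def monoCo (σ : ↥M24) (w : ↥golayCode) : ↥Co0 :=
  signCo (support₂ w.1) ⟨w.1, w.2, rfl⟩ * permCo σ.1 σ.2

theorem monoCo_apply (σ : ↥M24) (w : ↥golayCode) (v : ↥leechLattice) :
    (((monoCo σ w) • v : ↥leechLattice) : GolayPt → ℤ) =
      signedPerm σ.1 (support₂ w.1) (v : GolayPt → ℤ) := rfl

theorem signedPerm_single (σ : Equiv.Perm GolayPt) (c : Finset GolayPt) (q : GolayPt) (a : ℤ) :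
    signedPerm σ c (Pi.single q a) = Pi.single (σ q) (if σ q ∈ c then -a else a) := by
  funext j
  unfold signedPerm
  by_cases hj : j = σ q
  · subst hj
    rw [Equiv.symm_apply_apply, Pi.single_eq_same, Pi.single_eq_same]
  · have hj' : σ.symm j ≠ q := fun h => hj (by rw [← h, Equiv.apply_symm_apply])
    rw [Pi.single_eq_of_ne hj', Pi.single_eq_of_ne hj]
    simp

theorem monoCo_cross (σ : ↥M24) (w : ↥golayCode) (v : ↥leechLattice)
    (hv : (v : GolayPt → ℤ) ∈ stdCross) :
    (((monoCo σ w) • v : ↥leechLattice) : GolayPt → ℤ) ∈ stdCross := by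
  obtain ⟨i, a, ha, hva⟩ := hv
  rw [monoCo_apply, hva, signedPerm_single]
  refine ⟨σ.1 i, _, ?_, rfl⟩
  rcases ha with ha | ha <;> rw [ha] <;> split_ifs <;> simp

/-- The automorphisms of the lattice preserving the standard cross. -/
def CrossStabType : Type :=
  {g : ↥Co0 // ∀ v : ↥leechLattice, (v : GolayPt → ℤ) ∈ stdCross →
    ((g • v : ↥leechLattice) : GolayPt → ℤ) ∈ stdCross}

/-- The parametrisation of the cross stabiliser by `M24` and the code. -/
def monoMap (x : ↥M24 × ↥golayCode) : CrossStabType :=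
  ⟨monoCo x.1 x.2, monoCo_cross x.1 x.2⟩

theorem monoMap_injective : Function.Injective monoMap := by
  rintro ⟨σ, w⟩ ⟨σ', w'⟩ h
  have h1 : monoCo σ w = monoCo σ' w' := congrArg Subtype.val h
  have h2 : ∀ q : GolayPt,
      (Pi.single (σ.1 q) (if σ.1 q ∈ support₂ w.1 then (-8 : ℤ) else 8) : GolayPt → ℤ) =
      (Pi.single (σ'.1 q) (if σ'.1 q ∈ support₂ w'.1 then (-8 : ℤ) else 8) : GolayPt → ℤ) := by
    intro q
    have h3 : (((monoCo σ w) • E q : ↥leechLattice) : GolayPt → ℤ) =
        (((monoCo σ' w') • E q : ↥leechLattice) : GolayPt → ℤ) := by rw [h1]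
    rw [monoCo_apply, monoCo_apply, E_coe, signedPerm_single, signedPerm_single] at h3
    exact h3
  have h4 : ∀ q : GolayPt, σ.1 q = σ'.1 q := by
    intro q
    by_contra hne
    have h5 := congrFun (h2 q) (σ.1 q)
    rw [Pi.single_eq_same, Pi.single_eq_of_ne hne] at h5
    split_ifs at h5 <;> omega
  have hσ : σ = σ' := Subtype.ext (Equiv.ext h4)
  subst hσ
  have h6 : support₂ w.1 = support₂ w'.1 := by
    ext j
    have h5 := congrFun (h2 (σ.1.symm j)) j
    rw [Equiv.apply_symm_apply, Pi.single_eq_same, Pi.single_eq_same] at h5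
    by_cases ha : j ∈ support₂ w.1 <;> by_cases hb : j ∈ support₂ w'.1
    · exact ⟨fun _ => hb, fun _ => ha⟩
    · rw [if_pos ha, if_neg hb] at h5; omega
    · rw [if_neg ha, if_pos hb] at h5; omega
    · exact ⟨fun h => absurd h ha, fun h => absurd h hb⟩
  have hw : w = w' := by
    apply Subtype.ext
    rw [← ind_support₂ w.1, ← ind_support₂ w'.1, h6]
  rw [hw]

theorem monoMap_surjective : Function.Surjective monoMap := by
  rintro ⟨g, hg⟩
  obtain ⟨σ, hσ, c, ⟨w, hw, rfl⟩, hform⟩ := crossStab_monomial g hg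
  refine ⟨(⟨σ, hσ⟩, ⟨w, hw⟩), ?_⟩
  apply Subtype.ext
  apply Subtype.ext
  apply Equiv.ext
  intro v
  apply Subtype.ext
  exact (hform v).symm

theorem card_crossStab : Nat.card CrossStabType = 4096 * 244823040 := by
  rw [← Nat.card_congr (Equiv.ofBijective monoMap ⟨monoMap_injective, monoMap_surjective⟩),
    Nat.card_prod, card_M24, natCard_golayCode]

end Cfsg.Agent.Lib.helper9
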