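import Mathlib
import Cfsg.Prelude.Def_Classical
import Cfsg.Prelude.Def_GeometricClasses

set_option autoImplicit false

namespace Cfsg.Agent.Lib.helper96.FE

open Polynomial Matrix

theorem helper9_fb_pow {m n : Type*} [Fintype m] [Fintype n] [DecidableEq m] [DecidableEq n]
    {F : Type*} [Field F] (A : Matrix m m F) (D : Matrix n n F) (k : ℕ) :
    (Matrix.fromBlocks A 0 0 D) ^ k = Matrix.fromBlocks (A ^ k) 0 0 (D ^ k) := by
  induction k with
  | zero => simp [Matrix.fromBlocks_one]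
  | succ k ih =>
    rw [pow_succ, ih, Matrix.fromBlocks_multiply]
    simp [pow_succ]

theorem helper9_fb_aeval {m n : Type*} [Fintype m] [Fintype n] [DecidableEq m] [DecidableEq n]
    {F : Type*} [Field F] (A : Matrix m m F) (D : Matrix n n F) (f : F[X]) :
    aeval (Matrix.fromBlocks A 0 0 D) f = Matrix.fromBlocks (aeval A f) 0 0 (aeval D f) := by
  induction f using Polynomial.induction_on' with
  | add p q hp hq =>
    rw [map_add, hp, hq, map_add, map_add, Matrix.fromBlocks_add]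
    simp
  | monomial k a =>
    rw [Polynomial.aeval_monomial, Polynomial.aeval_monomial, Polynomial.aeval_monomial,
      helper9_fb_pow, Algebra.algebraMap_eq_smul_one, Algebra.algebraMap_eq_smul_one,
      Algebra.algebraMap_eq_smul_one, smul_mul_assoc, smul_mul_assoc, smul_mul_assoc, one_mul,
      one_mul, one_mul, Matrix.fromBlocks_smul, smul_zero, smul_zero]

theorem helper9_fb_isom {k : Type*} [Fintype k] [DecidableEq k] {F : Type*} [Field F]
    (P P' : Matrix k k F) (h : P'.transpose * P = 1) (w : k ⊕ k → F) :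
    ∑ a : k, (Matrix.fromBlocks P 0 0 P' *ᵥ w) (Sum.inl a) *
        (Matrix.fromBlocks P 0 0 P' *ᵥ w) (Sum.inr a)
      = ∑ a : k, w (Sum.inl a) * w (Sum.inr a) := by
  have h1 : ∀ a, (Matrix.fromBlocks P 0 0 P' *ᵥ w) (Sum.inl a) = (P *ᵥ (w ∘ Sum.inl)) a := by
    intro a; simp [Matrix.fromBlocks_mulVec]
  have h2 : ∀ a, (Matrix.fromBlocks P 0 0 P' *ᵥ w) (Sum.inr a) = (P' *ᵥ (w ∘ Sum.inr)) a := by
    intro a; simp [Matrix.fromBlocks_mulVec]
  simp only [h1, h2]
  show (P *ᵥ (w ∘ Sum.inl)) ⬝ᵥ (P' *ᵥ (w ∘ Sum.inr)) = (w ∘ Sum.inl) ⬝ᵥ (w ∘ Sum.inr)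
  rw [Matrix.dotProduct_mulVec, ← Matrix.mulVec_transpose, Matrix.mulVec_mulVec, h,
    Matrix.one_mulVec]

/-- rank of the block matrix `diag(0, c, U, c)`. -/
theorem helper9_rank_blocks {m n : Type} [Fintype m] [Fintype n] [DecidableEq m] [DecidableEq n]
    {F : Type*} [Field F] (c : F) (hc : c ≠ 0) (U : Matrix m m F) (hU : IsUnit U) :
    (Matrix.fromBlocks (Matrix.fromBlocks (0 : Matrix m m F) 0 0 (c • (1 : Matrix n n F))) 0 0
      (Matrix.fromBlocks U 0 0 (c • (1 : Matrix n n F)))).rank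
      = Fintype.card n + Fintype.card m + Fintype.card n := by
  classical
  set G : Matrix ((m ⊕ n) ⊕ (m ⊕ n)) ((m ⊕ n) ⊕ (m ⊕ n)) F :=
    Matrix.fromBlocks (Matrix.fromBlocks (1 : Matrix m m F) 0 0 (1 : Matrix n n F)) 0 0
      (Matrix.fromBlocks U 0 0 (1 : Matrix n n F)) with hG
  set w : (m ⊕ n) ⊕ (m ⊕ n) → F :=
    Sum.elim (Sum.elim (fun _ : m => (0 : F)) (fun _ : n => c))
      (Sum.elim (fun _ : m => (1 : F)) (fun _ : n => c)) with hw
  have hZ : Matrix.fromBlocks (Matrix.fromBlocks (0 : Matrix m m F) 0 0 (c • (1 : Matrix n n F))) 0 0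
      (Matrix.fromBlocks U 0 0 (c • (1 : Matrix n n F))) = Matrix.diagonal w * G := by
    ext i j
    rcases i with (i | i) | (i | i) <;> rcases j with (j | j) | (j | j) <;>
      simp [hG, hw, Matrix.diagonal_mul, Matrix.one_apply, Matrix.smul_apply]
  have hGdet : IsUnit G.det := by
    have hU' : IsUnit U.det := (Matrix.isUnit_iff_isUnit_det _).mp hU
    simpa [hG, Matrix.det_fromBlocks_zero₂₁] using hU'
  rw [hZ, Matrix.rank_mul_eq_left_of_isUnit_det G _ hGdet, Matrix.rank_diagonal,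
    Fintype.card_subtype, Finset.card_filter]
  simp [hw, Fintype.sum_sum_type, hc]
  ring

theorem helper9_good_core {F : Type*} [Field F] {m n κ : Type} [Fintype m] [Fintype n]
    [Fintype κ] [DecidableEq m] [DecidableEq n] [DecidableEq κ]
    (e : m ⊕ n ≃ κ) (A B : Matrix m m F) (hBA : B * A = 1) (r : ℕ) (hAr : A ^ r = 1)
    (hBr : B ^ r = 1) (f : F[X]) (hfA : aeval A f = 0) (hf1 : f.eval 1 ≠ 0)
    (hfB : IsUnit (aeval B.transpose f)) :
    ∃ X : Matrix (κ ⊕ κ) (κ ⊕ κ) F, X ^ r = 1 ∧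
      (∀ u : κ ⊕ κ → F, ∑ j : κ, (X *ᵥ u) (Sum.inl j) * (X *ᵥ u) (Sum.inr j)
        = ∑ j : κ, u (Sum.inl j) * u (Sum.inr j)) ∧
      Module.finrank F (LinearMap.ker (aeval (Matrix.toLin' X) f)) = Fintype.card m := by
  classical
  set P : Matrix (m ⊕ n) (m ⊕ n) F := Matrix.fromBlocks A 0 0 (1 : Matrix n n F) with hP
  set P' : Matrix (m ⊕ n) (m ⊕ n) F :=
    Matrix.fromBlocks B.transpose 0 0 (1 : Matrix n n F) with hP'
  set Y : Matrix ((m ⊕ n) ⊕ (m ⊕ n)) ((m ⊕ n) ⊕ (m ⊕ n)) F := Matrix.fromBlocks P 0 0 P' with hY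
  set E : (m ⊕ n) ⊕ (m ⊕ n) ≃ κ ⊕ κ := Equiv.sumCongr e e with hE
  have hPr : P ^ r = 1 := by
    rw [hP, helper9_fb_pow, hAr, one_pow, Matrix.fromBlocks_one]
  have hP'r : P' ^ r = 1 := by
    rw [hP', helper9_fb_pow, ← Matrix.transpose_pow, hBr, one_pow, Matrix.transpose_one,
      Matrix.fromBlocks_one]
  have hYr : Y ^ r = 1 := by
    rw [hY, helper9_fb_pow, hPr, hP'r, Matrix.fromBlocks_one]
  have hPP : P'.transpose * P = 1 := by
    rw [hP, hP', Matrix.fromBlocks_transpose, Matrix.fromBlocks_multiply]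
    simp [hBA, Matrix.fromBlocks_one]
  refine ⟨Matrix.reindexAlgEquiv F F E Y, ?_, ?_, ?_⟩
  · rw [← map_pow, hYr, map_one]
  · intro u
    have hmv : (Matrix.reindexAlgEquiv F F E Y) *ᵥ u = (Y *ᵥ (u ∘ E)) ∘ E.symm := by
      rw [Matrix.reindexAlgEquiv_apply]
      exact Matrix.submatrix_mulVec_equiv Y u E.symm E.symm
    have hX : ∀ j, ((Matrix.reindexAlgEquiv F F E Y) *ᵥ u) (Sum.inl j)
        = (Y *ᵥ (u ∘ E)) (Sum.inl (e.symm j)) := by
      intro j; rw [hmv]; simp [hE]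
    have hX' : ∀ j, ((Matrix.reindexAlgEquiv F F E Y) *ᵥ u) (Sum.inr j)
        = (Y *ᵥ (u ∘ E)) (Sum.inr (e.symm j)) := by
      intro j; rw [hmv]; simp [hE]
    simp only [hX, hX']
    rw [Equiv.sum_comp e.symm
      (fun a => (Y *ᵥ (u ∘ E)) (Sum.inl a) * (Y *ᵥ (u ∘ E)) (Sum.inr a))]
    rw [hY, helper9_fb_isom P P' hPP (u ∘ E)]
    rw [← Equiv.sum_comp e (fun j => u (Sum.inl j) * u (Sum.inr j))]
    simp [hE]
  · have h1 : aeval (Matrix.toLin' (Matrix.reindexAlgEquiv F F E Y)) f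
        = Matrix.toLin' (aeval (Matrix.reindexAlgEquiv F F E Y) f) :=
      Polynomial.aeval_algHom_apply
        (Matrix.toLinAlgEquiv' (R := F) (n := κ ⊕ κ)).toAlgHom _ f
    have h2 : aeval (Matrix.reindexAlgEquiv F F E Y) f
        = Matrix.reindexAlgEquiv F F E (aeval Y f) :=
      Polynomial.aeval_algHom_apply (Matrix.reindexAlgEquiv F F E).toAlgHom Y f
    have h1n : aeval (1 : Matrix n n F) f = f.eval 1 • (1 : Matrix n n F) := by
      have := Polynomial.aeval_algebraMap_apply_eq_algebraMap_eval (A := Matrix n n F) (1 : F) f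
      rw [map_one] at this
      rw [this, Algebra.algebraMap_eq_smul_one]
    have h3 : aeval Y f = Matrix.fromBlocks
        (Matrix.fromBlocks (0 : Matrix m m F) 0 0 (f.eval 1 • (1 : Matrix n n F))) 0 0
        (Matrix.fromBlocks (aeval B.transpose f) 0 0 (f.eval 1 • (1 : Matrix n n F))) := by
      rw [hY, helper9_fb_aeval, hP, hP', helper9_fb_aeval, helper9_fb_aeval, hfA, h1n]
    have h4 : (aeval (Matrix.reindexAlgEquiv F F E Y) f).rank
        = Fintype.card n + Fintype.card m + Fintype.card n := by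
      rw [h2, Matrix.reindexAlgEquiv_apply, Matrix.rank_reindex, h3,
        helper9_rank_blocks _ hf1 _ hfB]
    have h5 := LinearMap.finrank_range_add_finrank_ker
      (Matrix.toLin' (aeval (Matrix.reindexAlgEquiv F F E Y) f))
    rw [Matrix.toLin'_apply'] at h5
    have h6 : Module.finrank F (LinearMap.range
        (aeval (Matrix.reindexAlgEquiv F F E Y) f).mulVecLin)
        = Fintype.card n + Fintype.card m + Fintype.card n := h4
    have h7 : Module.finrank F (κ ⊕ κ → F) = 2 * (Fintype.card m + Fintype.card n) := by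
      rw [Module.finrank_fintype_fun_eq_card, Fintype.card_sum, ← Fintype.card_congr e,
        Fintype.card_sum]
      ring
    rw [h1, Matrix.toLin'_apply']
    omega

/-- GOODAP with the outputs of AGL and AKER as hypotheses. -/
theorem helper9_fe_good_a_plus_core {F : Type*} [Field F] [Fintype F] (d : ℕ) (r : ℕ)
    [Fact r.Prime]
    (hi : Odd (orderOf ((Fintype.card F : ℕ) : ZMod r)))
    (hid : orderOf ((Fintype.card F : ℕ) : ZMod r) ≤ d)
    (A : GL (Fin (orderOf ((Fintype.card F : ℕ) : ZMod r))) F) (hA : orderOf A = r)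
    (f : F[X]) (hfA : aeval A.val f = 0) (hf1 : f.eval 1 ≠ 0)
    (hfB : IsUnit (aeval ((A⁻¹).val.transpose) f)) :
    ∃ x : GL (Fin d ⊕ Fin d) F, x ∈ Cfsg.isometryGroup F (Cfsg.quadFormPlus d F) ∧ x ^ r = 1 ∧
      ∃ f : F[X], Odd (Module.finrank F (LinearMap.ker
        (aeval (Matrix.toLin' (x : Matrix (Fin d ⊕ Fin d) (Fin d ⊕ Fin d) F)) f))) := by
  have hAr : A ^ r = 1 := by
    have h := pow_orderOf_eq_one A
    rwa [hA] at h
  have e : Fin (orderOf ((Fintype.card F : ℕ) : ZMod r)) ⊕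
      Fin (d - orderOf ((Fintype.card F : ℕ) : ZMod r)) ≃ Fin d :=
    finSumFinEquiv.trans (finCongr (by omega))
  obtain ⟨X, hXr, hXiso, hXker⟩ := helper9_good_core e A.val (A⁻¹).val (by simp) r
    (by rw [← Units.val_pow_eq_pow_val, hAr]; rfl)
    (by rw [← Units.val_pow_eq_pow_val, inv_pow, hAr]; simp) f hfA hf1 hfB
  have hr0 : r ≠ 0 := (Fact.out : r.Prime).ne_zero
  have hXu : IsUnit X := IsUnit.of_pow_eq_one hXr hr0
  obtain ⟨x, hx⟩ := hXu
  refine ⟨x, ?_, ?_, f, ?_⟩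
  · intro u v
    show Cfsg.quadFormPlus d F ((x : Matrix _ _ F) *ᵥ u) = Cfsg.quadFormPlus d F u
    rw [hx]
    unfold Cfsg.quadFormPlus
    exact hXiso u
  · apply Units.ext
    rw [Units.val_pow_eq_pow_val, hx, hXr]
    rfl
  · rw [hx, hXker, Fintype.card_fin]
    exact hi

end Cfsg.Agent.Lib.helper96.FE
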