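import Mathlib
import Cfsg.Prelude.Def_Classical
import Cfsg.Prelude.Def_GeometricClasses
import Cfsg.Agent.Lib.helper9.FeGOODAPcore
import Cfsg.Agent.Lib.helper61.FeAGL
import Cfsg.Agent.Lib.helper61.FeAKER

set_option autoImplicit false

namespace Cfsg.Agent.Lib.helper96.FE

open Polynomial

/-- GOODAP (L; uses AGL, AKER): case (a), plus type. -/
theorem fe_good_a_plus {F : Type*} [Field F] [Fintype F] (d : ℕ) (r : ℕ) [Fact r.Prime]
    (hr2 : r ≠ 2) (hrF : (r : F) ≠ 0)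
    (hi : Odd (orderOf ((Fintype.card F : ℕ) : ZMod r)))
    (hid : orderOf ((Fintype.card F : ℕ) : ZMod r) ≤ d) :
    ∃ x : GL (Fin d ⊕ Fin d) F, x ∈ Cfsg.isometryGroup F (Cfsg.quadFormPlus d F) ∧ x ^ r = 1 ∧
      ∃ f : F[X], Odd (Module.finrank F (LinearMap.ker
        (aeval (Matrix.toLin' (x : Matrix (Fin d ⊕ Fin d) (Fin d ⊕ Fin d) F)) f))) := by
  obtain ⟨A, hA⟩ := fe_gl_elt (F := F) r hrF
  obtain ⟨f, hfA, hf1, hfB⟩ := fe_gl_poly (F := F) r hr2 hrF hi A hA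
  exact helper9_fe_good_a_plus_core d r hi hid A hA f hfA hf1 hfB

end Cfsg.Agent.Lib.helper96.FE
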