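import Mathlib
import Cfsg.Prelude.Def_FusionSystem
import Cfsg.Agent.Lib.helper47.FusionSimple
import Cfsg.Agent.Lib.helper3.PGroupNormal

/-!
A criterion for the `2`-fusion system of a finite group `G` (given as a subgroup of an ambient
group) to be simple, in elementary terms: an explicit subgroup `S0` of order `2 ^ k`, the full
`2`-part, which is self-normalising and has no proper nontrivial subgroup closed under
`G`-conjugation inside `S0`.
-/

set_option autoImplicit false

namespace Cfsg.Agent.Lib.helper9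

open Cfsg Cfsg.FusionSystem Cfsg.Agent.Lib.helper88

section

variable {G : Type*} [Group G]

/-- Elementwise form of strong closure in the fusion system of a group. -/
theorem stronglyClosed_conj_mem (S T : Subgroup G)
    (hT : (groupFusionSystem S).StronglyClosed T) (t g : G) (ht : t ∈ T)
    (hg : g * t * g⁻¹ ∈ S) : g * t * g⁻¹ ∈ T := by
  have hTS : T ≤ S := hT.1
  have hR : Subgroup.zpowers t ≤ T := by
    rw [Subgroup.zpowers_le]; exact ht
  have hφ : conjHom (Subgroup.zpowers t) g ∈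
      (groupFusionSystem S).Hom (Subgroup.zpowers t) := by
    apply conjHom_mem_groupFusionSystem (hR.trans hTS)
    rintro x ⟨k, rfl⟩
    have : g * t ^ k * g⁻¹ = (g * t * g⁻¹) ^ k := (conj_zpow).symm
    rw [this]
    exact S.zpow_mem hg k
  exact hT.2 _ hR _ hφ ⟨t, Subgroup.mem_zpowers _⟩

/-- A finite subgroup mapped into itself by a conjugation is mapped into itself by the inverse
conjugation. -/
theorem conj_inv_mem_of_conj_mem (S0 : Subgroup G) [Finite S0] (g : G)
    (h : ∀ x ∈ S0, g * x * g⁻¹ ∈ S0) : ∀ x ∈ S0, g⁻¹ * x * g ∈ S0 := by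
  intro x hx
  let f : S0 → S0 := fun y => ⟨g * y * g⁻¹, h y y.2⟩
  have hinj : Function.Injective f := by
    intro a b hab
    have h1 : g * (a : G) * g⁻¹ = g * (b : G) * g⁻¹ := congrArg Subtype.val hab
    exact Subtype.ext (mul_left_cancel (mul_right_cancel h1))
  obtain ⟨y, hy⟩ := Finite.surjective_of_injective hinj ⟨x, hx⟩
  have h2 : g * (y : G) * g⁻¹ = x := congrArg Subtype.val hy
  have h3 : g⁻¹ * x * g = y := by rw [← h2]; group
  rw [h3]; exact y.2

/-- The criterion, for a group. -/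
theorem fus_crit0 [Finite G] (S0 : Subgroup G) (k : ℕ) (hk : 0 < k)
    (hcard : Nat.card S0 = 2 ^ k) (hG : ¬ 2 ^ (k + 1) ∣ Nat.card G)
    (hN : ∀ g : G, (∀ x ∈ S0, g * x * g⁻¹ ∈ S0) → g ∈ S0)
    (hsc : ∀ T : Subgroup G, T ≤ S0 → T ≠ ⊥ →
      (∀ t ∈ T, ∀ g : G, g * t * g⁻¹ ∈ S0 → g * t * g⁻¹ ∈ T) → T = S0)
    (S : Sylow 2 G) : (groupFusionSystem (S : Subgroup G)).IsSimple 2 := by
  have : Fact (Nat.Prime 2) := ⟨Nat.prime_two⟩
  have hfac : (Nat.card G).factorization 2 = k := by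
    have h1 : 2 ^ k ∣ Nat.card G := hcard ▸ Subgroup.card_subgroup_dvd_card S0
    have hpos : Nat.card G ≠ 0 := Nat.card_pos.ne'
    apply le_antisymm
    · by_contra h
      push Not at h
      exact hG ((Nat.Prime.pow_dvd_iff_le_factorization Nat.prime_two hpos).2 h)
    · exact (Nat.Prime.pow_dvd_iff_le_factorization Nat.prime_two hpos).1 h1
  let P0 : Sylow 2 G := Sylow.ofCard S0 (by rw [hcard, hfac])
  obtain ⟨c, hc⟩ := MulAction.exists_smul_eq G P0 S
  have hmem : ∀ x : G, x ∈ (S : Subgroup G) ↔ c⁻¹ * x * c ∈ S0 := by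
    intro x
    rw [← hc, Sylow.coe_subgroup_smul, Subgroup.mem_pointwise_smul_iff_inv_smul_mem]
    have h1 : (MulAut.conj c)⁻¹ • x = c⁻¹ * x * c := by
      rw [← map_inv, MulAut.smul_def, MulAut.conj_apply, inv_inv]
    rw [h1]
    rfl
  have hne : (S : Subgroup G) ≠ ⊥ := by
    intro hbot
    have h1 : S0 = ⊥ := by
      rw [Subgroup.eq_bot_iff_forall]
      intro x hx
      have h2 : c * x * c⁻¹ ∈ (S : Subgroup G) := by
        rw [hmem]
        have : c⁻¹ * (c * x * c⁻¹) * c = x := by group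
        rw [this]; exact hx
      rw [hbot, Subgroup.mem_bot] at h2
      have : x = c⁻¹ * (c * x * c⁻¹) * c := by group
      rw [this, h2]; group
    rw [h1, Subgroup.card_bot] at hcard
    have : 1 < 2 ^ k := Nat.one_lt_two_pow hk.ne'
    omega
  refine Cfsg.Agent.Lib.helper47.FusionSimple.isSimple_groupFusionSystem S hne ?_ ?_
  · intro n hn
    refine ⟨n, ?_, fun x _ => rfl⟩
    rw [hmem]
    apply hN
    intro x hx
    have h2 : c * x * c⁻¹ ∈ (S : Subgroup G) := by
      rw [hmem]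
      have : c⁻¹ * (c * x * c⁻¹) * c = x := by group
      rw [this]; exact hx
    have h3 := (hmem _).1 (hn _ h2)
    have h4 : c⁻¹ * n * c * x * (c⁻¹ * n * c)⁻¹ = c⁻¹ * (n * (c * x * c⁻¹) * n⁻¹) * c := by group
    rw [h4]; exact h3
  · intro T hT hTne
    let T0 : Subgroup G := T.comap (MulAut.conj c).toMonoidHom
    have hT0 : ∀ x, x ∈ T0 ↔ c * x * c⁻¹ ∈ T := fun x => Iff.rfl
    have h1 : T0 = S0 := by
      apply hsc
      · intro x hx
        have h2 := (hmem _).1 (hT.1 ((hT0 x).1 hx))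
        have : c⁻¹ * (c * x * c⁻¹) * c = x := by group
        rwa [this] at h2
      · intro hbot
        apply hTne
        rw [Subgroup.eq_bot_iff_forall]
        intro t ht
        have h2 : c⁻¹ * t * c ∈ T0 := by
          rw [hT0]
          have : c * (c⁻¹ * t * c) * c⁻¹ = t := by group
          rw [this]; exact ht
        rw [hbot, Subgroup.mem_bot] at h2
        have : t = c * (c⁻¹ * t * c) * c⁻¹ := by group
        rw [this, h2]; group
      · intro x hx g hg
        rw [hT0]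
        have h2 : c * (g * x * g⁻¹) * c⁻¹ = (c * g * c⁻¹) * (c * x * c⁻¹) * (c * g * c⁻¹)⁻¹ := by
          group
        rw [h2]
        apply stronglyClosed_conj_mem (S : Subgroup G) T hT _ _ ((hT0 x).1 hx)
        rw [hmem]
        have h3 : c⁻¹ * ((c * g * c⁻¹) * (c * x * c⁻¹) * (c * g * c⁻¹)⁻¹) * c = g * x * g⁻¹ := by
          group
        rw [h3]; exact hg
    apply le_antisymm hT.1
    intro x hx
    have h2 : c⁻¹ * x * c ∈ T0 := by rw [h1]; exact (hmem x).1 hx
    rw [hT0] at h2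
    have : c * (c⁻¹ * x * c) * c⁻¹ = x := by group
    rwa [this] at h2

end

section

variable {P : Type*} [Group P]

/-- The criterion, for a subgroup `G` of an ambient group. -/
theorem fus_crit (G S0 : Subgroup P) [Finite G] (hle : S0 ≤ G) (k : ℕ) (hk : 0 < k)
    (hcard : Nat.card S0 = 2 ^ k) (hG : ¬ 2 ^ (k + 1) ∣ Nat.card G)
    (hN : ∀ g ∈ G, (∀ x ∈ S0, g * x * g⁻¹ ∈ S0) → g ∈ S0)
    (hsc : ∀ T : Subgroup P, T ≤ S0 → T ≠ ⊥ →
      (∀ t ∈ T, ∀ g ∈ G, g * t * g⁻¹ ∈ S0 → g * t * g⁻¹ ∈ T) → T = S0)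
    (S : Sylow 2 G) : (groupFusionSystem (S : Subgroup G)).IsSimple 2 := by
  apply fus_crit0 (S0.subgroupOf G) k hk
  · rw [Nat.card_congr (Subgroup.subgroupOfEquivOfLe hle).toEquiv, hcard]
  · exact hG
  · intro g hg
    rw [Subgroup.mem_subgroupOf]
    apply hN g g.2
    intro x hx
    exact Subgroup.mem_subgroupOf.1 (hg ⟨x, hle hx⟩ (Subgroup.mem_subgroupOf.2 hx))
  · intro T hT hne hcl
    have h1 : T.map G.subtype = S0 := by
      apply hsc
      · rintro _ ⟨y, hy, rfl⟩
        exact Subgroup.mem_subgroupOf.1 (hT hy)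
      · intro hbot
        apply hne
        rw [Subgroup.eq_bot_iff_forall]
        intro y hy
        have h2 : (y : P) ∈ T.map G.subtype := ⟨y, hy, rfl⟩
        rw [hbot, Subgroup.mem_bot] at h2
        exact Subtype.ext h2
      · rintro _ ⟨y, hy, rfl⟩ g hg hgS
        have h2 := hcl y hy ⟨g, hg⟩ (Subgroup.mem_subgroupOf.2 hgS)
        exact ⟨_, h2, rfl⟩
    apply le_antisymm hT
    intro y hy
    have h2 : (y : P) ∈ T.map G.subtype := by
      rw [h1]; exact Subgroup.mem_subgroupOf.1 hy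
    obtain ⟨y', hy', h3⟩ := h2
    have : y' = y := Subtype.ext h3
    rw [← this]; exact hy'

/-- A `2`-element normalising a subgroup of full `2`-power order lies in it. -/
theorem mem_of_normalizes_of_pow (G S0 : Subgroup P) [Finite G] (hle : S0 ≤ G) (k : ℕ)
    (hcard : Nat.card S0 = 2 ^ k) (hG : ¬ 2 ^ (k + 1) ∣ Nat.card G) (g : P) (hg : g ∈ G)
    (hn : ∀ x ∈ S0, g * x * g⁻¹ ∈ S0) (j : ℕ) (hj : g ^ 2 ^ j = 1) : g ∈ S0 := by
  have : Fact (Nat.Prime 2) := ⟨Nat.prime_two⟩
  have : Finite S0 := Finite.of_injective _ (Subgroup.inclusion_injective hle)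
  have hn' := conj_inv_mem_of_conj_mem S0 g hn
  have hS0 : IsPGroup 2 S0 := IsPGroup.of_card hcard
  have hZ : IsPGroup 2 (Subgroup.zpowers g) := by
    obtain ⟨i, -, hi⟩ := (Nat.dvd_prime_pow Nat.prime_two).1 (orderOf_dvd_of_pow_eq_one hj)
    exact IsPGroup.of_card (n := i) (by rw [Nat.card_zpowers, hi])
  have hnorm : Subgroup.zpowers g ≤ Subgroup.normalizer (S0 : Set P) := by
    rw [Subgroup.zpowers_le, Subgroup.mem_normalizer_iff]
    intro x
    refine ⟨hn x, fun h => ?_⟩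
    have := hn' _ h
    have h2 : g⁻¹ * (g * x * g⁻¹) * g = x := by group
    rwa [h2] at this
  have hH : IsPGroup 2 (S0 ⊔ Subgroup.zpowers g : Subgroup P) :=
    IsPGroup.to_sup_of_normal_left' hS0 hZ hnorm
  have hHG : S0 ⊔ Subgroup.zpowers g ≤ G := sup_le hle (by rw [Subgroup.zpowers_le]; exact hg)
  have : Finite (S0 ⊔ Subgroup.zpowers g : Subgroup P) :=
    Finite.of_injective _ (Subgroup.inclusion_injective hHG)
  obtain ⟨m, hm⟩ := IsPGroup.iff_card.1 hH
  have hdvd : 2 ^ m ∣ Nat.card G := hm ▸ Subgroup.card_dvd_of_le hHG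
  have hmk : m ≤ k := by
    by_contra h
    push Not at h
    exact hG ((pow_dvd_pow 2 h).trans hdvd)
  have heq : S0 = S0 ⊔ Subgroup.zpowers g := by
    apply Subgroup.eq_of_le_of_card_ge le_sup_left
    rw [hm, hcard]
    exact Nat.pow_le_pow_right (by norm_num) hmk
  rw [heq]
  exact Subgroup.mem_sup_right (Subgroup.mem_zpowers g)

/-- A nontrivial subgroup of a `2`-group `S0` normalised by `S0` contains a nontrivial central
element of `S0`. -/
theorem exists_central_mem (S0 T : Subgroup P) [Finite S0] (k : ℕ) (hcard : Nat.card S0 = 2 ^ k)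
    (hT : T ≤ S0) (hne : T ≠ ⊥) (hnorm : ∀ t ∈ T, ∀ s ∈ S0, s * t * s⁻¹ ∈ T) :
    ∃ z ∈ T, z ≠ 1 ∧ ∀ s ∈ S0, s * z = z * s := by
  have : Fact (Nat.Prime 2) := ⟨Nat.prime_two⟩
  have hS0 : IsPGroup 2 S0 := IsPGroup.of_card hcard
  have : (T.subgroupOf S0).Normal := by
    refine ⟨fun n hn g => ?_⟩
    rw [Subgroup.mem_subgroupOf] at hn ⊢
    exact hnorm _ hn _ g.2
  have hN : T.subgroupOf S0 ≠ ⊥ := by
    intro hbot
    apply hne
    rw [Subgroup.eq_bot_iff_forall]
    intro t ht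
    have h2 : (⟨t, hT ht⟩ : S0) ∈ T.subgroupOf S0 := Subgroup.mem_subgroupOf.2 ht
    rw [hbot, Subgroup.mem_bot] at h2
    exact congrArg Subtype.val h2
  obtain ⟨z, hz, hzc, hz1, -⟩ :=
    Cfsg.Agent.Lib.helper3.exists_central_of_normal_ne_bot hS0 (T.subgroupOf S0) hN
  refine ⟨z, Subgroup.mem_subgroupOf.1 hz, fun h => hz1 (Subtype.ext h), fun s hs => ?_⟩
  have := Subgroup.mem_center_iff.1 hzc ⟨s, hs⟩
  exact congrArg Subtype.val this

end

end Cfsg.Agent.Lib.helper9
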