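import Cfsg.Agent.Lib.helper9.FusCrit

/-!
Variants of the simplicity criterion for the `2`-fusion system of a finite group: without
knowledge of the order of the group (a self-normalising `2`-subgroup is a Sylow `2`-subgroup),
and for a group given up to isomorphism as a subgroup of an ambient group.
-/

set_option autoImplicit false

namespace Cfsg.Agent.Lib.helper9

open Cfsg Cfsg.FusionSystem

section

variable {G : Type*} [Group G]

/-- A self-normalising subgroup of order `2 ^ k` has the full `2`-part of the group order. -/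
theorem not_dvd_of_self_normalizing [Finite G] (S0 : Subgroup G) (k : ℕ)
    (hcard : Nat.card S0 = 2 ^ k)
    (hN : ∀ g : G, (∀ x ∈ S0, g * x * g⁻¹ ∈ S0) → g ∈ S0) : ¬ 2 ^ (k + 1) ∣ Nat.card G := by
  have : Fact (Nat.Prime 2) := ⟨Nat.prime_two⟩
  have hS0 : IsPGroup 2 S0 := IsPGroup.of_card hcard
  obtain ⟨P, hP⟩ := hS0.exists_le_sylow
  have hPeq : S0 = (P : Subgroup G) := by
    by_contra hne
    have hlt : S0 < (P : Subgroup G) := lt_of_le_of_ne hP hne
    have hnil : Group.IsNilpotent (P : Subgroup G) := P.isPGroup'.isNilpotent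
    have hlt' : S0.subgroupOf (P : Subgroup G) < ⊤ := by
      rw [lt_top_iff_ne_top]
      intro htop
      rw [Subgroup.subgroupOf_eq_top] at htop
      exact hne (le_antisymm hP htop)
    have h1 := Group.normalizerCondition_of_isNilpotent (G := (P : Subgroup G))
      (S0.subgroupOf (P : Subgroup G)) hlt'
    obtain ⟨g, hg, hgn⟩ := SetLike.exists_of_lt h1
    apply hgn
    rw [Subgroup.mem_subgroupOf]
    apply hN
    intro x hx
    have h2 := (Subgroup.mem_normalizer_iff.1 hg ⟨x, hP hx⟩).1 (Subgroup.mem_subgroupOf.2 hx)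
    exact Subgroup.mem_subgroupOf.1 h2
  have hfac : (Nat.card G).factorization 2 = k := by
    have h1 : Nat.card (P : Subgroup G) = 2 ^ (Nat.card G).factorization 2 :=
      P.card_eq_multiplicity
    rw [← hPeq, hcard] at h1
    exact (Nat.pow_right_injective (le_refl 2) h1).symm
  intro hdvd
  have hpos : Nat.card G ≠ 0 := Nat.card_pos.ne'
  have := (Nat.Prime.pow_dvd_iff_le_factorization Nat.prime_two hpos).1 hdvd
  omega

/-- The criterion without the order of the group. -/
theorem fus_crit1 [Finite G] (S0 : Subgroup G) (k : ℕ) (hk : 0 < k)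
    (hcard : Nat.card S0 = 2 ^ k)
    (hN : ∀ g : G, (∀ x ∈ S0, g * x * g⁻¹ ∈ S0) → g ∈ S0)
    (hsc : ∀ T : Subgroup G, T ≤ S0 → T ≠ ⊥ →
      (∀ t ∈ T, ∀ g : G, g * t * g⁻¹ ∈ S0 → g * t * g⁻¹ ∈ T) → T = S0)
    (S : Sylow 2 G) : (groupFusionSystem (S : Subgroup G)).IsSimple 2 :=
  fus_crit0 S0 k hk hcard (not_dvd_of_self_normalizing S0 k hcard hN) hN hsc S

/-- The criterion for a finite group isomorphic to a subgroup `M` of an ambient group. -/
theorem fus_crit_iso [Finite G] {P : Type*} [Group P] (M S0 : Subgroup P)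
    (e : G ≃* M) (hle : S0 ≤ M) (k : ℕ) (hk : 0 < k) (hcard : Nat.card S0 = 2 ^ k)
    (hN : ∀ g ∈ M, (∀ x ∈ S0, g * x * g⁻¹ ∈ S0) → g ∈ S0)
    (hsc : ∀ T : Subgroup P, T ≤ S0 → T ≠ ⊥ →
      (∀ t ∈ T, ∀ g ∈ M, g * t * g⁻¹ ∈ S0 → g * t * g⁻¹ ∈ T) → T = S0)
    (S : Sylow 2 G) : (groupFusionSystem (S : Subgroup G)).IsSimple 2 := by
  let φ : G →* P := M.subtype.comp e.toMonoidHom
  have hφ : Function.Injective φ := M.subtype_injective.comp e.injective
  have hφM : ∀ g, φ g ∈ M := fun g => (e g).2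
  have hsurj : ∀ y ∈ M, ∃ g, φ g = y := fun y hy =>
    ⟨e.symm ⟨y, hy⟩, by
      show ((e (e.symm ⟨y, hy⟩) : M) : P) = y
      rw [MulEquiv.apply_symm_apply]⟩
  apply fus_crit1 (S0.comap φ) k hk
  · have h1 : Nat.card (S0.comap φ) = Nat.card S0 := by
      apply Nat.card_congr
      refine Equiv.ofBijective (fun x => (⟨φ x.1, x.2⟩ : S0)) ⟨fun a b h => ?_, fun y => ?_⟩
      · have h' : φ a.1 = φ b.1 := congrArg (fun z : S0 => (z : P)) h
        exact Subtype.ext (hφ h')
      · obtain ⟨g, hg⟩ := hsurj y.1 (hle y.2)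
        exact ⟨⟨g, by
          show φ g ∈ S0
          rw [hg]; exact y.2⟩, Subtype.ext hg⟩
    rw [h1, hcard]
  · intro g hg
    show φ g ∈ S0
    apply hN _ (hφM g)
    intro x hx
    obtain ⟨y, rfl⟩ := hsurj x (hle hx)
    have h2 : φ (g * y * g⁻¹) ∈ S0 := hg y hx
    rwa [map_mul, map_mul, map_inv] at h2
  · intro T hT hne hcl
    have h1 : T.map φ = S0 := by
      apply hsc
      · rintro _ ⟨y, hy, rfl⟩
        exact hT hy
      · intro hbot
        apply hne
        rw [Subgroup.eq_bot_iff_forall]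
        intro y hy
        have h2 : φ y ∈ T.map φ := ⟨y, hy, rfl⟩
        rw [hbot, Subgroup.mem_bot] at h2
        exact hφ (h2.trans (map_one φ).symm)
      · rintro _ ⟨y, hy, rfl⟩ g hg hgS
        obtain ⟨g', rfl⟩ := hsurj g hg
        have h2 : g' * y * g'⁻¹ ∈ T := hcl y hy g' (by
          show φ _ ∈ S0
          rw [map_mul, map_mul, map_inv]; exact hgS)
        exact ⟨_, h2, by rw [map_mul, map_mul, map_inv]⟩
    apply le_antisymm hT
    intro y hy
    have h2 : φ y ∈ T.map φ := by rw [h1]; exact hy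
    obtain ⟨y', hy', h3⟩ := h2
    rw [← hφ h3]; exact hy'

end

end Cfsg.Agent.Lib.helper9
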