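import Mathlib
import Cfsg.Agent.Lib.helper3.GfDefs

set_option autoImplicit false

namespace Cfsg.Agent.Lib.helper3.Gf

/-- partial norm `∏_{i<k} t^i v t^{-i}` -/
def h9_nrm {Q : Type*} [Group Q] (t : Q) : ℕ → Q → Q
  | 0, _ => 1
  | (k + 1), v => h9_nrm t k v * (t ^ k * v * (t ^ k)⁻¹)

theorem h9_nrm_zero {Q : Type*} [Group Q] (t v : Q) : h9_nrm t 0 v = 1 := rfl

theorem h9_nrm_succ {Q : Type*} [Group Q] (t v : Q) (k : ℕ) :
    h9_nrm t (k + 1) v = h9_nrm t k v * (t ^ k * v * (t ^ k)⁻¹) := rfl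

theorem h9_conj_pow_mem {Q : Type*} [Group Q] (t : Q) (A : Subgroup Q)
    (hAn : ∀ a ∈ A, t * a * t⁻¹ ∈ A) (k : ℕ) : ∀ a ∈ A, t ^ k * a * (t ^ k)⁻¹ ∈ A := by
  induction k with
  | zero => intro a ha; simpa using ha
  | succ k ih =>
    intro a ha
    have e : t ^ (k + 1) * a * (t ^ (k + 1))⁻¹ = t * (t ^ k * a * (t ^ k)⁻¹) * t⁻¹ := by
      rw [pow_succ', mul_inv_rev]; simp only [mul_assoc]
    rw [e]; exact hAn _ (ih a ha)

theorem h9_nrm_mem {Q : Type*} [Group Q] (t : Q) (A : Subgroup Q)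
    (hAn : ∀ a ∈ A, t * a * t⁻¹ ∈ A) (k : ℕ) : ∀ v ∈ A, h9_nrm t k v ∈ A := by
  induction k with
  | zero => intro v _; exact A.one_mem
  | succ k ih => intro v hv; exact A.mul_mem (ih v hv) (h9_conj_pow_mem t A hAn k v hv)

theorem h9_nrm_mul {Q : Type*} [Group Q] (t : Q) (A : Subgroup Q)
    (hA : ∀ a ∈ A, ∀ b ∈ A, a * b = b * a) (hAn : ∀ a ∈ A, t * a * t⁻¹ ∈ A) (k : ℕ) :
    ∀ v ∈ A, ∀ w ∈ A, h9_nrm t k (v * w) = h9_nrm t k v * h9_nrm t k w := by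
  induction k with
  | zero => intro v _ w _; simp [h9_nrm_zero]
  | succ k ih =>
    intro v hv w hw
    rw [h9_nrm_succ, h9_nrm_succ, h9_nrm_succ, ih v hv w hw]
    have e : t ^ k * (v * w) * (t ^ k)⁻¹ = (t ^ k * v * (t ^ k)⁻¹) * (t ^ k * w * (t ^ k)⁻¹) := by
      simp only [mul_assoc, inv_mul_cancel_left]
    rw [e]
    have hc := hA _ (h9_nrm_mem t A hAn k w hw) _ (h9_conj_pow_mem t A hAn k v hv)
    rw [mul_assoc, ← mul_assoc (h9_nrm t k w), hc]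
    simp only [mul_assoc]

theorem h9_nrm_one {Q : Type*} [Group Q] (t : Q) (k : ℕ) : h9_nrm t k 1 = 1 := by
  induction k with
  | zero => rfl
  | succ k ih => simp [h9_nrm_succ, ih]

theorem h9_nrm_conj {Q : Type*} [Group Q] (t v : Q) (k : ℕ) :
    h9_nrm t k (t * v * t⁻¹) = t * h9_nrm t k v * t⁻¹ := by
  induction k with
  | zero => simp [h9_nrm_zero]
  | succ k ih =>
    rw [h9_nrm_succ, h9_nrm_succ, ih]
    have e : t ^ k * (t * v * t⁻¹) * (t ^ k)⁻¹ = t * (t ^ k * v * (t ^ k)⁻¹) * t⁻¹ := by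
      have h1 : t ^ k * t = t * t ^ k := (pow_succ t k).symm.trans (pow_succ' t k)
      have h2 : t⁻¹ * (t ^ k)⁻¹ = (t ^ k)⁻¹ * t⁻¹ := by
        rw [← mul_inv_rev, ← mul_inv_rev, h1]
      calc t ^ k * (t * v * t⁻¹) * (t ^ k)⁻¹ = (t ^ k * t) * v * (t⁻¹ * (t ^ k)⁻¹) := by
            simp only [mul_assoc]
        _ = (t * t ^ k) * v * ((t ^ k)⁻¹ * t⁻¹) := by rw [h1, h2]
        _ = t * (t ^ k * v * (t ^ k)⁻¹) * t⁻¹ := by simp only [mul_assoc]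
    rw [e]
    simp only [mul_assoc, inv_mul_cancel_left]

theorem h9_nrm_succ' {Q : Type*} [Group Q] (t v : Q) (k : ℕ) :
    h9_nrm t (k + 1) v = v * (t * h9_nrm t k v * t⁻¹) := by
  induction k with
  | zero => simp [h9_nrm_succ, h9_nrm_zero]
  | succ k ih =>
    have e1 : h9_nrm t (k + 1 + 1) v =
        h9_nrm t (k + 1) v * (t ^ (k + 1) * v * (t ^ (k + 1))⁻¹) := rfl
    have e2 : h9_nrm t (k + 1) v = h9_nrm t k v * (t ^ k * v * (t ^ k)⁻¹) := rfl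
    rw [e1]
    conv_lhs => rw [ih]
    conv_rhs => rw [e2]
    rw [pow_succ', mul_inv_rev]
    simp only [mul_assoc, inv_mul_cancel_left]

theorem h9_nrm_fixed {Q : Type*} [Group Q] (t : Q) (A : Subgroup Q)
    (hA : ∀ a ∈ A, ∀ b ∈ A, a * b = b * a) (hAn : ∀ a ∈ A, t * a * t⁻¹ ∈ A) (n : ℕ)
    (ht : t ^ n = 1) (v : Q) (hv : v ∈ A) : t * h9_nrm t n v * t⁻¹ = h9_nrm t n v := by
  have h1 := h9_nrm_succ' t v n
  have h2 : h9_nrm t (n + 1) v = h9_nrm t n v * v := by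
    rw [h9_nrm_succ, ht, one_mul, inv_one, mul_one]
  have h3 := hA _ (h9_nrm_mem t A hAn n v hv) _ hv
  rw [h2, h3] at h1
  exact (mul_left_cancel h1).symm

theorem h9_nrm_of_comm {Q : Type*} [Group Q] (t w : Q) (hc : t * w = w * t) (k : ℕ) :
    h9_nrm t k w = w ^ k := by
  induction k with
  | zero => simp [h9_nrm_zero]
  | succ k ih =>
    have h1 : t ^ k * w * (t ^ k)⁻¹ = w := by
      have h2 : Commute (t ^ k) w := (show Commute t w from hc).pow_left k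
      rw [h2.eq, mul_assoc, mul_inv_cancel, mul_one]
    rw [h9_nrm_succ, ih, h1, pow_succ]

/-- GENN -/
theorem genn (p q r : ℕ) [Fact p.Prime] [Fact q.Prime] (hpq : p ≠ q) {K : Type*} [Group K] [Finite K]
    (N P : Subgroup K) (y : K) (h : Cov p q r N P y) (hng : NonGen N) : N ≤ Subgroup.closure (CP p P) := by
  classical
  have hp : p.Prime := Fact.out
  have hq : q.Prime := Fact.out
  have hPn := h.P_normal
  obtain ⟨Z, hZdef⟩ : ∃ Z : Subgroup K, Z = Subgroup.closure (CP p P) := ⟨_, rfl⟩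
  rw [← hZdef]
  have hCPconj : ∀ g : K, ∀ x ∈ CP p P, g * x * g⁻¹ ∈ CP p P := by
    intro g x hx
    rcases hx with ⟨u, hu, v, hv, rfl⟩ | ⟨u, hu, rfl⟩
    · left
      refine ⟨g * u * g⁻¹, hPn.conj_mem u hu g, g * v * g⁻¹, hPn.conj_mem v hv g, ?_⟩
      group
    · right
      refine ⟨g * u * g⁻¹, hPn.conj_mem u hu g, ?_⟩
      rw [conj_pow]
  have hZnormal : Z.Normal := by
    constructor
    intro n hn g
    rw [hZdef] at hn ⊢
    induction hn using Subgroup.closure_induction with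
    | mem x hx => exact Subgroup.subset_closure (hCPconj g x hx)
    | one => simp
    | mul a b _ _ iha ihb =>
      have e : g * (a * b) * g⁻¹ = (g * a * g⁻¹) * (g * b * g⁻¹) := by group
      rw [e]; exact Subgroup.mul_mem _ iha ihb
    | inv a _ iha =>
      have e : g * a⁻¹ * g⁻¹ = (g * a * g⁻¹)⁻¹ := by group
      rw [e]; exact Subgroup.inv_mem _ iha
  have hZN : Z ≤ N := by
    rw [hZdef, Subgroup.closure_le]
    intro x hx
    rcases hx with ⟨u, hu, v, hv, rfl⟩ | ⟨u, hu, rfl⟩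
    · exact h.comm_mem u hu v hv
    · exact h.pow_mem u hu
  have hCPZ : ∀ x ∈ CP p P, x ∈ Z := fun x hx => by rw [hZdef]; exact Subgroup.subset_closure hx
  -- the `q`-part of `y`
  obtain ⟨t₀, ht₀⟩ := IsPGroup.iff_card.mp h.P_pgroup
  have hcop : Nat.Coprime (Nat.card P) (q ^ r) := by
    rw [ht₀]; exact Nat.Coprime.pow _ _ ((Nat.coprime_primes hp hq).mpr hpq)
  obtain ⟨k₀, hk₀a, hk₀b⟩ := Nat.chineseRemainder hcop 0 1
  obtain ⟨c, hc⟩ : ∃ c : ℕ, c = k₀ + Nat.card P * q ^ r := ⟨_, rfl⟩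
  have hcpos : 1 ≤ c := by
    have h1 : 0 < Nat.card P * q ^ r := Nat.mul_pos Nat.card_pos (pow_pos hq.pos r)
    omega
  have hc1 : Nat.card P ∣ c := by
    rw [hc]
    exact dvd_add ((Nat.modEq_zero_iff_dvd).mp hk₀a) (dvd_mul_right _ _)
  have hc2 : q ^ r ∣ c - 1 := by
    have h1 : c ≡ 1 [MOD q ^ r] := by
      rw [hc]
      have h2 : k₀ + Nat.card P * q ^ r ≡ 1 + 0 [MOD q ^ r] :=
        Nat.ModEq.add hk₀b ((Nat.modEq_zero_iff_dvd).mpr (dvd_mul_left _ _))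
      simpa using h2
    exact (Nat.modEq_iff_dvd' hcpos).mp h1.symm
  have hPpow : ∀ g ∈ P, g ^ Nat.card P = 1 := by
    intro g hg
    have h1 : (⟨g, hg⟩ : ↥P) ^ Nat.card P = 1 := pow_card_eq_one'
    exact congrArg Subtype.val h1
  have hyqr : y ^ (q ^ r) ∈ P := h.ord_mem
  obtain ⟨yq, hyq⟩ : ∃ yq : K, yq = y ^ c := ⟨_, rfl⟩
  have hyq1 : yq ^ (q ^ r) = 1 := by
    obtain ⟨j, hj⟩ := hc1
    rw [hyq, ← pow_mul, mul_comm, pow_mul, hj, pow_mul, hPpow _ hyqr, one_pow]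
  obtain ⟨p₀, hp₀P, hp₀⟩ : ∃ p₀ ∈ P, y * p₀ = yq := by
    obtain ⟨j, hj⟩ := hc2
    refine ⟨y ^ (c - 1), ?_, ?_⟩
    · rw [hj, pow_mul]; exact P.pow_mem hyqr j
    · rw [hyq, ← pow_succ']; congr 1; omega
  have hy : y = yq * p₀⁻¹ := by rw [← hp₀]; group
  have hyqP : ∀ k : ℕ, yq ^ k ∈ P → yq ^ k = 1 := by
    intro k hk
    have hk' := hk
    rw [hyq, ← pow_mul] at hk'
    have h1 : q ^ r ∣ c * k := h.ord_dvd _ hk'
    have hcc : Nat.Coprime (q ^ r) c := by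
      obtain ⟨j, hj⟩ := hc2
      have h2 : c = q ^ r * j + 1 := by omega
      have h3 : IsCoprime ((q ^ r : ℕ) : ℤ) ((c : ℕ) : ℤ) :=
        ⟨-(j : ℤ), 1, by rw [h2]; push_cast; ring⟩
      exact Nat.isCoprime_iff_coprime.mp h3
    have h2 : q ^ r ∣ k := hcc.dvd_of_dvd_mul_left h1
    obtain ⟨j, hj⟩ := h2
    rw [hj, pow_mul, hyq1, one_pow]
  -- the quotient
  have hZnormal' : Z.Normal := hZnormal
  obtain ⟨π, hπ⟩ : ∃ π : K →* K ⧸ Z, π = QuotientGroup.mk' Z := ⟨_, rfl⟩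
  have hπker : ∀ g : K, π g = 1 ↔ g ∈ Z := by
    intro g; rw [hπ]; exact QuotientGroup.eq_one_iff g
  have hπeq : ∀ a b : K, π a = π b ↔ a⁻¹ * b ∈ Z := by
    intro a b; rw [hπ]; exact QuotientGroup.eq
  obtain ⟨A, hAdef⟩ : ∃ A : Subgroup (K ⧸ Z), A = P.map π := ⟨_, rfl⟩
  have hπA : ∀ u ∈ P, π u ∈ A := fun u hu => by rw [hAdef]; exact Subgroup.mem_map_of_mem π hu
  have hAcomm : ∀ a ∈ A, ∀ b ∈ A, a * b = b * a := by
    intro a ha b hb
    rw [hAdef] at ha hb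
    obtain ⟨u, hu, rfl⟩ := ha
    obtain ⟨v, hv, rfl⟩ := hb
    rw [← map_mul, ← map_mul, hπeq]
    apply hCPZ
    left
    refine ⟨v⁻¹, P.inv_mem hv, u⁻¹, P.inv_mem hu, ?_⟩
    group
  obtain ⟨t, ht⟩ : ∃ t : K ⧸ Z, t = π yq := ⟨_, rfl⟩
  have hAn : ∀ a ∈ A, t * a * t⁻¹ ∈ A := by
    intro a ha
    rw [hAdef] at ha
    obtain ⟨u, hu, rfl⟩ := ha
    rw [ht, ← map_inv, ← map_mul, ← map_mul]
    exact hπA _ (hPn.conj_mem u hu yq)
  have htn : t ^ (q ^ r) = 1 := by rw [ht, ← map_pow, hyq1, map_one]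
  have hπy : ∀ u ∈ P, π (y * u * y⁻¹) = t * π u * t⁻¹ := by
    intro u hu
    have e : y * u * y⁻¹ = yq * (p₀⁻¹ * u * p₀) * yq⁻¹ := by rw [hy]; group
    have h2 : π p₀⁻¹ * π u * π p₀ = π u := by
      rw [hAcomm _ (hπA _ (P.inv_mem hp₀P)) _ (hπA u hu), mul_assoc, ← map_mul, inv_mul_cancel,
        map_one, mul_one]
    rw [e, map_mul, map_mul, map_mul, map_mul, h2, map_inv, ← ht]
  -- the subgroup `U`
  obtain ⟨U, hU⟩ : ∃ U : Subgroup K, ∀ u, u ∈ U ↔ u ∈ P ∧ h9_nrm t (q ^ r) (π u) = 1 :=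
    ⟨{ carrier := {u | u ∈ P ∧ h9_nrm t (q ^ r) (π u) = 1}
       mul_mem' := by
         rintro a b ⟨ha, ha'⟩ ⟨hb, hb'⟩
         refine ⟨P.mul_mem ha hb, ?_⟩
         rw [map_mul, h9_nrm_mul t A hAcomm hAn _ _ (hπA a ha) _ (hπA b hb), ha', hb', one_mul]
       one_mem' := ⟨P.one_mem, by rw [map_one, h9_nrm_one]⟩
       inv_mem' := by
         rintro a ⟨ha, ha'⟩
         refine ⟨P.inv_mem ha, ?_⟩
         have h1 := h9_nrm_mul t A hAcomm hAn (q ^ r) _ (hπA a ha) _ (hπA a⁻¹ (P.inv_mem ha))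
         rw [← map_mul, mul_inv_cancel, map_one, h9_nrm_one, ha', one_mul] at h1
         exact h1.symm }, fun u => Iff.rfl⟩
  have hUP : U ≤ P := fun u hu => ((hU u).mp hu).1
  have hUy : ∀ u ∈ U, y * u * y⁻¹ ∈ U := by
    intro u hu
    rw [hU] at hu ⊢
    refine ⟨hPn.conj_mem u hu.1 y, ?_⟩
    rw [hπy u hu.1, h9_nrm_conj, hu.2, mul_one, mul_inv_cancel]
  have hUyq : ∀ u ∈ U, yq * u * yq⁻¹ ∈ U := by
    intro u hu
    rw [hU] at hu ⊢
    refine ⟨hPn.conj_mem u hu.1 yq, ?_⟩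
    rw [map_mul, map_mul, map_inv, ← ht, h9_nrm_conj, hu.2, mul_one, mul_inv_cancel]
  have hcommU : ∀ u ∈ P, y * u * y⁻¹ * u⁻¹ ∈ U := by
    intro u hu
    rw [hU]
    refine ⟨P.mul_mem (hPn.conj_mem u hu y) (P.inv_mem hu), ?_⟩
    have hA1 : π (y * u * y⁻¹) ∈ A := hπA _ (hPn.conj_mem u hu y)
    have hA2 : π u⁻¹ ∈ A := hπA _ (P.inv_mem hu)
    rw [map_mul, h9_nrm_mul t A hAcomm hAn _ _ hA1 _ hA2, hπy u hu, h9_nrm_conj,
      h9_nrm_fixed t A hAcomm hAn _ htn _ (hπA u hu),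
      ← h9_nrm_mul t A hAcomm hAn _ _ (hπA u hu) _ hA2, ← map_mul, mul_inv_cancel, map_one,
      h9_nrm_one]
  have hW1 : N ≤ U ⊔ N := le_sup_right
  have hW2 : U ⊔ N ≤ P := sup_le hUP h.N_le_P
  have hW3 : ∀ w ∈ U ⊔ N, y * w * y⁻¹ ∈ U ⊔ N := by
    intro w hw
    have hmap : (U ⊔ N).map (MulAut.conj y).toMonoidHom ≤ U ⊔ N := by
      rw [Subgroup.map_sup]
      apply sup_le_sup
      · rintro _ ⟨u, hu, rfl⟩
        exact hUy u hu
      · rintro _ ⟨n, hn, rfl⟩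
        have hcen := h.N_central hn
        rw [Subgroup.mem_center_iff] at hcen
        have e : (MulAut.conj y).toMonoidHom n = n := by
          show y * n * y⁻¹ = n
          rw [hcen y, mul_assoc, mul_inv_cancel, mul_one]
        rw [e]; exact hn
    exact hmap ⟨w, hw, rfl⟩
  rcases h.irr (U ⊔ N) hW1 hW2 hW3 with hWN | hWP
  · exfalso
    obtain ⟨u, hu, hun⟩ := h.nontriv
    apply hun
    have h1 : y * u * y⁻¹ * u⁻¹ ∈ U ⊔ N := (le_sup_left : U ≤ U ⊔ N) (hcommU u hu)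
    rw [hWN] at h1
    exact h1
  · have hS : (U ⊔ Subgroup.zpowers yq) ⊔ N = ⊤ := by
      rw [eq_top_iff, ← h.sup_top]
      have hUN : U ⊔ N ≤ (U ⊔ Subgroup.zpowers yq) ⊔ N :=
        sup_le (le_sup_left.trans le_sup_left) le_sup_right
      apply sup_le
      · rw [← hWP]; exact hUN
      · rw [Subgroup.zpowers_le, hy]
        apply Subgroup.mul_mem
        · exact (le_sup_left : U ⊔ Subgroup.zpowers yq ≤ _)
            ((le_sup_right : Subgroup.zpowers yq ≤ U ⊔ Subgroup.zpowers yq)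
              (Subgroup.mem_zpowers yq))
        · apply Subgroup.inv_mem
          have h1 : p₀ ∈ U ⊔ N := by rw [hWP]; exact hp₀P
          exact hUN h1
    have hStop := hng _ hS
    have hUpow : ∀ k : ℕ, ∀ u ∈ U, yq ^ k * u * (yq ^ k)⁻¹ ∈ U := h9_conj_pow_mem yq U hUyq
    have hdecomp : ∀ g ∈ U ⊔ Subgroup.zpowers yq, ∃ u ∈ U, ∃ k : ℕ, g = u * yq ^ k := by
      intro g hg
      rw [Subgroup.sup_eq_closure] at hg
      induction hg using Subgroup.closure_induction with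
      | mem x hx =>
        rcases hx with hx | hx
        · exact ⟨x, hx, 0, by simp⟩
        · obtain ⟨j, rfl⟩ := (Submonoid.mem_powers_iff _ _).mp (mem_powers_iff_mem_zpowers.mpr hx)
          exact ⟨1, U.one_mem, j, by simp⟩
      | one => exact ⟨1, U.one_mem, 0, by simp⟩
      | mul a b _ _ iha ihb =>
        obtain ⟨u, hu, k, rfl⟩ := iha
        obtain ⟨u', hu', l, rfl⟩ := ihb
        refine ⟨u * (yq ^ k * u' * (yq ^ k)⁻¹), U.mul_mem hu (hUpow k u' hu'), k + l, ?_⟩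
        rw [pow_add]; simp only [mul_assoc, inv_mul_cancel_left]
      | inv a _ iha =>
        obtain ⟨u, hu, k, rfl⟩ := iha
        obtain ⟨m, hm⟩ := (Submonoid.mem_powers_iff _ _).mp (mem_powers_iff_mem_zpowers.mpr
          (Subgroup.inv_mem _ (Subgroup.pow_mem _ (Subgroup.mem_zpowers yq) k)))
        refine ⟨yq ^ m * u⁻¹ * (yq ^ m)⁻¹, hUpow m _ (U.inv_mem hu), m, ?_⟩
        rw [mul_inv_rev, ← hm]; simp only [mul_assoc, inv_mul_cancel, mul_one]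
    have hPU : P ≤ U := by
      intro g hg
      obtain ⟨u, hu, k, hgk⟩ := hdecomp g (by rw [hStop]; trivial)
      have h1 : yq ^ k = u⁻¹ * g := by rw [hgk, inv_mul_cancel_left]
      have h2 : yq ^ k ∈ P := by rw [h1]; exact P.mul_mem (P.inv_mem (hUP hu)) hg
      rw [hgk, hyqP k h2, mul_one]; exact hu
    intro n₁ hn₁
    have hn₁U := hPU (h.N_le_P hn₁)
    rw [hU] at hn₁U
    have hcen := h.N_central hn₁
    rw [Subgroup.mem_center_iff] at hcen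
    have hcomm : t * π n₁ = π n₁ * t := by
      rw [ht, ← map_mul, ← map_mul, hcen yq]
    have h1 : (π n₁) ^ (q ^ r) = 1 := by
      rw [← h9_nrm_of_comm t (π n₁) hcomm]; exact hn₁U.2
    have h2 : n₁ ^ (q ^ r) ∈ Z := by rw [← hπker, map_pow]; exact h1
    have h3 : n₁ ^ p ∈ Z := hCPZ _ (Or.inr ⟨n₁, h.N_le_P hn₁, rfl⟩)
    have hcop2 : Nat.Coprime (q ^ r) p :=
      Nat.Coprime.pow_left _ ((Nat.coprime_primes hq hp).mpr (Ne.symm hpq))
    obtain ⟨m, -, hm⟩ := Nat.exists_mul_mod_eq_one_of_coprime hcop2 hp.one_lt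
    have h4 : q ^ r * m = p * (q ^ r * m / p) + 1 := by
      have h5 := Nat.div_add_mod (q ^ r * m) p
      omega
    obtain ⟨j, hj⟩ : ∃ j, q ^ r * m = p * j + 1 := ⟨_, h4⟩
    have h5 : (n₁ ^ (q ^ r)) ^ m = (n₁ ^ p) ^ j * n₁ := by
      rw [← pow_mul, ← pow_mul, hj, pow_succ]
    have h6 : n₁ = ((n₁ ^ p) ^ j)⁻¹ * (n₁ ^ (q ^ r)) ^ m := by rw [h5, inv_mul_cancel_left]
    rw [h6]
    exact Z.mul_mem (Z.inv_mem (Z.pow_mem h3 j)) (Z.pow_mem h2 m)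

end Cfsg.Agent.Lib.helper3.Gf
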