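import Cfsg.Agent.Lib.helper9.SimpleCrit

/-!
Maximality of a point stabiliser from the sizes of its orbits, given as orbits.
-/

set_option autoImplicit false

namespace Cfsg.Agent.Lib.helper9

open MulAction

/-- The orbits of a point stabiliser of a subgroup. -/
theorem orbit_stab_sub {G α : Type*} [Group G] [MulAction G α] (H : Subgroup G) (x y : α) :
    orbit ↥(stabilizer ↥H x) y = orbit ↥(H ⊓ stabilizer G x) y := by
  ext z
  constructor
  · rintro ⟨t, rfl⟩
    exact ⟨⟨t.1.1, ⟨t.1.2, t.2⟩⟩, rfl⟩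
  · rintro ⟨t, rfl⟩
    exact ⟨⟨⟨t.1, t.2.1⟩, t.2.2⟩, rfl⟩

/-- The point stabiliser of a subgroup, as a subgroup of the whole group. -/
theorem stab_sub_equiv {G α : Type*} [Group G] [MulAction G α] (H : Subgroup G) (x : α) :
    Nonempty (↥(stabilizer ↥H x) ≃* ↥(H ⊓ stabilizer G x)) := by
  have e : stabilizer ↥H x = (H ⊓ stabilizer G x).subgroupOf H := by
    rw [Subgroup.inf_subgroupOf_left]
    ext g
    rw [Subgroup.mem_subgroupOf, mem_stabilizer_iff, mem_stabilizer_iff]
    rfl
  rw [e]
  exact ⟨Subgroup.subgroupOfEquivOfLe inf_le_left⟩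

/-- Classes of the right total size cover the set. -/
theorem cov_of_sum {α : Type*} (Ω : Set α) (hΩ : Ω.Finite) (x : α) {k : ℕ}
    (A : Fin k → Set α) (c : Fin k → ℕ)
    (hsub : ∀ i, ∀ y ∈ A i, y ∈ Ω ∧ y ≠ x) (hx : x ∈ Ω)
    (hdisj : ∀ i j, i ≠ j → Disjoint (A i) (A j))
    (hcard : ∀ i, (A i).ncard = c i) (hsum : 1 + ∑ i, c i = Ω.ncard) :
    ∀ y ∈ Ω, y ≠ x → ∃ i, y ∈ A i := by
  have hfin : ∀ i, (A i).Finite := fun i => hΩ.subset fun y hy => (hsub i y hy).1
  have hU := ncard_biUnion_classes A c hfin hdisj hcard Finset.univ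
  have hxU : x ∉ ⋃ i ∈ (Finset.univ : Finset (Fin k)), A i := by
    simp only [Set.mem_iUnion, exists_prop, not_exists, not_and]
    intro i _ hxi
    exact (hsub i x hxi).2 rfl
  have hT : insert x (⋃ i ∈ (Finset.univ : Finset (Fin k)), A i) ⊆ Ω := by
    rintro y (rfl | hy)
    · exact hx
    · simp only [Set.mem_iUnion, exists_prop] at hy
      obtain ⟨i, -, hyi⟩ := hy
      exact (hsub i y hyi).1
  have hTc : (insert x (⋃ i ∈ (Finset.univ : Finset (Fin k)), A i)).ncard = Ω.ncard := by
    rw [Set.ncard_insert_of_notMem hxU hU.1, hU.2, ← hsum, add_comm]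
  have hTe := Set.eq_of_subset_of_ncard_le hT (le_of_eq hTc.symm) hΩ
  intro y hy hne
  rw [← hTe] at hy
  rcases hy with rfl | hy
  · exact absurd rfl hne
  · simp only [Set.mem_iUnion, exists_prop] at hy
    obtain ⟨i, -, hyi⟩ := hy
    exact ⟨i, hyi⟩

/-- Maximality of a point stabiliser from the sizes of its orbits: the orbits listed have
distinct sizes other than `1` adding up to the degree minus one, and no union of them with the base
point has a size dividing the degree. -/
theorem max_of_orbits {G α : Type*} [Group G] [Finite G] [MulAction G α] (x : α) {k : ℕ}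
    (y : Fin k → α) (c : Fin k → ℕ) (n : ℕ)
    (hn : (orbit G x).ncard = n)
    (hy : ∀ i, y i ∈ orbit G x)
    (hcard : ∀ i, (orbit ↥(stabilizer G x) (y i)).ncard = c i)
    (hc1 : ∀ i, c i ≠ 1) (hinj : Function.Injective c)
    (hsum : 1 + ∑ i, c i = n)
    (harith : ∀ J : Finset (Fin k), (1 + ∑ i ∈ J, c i) ∣ n → J = ∅ ∨ J = Finset.univ) :
    ∀ K : Subgroup G, stabilizer G x ≤ K → K = stabilizer G x ∨ K = ⊤ := by
  have hofin : (orbit G x).Finite := Set.finite_range fun g : G => g • x
  have hstabx : orbit ↥(stabilizer G x) x = {x} := by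
    ext z
    constructor
    · rintro ⟨t, rfl⟩
      exact t.2
    · rintro rfl
      exact mem_orbit_self _
  have hsub : ∀ i, ∀ z ∈ orbit ↥(stabilizer G x) (y i), z ∈ orbit G x ∧ z ≠ x := by
    intro i z hz
    constructor
    · obtain ⟨t, rfl⟩ := hz
      obtain ⟨g, hg⟩ := hy i
      have hg' : g • x = y i := hg
      exact ⟨t.1 * g, by
        show (t.1 * g) • x = t.1 • y i
        rw [mul_smul, hg']⟩
    · intro hzx
      rw [hzx] at hz
      have h1 : orbit ↥(stabilizer G x) (y i) = orbit ↥(stabilizer G x) x :=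
        ((orbit_eq_iff).2 hz).symm
      have h2 := hcard i
      rw [h1, hstabx, Set.ncard_singleton] at h2
      exact hc1 i h2.symm
  have hdisj : ∀ i j, i ≠ j →
      Disjoint (orbit ↥(stabilizer G x) (y i)) (orbit ↥(stabilizer G x) (y j)) := by
    intro i j hij
    rw [Set.disjoint_left]
    intro z hzi hzj
    have h1 : orbit ↥(stabilizer G x) (y i) = orbit ↥(stabilizer G x) (y j) :=
      ((orbit_eq_iff).2 hzi).symm.trans ((orbit_eq_iff).2 hzj)
    apply hij
    apply hinj
    rw [← hcard i, ← hcard j, h1]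
  have hcov := cov_of_sum (orbit G x) hofin x (fun i => orbit ↥(stabilizer G x) (y i)) c hsub
    (mem_orbit_self x) hdisj hcard (by rw [hn]; exact hsum)
  refine max_of_classes x (fun i => orbit ↥(stabilizer G x) (y i)) c n hn hcov hsub hdisj hcard
    ?_ harith
  intro i z hz z' hz'
  obtain ⟨t, rfl⟩ := hz
  obtain ⟨t', rfl⟩ := hz'
  refine ⟨(t' * t⁻¹).1, (t' * t⁻¹).2, ?_⟩
  show (t'.1 * (t⁻¹).1) • (t.1 • y i) = t'.1 • y i
  rw [mul_smul]
  congr 1
  exact inv_smul_smul t.1 (y i)

/-- A point stabiliser with an orbit of size other than `1` inside the orbit of the point is not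
normal. -/
theorem not_normal_of_orbit {G α : Type*} [Group G] [MulAction G α] (x y : α)
    (hy : y ∈ orbit G x) (hc : (orbit ↥(stabilizer G x) y).ncard ≠ 1) :
    ¬ (stabilizer G x).Normal := by
  intro hN
  apply hc
  have h1 : orbit ↥(stabilizer G x) y = {y} := by
    ext z
    constructor
    · rintro ⟨t, rfl⟩
      obtain ⟨g, hg⟩ := hy
      have hg' : g • x = y := hg
      have h2 := hN.conj_mem t.1 t.2 g⁻¹
      rw [inv_inv, mem_stabilizer_iff, mul_smul, mul_smul, hg'] at h2
      show t.1 • y = y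
      have h3 := congrArg (fun w => g • w) h2
      simp only [smul_inv_smul] at h3
      rw [h3, hg']
    · rintro rfl
      exact mem_orbit_self _
  rw [h1, Set.ncard_singleton]

end Cfsg.Agent.Lib.helper9
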