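import Mathlib
import Cfsg.Agent.Lib.helper9.SimpleCrit2
import Cfsg.Agent.Lib.helper10.HSRecon
import Cfsg.Agent.Lib.helper33.M22Aut

/-!
The orbital graph of a rank 3 action on 100 points with point stabiliser `M₂₂` and suborbits of
lengths 22 and 77 is strongly regular with parameters (100, 22, 0, 6).
-/

set_option autoImplicit false
open Cfsg
open MulAction

namespace Cfsg.Agent.Lib.helper9

section R3

variable (T : Type*) [Group T] (X : Type*) [MulAction T X]

/-- The orbital graph of a rank 3 action: `y` lies in a suborbit of length 22 of `x`. -/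
def r3Graph : SimpleGraph X where
  Adj x y := (orbit ↥(stabilizer T x) y).ncard = 22 ∧ (orbit ↥(stabilizer T y) x).ncard = 22
  symm := ⟨fun _ _ h => ⟨h.2, h.1⟩⟩
  loopless := ⟨fun x h => by
    have h1 : orbit ↥(stabilizer T x) x = {x} := by
      ext z
      constructor
      · rintro ⟨t, rfl⟩
        exact t.2
      · rintro rfl
        exact mem_orbit_self _
    rw [h1, Set.ncard_singleton] at h
    exact absurd h.1 (by norm_num)⟩

variable {T X}

theorem r3_adj_iff (x y : X) : (r3Graph T X).Adj x y ↔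
    ((orbit ↥(stabilizer T x) y).ncard = 22 ∧ (orbit ↥(stabilizer T y) x).ncard = 22) := Iff.rfl

theorem r3_orbit_smul (g : T) (x y : X) :
    orbit ↥(stabilizer T (g • x)) (g • y) = (fun z => g • z) '' orbit ↥(stabilizer T x) y := by
  ext z
  constructor
  · rintro ⟨t, rfl⟩
    have ht : (t : T) • g • x = g • x := t.2
    refine ⟨(g⁻¹ * (t : T) * g) • y, ⟨⟨g⁻¹ * (t : T) * g, ?_⟩, rfl⟩, ?_⟩
    · rw [mem_stabilizer_iff, mul_smul, mul_smul, ht, inv_smul_smul]
    · show g • (g⁻¹ * (t : T) * g) • y = (t : T) • g • y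
      rw [mul_smul, mul_smul, smul_inv_smul]
  · rintro ⟨_, ⟨t, rfl⟩, rfl⟩
    have ht : (t : T) • x = x := t.2
    refine ⟨⟨g * (t : T) * g⁻¹, ?_⟩, ?_⟩
    · rw [mem_stabilizer_iff, mul_smul, mul_smul, inv_smul_smul, ht]
    · show (g * (t : T) * g⁻¹) • g • y = g • (t : T) • y
      rw [mul_smul, mul_smul, inv_smul_smul]

theorem r3_ncard_smul (g : T) (x y : X) :
    (orbit ↥(stabilizer T (g • x)) (g • y)).ncard = (orbit ↥(stabilizer T x) y).ncard := by
  rw [r3_orbit_smul]
  exact Set.ncard_image_of_injective _ (MulAction.injective g)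

theorem r3_adj_smul (g : T) (x y : X) :
    (r3Graph T X).Adj (g • x) (g • y) ↔ (r3Graph T X).Adj x y := by
  rw [r3_adj_iff, r3_adj_iff, r3_ncard_smul, r3_ncard_smul]

theorem r3_adj_smul' (g : T) (x y : X) :
    (r3Graph T X).Adj x (g • y) ↔ (r3Graph T X).Adj (g⁻¹ • x) y := by
  rw [← r3_adj_smul g (g⁻¹ • x) y, smul_inv_smul]

/-- The action by graph automorphisms. -/
def r3Hom : T →* (r3Graph T X ≃g r3Graph T X) where
  toFun g :=
    { toEquiv := MulAction.toPerm g
      map_rel_iff' := fun {x y} => r3_adj_smul g x y }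
  map_one' := by
    apply RelIso.ext
    intro x
    exact one_smul T x
  map_mul' g h := by
    apply RelIso.ext
    intro x
    exact mul_smul g h x

theorem r3Hom_apply (g : T) (x : X) : r3Hom (T := T) (X := X) g x = g • x := rfl

theorem r3_ncard_symm [Finite T] [IsPretransitive T X] (x y : X) :
    (orbit ↥(stabilizer T x) y).ncard = (orbit ↥(stabilizer T y) x).ncard := by
  have h1 := Subgroup.card_mul_index (stabilizer ↥(stabilizer T x) y)
  have h2 := Subgroup.card_mul_index (stabilizer ↥(stabilizer T y) x)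
  rw [MulAction.index_stabilizer] at h1 h2
  have e1 : Nat.card ↥(stabilizer ↥(stabilizer T x) y)
      = Nat.card ↥(stabilizer T x ⊓ stabilizer T y) :=
    Nat.card_congr (stab_sub_equiv (stabilizer T x) y).some.toEquiv
  have e2 : Nat.card ↥(stabilizer ↥(stabilizer T y) x)
      = Nat.card ↥(stabilizer T x ⊓ stabilizer T y) := by
    rw [inf_comm]
    exact Nat.card_congr (stab_sub_equiv (stabilizer T y) x).some.toEquiv
  have hxy : x ∈ orbit T y := by
    rw [MulAction.orbit_eq_univ]
    exact Set.mem_univ x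
  have e3 : Nat.card ↥(stabilizer T x) = Nat.card ↥(stabilizer T y) :=
    Nat.card_congr (MulAction.stabilizerEquivStabilizerOfOrbitRel hxy).toEquiv
  rw [e1] at h1
  rw [e2, ← e3, ← h1] at h2
  have hpos : 0 < Nat.card ↥(stabilizer T x ⊓ stabilizer T y) := Nat.card_pos
  exact (Nat.eq_of_mul_eq_mul_left hpos h2).symm

theorem r3_adj_iff' [Finite T] [IsPretransitive T X] (x y : X) :
    (r3Graph T X).Adj x y ↔ (orbit ↥(stabilizer T x) y).ncard = 22 := by
  rw [r3_adj_iff, ← r3_ncard_symm x y]
  exact and_self_iff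


theorem r3_orbit_self (x : X) : orbit ↥(stabilizer T x) x = {x} := by
  ext z
  constructor
  · rintro ⟨t, rfl⟩
    exact t.2
  · rintro rfl
    exact mem_orbit_self _

/-- The three suborbits cover the 100 points. -/
theorem r3_cover [Fintype X] (hX : Fintype.card X = 100) (a b c : X)
    (hb : (orbit ↥(stabilizer T a) b).ncard = 22) (hc : (orbit ↥(stabilizer T a) c).ncard = 77)
    (y : X) : y = a ∨ y ∈ orbit ↥(stabilizer T a) b ∨ y ∈ orbit ↥(stabilizer T a) c := by
  by_cases hya : y = a
  · exact Or.inl hya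
  right
  have hna : ∀ z : X, (orbit ↥(stabilizer T a) z).ncard ≠ 1 → a ∉ orbit ↥(stabilizer T a) z := by
    intro z hz ha
    rw [← MulAction.orbit_eq_iff.2 ha, r3_orbit_self, Set.ncard_singleton] at hz
    exact hz rfl
  have hcov := cov_of_sum (Set.univ : Set X) Set.finite_univ a
    ![orbit ↥(stabilizer T a) b, orbit ↥(stabilizer T a) c] ![22, 77]
    (by
      intro i z hz
      refine ⟨Set.mem_univ z, ?_⟩
      rintro rfl
      fin_cases i
      · exact hna b (by rw [hb]; norm_num) hz
      · exact hna c (by rw [hc]; norm_num) hz)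
    (Set.mem_univ a)
    (by
      intro i j hij
      rw [Set.disjoint_left]
      intro z hzi hzj
      fin_cases i <;> fin_cases j
      · exact hij rfl
      · have h1 : z ∈ orbit ↥(stabilizer T a) b := hzi
        have h2 : z ∈ orbit ↥(stabilizer T a) c := hzj
        have h3 := (MulAction.orbit_eq_iff.2 h1).symm.trans (MulAction.orbit_eq_iff.2 h2)
        rw [h3, hc] at hb
        norm_num at hb
      · have h1 : z ∈ orbit ↥(stabilizer T a) c := hzi
        have h2 : z ∈ orbit ↥(stabilizer T a) b := hzj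
        have h3 := (MulAction.orbit_eq_iff.2 h2).symm.trans (MulAction.orbit_eq_iff.2 h1)
        rw [h3, hc] at hb
        norm_num at hb
      · exact hij rfl)
    (by
      intro i
      fin_cases i
      · exact hb
      · exact hc)
    (by
      rw [Set.ncard_univ, Nat.card_eq_fintype_card, hX]
      rfl)
  obtain ⟨i, hi⟩ := hcov y (Set.mem_univ y) hya
  fin_cases i
  · exact Or.inl hi
  · exact Or.inr hi

/-- The neighbours of the base point. -/
theorem r3_nbr [Finite T] [IsPretransitive T X] [Fintype X] (hX : Fintype.card X = 100)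
    (a b c : X) (hb : (orbit ↥(stabilizer T a) b).ncard = 22)
    (hc : (orbit ↥(stabilizer T a) c).ncard = 77) (y : X) :
    (r3Graph T X).Adj a y ↔ y ∈ orbit ↥(stabilizer T a) b := by
  rw [r3_adj_iff']
  constructor
  · intro h
    rcases r3_cover hX a b c hb hc y with rfl | h1 | h1
    · rw [r3_orbit_self, Set.ncard_singleton] at h
      norm_num at h
    · exact h1
    · rw [MulAction.orbit_eq_iff.2 h1, hc] at h
      norm_num at h
  · intro h
    rw [MulAction.orbit_eq_iff.2 h, hb]

/-- The non-neighbours of the base point. -/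
theorem r3_far [Finite T] [IsPretransitive T X] [Fintype X] (hX : Fintype.card X = 100)
    (a b c : X) (hb : (orbit ↥(stabilizer T a) b).ncard = 22)
    (hc : (orbit ↥(stabilizer T a) c).ncard = 77) (y : X) :
    (y ≠ a ∧ ¬ (r3Graph T X).Adj a y) ↔ y ∈ orbit ↥(stabilizer T a) c := by
  constructor
  · rintro ⟨h1, h2⟩
    rcases r3_cover hX a b c hb hc y with h | h | h
    · exact absurd h h1
    · exact absurd ((r3_nbr hX a b c hb hc y).2 h) h2
    · exact h
  · intro h
    constructor
    · rintro rfl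
      rw [← MulAction.orbit_eq_iff.2 h, r3_orbit_self, Set.ncard_singleton] at hc
      norm_num at hc
    · rw [r3_adj_iff', MulAction.orbit_eq_iff.2 h, hc]
      norm_num

theorem r3_card_filter_smul [Fintype X] (g : T) (p q : X → Prop) [DecidablePred p]
    [DecidablePred q] (h : ∀ x, q (g • x) ↔ p x) :
    (Finset.univ.filter q).card = (Finset.univ.filter p).card := by
  symm
  refine Finset.card_bij (fun x _ => g • x) ?_ ?_ ?_
  · intro x hx
    rw [Finset.mem_filter] at hx ⊢
    exact ⟨Finset.mem_univ _, (h x).2 hx.2⟩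
  · intro x _ y _ hxy
    exact MulAction.injective g hxy
  · intro y hy
    rw [Finset.mem_filter] at hy
    refine ⟨g⁻¹ • y, ?_, smul_inv_smul g y⟩
    rw [Finset.mem_filter]
    refine ⟨Finset.mem_univ _, (h _).1 ?_⟩
    rw [smul_inv_smul]
    exact hy.2

/-- Every vertex has 22 neighbours. -/
theorem r3_deg [Finite T] [IsPretransitive T X] [Fintype X] (hX : Fintype.card X = 100)
    (a b c : X) (hb : (orbit ↥(stabilizer T a) b).ncard = 22)
    (hc : (orbit ↥(stabilizer T a) c).ncard = 77) [DecidableRel (r3Graph T X).Adj] (v : X) :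
    (Finset.univ.filter (fun x => (r3Graph T X).Adj v x)).card = 22 := by
  obtain ⟨g, rfl⟩ := MulAction.exists_smul_eq T a v
  rw [r3_card_filter_smul g (fun x => (r3Graph T X).Adj a x)
    (fun x => (r3Graph T X).Adj (g • a) x) (fun x => r3_adj_smul g a x)]
  rw [← Set.ncard_coe_finset]
  have h1 : ((Finset.univ.filter (fun x => (r3Graph T X).Adj a x) : Finset X) : Set X)
      = orbit ↥(stabilizer T a) b := by
    ext y
    rw [Finset.mem_coe, Finset.mem_filter, r3_nbr hX a b c hb hc y]
    exact ⟨fun h => h.2, fun h => ⟨Finset.mem_univ _, h⟩⟩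
  rw [h1, hb]


/-- The stabiliser `M₂₂` of the base point is 2-transitive on a suborbit of length 22. -/
theorem r3_two_trans (a : X) (e : ↥(stabilizer T a) ≃* ↥Spor.M22) (w : X)
    (hw : (orbit ↥(stabilizer T a) w).ncard = 22) (x x' : X)
    (hx : x ∈ orbit ↥(stabilizer T a) w) (hx' : x' ∈ orbit ↥(stabilizer T a) w)
    (hxw : x ≠ w) (hxw' : x' ≠ w) :
    ∃ k : ↥(stabilizer T a), k • w = w ∧ k • x = x' := by
  classical
  have hfin : Finite ↥(stabilizer T a) := Finite.of_equiv _ e.symm.toEquiv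
  -- the stabiliser of w
  have hcard := Subgroup.card_mul_index (stabilizer ↥(stabilizer T a) w)
  rw [MulAction.index_stabilizer, hw, Nat.card_congr e.toEquiv,
    Cfsg.Agent.Lib.helper33.card_M22] at hcard
  have hK : Nat.card ↥(stabilizer ↥(stabilizer T a) w) = 20160 := by omega
  let ψ : ↥(stabilizer T a) →* Equiv.Perm GolayPt := (Spor.M22).subtype.comp e.toMonoidHom
  have hψ : Function.Injective ψ := fun s t h => e.injective (Subtype.ext h)
  have hψmem : ∀ s, ψ s ∈ Spor.M22 := fun s => (e s).2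
  have hle : (stabilizer ↥(stabilizer T a) w).map ψ ≤ Spor.M22 := by
    rintro _ ⟨s, -, rfl⟩
    exact hψmem s
  have hc2 : Nat.card ↥((stabilizer ↥(stabilizer T a) w).map ψ) = 20160 := by
    rw [← hK]
    exact (Nat.card_congr
      ((stabilizer ↥(stabilizer T a) w).equivMapOfInjective ψ hψ).toEquiv).symm
  obtain ⟨f, hf, hKf⟩ := Cfsg.Agent.Lib.helper33.index22_M22 _ hle hc2
  have key : ∀ t : ↥(stabilizer T a), t • w = w ↔ ψ t f = f := by
    intro t
    constructor
    · intro ht
      have h1 : ψ t ∈ (stabilizer ↥(stabilizer T a) w).map ψ := ⟨t, ht, rfl⟩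
      rw [hKf] at h1
      exact h1.2
    · intro ht
      have h1 : ψ t ∈ (stabilizer ↥(stabilizer T a) w).map ψ := by
        rw [hKf]
        exact ⟨hψmem t, ht⟩
      obtain ⟨k, hk, hkt⟩ := h1
      rw [← hψ hkt]
      exact hk
  obtain ⟨s, rfl⟩ := hx
  obtain ⟨s', rfl⟩ := hx'
  have hq : ψ s f ≠ f := fun h => hxw ((key s).2 h)
  have hq' : ψ s' f ≠ f := fun h => hxw' ((key s').2 h)
  have hfp := Cfsg.Agent.Lib.helper33.mem_pts22.1 hf
  have hpt : ∀ t : ↥(stabilizer T a), ψ t f ≠ none ∧ ψ t f ≠ some 0 := by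
    intro t
    obtain ⟨-, h1, h2⟩ := Cfsg.Agent.Lib.helper33.mem_M22.1 (hψmem t)
    exact ⟨fun h => hfp.1 ((ψ t).injective (h.trans h1.symm)),
      fun h => hfp.2 ((ψ t).injective (h.trans h2.symm))⟩
  -- an element of `M₂₂` fixing `f` and moving `ψ s f` to `ψ s' f`
  obtain ⟨τ, hτ, hτf, hτq⟩ : ∃ τ ∈ Spor.M22, τ f = f ∧ τ (ψ s f) = ψ s' f := by
    by_cases hqq : ψ s' f = ψ s f
    · exact ⟨1, one_mem _, rfl, hqq.symm⟩
    · have hA : ψ s' f ∉ ({none, some 0, f, ψ s f} : Finset GolayPt) := by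
        simp only [Finset.mem_insert, Finset.mem_singleton, not_or]
        exact ⟨(hpt s').1, (hpt s').2, hq', hqq⟩
      obtain ⟨g, hg, hgA⟩ := Cfsg.Agent.Lib.helper33.exists_mem_M24_of_injOn
        ({none, some 0, f, ψ s f} : Finset GolayPt)
        (le_trans Finset.card_le_four (by norm_num))
        (fun x => if x = ψ s f then ψ s' f else x)
        (Cfsg.Agent.Lib.helper33.injOn_update_point hA)
      refine ⟨g, Cfsg.Agent.Lib.helper33.mem_M22.2 ⟨hg, ?_, ?_⟩, ?_, ?_⟩
      · rw [hgA none (by simp), if_neg (Ne.symm (hpt s).1)]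
      · rw [hgA (some 0) (by simp), if_neg (Ne.symm (hpt s).2)]
      · rw [hgA f (by simp), if_neg (Ne.symm hq)]
      · rw [hgA (ψ s f) (by simp), if_pos rfl]
  let k : ↥(stabilizer T a) := e.symm ⟨τ, hτ⟩
  have hψk : ψ k = τ := by
    show ((e (e.symm ⟨τ, hτ⟩)) : Equiv.Perm GolayPt) = τ
    rw [e.apply_symm_apply]
  refine ⟨k, (key k).2 (by rw [hψk]; exact hτf), ?_⟩
  have h1 : (s'⁻¹ * k * s) • w = w := by
    rw [key, map_mul, map_mul, map_inv, hψk]
    show (ψ s')⁻¹ (τ (ψ s f)) = f
    rw [hτq]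
    exact (ψ s').symm_apply_apply f
  rw [mul_smul, mul_smul, inv_smul_eq_iff] at h1
  exact h1


/-- If two neighbours of the base point are adjacent, then any two are. -/
theorem r3_clique_a [Finite T] [IsPretransitive T X] [Fintype X] (hX : Fintype.card X = 100)
    (a : X) (e : ↥(stabilizer T a) ≃* ↥Spor.M22) (b c : X)
    (hb : (orbit ↥(stabilizer T a) b).ncard = 22) (hc : (orbit ↥(stabilizer T a) c).ncard = 77)
    (w x : X) (hw : (r3Graph T X).Adj a w) (hx : (r3Graph T X).Adj a x)
    (hwx : (r3Graph T X).Adj w x) (y y' : X) (hy : (r3Graph T X).Adj a y)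
    (hy' : (r3Graph T X).Adj a y') (hne : y ≠ y') : (r3Graph T X).Adj y y' := by
  rw [r3_nbr hX a b c hb hc] at hw hx hy hy'
  have hO : orbit ↥(stabilizer T a) w = orbit ↥(stabilizer T a) b := MulAction.orbit_eq_iff.2 hw
  have hw22 : (orbit ↥(stabilizer T a) w).ncard = 22 := by rw [hO, hb]
  rw [← hO] at hx hy hy'
  obtain ⟨s, rfl⟩ := hy
  have hy'' : s⁻¹ • y' ∈ orbit ↥(stabilizer T a) w := by
    obtain ⟨s', rfl⟩ := hy'
    exact ⟨s⁻¹ * s', mul_smul _ _ _⟩
  have hne'' : s⁻¹ • y' ≠ w := by
    intro h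
    apply hne
    show s • w = y'
    rw [← h, smul_inv_smul]
  have hxw : x ≠ w := hwx.ne.symm
  obtain ⟨k, hk1, hk2⟩ := r3_two_trans a e w hw22 x (s⁻¹ • y') hx hy'' hxw hne''
  have h1 := (r3_adj_smul ((s * k : ↥(stabilizer T a)) : T) w x).2 hwx
  have e1 : ((s * k : ↥(stabilizer T a)) : T) • w = s • w := by
    show (s * k) • w = s • w
    rw [mul_smul, hk1]
  have e2 : ((s * k : ↥(stabilizer T a)) : T) • x = y' := by
    show (s * k) • x = y'
    rw [mul_smul, hk2, smul_inv_smul]
  rw [e1, e2] at h1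
  exact h1

/-- There are no triangles. -/
theorem r3_tri [Finite T] [IsPretransitive T X] [Fintype X] [DecidableEq X]
    (hX : Fintype.card X = 100)
    (a : X) (e : ↥(stabilizer T a) ≃* ↥Spor.M22) (b c : X)
    (hb : (orbit ↥(stabilizer T a) b).ncard = 22) (hc : (orbit ↥(stabilizer T a) c).ncard = 77)
    [DecidableRel (r3Graph T X).Adj] (v w x : X) (hvw : (r3Graph T X).Adj v w)
    (hvx : (r3Graph T X).Adj v x) : ¬ (r3Graph T X).Adj w x := by
  intro hwx
  obtain ⟨g, rfl⟩ := MulAction.exists_smul_eq T a v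
  -- any two distinct neighbours of any vertex are adjacent
  have hcl : ∀ u y y', (r3Graph T X).Adj u y → (r3Graph T X).Adj u y' → y ≠ y' →
      (r3Graph T X).Adj y y' := by
    intro u y y' hy hy' hne
    obtain ⟨h, rfl⟩ := MulAction.exists_smul_eq T a u
    have h1 := r3_clique_a hX a e b c hb hc (g⁻¹ • w) (g⁻¹ • x)
      (by rw [← r3_adj_smul g, smul_inv_smul]; exact hvw)
      (by rw [← r3_adj_smul g, smul_inv_smul]; exact hvx)
      (by rw [← r3_adj_smul g, smul_inv_smul, smul_inv_smul]; exact hwx)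
      (h⁻¹ • y) (h⁻¹ • y')
      (by rw [← r3_adj_smul h, smul_inv_smul]; exact hy)
      (by rw [← r3_adj_smul h, smul_inv_smul]; exact hy')
      (fun h2 => hne (smul_left_cancel h⁻¹ h2))
    rw [← r3_adj_smul h, smul_inv_smul, smul_inv_smul] at h1
    exact h1
  -- closed neighbourhoods
  let N : X → Finset X := fun u =>
    insert u (Finset.univ.filter (fun z => (r3Graph T X).Adj u z))
  have hNc : ∀ u, (N u).card = 23 := by
    intro u
    show (insert u (Finset.univ.filter (fun z => (r3Graph T X).Adj u z))).card = 23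
    rw [Finset.card_insert_of_notMem, r3_deg hX a b c hb hc u]
    rw [Finset.mem_filter]
    exact fun h => (r3Graph T X).irrefl h.2
  have hNmem : ∀ u z, z ∈ N u ↔ z = u ∨ (r3Graph T X).Adj u z := by
    intro u z
    show z ∈ insert u (Finset.univ.filter (fun z => (r3Graph T X).Adj u z)) ↔ _
    rw [Finset.mem_insert, Finset.mem_filter]
    exact ⟨fun h => h.imp id (fun h' => h'.2), fun h => h.imp id (fun h' => ⟨Finset.mem_univ _, h'⟩)⟩
  have hNeq : ∀ u y, y ∈ N u → N u = N y := by
    intro u y hy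
    rw [hNmem] at hy
    rcases hy with rfl | hy
    · rfl
    · refine Finset.eq_of_subset_of_card_le ?_ (by rw [hNc, hNc])
      intro z hz
      rw [hNmem] at hz ⊢
      rcases hz with rfl | hz
      · exact Or.inr hy.symm
      · by_cases hzy : z = y
        · exact Or.inl hzy
        · exact Or.inr (hcl u y z hy hz (Ne.symm hzy))
  have hdisj : ∀ s ∈ Finset.univ.image N, ∀ s' ∈ Finset.univ.image N, s ≠ s' →
      Disjoint (id s) (id s') := by
    intro s hs s' hs' hne
    obtain ⟨u, -, rfl⟩ := Finset.mem_image.1 hs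
    obtain ⟨u', -, rfl⟩ := Finset.mem_image.1 hs'
    rw [Finset.disjoint_left]
    intro z hz hz'
    exact hne ((hNeq u z hz).trans (hNeq u' z hz').symm)
  have hU : (Finset.univ : Finset X) = (Finset.univ.image N).biUnion id := by
    ext z
    simp only [Finset.mem_univ, Finset.mem_biUnion, Finset.mem_image, true_and, id, true_iff]
    exact ⟨N z, ⟨z, rfl⟩, (hNmem z z).2 (Or.inl rfl)⟩
  have hcount : (Finset.univ : Finset X).card = ((Finset.univ.image N).biUnion id).card :=
    congrArg Finset.card hU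
  rw [Finset.card_biUnion hdisj, Finset.card_univ, hX,
    Finset.sum_const_nat (m := 23) (fun s hs => by
      obtain ⟨u, -, rfl⟩ := Finset.mem_image.1 hs
      exact hNc u)] at hcount
  omega

/-- Two non-adjacent vertices have six common neighbours. -/
theorem r3_mu [Finite T] [IsPretransitive T X] [Fintype X] [DecidableEq X]
    (hX : Fintype.card X = 100)
    (a : X) (e : ↥(stabilizer T a) ≃* ↥Spor.M22) (b c : X)
    (hb : (orbit ↥(stabilizer T a) b).ncard = 22) (hc : (orbit ↥(stabilizer T a) c).ncard = 77)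
    [DecidableRel (r3Graph T X).Adj] (v w : X) (hne : v ≠ w) (hvw : ¬ (r3Graph T X).Adj v w) :
    (Finset.univ.filter
      (fun x => (r3Graph T X).Adj v x ∧ (r3Graph T X).Adj w x)).card = 6 := by
  obtain ⟨g, rfl⟩ := MulAction.exists_smul_eq T a v
  rw [r3_card_filter_smul g
    (fun x => (r3Graph T X).Adj a x ∧ (r3Graph T X).Adj (g⁻¹ • w) x)
    (fun x => (r3Graph T X).Adj (g • a) x ∧ (r3Graph T X).Adj w x)
    (fun x => by rw [r3_adj_smul, ← r3_adj_smul g (g⁻¹ • w) x, smul_inv_smul])]
  have hw1 : g⁻¹ • w ≠ a := by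
    intro h
    apply hne
    rw [← h, smul_inv_smul]
  have hw2 : ¬ (r3Graph T X).Adj a (g⁻¹ • w) := by
    intro h
    apply hvw
    rw [← r3_adj_smul g, smul_inv_smul] at h
    exact h
  generalize g⁻¹ • w = w' at hw1 hw2 ⊢
  have hwc : w' ∈ orbit ↥(stabilizer T a) c := (r3_far hX a b c hb hc w').1 ⟨hw1, hw2⟩
  have hΔc : (Finset.univ.filter (fun x => (r3Graph T X).Adj a x)).card = 22 :=
    r3_deg hX a b c hb hc a
  have hΦc : (Finset.univ.filter (fun z => z ≠ a ∧ ¬ (r3Graph T X).Adj a z)).card = 77 := by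
    rw [← Set.ncard_coe_finset]
    have h1 : ((Finset.univ.filter (fun z => z ≠ a ∧ ¬ (r3Graph T X).Adj a z) : Finset X) : Set X)
        = orbit ↥(stabilizer T a) c := by
      ext y
      rw [Finset.mem_coe, Finset.mem_filter, r3_far hX a b c hb hc y]
      exact ⟨fun h => h.2, fun h => ⟨Finset.mem_univ _, h⟩⟩
    rw [h1, hc]
  have hdc : ∑ y ∈ Finset.univ.filter (fun x => (r3Graph T X).Adj a x),
      ((Finset.univ.filter (fun z => z ≠ a ∧ ¬ (r3Graph T X).Adj a z)).filter
        (fun z => (r3Graph T X).Adj y z)).card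
      = ∑ z ∈ Finset.univ.filter (fun z => z ≠ a ∧ ¬ (r3Graph T X).Adj a z),
      ((Finset.univ.filter (fun x => (r3Graph T X).Adj a x)).filter
        (fun y => (r3Graph T X).Adj y z)).card :=
    Finset.sum_card_bipartiteAbove_eq_sum_card_bipartiteBelow (r3Graph T X).Adj
  have hL : ∀ y ∈ Finset.univ.filter (fun x => (r3Graph T X).Adj a x),
      ((Finset.univ.filter (fun z => z ≠ a ∧ ¬ (r3Graph T X).Adj a z)).filter
        (fun z => (r3Graph T X).Adj y z)).card = 21 := by
    intro y hy
    have hay : (r3Graph T X).Adj a y := (Finset.mem_filter.1 hy).2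
    have h1 : Finset.univ.filter (fun z => (r3Graph T X).Adj y z)
        = insert a ((Finset.univ.filter (fun z => z ≠ a ∧ ¬ (r3Graph T X).Adj a z)).filter
          (fun z => (r3Graph T X).Adj y z)) := by
      ext z
      rw [Finset.mem_filter, Finset.mem_insert, Finset.mem_filter, Finset.mem_filter]
      constructor
      · rintro ⟨-, hyz⟩
        by_cases hza : z = a
        · exact Or.inl hza
        · exact Or.inr ⟨⟨Finset.mem_univ _, hza,
            fun haz => r3_tri hX a e b c hb hc a y z hay haz hyz⟩, hyz⟩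
      · rintro (rfl | ⟨-, hyz⟩)
        · exact ⟨Finset.mem_univ _, hay.symm⟩
        · exact ⟨Finset.mem_univ _, hyz⟩
    have h2 := r3_deg hX a b c hb hc y
    rw [h1, Finset.card_insert_of_notMem] at h2
    · omega
    · rw [Finset.mem_filter, Finset.mem_filter]
      exact fun h => h.1.2.1 rfl
  have hR : ∀ z ∈ Finset.univ.filter (fun z => z ≠ a ∧ ¬ (r3Graph T X).Adj a z),
      ((Finset.univ.filter (fun x => (r3Graph T X).Adj a x)).filter
        (fun y => (r3Graph T X).Adj y z)).card
      = (Finset.univ.filter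
        (fun x => (r3Graph T X).Adj a x ∧ (r3Graph T X).Adj w' x)).card := by
    intro z hz
    have hzc : z ∈ orbit ↥(stabilizer T a) c :=
      (r3_far hX a b c hb hc z).1 (Finset.mem_filter.1 hz).2
    rw [← MulAction.orbit_eq_iff.2 hwc] at hzc
    obtain ⟨s, rfl⟩ := hzc
    have hsa : (s : T) • a = a := s.2
    rw [Finset.filter_filter]
    refine r3_card_filter_smul (s : T) _ _ (fun x => ?_)
    show ((r3Graph T X).Adj a ((s : T) • x) ∧ (r3Graph T X).Adj ((s : T) • x) ((s : T) • w')) ↔ _
    rw [r3_adj_smul, (r3Graph T X).adj_comm x w']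
    nth_rewrite 1 [← hsa]
    rw [r3_adj_smul]
  rw [Finset.sum_const_nat hL, Finset.sum_const_nat hR, hΔc, hΦc] at hdc
  omega

/-- The orbital graph is strongly regular with parameters (100, 22, 0, 6). -/
theorem r3_srg [Finite T] [IsPretransitive T X] [Fintype X] [DecidableEq X]
    (hX : Fintype.card X = 100)
    (a : X) (e : ↥(stabilizer T a) ≃* ↥Spor.M22) (b c : X)
    (hb : (orbit ↥(stabilizer T a) b).ncard = 22) (hc : (orbit ↥(stabilizer T a) c).ncard = 77)
    [DecidableRel (r3Graph T X).Adj] : Cfsg.Agent.Lib.helper10.Srg100 (r3Graph T X) :=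
  ⟨hX, r3_deg hX a b c hb hc, r3_tri hX a e b c hb hc, r3_mu hX a e b c hb hc⟩

/-- The order of the group. -/
theorem r3_card [IsPretransitive T X] [Fintype X] (hX : Fintype.card X = 100)
    (a : X) (e : ↥(stabilizer T a) ≃* ↥Spor.M22) : Nat.card T = 44352000 := by
  have h := Subgroup.card_mul_index (stabilizer T a)
  rw [MulAction.index_stabilizer, MulAction.orbit_eq_univ, Set.ncard_univ,
    Nat.card_eq_fintype_card (α := X), hX, Nat.card_congr e.toEquiv,
    Cfsg.Agent.Lib.helper33.card_M22] at h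
  rw [← h]

end R3

end Cfsg.Agent.Lib.helper9
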