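import Mathlib
import Cfsg.Agent.Lib.helper9.HSRank3
import Cfsg.Agent.Lib.helper33.AutPerm

/-!
Fixed points of elements of small prime order in a rank 3 group on 100 points with point
stabiliser `M₂₂` and suborbits of lengths 22 and 77.
-/

set_option autoImplicit false
open Cfsg
open MulAction

namespace Cfsg.Agent.Lib.helper9

open Cfsg.Agent.Lib.helper33

section Fix

variable {T : Type*} [Group T] {X : Type*} [MulAction T X]

/-- Fixed points of an element of prime power order on an invariant finite set. -/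
theorem smul_card_modEq_fixed [Fintype X] [DecidableEq X] (t : T) (p n : ℕ) [Fact p.Prime]
    (ht : t ^ p ^ n = 1) (B : Finset X) (hB : ∀ x, t • x ∈ B ↔ x ∈ B) :
    B.card ≡ (B.filter fun x => t • x = x).card [MOD p] := by
  have h1 : (MulAction.toPerm t : Equiv.Perm X) ^ p ^ n = 1 := by
    have h2 : MulAction.toPermHom T X t ^ p ^ n = 1 := by
      rw [← map_pow, ht, map_one]
    exact h2
  exact card_modEq_card_fixed (MulAction.toPerm t) p n h1 B hB

theorem pow_orderOf_prime (t : T) (p : ℕ) (ht : orderOf t = p) : t ^ p ^ 1 = 1 := by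
  rw [pow_one, ← ht]
  exact pow_orderOf_eq_one t

/-- Orbit-stabiliser for a subgroup, with the stabiliser as an intersection. -/
theorem r3_orbit_stab (H : Subgroup T) (u : X) :
    (orbit ↥H u).ncard * Nat.card ↥(H ⊓ stabilizer T u) = Nat.card ↥H := by
  have h := Subgroup.card_mul_index (stabilizer ↥H u)
  rw [MulAction.index_stabilizer, Nat.card_congr (stab_sub_equiv H u).some.toEquiv,
    mul_comm] at h
  exact h

theorem r3_card_stab (a : X) (e : ↥(stabilizer T a) ≃* ↥Spor.M22) :
    Nat.card ↥(stabilizer T a) = 443520 :=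
  (Nat.card_congr e.toEquiv).trans card_M22

/-- An element of the point stabiliser fixing a further point has order dividing the order of
the two-point stabiliser. -/
theorem r3_order_of_fix [Finite T] [IsPretransitive T X] [Fintype X] (hX : Fintype.card X = 100)
    (a : X) (e : ↥(stabilizer T a) ≃* ↥Spor.M22) (b c : X)
    (hb : (orbit ↥(stabilizer T a) b).ncard = 22) (hc : (orbit ↥(stabilizer T a) c).ncard = 77)
    (t : T) (hta : t • a = a) (u : X) (htu : t • u = u) (hua : u ≠ a) :
    (orderOf t ∣ 20160 ∧ (r3Graph T X).Adj a u) ∨ (orderOf t ∣ 5760 ∧ ¬ (r3Graph T X).Adj a u) := by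
  have hmem : t ∈ stabilizer T a ⊓ stabilizer T u := ⟨hta, htu⟩
  have hord : orderOf t ∣ Nat.card ↥(stabilizer T a ⊓ stabilizer T u) := by
    have h1 : orderOf (⟨t, hmem⟩ : ↥(stabilizer T a ⊓ stabilizer T u)) = orderOf t :=
      Subgroup.orderOf_mk t hmem
    rw [← h1]
    exact orderOf_dvd_natCard _
  have hos := r3_orbit_stab (stabilizer T a) u
  rw [r3_card_stab a e] at hos
  by_cases hadj : (r3Graph T X).Adj a u
  · left
    refine ⟨?_, hadj⟩
    rw [r3_nbr hX a b c hb hc] at hadj
    rw [MulAction.orbit_eq_iff.2 hadj, hb] at hos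
    have h2 : Nat.card ↥(stabilizer T a ⊓ stabilizer T u) = 20160 := by omega
    rw [h2] at hord
    exact hord
  · right
    refine ⟨?_, hadj⟩
    have hfar := (r3_far hX a b c hb hc u).1 ⟨hua, hadj⟩
    rw [MulAction.orbit_eq_iff.2 hfar, hc] at hos
    have h2 : Nat.card ↥(stabilizer T a ⊓ stabilizer T u) = 5760 := by omega
    rw [h2] at hord
    exact hord

/-- The stabiliser of a point of a suborbit of length 22 corresponds to the stabiliser of a
point in `M₂₂`. -/
theorem r3_pt_key (a : X) (e : ↥(stabilizer T a) ≃* ↥Spor.M22) (w : X)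
    (hw : (orbit ↥(stabilizer T a) w).ncard = 22) :
    ∃ f ∈ pts22, ∀ t : ↥(stabilizer T a),
      t • w = w ↔ ((e t : ↥Spor.M22) : Equiv.Perm GolayPt) f = f := by
  classical
  have hfin : Finite ↥(stabilizer T a) := Finite.of_equiv _ e.symm.toEquiv
  have hcard := Subgroup.card_mul_index (stabilizer ↥(stabilizer T a) w)
  rw [MulAction.index_stabilizer, hw, Nat.card_congr e.toEquiv, card_M22] at hcard
  have hK : Nat.card ↥(stabilizer ↥(stabilizer T a) w) = 20160 := by omega
  let ψ : ↥(stabilizer T a) →* Equiv.Perm GolayPt := (Spor.M22).subtype.comp e.toMonoidHom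
  have hψ : Function.Injective ψ := fun s t h => e.injective (Subtype.ext h)
  have hψmem : ∀ s, ψ s ∈ Spor.M22 := fun s => (e s).2
  have hle : (stabilizer ↥(stabilizer T a) w).map ψ ≤ Spor.M22 := by
    rintro _ ⟨s, -, rfl⟩
    exact hψmem s
  have hc2 : Nat.card ↥((stabilizer ↥(stabilizer T a) w).map ψ) = 20160 := by
    rw [← hK]
    exact (Nat.card_congr
      ((stabilizer ↥(stabilizer T a) w).equivMapOfInjective ψ hψ).toEquiv).symm
  obtain ⟨f, hf, hKf⟩ := index22_M22 _ hle hc2
  refine ⟨f, hf, fun t => ?_⟩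
  constructor
  · intro ht
    have h1 : ψ t ∈ (stabilizer ↥(stabilizer T a) w).map ψ := ⟨t, ht, rfl⟩
    rw [hKf] at h1
    exact h1.2
  · intro ht
    have h1 : ψ t ∈ (stabilizer ↥(stabilizer T a) w).map ψ := by
      rw [hKf]
      exact ⟨hψmem t, ht⟩
    obtain ⟨k, hk, hkt⟩ := h1
    rw [← hψ hkt]
    exact hk

/-- Fixed points on a suborbit of length 22 give fixed points among the 22 points of `M₂₂`. -/
theorem r3_fix_le [DecidableEq X] (a : X) (e : ↥(stabilizer T a) ≃* ↥Spor.M22) (w : X)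
    (hw : (orbit ↥(stabilizer T a) w).ncard = 22) (t : ↥(stabilizer T a)) (S : Finset X)
    (hS : ∀ u ∈ S, u ∈ orbit ↥(stabilizer T a) w ∧ t • u = u) :
    S.card + 2 ≤ (fixF ((e t : ↥Spor.M22) : Equiv.Perm GolayPt)).card := by
  classical
  obtain ⟨f, hf, key⟩ := r3_pt_key a e w hw
  have hfp := mem_pts22.1 hf
  let β : X → GolayPt := fun u =>
    if h : u ∈ orbit ↥(stabilizer T a) w then
      ((e (Classical.choose h) : ↥Spor.M22) : Equiv.Perm GolayPt) f else none
  have hβ : ∀ s : ↥(stabilizer T a), β (s • w) = ((e s : ↥Spor.M22) : Equiv.Perm GolayPt) f := by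
    intro s
    have h : s • w ∈ orbit ↥(stabilizer T a) w := ⟨s, rfl⟩
    have h1 : β (s • w) = ((e (Classical.choose h) : ↥Spor.M22) : Equiv.Perm GolayPt) f :=
      dif_pos h
    have h2 : Classical.choose h • w = s • w := Classical.choose_spec h
    have h3 : (s⁻¹ * Classical.choose h) • w = w := by
      rw [mul_smul, h2, inv_smul_smul]
    rw [key, map_mul, map_inv] at h3
    have h4 : ((e s : ↥Spor.M22) : Equiv.Perm GolayPt)⁻¹
        (((e (Classical.choose h) : ↥Spor.M22) : Equiv.Perm GolayPt) f) = f := h3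
    rw [h1]
    rw [Equiv.Perm.inv_eq_iff_eq] at h4
    exact h4
  have hM : ∀ s : ↥(stabilizer T a), ((e s : ↥Spor.M22) : Equiv.Perm GolayPt) none = none ∧
      ((e s : ↥Spor.M22) : Equiv.Perm GolayPt) (some 0) = some 0 := by
    intro s
    obtain ⟨-, h1, h2⟩ := mem_M22.1 (e s).2
    exact ⟨h1, h2⟩
  have himg : S.image β ⊆ ((fixF ((e t : ↥Spor.M22) : Equiv.Perm GolayPt)).erase none).erase
      (some 0) := by
    intro q hq
    obtain ⟨u, hu, rfl⟩ := Finset.mem_image.1 hq
    obtain ⟨⟨s, rfl⟩, htu⟩ := hS u hu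
    have hsw : (s : ↥(stabilizer T a)) • w = s • w := rfl
    rw [Finset.mem_erase, Finset.mem_erase, mem_fixF]
    have hβs := hβ s
    refine ⟨?_, ?_, ?_⟩
    · rw [hβs]
      intro h
      exact hfp.2 (((e s : ↥Spor.M22) : Equiv.Perm GolayPt).injective (h.trans (hM s).2.symm))
    · rw [hβs]
      intro h
      exact hfp.1 (((e s : ↥Spor.M22) : Equiv.Perm GolayPt).injective (h.trans (hM s).1.symm))
    · have h5 : (t * s) • w = s • w := by
        rw [mul_smul]
        exact htu
      have h6 := hβ (t * s)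
      rw [h5, hβs, map_mul] at h6
      show ((e t : ↥Spor.M22) : Equiv.Perm GolayPt) (β (s • w)) = β (s • w)
      rw [hβs]
      exact h6.symm
  have hinj : Set.InjOn β (S : Set X) := by
    intro u hu u' hu' huu
    obtain ⟨⟨s, rfl⟩, -⟩ := hS u hu
    obtain ⟨⟨s', rfl⟩, -⟩ := hS u' hu'
    have h1 : β (s • w) = β (s' • w) := huu
    rw [hβ, hβ] at h1
    have h2 : (s'⁻¹ * s) • w = w := by
      rw [key, map_mul, map_inv]
      show ((e s' : ↥Spor.M22) : Equiv.Perm GolayPt)⁻¹
        (((e s : ↥Spor.M22) : Equiv.Perm GolayPt) f) = f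
      rw [h1]
      exact ((e s' : ↥Spor.M22) : Equiv.Perm GolayPt).symm_apply_apply f
    rw [mul_smul, inv_smul_eq_iff] at h2
    exact h2
  have h1 := Finset.card_le_card himg
  rw [Finset.card_image_of_injOn hinj] at h1
  have hn : none ∈ fixF ((e t : ↥Spor.M22) : Equiv.Perm GolayPt) := mem_fixF.2 (hM t).1
  have h0 : some 0 ∈ (fixF ((e t : ↥Spor.M22) : Equiv.Perm GolayPt)).erase none :=
    Finset.mem_erase.2 ⟨by simp, mem_fixF.2 (hM t).2⟩
  rw [Finset.card_erase_of_mem h0, Finset.card_erase_of_mem hn] at h1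
  have h2 : 2 ≤ (fixF ((e t : ↥Spor.M22) : Equiv.Perm GolayPt)).card := by
    have h3 : ({none, some 0} : Finset GolayPt) ⊆ fixF ((e t : ↥Spor.M22) : Equiv.Perm GolayPt) := by
      intro q hq
      rw [Finset.mem_insert, Finset.mem_singleton] at hq
      rcases hq with rfl | rfl
      · exact hn
      · exact mem_fixF.2 (hM t).2
    have h4 := Finset.card_le_card h3
    rw [Finset.card_pair (by simp)] at h4
    exact h4
  omega

theorem r3_orderOf_e (a : X) (e : ↥(stabilizer T a) ≃* ↥Spor.M22) (t : ↥(stabilizer T a)) :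
    orderOf ((e t : ↥Spor.M22) : Equiv.Perm GolayPt) = orderOf (t : T) := by
  rw [Subgroup.orderOf_coe, MulEquiv.orderOf_eq, Subgroup.orderOf_coe]

/-- An element of order 5 or 7 of the point stabiliser fixes at most `24 % p - 2` points of a
suborbit of length 22. -/
theorem r3_fix_prime [DecidableEq X] (a : X) (e : ↥(stabilizer T a) ≃* ↥Spor.M22) (w : X)
    (hw : (orbit ↥(stabilizer T a) w).ncard = 22) (t : ↥(stabilizer T a)) (p : ℕ)
    [hp : Fact p.Prime] (hp5 : 5 ≤ p) (ht : orderOf (t : T) = p) (S : Finset X)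
    (hS : ∀ u ∈ S, u ∈ orbit ↥(stabilizer T a) w ∧ t • u = u) :
    S.card + 2 ≤ 24 % p := by
  have h1 := r3_fix_le a e w hw t S hS
  have hM24 : ((e t : ↥Spor.M22) : Equiv.Perm GolayPt) ∈ M24 := (mem_M22.1 (e t).2).1
  rw [card_fixF_prime hM24 ((r3_orderOf_e a e t).trans ht) hp5] at h1
  exact h1

/-- An element of order 3 of the point stabiliser fixes at most 5 points of a suborbit of
length 22. -/
theorem r3_fix_three [DecidableEq X] (a : X) (e : ↥(stabilizer T a) ≃* ↥Spor.M22) (w : X)
    (hw : (orbit ↥(stabilizer T a) w).ncard = 22) (t : ↥(stabilizer T a))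
    (ht : orderOf (t : T) = 3) (S : Finset X)
    (hS : ∀ u ∈ S, u ∈ orbit ↥(stabilizer T a) w ∧ t • u = u) : S.card ≤ 5 := by
  by_contra hcon
  have h1 := r3_fix_le a e w hw t S hS
  have hM24 : ((e t : ↥Spor.M22) : Equiv.Perm GolayPt) ∈ M24 := (mem_M22.1 (e t).2).1
  have hord : orderOf ((e t : ↥Spor.M22) : Equiv.Perm GolayPt) = 3 :=
    (r3_orderOf_e a e t).trans ht
  have hp3 : Fact (Nat.Prime 3) := ⟨by norm_num⟩
  have h2 := card_modEq_card_fixed ((e t : ↥Spor.M22) : Equiv.Perm GolayPt) 3 1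
    (by rw [pow_one, ← hord]; exact pow_orderOf_eq_one _) Finset.univ (fun b => by simp)
  rw [Finset.card_univ, golayPt_card] at h2
  have h3 : (Finset.univ.filter fun b => ((e t : ↥Spor.M22) : Equiv.Perm GolayPt) b = b)
      = fixF ((e t : ↥Spor.M22) : Equiv.Perm GolayPt) := rfl
  rw [h3] at h2
  unfold Nat.ModEq at h2
  have h4 : 9 ≤ (fixF ((e t : ↥Spor.M22) : Equiv.Perm GolayPt)).card := by omega
  have h5 := eq_one_of_nine_fixed hM24 h4
  rw [h5, orderOf_one] at hord
  norm_num at hord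

end Fix

end Cfsg.Agent.Lib.helper9
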