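import Mathlib
import Cfsg.Agent.Lib.helper10.HSSimple
import Cfsg.Agent.Lib.helper9.HSRank3

/-!
Uniqueness of a rank 3 group on 100 points with point stabiliser `M₂₂` and suborbits of lengths
22 and 77: it is the subgroup of index 2 of the automorphism group of the Higman–Sims graph.
-/

set_option autoImplicit false
open Cfsg
open MulAction

namespace Cfsg.Agent.Lib.helper9

open Cfsg.Agent.Lib.helper10

/-- Conjugation of graph automorphisms by a graph isomorphism. -/
def graphAutCongr {V W : Type*} {G : SimpleGraph V} {H : SimpleGraph W} (φ : G ≃g H) :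
    (G ≃g G) ≃* (H ≃g H) where
  toFun ψ := (φ.symm.trans ψ).trans φ
  invFun ψ := (φ.trans ψ).trans φ.symm
  left_inv ψ := by
    apply RelIso.ext
    intro v
    show φ.symm (φ (ψ (φ.symm (φ v)))) = ψ v
    rw [RelIso.symm_apply_apply, RelIso.symm_apply_apply]
  right_inv ψ := by
    apply RelIso.ext
    intro v
    show φ (φ.symm (ψ (φ (φ.symm v)))) = ψ v
    rw [RelIso.apply_symm_apply, RelIso.apply_symm_apply]
  map_mul' ψ ψ' := by
    apply RelIso.ext
    intro v
    show φ (ψ (ψ' (φ.symm v))) = φ (ψ (φ.symm (φ (ψ' (φ.symm v)))))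
    rw [RelIso.symm_apply_apply]

/-- A simple subgroup of index 2 is the only subgroup of index 2. -/
theorem eq_of_index_two_of_simple {A : Type*} [Group A] (H K : Subgroup A)
    (hH : IsSimpleGroup ↥H) (hHi : H.index = 2) (hKi : K.index = 2) (hcard : 2 < Nat.card ↥H) :
    K = H := by
  have hKn : K.Normal := Subgroup.normal_of_index_eq_two hKi
  have hn : (K.subgroupOf H).Normal := inferInstance
  rcases hn.eq_bot_or_eq_top with h | h
  · exfalso
    have h1 : K.relIndex H ∣ K.index := Subgroup.relIndex_dvd_index_of_normal K H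
    rw [Subgroup.relIndex, h, Subgroup.index_bot, hKi] at h1
    have := Nat.le_of_dvd (by norm_num) h1
    omega
  · have hle : H ≤ K := Subgroup.subgroupOf_eq_top.1 h
    have h1 := Subgroup.relIndex_mul_index hle
    rw [hHi, hKi] at h1
    have h2 : H.relIndex K = 1 := by omega
    exact le_antisymm (Subgroup.relIndex_eq_one.1 h2) hle

/-- The automorphism group of a strongly regular graph with parameters (100, 22, 0, 6) has a
unique subgroup of order 44352000. -/
theorem srg100_aut_sub {V : Type*} [Fintype V] [DecidableEq V] {G : SimpleGraph V}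
    [DecidableRel G.Adj] (hG : Srg100 G) :
    ∃ H₀ : Subgroup (G ≃g G), ∀ K : Subgroup (G ≃g G), Nat.card ↥K = 44352000 → K = H₀ := by
  obtain ⟨o⟩ : Nonempty V := Fintype.card_pos_iff.mp (by rw [hG.card]; norm_num)
  obtain ⟨φ⟩ := exists_iso_pointBlockGraph hG o
  have hB := hsBlocks_steiner hG o
  have hα := card_pt hG o
  obtain ⟨H₁, hs, hc⟩ := exists_hs hB hα
  have hA := card_aut_pointBlockGraph hB hα
  have hAG : Nat.card (G ≃g G) = 88704000 := by
    rw [← hA]
    exact Nat.card_congr (graphAutCongr φ).toEquiv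
  have hinj : Function.Injective (graphAutCongr φ.symm).toMonoidHom :=
    (graphAutCongr φ.symm).injective
  have hs0 : IsSimpleGroup ↥(H₁.map (graphAutCongr φ.symm).toMonoidHom) :=
    (H₁.equivMapOfInjective _ hinj).symm.isSimpleGroup
  have hc0 : Nat.card ↥(H₁.map (graphAutCongr φ.symm).toMonoidHom) = 44352000 := by
    rw [← hc]
    exact Nat.card_congr (H₁.equivMapOfInjective _ hinj).symm.toEquiv
  have hidx : ∀ K : Subgroup (G ≃g G), Nat.card ↥K = 44352000 → K.index = 2 := by
    intro K hK
    have := Subgroup.card_mul_index K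
    rw [hK, hAG] at this
    omega
  exact ⟨H₁.map (graphAutCongr φ.symm).toMonoidHom, fun K hK =>
    eq_of_index_two_of_simple _ K hs0 (hidx _ hc0) (hidx K hK) (by rw [hc0]; norm_num)⟩

theorem r3Hom_injective {T : Type*} [Group T] {X : Type*} [MulAction T X] [FaithfulSMul T X] :
    Function.Injective (r3Hom (T := T) (X := X)) := by
  intro g h hgh
  apply FaithfulSMul.eq_of_smul_eq_smul (α := X)
  intro x
  have := congrArg (fun ψ : r3Graph T X ≃g r3Graph T X => ψ x) hgh
  exact this

/-- Two faithful rank 3 groups on 100 points with point stabiliser `M₂₂` and suborbits of lengths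
22 and 77 are isomorphic. -/
theorem r3_unique {T : Type*} [Group T] [Finite T] {X : Type*} [Fintype X] [DecidableEq X]
    [MulAction T X] [FaithfulSMul T X] [IsPretransitive T X] (hX : Fintype.card X = 100)
    (a : X) (e : ↥(stabilizer T a) ≃* ↥Spor.M22) (b c : X)
    (hb : (orbit ↥(stabilizer T a) b).ncard = 22) (hc : (orbit ↥(stabilizer T a) c).ncard = 77)
    {T' : Type*} [Group T'] [Finite T'] {X' : Type*} [Fintype X'] [DecidableEq X']
    [MulAction T' X'] [FaithfulSMul T' X'] [IsPretransitive T' X'] (hX' : Fintype.card X' = 100)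
    (a' : X') (e' : ↥(stabilizer T' a') ≃* ↥Spor.M22) (b' c' : X')
    (hb' : (orbit ↥(stabilizer T' a') b').ncard = 22)
    (hc' : (orbit ↥(stabilizer T' a') c').ncard = 77) : Nonempty (T ≃* T') := by
  classical
  have hS := r3_srg hX a e b c hb hc
  have hS' := r3_srg hX' a' e' b' c' hb' hc'
  obtain ⟨φ⟩ := srg100_unique hS' hS
  obtain ⟨H₀, hH₀⟩ := srg100_aut_sub hS
  have hinj := r3Hom_injective (T := T) (X := X)
  have hinj' := r3Hom_injective (T := T') (X := X')
  have hφ : Function.Injective (graphAutCongr φ).toMonoidHom := (graphAutCongr φ).injective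
  have h1 : (r3Hom (T := T) (X := X)).range = H₀ := by
    apply hH₀
    rw [← r3_card hX a e]
    exact Nat.card_congr (MonoidHom.ofInjective hinj).symm.toEquiv
  have h2 : ((r3Hom (T := T') (X := X')).range).map (graphAutCongr φ).toMonoidHom = H₀ := by
    apply hH₀
    rw [← r3_card hX' a' e']
    exact Nat.card_congr ((MonoidHom.ofInjective hinj').trans
      (((r3Hom (T := T') (X := X')).range).equivMapOfInjective _ hφ)).symm.toEquiv
  exact ⟨((MonoidHom.ofInjective hinj).trans (MulEquiv.subgroupCongr (h1.trans h2.symm))).trans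
    ((MonoidHom.ofInjective hinj').trans
      (((r3Hom (T := T') (X := X')).range).equivMapOfInjective _ hφ)).symm⟩

end Cfsg.Agent.Lib.helper9
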