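import Mathlib
import Cfsg.Agent.Lib.helper9.HSFix

/-!
In a rank 3 group on 100 points with point stabiliser `M₂₂` and suborbits of lengths 22 and 77,
every subgroup of the order of `M₂₂` is a point stabiliser.
-/

set_option autoImplicit false
open Cfsg
open MulAction

namespace Cfsg.Agent.Lib.helper9

open Cfsg.Agent.Lib.helper33

/-- The hypotheses of a rank 3 action at a base point. -/
structure R3Data (T : Type*) [Group T] (X : Type*) [MulAction T X] (a : X) where
  /-- the point stabiliser is `M₂₂` -/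
  e : ↥(stabilizer T a) ≃* ↥Spor.M22
  /-- a point of the suborbit of length 22 -/
  b : X
  /-- a point of the suborbit of length 77 -/
  c : X
  hb : (orbit ↥(stabilizer T a) b).ncard = 22
  hc : (orbit ↥(stabilizer T a) c).ncard = 77

section Sub

variable {T : Type*} [Group T] {X : Type*} [MulAction T X]

/-- The hypotheses hold at every base point. -/
theorem r3_data_at [IsPretransitive T X] {a : X} (D : R3Data T X a) (x : X) :
    Nonempty (R3Data T X x) := by
  obtain ⟨g, rfl⟩ := MulAction.exists_smul_eq T a x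
  have hrel : g • a ∈ orbit T a := MulAction.mem_orbit a g
  refine ⟨⟨(MulAction.stabilizerEquivStabilizerOfOrbitRel hrel).trans D.e, g • D.b, g • D.c,
    ?_, ?_⟩⟩
  · rw [r3_ncard_smul]
    exact D.hb
  · rw [r3_ncard_smul]
    exact D.hc

theorem orbit_sub_smul_iff (K : Subgroup T) (k : T) (hk : k ∈ K) (a u : X) :
    k • u ∈ orbit ↥K a ↔ u ∈ orbit ↥K a := by
  constructor
  · rintro ⟨k', hk'⟩
    refine ⟨⟨k, hk⟩⁻¹ * k', ?_⟩
    show (⟨k, hk⟩⁻¹ * k') • a = u
    rw [mul_smul]
    have h1 : k' • a = k • u := hk'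
    rw [h1]
    show k⁻¹ • k • u = u
    rw [inv_smul_smul]
  · rintro ⟨k', rfl⟩
    exact ⟨⟨k, hk⟩ * k', mul_smul _ _ _⟩

/-- An element of order 11 of the point stabiliser fixes no further point. -/
theorem r3_fix11 [Finite T] [IsPretransitive T X] [Fintype X] (hX : Fintype.card X = 100)
    {a : X} (D : R3Data T X a) (t : T) (hta : t • a = a) (ht : orderOf t = 11) (u : X)
    (htu : t • u = u) : u = a := by
  by_contra hua
  rcases r3_order_of_fix hX a D.e D.b D.c D.hb D.hc t hta u htu hua with ⟨h, -⟩ | ⟨h, -⟩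
  · rw [ht] at h
    norm_num at h
  · rw [ht] at h
    norm_num at h

/-- An element of order 7 of the point stabiliser fixes at most 2 points. -/
theorem r3_fix7 [Finite T] [IsPretransitive T X] [Fintype X] [DecidableEq X]
    (hX : Fintype.card X = 100)
    {a : X} (D : R3Data T X a) (t : T) (hta : t • a = a) (ht : orderOf t = 7) :
    (Finset.univ.filter fun u : X => t • u = u).card ≤ 2 := by
  have hp7 : Fact (Nat.Prime 7) := ⟨by norm_num⟩
  have h1 := r3_fix_prime a D.e D.b D.hb ⟨t, hta⟩ 7 (by norm_num) ht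
    ((Finset.univ.filter fun u : X => t • u = u).erase a) (by
      intro u hu
      rw [Finset.mem_erase, Finset.mem_filter] at hu
      obtain ⟨hua, -, htu⟩ := hu
      refine ⟨?_, htu⟩
      rcases r3_order_of_fix hX a D.e D.b D.c D.hb D.hc t hta u htu hua with ⟨-, h⟩ | ⟨h, -⟩
      · exact (r3_nbr hX a D.b D.c D.hb D.hc u).1 h
      · rw [ht] at h
        norm_num at h)
  have ha : a ∈ Finset.univ.filter fun u : X => t • u = u :=
    Finset.mem_filter.2 ⟨Finset.mem_univ _, hta⟩
  rw [Finset.card_erase_of_mem ha] at h1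
  norm_num at h1
  omega

/-- The kernel of the action on an invariant finite set has index dividing a factorial. -/
theorem exists_ker_of_invariant {G : Type*} [Group G] {Y : Type*} [MulAction G Y]
    (S : Finset Y) (hS : ∀ g : G, ∀ x ∈ S, g • x ∈ S) :
    ∃ N : Subgroup G, (∀ n ∈ N, ∀ x ∈ S, n • x = x) ∧
      Nat.card G ∣ Nat.card ↥N * S.card.factorial := by
  let A : SubMulAction G Y :=
    { carrier := (S : Set Y)
      smul_mem' := fun g x hx => hS g x hx }
  refine ⟨(MulAction.toPermHom G ↥A).ker, ?_, ?_⟩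
  · intro n hn x hx
    have h1 : MulAction.toPermHom G ↥A n = 1 := hn
    have h2 := congrArg (fun σ : Equiv.Perm ↥A => ((σ ⟨x, hx⟩ : ↥A) : Y)) h1
    exact h2
  · have h1 := Subgroup.card_mul_index (MulAction.toPermHom G ↥A).ker
    rw [Subgroup.index_ker] at h1
    have h2 : Nat.card ↥(MulAction.toPermHom G ↥A).range ∣ Nat.card (Equiv.Perm ↥A) :=
      Subgroup.card_subgroup_dvd_card _
    have h3 : Nat.card ↥A = S.card := by
      have h4 : Nat.card ↥A = ((S : Set Y)).ncard := Nat.card_coe_set_eq (S : Set Y)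
      rw [h4, Set.ncard_coe_finset]
    have hfinA : Finite ↥A := (Finset.finite_toSet S).to_subtype
    rw [Nat.card_perm, h3] at h2
    rw [← h1]
    exact Nat.mul_dvd_mul_left _ h2


theorem r3_arith1 : ∀ d, d ≤ 100 → d ∣ 443520 → d % 11 = 1 →
    d = 1 ∨ d = 12 ∨ d = 45 ∨ d = 56 := by decide

/-- The orbit of the base point under a subgroup of the order of `M₂₂` containing an element of
order 11 of the point stabiliser has length 1 or 56. -/
theorem r3_orbit_cases [Finite T] [IsPretransitive T X] [Fintype X] [DecidableEq X]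
    (hX : Fintype.card X = 100) {a : X} (D : R3Data T X a) (K : Subgroup T)
    (hK : Nat.card ↥K = 443520) (y : T) (hyK : y ∈ K) (hya : y • a = a)
    (hy : orderOf y = 11) :
    (orbit ↥K a).ncard = 1 ∨ (orbit ↥K a).ncard = 56 := by
  classical
  have hp11 : Fact (Nat.Prime 11) := ⟨by norm_num⟩
  have hp7 : Fact (Nat.Prime 7) := ⟨by norm_num⟩
  set OF : Finset X := Finset.univ.filter (fun u => u ∈ orbit ↥K a) with hOF
  have hmemOF : ∀ u, u ∈ OF ↔ u ∈ orbit ↥K a := fun u => by simp [hOF]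
  have hOFc : OF.card = (orbit ↥K a).ncard := by
    rw [← Set.ncard_coe_finset]
    congr 1
    ext u
    simp [hOF]
  have hinv : ∀ k ∈ K, ∀ u, k • u ∈ OF ↔ u ∈ OF := by
    intro k hk u
    rw [hmemOF, hmemOF]
    exact orbit_sub_smul_iff K k hk a u
  have hos := r3_orbit_stab K a
  rw [hK, ← hOFc] at hos
  have hle : OF.card ≤ 100 := by
    rw [← hX]
    exact Finset.card_le_univ OF
  -- the element of order 11
  have h11 := smul_card_modEq_fixed y 11 1 (pow_orderOf_prime y 11 hy) OF (hinv y hyK)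
  have hfix11 : (OF.filter fun u => y • u = u) = {a} := by
    ext u
    rw [Finset.mem_filter, Finset.mem_singleton]
    constructor
    · rintro ⟨-, hu⟩
      exact r3_fix11 hX D y hya hy u hu
    · rintro rfl
      exact ⟨(hmemOF u).2 (mem_orbit_self u), hya⟩
  rw [hfix11, Finset.card_singleton] at h11
  -- an element of order 7
  obtain ⟨z, hz⟩ := exists_prime_orderOf_dvd_card' (G := ↥K) 7 (by rw [hK]; norm_num)
  have hz7 : orderOf (z : T) = 7 := by
    rw [Subgroup.orderOf_coe]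
    exact hz
  have h7X := smul_card_modEq_fixed (z : T) 7 1 (pow_orderOf_prime _ 7 hz7)
    (Finset.univ : Finset X) (fun u => by simp)
  rw [Finset.card_univ, hX] at h7X
  have hne : (Finset.univ.filter fun u : X => (z : T) • u = u).Nonempty := by
    rw [Finset.nonempty_iff_ne_empty]
    intro h0
    rw [h0, Finset.card_empty] at h7X
    exact absurd h7X (by decide)
  obtain ⟨x₁, hx₁⟩ := hne
  rw [Finset.mem_filter] at hx₁
  obtain ⟨D₁⟩ := r3_data_at D x₁
  have hf7 := r3_fix7 hX D₁ (z : T) hx₁.2 hz7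
  have h7 := smul_card_modEq_fixed (z : T) 7 1 (pow_orderOf_prime _ 7 hz7) OF (hinv _ z.2)
  have hsub : (OF.filter fun u => (z : T) • u = u).card ≤ 2 :=
    le_trans (Finset.card_le_card (Finset.filter_subset_filter _ (Finset.subset_univ OF))) hf7
  -- arithmetic
  unfold Nat.ModEq at h11 h7
  rw [← hOFc]
  have hdvd : OF.card ∣ 443520 := ⟨_, hos.symm⟩
  rcases r3_arith1 OF.card hle hdvd (by omega) with h | h | h | h
  · exact Or.inl h
  · rw [h] at h7
    omega
  · rw [h] at h7
    omega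
  · exact Or.inr h

theorem r3_eq_stab_of_orbit_one [Finite T] (a : X) (e : ↥(stabilizer T a) ≃* ↥Spor.M22)
    (K : Subgroup T) (hK : Nat.card ↥K = 443520) (h1 : (orbit ↥K a).ncard = 1) :
    K = stabilizer T a := by
  obtain ⟨x, hx⟩ := Set.ncard_eq_one.1 h1
  have hax : a ∈ ({x} : Set X) := hx ▸ mem_orbit_self a
  have hxa : x = a := (Set.mem_singleton_iff.1 hax).symm
  have hle : K ≤ stabilizer T a := by
    intro k hk
    have h2 : k • a ∈ orbit ↥K a := ⟨⟨k, hk⟩, rfl⟩
    rw [hx, Set.mem_singleton_iff, hxa] at h2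
    exact h2
  exact Subgroup.eq_of_le_of_card_ge hle (by rw [hK, r3_card_stab a e])

/-- If the orbit has length 56, exactly 11 neighbours of the base point lie in it. -/
theorem r3_split [Finite T] [IsPretransitive T X] [Fintype X] [DecidableEq X]
    (hX : Fintype.card X = 100) {a : X} (D : R3Data T X a) (K : Subgroup T) (y : T)
    (hyK : y ∈ K) (hya : y • a = a) (hy : orderOf y = 11)
    (h56 : (orbit ↥K a).ncard = 56) :
    {u | (r3Graph T X).Adj a u ∧ u ∈ orbit ↥K a}.ncard = 11 := by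
  classical
  have hp11 : Fact (Nat.Prime 11) := ⟨by norm_num⟩
  have srg := r3_srg hX a D.e D.b D.c D.hb D.hc
  set OF : Finset X := Finset.univ.filter (fun u => u ∈ orbit ↥K a) with hOF
  have hmemOF : ∀ u, u ∈ OF ↔ u ∈ orbit ↥K a := fun u => by simp [hOF]
  have hOFc : OF.card = 56 := by
    rw [← h56, ← Set.ncard_coe_finset]
    congr 1
    ext u
    simp [hOF]
  have hinvK : ∀ k ∈ K, ∀ u, k • u ∈ orbit ↥K a ↔ u ∈ orbit ↥K a :=
    fun k hk u => orbit_sub_smul_iff K k hk a u
  set Δ1 : Finset X :=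
    Finset.univ.filter (fun u => (r3Graph T X).Adj a u ∧ u ∈ orbit ↥K a) with hΔ1
  set Δ2 : Finset X :=
    Finset.univ.filter (fun u => (r3Graph T X).Adj a u ∧ u ∉ orbit ↥K a) with hΔ2
  have hm1 : ∀ u, u ∈ Δ1 ↔ ((r3Graph T X).Adj a u ∧ u ∈ orbit ↥K a) := fun u => by simp [hΔ1]
  have hm2 : ∀ u, u ∈ Δ2 ↔ ((r3Graph T X).Adj a u ∧ u ∉ orbit ↥K a) := fun u => by simp [hΔ2]
  have hgoal : {u | (r3Graph T X).Adj a u ∧ u ∈ orbit ↥K a}.ncard = Δ1.card := by
    rw [← Set.ncard_coe_finset]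
    congr 1
    ext u
    simp [hΔ1]
  rw [hgoal]
  have hdisj : Disjoint Δ1 Δ2 := by
    rw [Finset.disjoint_left]
    intro u h1 h2
    exact ((hm2 u).1 h2).2 ((hm1 u).1 h1).2
  have hsum : Δ1.card + Δ2.card = 22 := by
    rw [← srg.deg a, ← Finset.card_union_of_disjoint hdisj]
    congr 1
    ext u
    rw [Finset.mem_union, hm1, hm2, Finset.mem_filter]
    constructor
    · rintro (h | h)
      · exact ⟨Finset.mem_univ _, h.1⟩
      · exact ⟨Finset.mem_univ _, h.1⟩
    · rintro ⟨-, h⟩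
      by_cases hu : u ∈ orbit ↥K a
      · exact Or.inl ⟨h, hu⟩
      · exact Or.inr ⟨h, hu⟩
  -- invariance under the element of order 11
  have hyadj : ∀ u, (r3Graph T X).Adj a (y • u) ↔ (r3Graph T X).Adj a u := by
    intro u
    have h := r3_adj_smul y a u
    rw [hya] at h
    exact h
  have hnofix : ∀ u, (r3Graph T X).Adj a u → y • u ≠ u := by
    intro u hu hfix
    have h := r3_fix11 hX D y hya hy u hfix
    rw [h] at hu
    exact (r3Graph T X).irrefl hu
  have h1 := smul_card_modEq_fixed y 11 1 (pow_orderOf_prime y 11 hy) Δ1 (fun u => by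
    rw [hm1, hm1, hyadj, hinvK y hyK])
  have h2 := smul_card_modEq_fixed y 11 1 (pow_orderOf_prime y 11 hy) Δ2 (fun u => by
    rw [hm2, hm2, hyadj, hinvK y hyK])
  have e1 : (Δ1.filter fun u => y • u = u) = ∅ := by
    rw [Finset.filter_eq_empty_iff]
    intro u hu
    exact hnofix u ((hm1 u).1 hu).1
  have e2 : (Δ2.filter fun u => y • u = u) = ∅ := by
    rw [Finset.filter_eq_empty_iff]
    intro u hu
    exact hnofix u ((hm2 u).1 hu).1
  rw [e1, Finset.card_empty] at h1
  rw [e2, Finset.card_empty] at h2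
  unfold Nat.ModEq at h1 h2
  -- the number of neighbours inside the orbit is constant
  have hconst : ∀ u ∈ orbit ↥K a, (Finset.univ.filter
      (fun x => (r3Graph T X).Adj u x ∧ x ∈ orbit ↥K a)).card = Δ1.card := by
    rintro _ ⟨k, rfl⟩
    exact r3_card_filter_smul (k : T) (fun x => (r3Graph T X).Adj a x ∧ x ∈ orbit ↥K a)
      (fun x => (r3Graph T X).Adj ((k : T) • a) x ∧ x ∈ orbit ↥K a)
      (fun x => by rw [r3_adj_smul, hinvK k k.2])
  have hcases : Δ1.card = 0 ∨ Δ1.card = 11 ∨ Δ1.card = 22 := by omega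
  rcases hcases with h0 | h11 | h22
  · exfalso
    have hco : ∀ u ∈ orbit ↥K a, ∀ x, (r3Graph T X).Adj u x → x ∉ orbit ↥K a := by
      intro u hu x hux hx
      have h3 := hconst u hu
      rw [h0, Finset.card_eq_zero, Finset.filter_eq_empty_iff] at h3
      exact h3 (Finset.mem_univ x) ⟨hux, hx⟩
    have hdc := Finset.sum_card_bipartiteAbove_eq_sum_card_bipartiteBelow
      (r3Graph T X).Adj (s := OF) (t := OFᶜ)
    have hL : ∀ u ∈ OF, (OFᶜ.bipartiteAbove (r3Graph T X).Adj u).card = 22 := by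
      intro u hu
      rw [← srg.deg u]
      congr 1
      ext x
      rw [Finset.mem_bipartiteAbove, Finset.mem_compl, hmemOF, Finset.mem_filter]
      constructor
      · rintro ⟨-, h⟩
        exact ⟨Finset.mem_univ _, h⟩
      · rintro ⟨-, h⟩
        exact ⟨hco u ((hmemOF u).1 hu) x h, h⟩
    have hR : ∀ w ∈ OFᶜ, (OF.bipartiteBelow (r3Graph T X).Adj w).card ≤ 22 := by
      intro w _
      rw [← srg.deg w]
      apply Finset.card_le_card
      intro x hx
      rw [Finset.mem_bipartiteBelow] at hx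
      rw [Finset.mem_filter]
      exact ⟨Finset.mem_univ _, hx.2.symm⟩
    rw [Finset.sum_const_nat hL] at hdc
    have h3 := Finset.sum_le_card_nsmul _ _ _ hR
    rw [← hdc, Finset.card_compl, hOFc, hX, smul_eq_mul] at h3
    omega
  · exact h11
  · exfalso
    have hcl : ∀ u ∈ orbit ↥K a, ∀ x, (r3Graph T X).Adj u x → x ∈ orbit ↥K a := by
      intro u hu x hux
      have h3 := hconst u hu
      rw [h22, ← srg.deg u] at h3
      have h4 : (Finset.univ.filter (fun x => (r3Graph T X).Adj u x ∧ x ∈ orbit ↥K a))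
          = Finset.univ.filter (fun x => (r3Graph T X).Adj u x) :=
        Finset.eq_of_subset_of_card_le (fun x hx => by
          rw [Finset.mem_filter] at hx ⊢
          exact ⟨hx.1, hx.2.1⟩) (le_of_eq h3.symm)
      have h5 : x ∈ Finset.univ.filter (fun x => (r3Graph T X).Adj u x) :=
        Finset.mem_filter.2 ⟨Finset.mem_univ _, hux⟩
      rw [← h4, Finset.mem_filter] at h5
      exact h5.2.2
    have hall : ∀ x, x ∈ orbit ↥K a := by
      intro x
      by_cases hxa : x = a
      · rw [hxa]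
        exact mem_orbit_self a
      by_cases hadj : (r3Graph T X).Adj a x
      · exact hcl a (mem_orbit_self a) x hadj
      · have hmu := srg.mu a x (Ne.symm hxa) hadj
        have hne : (Finset.univ.filter
            (fun w => (r3Graph T X).Adj a w ∧ (r3Graph T X).Adj x w)).Nonempty := by
          rw [← Finset.card_pos, hmu]
          norm_num
        obtain ⟨w, hw⟩ := hne
        rw [Finset.mem_filter] at hw
        exact hcl w (hcl a (mem_orbit_self a) w hw.2.1) x hw.2.2.symm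
    have h3 : OF = Finset.univ := by
      ext x
      simp [hmemOF, hall x]
    rw [h3, Finset.card_univ, hX] at hOFc
    norm_num at hOFc


theorem r3_arith2 : ∀ q, q ≤ 11 → q ∣ 720 → q % 5 = 1 → q = 1 ∨ q = 6 := by decide

/-- The case of 11 neighbours in the orbit is impossible. -/
theorem r3_caseB [Finite T] [IsPretransitive T X] [Fintype X] [DecidableEq X]
    (hX : Fintype.card X = 100) {a : X} (D : R3Data T X a) (K : Subgroup T)
    (hK : Nat.card ↥K = 443520) (y : T) (hyK : y ∈ K) (hya : y • a = a)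
    (hy : orderOf y = 11) (h56 : (orbit ↥K a).ncard = 56)
    (h11 : {u | (r3Graph T X).Adj a u ∧ u ∈ orbit ↥K a}.ncard = 11) : False := by
  classical
  have hp11 : Fact (Nat.Prime 11) := ⟨by norm_num⟩
  have hp5 : Fact (Nat.Prime 5) := ⟨by norm_num⟩
  have hp3 : Fact (Nat.Prime 3) := ⟨by norm_num⟩
  have srg := r3_srg hX a D.e D.b D.c D.hb D.hc
  have hinvK : ∀ k ∈ K, ∀ u, k • u ∈ orbit ↥K a ↔ u ∈ orbit ↥K a :=
    fun k hk u => orbit_sub_smul_iff K k hk a u
  -- the two halves of the neighbourhood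
  set Δ1 : Finset X :=
    Finset.univ.filter (fun u => (r3Graph T X).Adj a u ∧ u ∈ orbit ↥K a) with hΔ1
  set Δ2 : Finset X :=
    Finset.univ.filter (fun u => (r3Graph T X).Adj a u ∧ u ∉ orbit ↥K a) with hΔ2
  have hm1 : ∀ u, u ∈ Δ1 ↔ ((r3Graph T X).Adj a u ∧ u ∈ orbit ↥K a) := fun u => by simp [hΔ1]
  have hm2 : ∀ u, u ∈ Δ2 ↔ ((r3Graph T X).Adj a u ∧ u ∉ orbit ↥K a) := fun u => by simp [hΔ2]
  have hc1 : Δ1.card = 11 := by
    rw [← h11, ← Set.ncard_coe_finset]
    congr 1
    ext u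
    simp [hΔ1]
  have hdisj : Disjoint Δ1 Δ2 := by
    rw [Finset.disjoint_left]
    intro u h1 h2
    exact ((hm2 u).1 h2).2 ((hm1 u).1 h1).2
  have hsum : Δ1.card + Δ2.card = 22 := by
    rw [← srg.deg a, ← Finset.card_union_of_disjoint hdisj]
    congr 1
    ext u
    rw [Finset.mem_union, hm1, hm2, Finset.mem_filter]
    constructor
    · rintro (h | h)
      · exact ⟨Finset.mem_univ _, h.1⟩
      · exact ⟨Finset.mem_univ _, h.1⟩
    · rintro ⟨-, h⟩
      by_cases hu : u ∈ orbit ↥K a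
      · exact Or.inl ⟨h, hu⟩
      · exact Or.inr ⟨h, hu⟩
  have hc2 : Δ2.card = 11 := by omega
  -- the stabiliser of the base point in K
  set L : Subgroup T := K ⊓ stabilizer T a with hL
  have hLcard : Nat.card ↥L = 7920 := by
    have hos := r3_orbit_stab K a
    rw [hK, h56] at hos
    rw [hL]
    omega
  have hLadj : ∀ l ∈ L, ∀ u, (r3Graph T X).Adj a (l • u) ↔ (r3Graph T X).Adj a u := by
    intro l hl u
    have h := r3_adj_smul l a u
    have hla : l • a = a := hl.2
    rw [hla] at h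
    exact h
  have hL1 : ∀ l ∈ L, ∀ u, l • u ∈ Δ1 ↔ u ∈ Δ1 := by
    intro l hl u
    rw [hm1, hm1, hLadj l hl, hinvK l hl.1]
  have hL2 : ∀ l ∈ L, ∀ u, l • u ∈ Δ2 ↔ u ∈ Δ2 := by
    intro l hl u
    rw [hm2, hm2, hLadj l hl, hinvK l hl.1]
  have hyL : y ∈ L := ⟨hyK, hya⟩
  have hnofix : ∀ u, (r3Graph T X).Adj a u → y • u ≠ u := by
    intro u hu hfix
    have h := r3_fix11 hX D y hya hy u hfix
    rw [h] at hu
    exact (r3Graph T X).irrefl hu
  -- a point of the first half
  obtain ⟨x, hx⟩ : Δ1.Nonempty := by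
    rw [← Finset.card_pos, hc1]
    norm_num
  have hxadj : (r3Graph T X).Adj a x := ((hm1 x).1 hx).1
  have hxΔ : x ∈ orbit ↥(stabilizer T a) D.b := (r3_nbr hX a D.b D.c D.hb D.hc x).1 hxadj
  -- its orbit under L has 11 points
  set OL : Finset X := Finset.univ.filter (fun u => u ∈ orbit ↥L x) with hOL
  have hmOL : ∀ u, u ∈ OL ↔ u ∈ orbit ↥L x := fun u => by simp [hOL]
  have hOLsub : OL ⊆ Δ1 := by
    intro u hu
    rw [hmOL] at hu
    obtain ⟨l, rfl⟩ := hu
    exact (hL1 (l : T) l.2 x).2 hx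
  have hOLy := smul_card_modEq_fixed y 11 1 (pow_orderOf_prime y 11 hy) OL (fun u => by
    rw [hmOL, hmOL]
    exact orbit_sub_smul_iff L y hyL x u)
  have hOLfix : (OL.filter fun u => y • u = u) = ∅ := by
    rw [Finset.filter_eq_empty_iff]
    intro u hu
    exact hnofix u ((hm1 u).1 (hOLsub hu)).1
  rw [hOLfix, Finset.card_empty] at hOLy
  unfold Nat.ModEq at hOLy
  have hOLpos : 0 < OL.card := Finset.card_pos.2 ⟨x, (hmOL x).2 (mem_orbit_self x)⟩
  have hOLle : OL.card ≤ 11 := hc1 ▸ Finset.card_le_card hOLsub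
  have hOLc : OL.card = 11 := by omega
  have hOLn : (orbit ↥L x).ncard = 11 := by
    rw [← hOLc, ← Set.ncard_coe_finset]
    congr 1
    ext u
    simp [hOL]
  -- the stabiliser of x in L
  set L' : Subgroup T := L ⊓ stabilizer T x with hL'
  have hL'card : Nat.card ↥L' = 720 := by
    have hos := r3_orbit_stab L x
    rw [hLcard, hOLn] at hos
    rw [hL']
    omega
  -- an element of order 5
  obtain ⟨t5', ht5'⟩ := exists_prime_orderOf_dvd_card' (G := ↥L') 5 (by rw [hL'card]; norm_num)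
  set t5 : T := (t5' : T) with ht5def
  have ht5 : orderOf t5 = 5 := by
    rw [ht5def, Subgroup.orderOf_coe]
    exact ht5'
  have ht5L' : t5 ∈ L' := t5'.2
  have ht5L : t5 ∈ L := ht5L'.1
  have ht5a : t5 • a = a := ht5L.2
  have ht5x : t5 • x = x := ht5L'.2
  -- its fixed points among the neighbours
  have hfix5 : ((Δ1.filter fun u => t5 • u = u) ∪ (Δ2.filter fun u => t5 • u = u)).card + 2
      ≤ 24 % 5 :=
    r3_fix_prime a D.e D.b D.hb ⟨t5, ht5a⟩ 5 (by norm_num) ht5 _ (by
      intro u hu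
      rcases Finset.mem_union.1 hu with h' | h'
      · obtain ⟨h, hf⟩ := Finset.mem_filter.1 h'
        exact ⟨(r3_nbr hX a D.b D.c D.hb D.hc u).1 ((hm1 u).1 h).1, hf⟩
      · obtain ⟨h, hf⟩ := Finset.mem_filter.1 h'
        exact ⟨(r3_nbr hX a D.b D.c D.hb D.hc u).1 ((hm2 u).1 h).1, hf⟩)
  have hdisjF : Disjoint (Δ1.filter fun u => t5 • u = u) (Δ2.filter fun u => t5 • u = u) := by
    rw [Finset.disjoint_left]
    intro u h1 h2
    exact ((hm2 u).1 (Finset.mem_filter.1 h2).1).2 ((hm1 u).1 (Finset.mem_filter.1 h1).1).2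
  rw [Finset.card_union_of_disjoint hdisjF] at hfix5
  have h51 := smul_card_modEq_fixed t5 5 1 (pow_orderOf_prime t5 5 ht5) Δ1 (hL1 t5 ht5L)
  have h52 := smul_card_modEq_fixed t5 5 1 (pow_orderOf_prime t5 5 ht5) Δ2 (hL2 t5 ht5L)
  rw [hc1] at h51
  rw [hc2] at h52
  unfold Nat.ModEq at h51 h52
  have hF2 : (Δ2.filter fun u => t5 • u = u).card = 1 := by omega
  obtain ⟨x₅, hx₅⟩ := Finset.card_eq_one.1 hF2
  have hx₅mem : x₅ ∈ Δ2.filter fun u => t5 • u = u := by
    rw [hx₅]
    exact Finset.mem_singleton_self _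
  rw [Finset.mem_filter] at hx₅mem
  have hx₅Δ2 : x₅ ∈ Δ2 := hx₅mem.1
  have ht5x₅ : t5 • x₅ = x₅ := hx₅mem.2
  -- the orbit of x₅ under L'
  have hL'2 : ∀ l ∈ L', ∀ u, l • u ∈ Δ2 ↔ u ∈ Δ2 := fun l hl u => hL2 l hl.1 u
  set QF : Finset X := Finset.univ.filter (fun u => u ∈ orbit ↥L' x₅) with hQF
  have hmQ : ∀ u, u ∈ QF ↔ u ∈ orbit ↥L' x₅ := fun u => by simp [hQF]
  have hQsub : QF ⊆ Δ2 := by
    intro u hu
    rw [hmQ] at hu
    obtain ⟨l, rfl⟩ := hu
    exact (hL'2 (l : T) l.2 x₅).2 hx₅Δ2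
  have hQinv : ∀ l ∈ L', ∀ u, l • u ∈ QF ↔ u ∈ QF := by
    intro l hl u
    rw [hmQ, hmQ]
    exact orbit_sub_smul_iff L' l hl x₅ u
  have hQ5 := smul_card_modEq_fixed t5 5 1 (pow_orderOf_prime t5 5 ht5) QF (hQinv t5 ht5L')
  have hQfix : (QF.filter fun u => t5 • u = u) = {x₅} := by
    ext u
    rw [Finset.mem_filter, Finset.mem_singleton]
    constructor
    · rintro ⟨hu, hf⟩
      have h3 : u ∈ Δ2.filter fun u => t5 • u = u := Finset.mem_filter.2 ⟨hQsub hu, hf⟩
      rw [hx₅, Finset.mem_singleton] at h3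
      exact h3
    · rintro rfl
      exact ⟨(hmQ u).2 (mem_orbit_self u), ht5x₅⟩
  rw [hQfix, Finset.card_singleton] at hQ5
  unfold Nat.ModEq at hQ5
  have hQle : QF.card ≤ 11 := hc2 ▸ Finset.card_le_card hQsub
  have hQn : (orbit ↥L' x₅).ncard = QF.card := by
    rw [← Set.ncard_coe_finset]
    congr 1
    ext u
    simp [hQF]
  have hosQ := r3_orbit_stab L' x₅
  rw [hL'card, hQn] at hosQ
  have hQdvd : QF.card ∣ 720 := ⟨_, hosQ.symm⟩
  have hQcases : QF.card = 1 ∨ QF.card = 6 := r3_arith2 QF.card hQle hQdvd (by omega)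
  rcases hQcases with hQ1 | hQ6
  · -- L' fixes x₅
    have hL'' : Nat.card ↥(L' ⊓ stabilizer T x₅) = 720 := by
      rw [hQ1] at hosQ
      omega
    have hx22 : (orbit ↥(stabilizer T a) x).ncard = 22 := by
      rw [MulAction.orbit_eq_iff.2 hxΔ]
      exact D.hb
    have hs1 := r3_orbit_stab (stabilizer T a) x
    rw [r3_card_stab a D.e, hx22] at hs1
    have hHx : Nat.card ↥(stabilizer T a ⊓ stabilizer T x) = 20160 := by omega
    have hx₅adj : (r3Graph T X).Adj a x₅ := ((hm2 x₅).1 hx₅Δ2).1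
    have hx₅Δ : x₅ ∈ orbit ↥(stabilizer T a) x := by
      rw [MulAction.orbit_eq_iff.2 hxΔ]
      exact (r3_nbr hX a D.b D.c D.hb D.hc x₅).1 hx₅adj
    have hx₅ne : x₅ ≠ x := by
      intro h
      rw [h] at hx₅Δ2
      exact ((hm2 _).1 hx₅Δ2).2 ((hm1 _).1 hx).2
    have horb21 : (orbit ↥(stabilizer T a ⊓ stabilizer T x) x₅).ncard = 21 := by
      have h3 : orbit ↥(stabilizer T a ⊓ stabilizer T x) x₅
          = {u | (r3Graph T X).Adj a u ∧ u ≠ x} := by
        ext u
        constructor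
        · rintro ⟨m, rfl⟩
          have hm : (m : T) ∈ stabilizer T a ⊓ stabilizer T x := m.2
          have hma : (m : T) • a = a := hm.1
          have hmx : (m : T) • x = x := hm.2
          refine ⟨?_, ?_⟩
          · have h := r3_adj_smul (m : T) a x₅
            rw [hma] at h
            exact h.2 hx₅adj
          · intro h
            apply hx₅ne
            have h4 : (m : T) • x₅ = (m : T) • x := h.trans hmx.symm
            exact smul_left_cancel _ h4
        · rintro ⟨hu, hux⟩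
          have huΔ : u ∈ orbit ↥(stabilizer T a) x := by
            rw [MulAction.orbit_eq_iff.2 hxΔ]
            exact (r3_nbr hX a D.b D.c D.hb D.hc u).1 hu
          obtain ⟨k, hk1, hk2⟩ := r3_two_trans a D.e x hx22 x₅ u hx₅Δ huΔ hx₅ne hux
          exact ⟨⟨(k : T), ⟨k.2, hk1⟩⟩, hk2⟩
      rw [h3]
      have h4 : {u | (r3Graph T X).Adj a u ∧ u ≠ x}
          = (((Finset.univ.filter (fun u => (r3Graph T X).Adj a u)).erase x : Finset X) :
            Set X) := by
        ext u
        simp [and_comm]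
      rw [h4, Set.ncard_coe_finset,
        Finset.card_erase_of_mem (Finset.mem_filter.2 ⟨Finset.mem_univ _, hxadj⟩), srg.deg a]
    have hs2 := r3_orbit_stab (stabilizer T a ⊓ stabilizer T x) x₅
    rw [hHx, horb21] at hs2
    have hM : Nat.card ↥(stabilizer T a ⊓ stabilizer T x ⊓ stabilizer T x₅) = 960 := by omega
    have hle : L' ⊓ stabilizer T x₅ ≤ stabilizer T a ⊓ stabilizer T x ⊓ stabilizer T x₅ := by
      intro m hm
      exact ⟨⟨hm.1.1.2, hm.1.2⟩, hm.2⟩
    have hdvd := Subgroup.card_dvd_of_le hle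
    rw [hL'', hM] at hdvd
    norm_num at hdvd
  · -- the remaining five points
    set Q' : Finset X := Δ2 \ QF with hQ'
    have hQ'c : Q'.card = 5 := by
      rw [hQ', Finset.card_sdiff_of_subset hQsub, hc2, hQ6]
    have hQ'inv : ∀ l : ↥L', ∀ u ∈ Q', l • u ∈ Q' := by
      intro l u hu
      rw [hQ', Finset.mem_sdiff] at hu ⊢
      exact ⟨(hL'2 (l : T) l.2 u).2 hu.1, fun h => hu.2 ((hQinv (l : T) l.2 u).1 h)⟩
    obtain ⟨N, hN1, hN2⟩ := exists_ker_of_invariant (G := ↥L') Q' hQ'inv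
    rw [hL'card, hQ'c] at hN2
    have h3N : 3 ∣ Nat.card ↥N := by
      obtain ⟨k, hk⟩ := hN2
      have h120 : Nat.factorial 5 = 120 := rfl
      rw [h120] at hk
      omega
    obtain ⟨n₃, hn₃⟩ := exists_prime_orderOf_dvd_card' (G := ↥N) 3 h3N
    set t3 : T := ((n₃ : ↥L') : T) with ht3def
    have ht3 : orderOf t3 = 3 := by
      rw [ht3def, Subgroup.orderOf_coe, Subgroup.orderOf_coe]
      exact hn₃
    have ht3L' : t3 ∈ L' := (n₃ : ↥L').2
    have ht3a : t3 • a = a := ht3L'.1.2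
    have ht3x : t3 • x = x := ht3L'.2
    have ht3Q : ∀ u ∈ Q', t3 • u = u := fun u hu => hN1 (n₃ : ↥L') n₃.2 u hu
    have hxQ' : x ∉ Q' := by
      intro h
      rw [hQ', Finset.mem_sdiff] at h
      exact ((hm2 x).1 h.1).2 ((hm1 x).1 hx).2
    have h6 := r3_fix_three a D.e D.b D.hb ⟨t3, ht3a⟩ ht3 (insert x Q') (by
      intro u hu
      rw [Finset.mem_insert] at hu
      rcases hu with rfl | hu
      · exact ⟨hxΔ, ht3x⟩
      · have huΔ2 : u ∈ Δ2 := by
          rw [hQ', Finset.mem_sdiff] at hu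
          exact hu.1
        exact ⟨(r3_nbr hX a D.b D.c D.hb D.hc u).1 ((hm2 u).1 huΔ2).1, ht3Q u hu⟩)
    rw [Finset.card_insert_of_notMem hxQ', hQ'c] at h6
    norm_num at h6

/-- A subgroup of the order of `M₂₂` containing an element of order 11 of a point stabiliser is
that point stabiliser. -/
theorem r3_eq_stab_of_fix11 [Finite T] [IsPretransitive T X] [Fintype X] [DecidableEq X]
    (hX : Fintype.card X = 100) {a : X} (D : R3Data T X a) (K : Subgroup T)
    (hK : Nat.card ↥K = 443520) (y : T) (hyK : y ∈ K) (hya : y • a = a)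
    (hy : orderOf y = 11) : K = stabilizer T a := by
  rcases r3_orbit_cases hX D K hK y hyK hya hy with h1 | h56
  · exact r3_eq_stab_of_orbit_one a D.e K hK h1
  · exact (r3_caseB hX D K hK y hyK hya hy h56 (r3_split hX D K y hyK hya hy h56)).elim

/-- Every subgroup of the order of `M₂₂` is a point stabiliser. -/
theorem r3_stab_of_card [Finite T] [IsPretransitive T X] [Fintype X] [DecidableEq X]
    (hX : Fintype.card X = 100) {a : X} (D : R3Data T X a) (K : Subgroup T)
    (hK : Nat.card ↥K = 443520) : ∃ x : X, K = stabilizer T x := by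
  have hp11 : Fact (Nat.Prime 11) := ⟨by norm_num⟩
  obtain ⟨y', hy'⟩ := exists_prime_orderOf_dvd_card' (G := ↥K) 11 (by rw [hK]; norm_num)
  have hy : orderOf (y' : T) = 11 := by
    rw [Subgroup.orderOf_coe]
    exact hy'
  have h11 := smul_card_modEq_fixed (y' : T) 11 1 (pow_orderOf_prime _ 11 hy)
    (Finset.univ : Finset X) (fun u => by simp)
  rw [Finset.card_univ, hX] at h11
  have hne : (Finset.univ.filter fun u : X => (y' : T) • u = u).Nonempty := by
    rw [Finset.nonempty_iff_ne_empty]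
    intro h0
    rw [h0, Finset.card_empty] at h11
    exact absurd h11 (by decide)
  obtain ⟨x₀, hx₀⟩ := hne
  rw [Finset.mem_filter] at hx₀
  obtain ⟨D₀⟩ := r3_data_at D x₀
  exact ⟨x₀, r3_eq_stab_of_fix11 hX D₀ K hK (y' : T) y'.2 hx₀.2 hy⟩

end Sub

end Cfsg.Agent.Lib.helper9
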