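import Mathlib
import Cfsg.Prelude.Def_KGroupFacts
import Cfsg.Agent.Lib.helper9.HSSub
import Cfsg.Agent.Lib.helper9.HSRank3b
import Cfsg.Agent.Lib.helper9.OutLemmas
import Cfsg.Agent.Lib.helper33.AutPerm

/-!
The outer automorphism group of a rank 3 permutation group on 100 points with point stabiliser
`M₂₂` and suborbits of lengths 22 and 77 has order 2.
-/

set_option autoImplicit false
open Cfsg
open MulAction

namespace Cfsg.Agent.Lib.helper9

open Cfsg.Agent.Lib.helper10 Cfsg.Agent.Lib.helper33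

/-- The permutations preserving a graph. -/
def graphPerms {V : Type*} (Γ : SimpleGraph V) : Subgroup (Equiv.Perm V) where
  carrier := {π | ∀ x y, Γ.Adj (π x) (π y) ↔ Γ.Adj x y}
  one_mem' := fun _ _ => Iff.rfl
  mul_mem' := fun {π σ} hπ hσ x y => (hπ (σ x) (σ y)).trans (hσ x y)
  inv_mem' := fun {π} hπ x y => by
    have h := hπ (π⁻¹ x) (π⁻¹ y)
    rw [perm_apply_inv, perm_apply_inv] at h
    exact h.symm

theorem mem_graphPerms {V : Type*} (Γ : SimpleGraph V) (π : Equiv.Perm V) :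
    π ∈ graphPerms Γ ↔ ∀ x y, Γ.Adj (π x) (π y) ↔ Γ.Adj x y := Iff.rfl

/-- The permutations preserving a graph are its automorphisms. -/
def graphPermsEquiv {V : Type*} (Γ : SimpleGraph V) : ↥(graphPerms Γ) ≃* (Γ ≃g Γ) where
  toFun π :=
    { toEquiv := π.1
      map_rel_iff' := fun {x y} => π.2 x y }
  invFun ψ := ⟨ψ.toEquiv, fun _ _ => ψ.map_rel_iff⟩
  left_inv _ := rfl
  right_inv _ := rfl
  map_mul' _ _ := rfl

/-- A strongly regular graph with parameters (100, 22, 0, 6) has 88704000 automorphisms. -/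
theorem srg100_card_aut {V : Type*} [Fintype V] [DecidableEq V] {G : SimpleGraph V}
    [DecidableRel G.Adj] (hG : Srg100 G) : Nat.card (G ≃g G) = 88704000 := by
  obtain ⟨o⟩ : Nonempty V := Fintype.card_pos_iff.mp (by rw [hG.card]; norm_num)
  obtain ⟨φ⟩ := exists_iso_pointBlockGraph hG o
  rw [← card_aut_pointBlockGraph (hsBlocks_steiner hG o) (card_pt hG o)]
  exact Nat.card_congr (graphAutCongr φ).toEquiv

/-- Conjugation by a permutation normalising a permutation group. -/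
def permConjAut {Ω : Type*} (G : Subgroup (Equiv.Perm Ω)) (t : Equiv.Perm Ω)
    (h1 : ∀ g ∈ G, t * g * t⁻¹ ∈ G) (h2 : ∀ g ∈ G, t⁻¹ * g * t ∈ G) : ↥G ≃* ↥G where
  toFun g := ⟨t * g * t⁻¹, h1 g g.2⟩
  invFun g := ⟨t⁻¹ * g * t, h2 g g.2⟩
  left_inv g := by apply Subtype.ext; show t⁻¹ * (t * (g : Equiv.Perm Ω) * t⁻¹) * t = g; group
  right_inv g := by apply Subtype.ext; show t * (t⁻¹ * (g : Equiv.Perm Ω) * t) * t⁻¹ = g; group
  map_mul' g g' := by
    apply Subtype.ext
    show t * ((g : Equiv.Perm Ω) * g') * t⁻¹ = t * g * t⁻¹ * (t * g' * t⁻¹)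
    group

section OutHS

variable {T : Type*} [Group T] {X : Type*} [MulAction T X]

/-- The point stabiliser fixes no further point. -/
theorem r3_only_fixed [Fintype X] (hX : Fintype.card X = 100) {a : X} (D : R3Data T X a)
    (u : X) (h : ∀ t : T, t • a = a → t • u = u) : u = a := by
  have h1 : orbit ↥(stabilizer T a) u = {u} := by
    ext z
    constructor
    · rintro ⟨t, rfl⟩
      exact h (t : T) t.2
    · rintro rfl
      exact mem_orbit_self _
  rcases r3_cover hX a D.b D.c D.hb D.hc u with h2 | h2 | h2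
  · exact h2
  · have h3 := D.hb
    rw [← MulAction.orbit_eq_iff.2 h2, h1, Set.ncard_singleton] at h3
    norm_num at h3
  · have h3 := D.hc
    rw [← MulAction.orbit_eq_iff.2 h2, h1, Set.ncard_singleton] at h3
    norm_num at h3

end OutHS

section PermOut

variable {Ω : Type*} [Fintype Ω] [DecidableEq Ω] (G : Subgroup (Equiv.Perm Ω))

/-- The centraliser of the group in the symmetric group is trivial. -/
theorem r3_centralizer_trivial [IsPretransitive ↥G Ω] (hΩ : Fintype.card Ω = 100) {a : Ω}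
    (D : R3Data ↥G Ω a) (c : Equiv.Perm Ω) (hc : ∀ g ∈ G, c * g = g * c) : c = 1 := by
  have hca : c a = a := by
    apply r3_only_fixed hΩ D (c a)
    intro t hta
    have h1 := congrArg (fun σ : Equiv.Perm Ω => σ a) (hc (t : Equiv.Perm Ω) t.2)
    have h2 : c ((t : Equiv.Perm Ω) a) = (t : Equiv.Perm Ω) (c a) := h1
    have h3 : (t : Equiv.Perm Ω) a = a := hta
    rw [h3] at h2
    exact h2.symm
  apply Equiv.ext
  intro x
  obtain ⟨g, rfl⟩ := MulAction.exists_smul_eq ↥G a x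
  have h1 := congrArg (fun σ : Equiv.Perm Ω => σ a) (hc (g : Equiv.Perm Ω) g.2)
  have h2 : c ((g : Equiv.Perm Ω) a) = (g : Equiv.Perm Ω) (c a) := h1
  rw [hca] at h2
  exact h2

/-- Conjugation by an inducing permutation maps suborbits to suborbits. -/
theorem orbit_stab_conj (φ : ↥G ≃* ↥G) (π : Equiv.Perm Ω)
    (hπ : ∀ g : ↥G, (φ g : Equiv.Perm Ω) = π * g * π⁻¹) (x y : Ω) :
    orbit ↥(stabilizer ↥G (π x)) (π y) = π '' orbit ↥(stabilizer ↥G x) y := by
  have key : ∀ (g : ↥G) (z : Ω), (φ g : Equiv.Perm Ω) (π z) = π ((g : Equiv.Perm Ω) z) := by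
    intro g z
    rw [hπ g]
    show π ((g : Equiv.Perm Ω) (π⁻¹ (π z))) = π ((g : Equiv.Perm Ω) z)
    rw [perm_inv_apply]
  ext z
  constructor
  · rintro ⟨s, rfl⟩
    have hs : ((s : ↥G) : Equiv.Perm Ω) (π x) = π x := s.2
    have h1 := key (φ.symm (s : ↥G)) x
    rw [φ.apply_symm_apply, hs] at h1
    have h2 : ((φ.symm (s : ↥G) : ↥G) : Equiv.Perm Ω) x = x := (π.injective h1).symm
    refine ⟨((φ.symm (s : ↥G) : ↥G) : Equiv.Perm Ω) y,
      ⟨⟨φ.symm (s : ↥G), h2⟩, rfl⟩, ?_⟩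
    have h3 := key (φ.symm (s : ↥G)) y
    rw [φ.apply_symm_apply] at h3
    exact h3.symm
  · rintro ⟨_, ⟨t, rfl⟩, rfl⟩
    have ht : ((t : ↥G) : Equiv.Perm Ω) x = x := t.2
    have h1 : ((φ (t : ↥G) : ↥G) : Equiv.Perm Ω) (π x) = π x := by
      rw [key, ht]
    exact ⟨⟨φ (t : ↥G), h1⟩, key (t : ↥G) y⟩

/-- Every automorphism is induced by a permutation preserving the orbital graph. -/
theorem r3_aut_induced [IsPretransitive ↥G Ω] (hΩ : Fintype.card Ω = 100) {a : Ω}
    (D : R3Data ↥G Ω a) (φ : ↥G ≃* ↥G) :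
    ∃ π ∈ graphPerms (r3Graph ↥G Ω), ∀ g : ↥G, (φ g : Equiv.Perm Ω) = π * g * π⁻¹ := by
  have hfinG : Finite ↥G := inferInstance
  obtain ⟨π, -, hπ⟩ := exists_perm_of_stab_map G Finset.univ
    (fun x hx => absurd (Finset.mem_univ x) hx)
    (fun q _ q' _ hne => by
      by_contra hcon
      push Not at hcon
      obtain ⟨Dq⟩ := r3_data_at D q
      exact hne (r3_only_fixed hΩ Dq q' (fun t ht => hcon (t : Equiv.Perm Ω) t.2 ht)).symm)
    φ
    (fun q _ => by
      obtain ⟨Dq⟩ := r3_data_at D q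
      have hK : Nat.card ↥((stabilizer ↥G q).map φ.toMonoidHom) = 443520 := by
        rw [← r3_card_stab q Dq.e]
        exact (Nat.card_congr
          ((stabilizer ↥G q).equivMapOfInjective φ.toMonoidHom φ.injective).toEquiv).symm
      obtain ⟨f, hf⟩ := r3_stab_of_card hΩ D _ hK
      refine ⟨f, Finset.mem_univ f, fun g => ?_⟩
      have h1 : φ g ∈ (stabilizer ↥G q).map φ.toMonoidHom ↔ g ∈ stabilizer ↥G q :=
        Subgroup.mem_map_iff_mem φ.injective
      rw [hf] at h1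
      exact h1.symm)
  refine ⟨π, ?_, hπ⟩
  intro x y
  rw [r3_adj_iff, r3_adj_iff, orbit_stab_conj G φ π hπ x y, orbit_stab_conj G φ π hπ y x,
    Set.ncard_image_of_injective _ π.injective, Set.ncard_image_of_injective _ π.injective]


/-- The outer automorphism group has order 2. -/
theorem r3_card_out [IsPretransitive ↥G Ω] (hΩ : Fintype.card Ω = 100) {a : Ω}
    (D : R3Data ↥G Ω a) : Nat.card (Out ↥G) = 2 := by
  classical
  have hfinG : Finite ↥G := inferInstance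
  have srg := r3_srg hΩ a D.e D.b D.c D.hb D.hc
  have hGA : G ≤ graphPerms (r3Graph ↥G Ω) := by
    intro g hg x y
    exact r3_adj_smul (⟨g, hg⟩ : ↥G) x y
  have hcG : Nat.card ↥G = 44352000 := r3_card hΩ a D.e
  have hcA : Nat.card ↥(graphPerms (r3Graph ↥G Ω)) = 88704000 := by
    rw [← srg100_card_aut srg]
    exact Nat.card_congr (graphPermsEquiv _).toEquiv
  have hidx : (G.subgroupOf (graphPerms (r3Graph ↥G Ω))).index = 2 := by
    have h1 := Subgroup.card_mul_index (G.subgroupOf (graphPerms (r3Graph ↥G Ω)))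
    rw [Nat.card_congr (Subgroup.subgroupOfEquivOfLe hGA).toEquiv, hcG, hcA] at h1
    omega
  have hnorm : (G.subgroupOf (graphPerms (r3Graph ↥G Ω))).Normal :=
    Subgroup.normal_of_index_eq_two hidx
  have hconj : ∀ σ ∈ graphPerms (r3Graph ↥G Ω), ∀ g ∈ G, σ * g * σ⁻¹ ∈ G := by
    intro σ hσ g hg
    have h1 := hnorm.conj_mem (⟨g, hGA hg⟩ : ↥(graphPerms (r3Graph ↥G Ω)))
      (Subgroup.mem_subgroupOf.2 hg) ⟨σ, hσ⟩
    exact Subgroup.mem_subgroupOf.1 h1
  -- an element outside G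
  obtain ⟨σ, hσA, hσG⟩ : ∃ σ ∈ graphPerms (r3Graph ↥G Ω), σ ∉ G := by
    by_contra hcon
    push Not at hcon
    have h1 : graphPerms (r3Graph ↥G Ω) ≤ G := fun σ hσ => hcon σ hσ
    have h2 := Subgroup.card_le_of_le h1
    rw [hcA, hcG] at h2
    norm_num at h2
  have hconj' : ∀ g ∈ G, σ⁻¹ * g * σ ∈ G := by
    intro g hg
    have h := hconj σ⁻¹ (inv_mem hσA) g hg
    rw [inv_inv] at h
    exact h
  have hτ : permConjAut G σ (hconj σ hσA) hconj' ∉ Inn ↥G := by
    rintro ⟨m, hm⟩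
    apply hσG
    have h1 : (m : Equiv.Perm Ω)⁻¹ * σ = 1 := by
      apply r3_centralizer_trivial G hΩ D
      intro g hg
      have h2 : ((MulAut.conj m ⟨g, hg⟩ : ↥G) : Equiv.Perm Ω)
          = ((permConjAut G σ (hconj σ hσA) hconj' ⟨g, hg⟩ : ↥G) : Equiv.Perm Ω) := by
        rw [← hm]
      have h3 : (m : Equiv.Perm Ω) * g * (m : Equiv.Perm Ω)⁻¹ = σ * g * σ⁻¹ := h2
      calc (m : Equiv.Perm Ω)⁻¹ * σ * g
          = (m : Equiv.Perm Ω)⁻¹ * (σ * g * σ⁻¹) * σ := by group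
        _ = (m : Equiv.Perm Ω)⁻¹ * ((m : Equiv.Perm Ω) * g * (m : Equiv.Perm Ω)⁻¹) * σ := by
            rw [h3]
        _ = g * ((m : Equiv.Perm Ω)⁻¹ * σ) := by group
    have h4 : σ = (m : Equiv.Perm Ω) := by
      rw [inv_mul_eq_one] at h1
      exact h1.symm
    rw [h4]
    exact m.2
  refine card_out_eq_two (permConjAut G σ (hconj σ hσA) hconj') hτ (fun φ => ?_)
  obtain ⟨π, hπA, hπ⟩ := r3_aut_induced G hΩ D φ
  by_cases hπG : π ∈ G
  · left
    refine ⟨⟨π, hπG⟩, ?_⟩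
    apply MulEquiv.ext
    intro g
    apply Subtype.ext
    exact (hπ g).symm
  · right
    have hm : σ⁻¹ * π ∈ G := by
      have h1 : (⟨σ⁻¹, inv_mem hσA⟩ : ↥(graphPerms (r3Graph ↥G Ω))) * ⟨π, hπA⟩
          ∈ G.subgroupOf (graphPerms (r3Graph ↥G Ω)) := by
        rw [Subgroup.mul_mem_iff_of_index_two hidx]
        constructor
        · intro h
          have h5 : σ⁻¹ ∈ G := Subgroup.mem_subgroupOf.1 h
          exact absurd (inv_inv σ ▸ inv_mem h5) hσG
        · intro h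
          exact absurd (Subgroup.mem_subgroupOf.1 h) hπG
      exact Subgroup.mem_subgroupOf.1 h1
    refine ⟨⟨σ⁻¹ * π, hm⟩, ?_⟩
    apply MulEquiv.ext
    intro g
    apply Subtype.ext
    show (σ⁻¹ * π) * (g : Equiv.Perm Ω) * (σ⁻¹ * π)⁻¹
      = σ⁻¹ * ((φ g : ↥G) : Equiv.Perm Ω) * σ
    rw [hπ g]
    group

end PermOut

end Cfsg.Agent.Lib.helper9
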