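import Cfsg.Agent.Lib.helper9.HSSimple
import Cfsg.Agent.Lib.helper9.HSRank3b

/-!
The Higman–Sims group of the Leech lattice acts as a rank 3 group on 100 points with point
stabiliser `M₂₂` and suborbits of lengths 22 and 77; recognition of `Cfsg.Spor.HS` by such an
action.
-/

set_option autoImplicit false
open Cfsg
open Cfsg.Agent.Lib.helper93
open MulAction

namespace Cfsg.Agent.Lib.helper9

theorem mem_sporHS (g : Equiv.Perm ↥leechLattice) :
    g ∈ Spor.HS ↔ g ∈ Co0 ∧ g Spor.leechV = Spor.leechV ∧ g Spor.leechU' = Spor.leechU' := by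
  unfold Spor.HS Spor.Co3
  rw [Subgroup.mem_inf, Subgroup.mem_inf, mem_stabilizer_iff, mem_stabilizer_iff]
  exact and_assoc

theorem hsG_equiv_HS : Nonempty (↥hsG ≃* ↥Spor.HS) := by
  have hle : Spor.HS ≤ Co0 := fun g hg => ((mem_sporHS g).1 hg).1
  have hEq : hsG = Spor.HS.subgroupOf Co0 := by
    ext g
    rw [mem_hsG, Subgroup.mem_subgroupOf]
    show _ ↔ g.1 ∈ Spor.HS
    rw [mem_sporHS]
    constructor
    · rintro ⟨hV, hW⟩
      have hU' : g.1 Spor.leechU' = Spor.leechU' := by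
        unfold hsW at hW
        rw [co_map_neg, g.2.1, hV] at hW
        exact add_left_cancel (neg_injective hW)
      exact ⟨g.2, hV, hU'⟩
    · rintro ⟨-, hV, hU'⟩
      refine ⟨hV, ?_⟩
      unfold hsW
      rw [co_map_neg, g.2.1, hV, hU']
  exact ⟨(MulEquiv.subgroupCongr hEq).trans (Subgroup.subgroupOfEquivOfLe hle)⟩

theorem hs_orbit_ncard : (orbit ↥hsG hsX).ncard = 100 := by
  rw [hs_orbit]
  exact (HS_conf Spor.leechV hsW hsV_norm hsW_norm hs_dot).1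

theorem hs_orbit_finite : Finite ↥(orbit ↥hsG hsX) :=
  Set.finite_coe_iff.2 (Set.finite_of_ncard_ne_zero (by rw [hs_orbit_ncard]; norm_num))

/-- The base point of the 100 points. -/
def hsA : ↥(orbit ↥hsG hsX) := ⟨hsX, mem_orbit_self hsX⟩

theorem hs_stab_eq : stabilizer ↥hsG hsA = stabVUU.subgroupOf hsG := by
  ext t
  rw [mem_stabilizer_iff, Subgroup.mem_subgroupOf, ← hs_frame]
  constructor
  · intro h
    exact ⟨t.2, congrArg Subtype.val h⟩
  · rintro ⟨-, h⟩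
    exact Subtype.ext h

theorem hs_stab_equiv : Nonempty (↥(stabilizer ↥hsG hsA) ≃* ↥Spor.M22) := by
  have hle : stabVUU ≤ hsG := fun g hg => ((hs_frame g).2 hg).1
  exact ⟨(MulEquiv.subgroupCongr hs_stab_eq).trans
    ((Subgroup.subgroupOfEquivOfLe hle).trans stabVUU_equiv.some.symm)⟩

theorem hs_sub_orbit (P : ↥leechLattice → Prop)
    (hinv : ∀ g : ↥Co0, g.1 Spor.leechV = Spor.leechV → g.1 hsW = hsW → g.1 hsX = hsX →
      ∀ y, P y → P (g.1 y))
    (htr : ∀ y y', P y → P y' → ∃ g : ↥Co0, g.1 Spor.leechV = Spor.leechV ∧ g.1 hsW = hsW ∧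
      g.1 hsX = hsX ∧ g.1 y = y')
    (y : ↥(orbit ↥hsG hsX)) (hy : P y.1) :
    Subtype.val '' (orbit ↥(stabilizer ↥hsG hsA) y) = {z | P z} := by
  ext z
  constructor
  · rintro ⟨_, ⟨t, rfl⟩, rfl⟩
    have ht := (mem_hsG t.1.1).1 t.1.2
    have hX : t.1.1.1 hsX = hsX := congrArg Subtype.val (mem_stabilizer_iff.1 t.2)
    exact hinv t.1.1 ht.1 ht.2 hX y.1 hy
  · intro hz
    obtain ⟨g, hV, hW, hX, hgy⟩ := htr y.1 z hy hz
    have hmem : (⟨g, (mem_hsG g).2 ⟨hV, hW⟩⟩ : ↥hsG) ∈ stabilizer ↥hsG hsA :=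
      mem_stabilizer_iff.2 (Subtype.ext hX)
    exact ⟨(⟨⟨g, (mem_hsG g).2 ⟨hV, hW⟩⟩, hmem⟩ : ↥(stabilizer ↥hsG hsA)) • y, ⟨_, rfl⟩, hgy⟩

theorem hs_suborbits : ∃ b c : ↥(orbit ↥hsG hsX),
    (orbit ↥(stabilizer ↥hsG hsA) b).ncard = 22 ∧
      (orbit ↥(stabilizer ↥hsG hsA) c).ncard = 77 := by
  have hJ := J_conf Spor.leechV hsW hsX hsV_norm hsW_norm hs_dot hsX_phi
  have hxx : dotInt (hsX : GolayPt → ℤ) (hsX : GolayPt → ℤ) = 32 := by
    rw [dot_self_eq]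
    exact hsX_phi.1
  have hne8 : ∀ y, PhiJ8 (Spor.leechV, hsW, hsX) y → y ≠ hsX := by
    rintro y h rfl
    have h8 : dotInt (hsX : GolayPt → ℤ) (hsX : GolayPt → ℤ) = 8 := h.2
    rw [hxx] at h8
    norm_num at h8
  have hact : ∀ g : ↥Co0, g.1 Spor.leechV = Spor.leechV → g.1 hsW = hsW → g.1 hsX = hsX →
      act3 g (Spor.leechV, hsW, hsX) = (Spor.leechV, hsW, hsX) := by
    intro g h1 h2 h3
    show (g.1 Spor.leechV, g.1 hsW, g.1 hsX) = _
    rw [h1, h2, h3]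
  obtain ⟨y8, hy8⟩ : ∃ y, PhiJ8 (Spor.leechV, hsW, hsX) y := by
    have h1 : {y | PhiJ8 (Spor.leechV, hsW, hsX) y}.Nonempty := by
      rw [← Set.ncard_pos (Set.finite_of_ncard_ne_zero (by rw [hJ.1]; norm_num)), hJ.1]
      norm_num
    exact h1
  obtain ⟨y16, hy16⟩ : ∃ y, PhiJ16 (Spor.leechV, hsW, hsX) y := by
    have h1 : {y | PhiJ16 (Spor.leechV, hsW, hsX) y}.Nonempty := by
      rw [← Set.ncard_pos (Set.finite_of_ncard_ne_zero (by rw [hJ.2.1]; norm_num)), hJ.2.1]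
      norm_num
    exact h1
  have hm8 : y8 ∈ orbit ↥hsG hsX := by
    rw [hs_orbit]
    exact hy8.1
  have hm16 : y16 ∈ orbit ↥hsG hsX := by
    rw [hs_orbit]
    exact hy16.1
  refine ⟨⟨y8, hm8⟩, ⟨y16, hm16⟩, ?_, ?_⟩
  · rw [← Set.ncard_image_of_injective _ Subtype.val_injective,
      hs_sub_orbit (fun y => PhiJ8 (Spor.leechV, hsW, hsX) y) ?_ ?_ ⟨y8, hm8⟩ hy8]
    · exact hJ.1
    · intro g h1 h2 h3 y hy
      have h4 := PhiJ8_inv g _ y hy
      rw [hact g h1 h2 h3] at h4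
      exact h4
    · intro y y' hy hy'
      exact hJ.2.2 y y' ⟨hy.1, hy'.1, hne8 y hy, hne8 y' hy', ⟨fun _ => hy'.2, fun _ => hy.2⟩⟩
  · rw [← Set.ncard_image_of_injective _ Subtype.val_injective,
      hs_sub_orbit (fun y => PhiJ16 (Spor.leechV, hsW, hsX) y) ?_ ?_ ⟨y16, hm16⟩ hy16]
    · exact hJ.2.1
    · intro g h1 h2 h3 y hy
      have h4 := PhiJ16_inv g _ y hy
      rw [hact g h1 h2 h3] at h4
      exact h4
    · intro y y' hy hy'
      exact hJ.2.2 y y' ⟨hy.1, hy'.1, hy.2.1, hy'.2.1,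
        ⟨fun h => absurd h hy.2.2, fun h => absurd h hy'.2.2⟩⟩

theorem hs_faithful : FaithfulSMul ↥hsG ↥(orbit ↥hsG hsX) := by
  have hs : IsSimpleGroup ↥hsG := hsG_isHS.1
  have hfin := hs_orbit_finite
  have hker := (MulAction.toPermHom ↥hsG ↥(orbit ↥hsG hsX)).normal_ker
  rcases hker.eq_bot_or_eq_top with h | h
  · refine ⟨fun {g g'} hgg => ?_⟩
    have h1 : MulAction.toPermHom ↥hsG ↥(orbit ↥hsG hsX) g
        = MulAction.toPermHom ↥hsG ↥(orbit ↥hsG hsX) g' := Equiv.ext hgg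
    exact (MonoidHom.ker_eq_bot_iff _).1 h h1
  · exfalso
    have hc : Nat.card ↥(orbit ↥hsG hsX) = 100 := by
      rw [Nat.card_coe_set_eq]
      exact hs_orbit_ncard
    have hsub : Subsingleton ↥(orbit ↥hsG hsX) := by
      refine ⟨fun x y => ?_⟩
      obtain ⟨g, rfl⟩ := MulAction.exists_smul_eq ↥hsG x y
      have hg : g ∈ (MulAction.toPermHom ↥hsG ↥(orbit ↥hsG hsX)).ker := by
        rw [h]
        exact Subgroup.mem_top g
      have h2 := congrArg (fun σ : Equiv.Perm ↥(orbit ↥hsG hsX) => σ x) (MonoidHom.mem_ker.1 hg)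
      exact h2.symm
    have h3 := Finite.card_le_one_iff_subsingleton.2 hsub
    omega

/-- Recognition of the Higman–Sims group as a rank 3 permutation group. -/
theorem isoHS_of_rank3 {Ω : Type*} [Fintype Ω] [DecidableEq Ω] (hΩ : Fintype.card Ω = 100)
    (G : Subgroup (Equiv.Perm Ω)) [MulAction.IsPretransitive G Ω] (a : Ω)
    (e : MulAction.stabilizer G a ≃* Cfsg.Spor.M22) (b c : Ω)
    (hb : (MulAction.orbit (MulAction.stabilizer G a) b).ncard = 22)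
    (hc : (MulAction.orbit (MulAction.stabilizer G a) c).ncard = 77) : Cfsg.Spor.IsoHS G := by
  classical
  have hfin := hs_orbit_finite
  have hft : Fintype ↥(orbit ↥hsG hsX) := Fintype.ofFinite _
  have hfC := finite_Co0
  have hfaith := hs_faithful
  obtain ⟨e'⟩ := hs_stab_equiv
  obtain ⟨b', c', hb', hc'⟩ := hs_suborbits
  have hX' : Fintype.card ↥(orbit ↥hsG hsX) = 100 := by
    rw [← Nat.card_eq_fintype_card, Nat.card_coe_set_eq]
    exact hs_orbit_ncard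
  obtain ⟨φ⟩ := r3_unique hΩ a e b c hb hc hX' hsA e' b' c' hb' hc'
  obtain ⟨ψ⟩ := hsG_equiv_HS
  exact ⟨φ.trans ψ⟩

end Cfsg.Agent.Lib.helper9
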