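import Mathlib
import Cfsg.Agent.Lib.helper9.HSOut
import Cfsg.Agent.Lib.helper9.HSRank3c

/-!
The outer automorphism group of the Higman–Sims group has order 2.
-/

set_option autoImplicit false
open Cfsg
open Cfsg.Agent.Lib.helper93
open MulAction

namespace Cfsg.Agent.Lib.helper9

/-- Point stabilisers correspond under an equivariant isomorphism of groups. -/
def stabEquivOfSMulEq {T S : Type*} [Group T] [Group S] {X : Type*} [MulAction T X]
    [MulAction S X] (ρ : T ≃* S) (h : ∀ (t : T) (x : X), ρ t • x = t • x) (a : X) :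
    ↥(stabilizer T a) ≃* ↥(stabilizer S a) where
  toFun t := ⟨ρ t, by
    rw [mem_stabilizer_iff, h]
    exact t.2⟩
  invFun s := ⟨ρ.symm s, by
    rw [mem_stabilizer_iff, ← h, ρ.apply_symm_apply]
    exact s.2⟩
  left_inv t := Subtype.ext (ρ.symm_apply_apply (t : T))
  right_inv s := Subtype.ext (ρ.apply_symm_apply (s : S))
  map_mul' t t' := Subtype.ext (map_mul ρ (t : T) (t' : T))

theorem orbit_stab_of_smul_eq {T S : Type*} [Group T] [Group S] {X : Type*} [MulAction T X]
    [MulAction S X] (ρ : T ≃* S) (h : ∀ (t : T) (x : X), ρ t • x = t • x) (a b : X) :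
    orbit ↥(stabilizer S a) b = orbit ↥(stabilizer T a) b := by
  ext x
  constructor
  · rintro ⟨s, rfl⟩
    refine ⟨(stabEquivOfSMulEq ρ h a).symm s, ?_⟩
    show (ρ.symm (s : S)) • b = (s : S) • b
    rw [← h, ρ.apply_symm_apply]
  · rintro ⟨t, rfl⟩
    refine ⟨stabEquivOfSMulEq ρ h a t, ?_⟩
    show ρ (t : T) • b = (t : T) • b
    rw [h]

/-- Transfer of rank 3 data along an equivariant isomorphism. -/
theorem r3_data_transfer {T S : Type*} [Group T] [Group S] {X : Type*} [MulAction T X]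
    [MulAction S X] (ρ : T ≃* S) (h : ∀ (t : T) (x : X), ρ t • x = t • x) {a : X}
    (D : R3Data T X a) : Nonempty (R3Data S X a) :=
  ⟨{ e := (stabEquivOfSMulEq ρ h a).symm.trans D.e
     b := D.b
     c := D.c
     hb := by
      rw [orbit_stab_of_smul_eq ρ h a D.b]
      exact D.hb
     hc := by
      rw [orbit_stab_of_smul_eq ρ h a D.c]
      exact D.hc }⟩

/-- The outer automorphism group of the Higman–Sims group has order 2. -/
theorem card_out_sporHS : Nat.card (Out ↥Spor.HS) = 2 := by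
  classical
  have hfin := hs_orbit_finite
  have hft : Fintype ↥(orbit ↥hsG hsX) := Fintype.ofFinite _
  have hfC := finite_Co0
  have hfaith := hs_faithful
  obtain ⟨e'⟩ := hs_stab_equiv
  obtain ⟨b', c', hb', hc'⟩ := hs_suborbits
  have hX' : Fintype.card ↥(orbit ↥hsG hsX) = 100 := by
    rw [← Nat.card_eq_fintype_card, Nat.card_coe_set_eq]
    exact hs_orbit_ncard
  have D : R3Data ↥hsG ↥(orbit ↥hsG hsX) hsA := ⟨e', b', c', hb', hc'⟩
  have hinj : Function.Injective (MulAction.toPermHom ↥hsG ↥(orbit ↥hsG hsX)) :=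
    MulAction.toPerm_injective
  let ρ : ↥hsG ≃* ↥(MulAction.toPermHom ↥hsG ↥(orbit ↥hsG hsX)).range :=
    MonoidHom.ofInjective hinj
  have hρ : ∀ (t : ↥hsG) (x : ↥(orbit ↥hsG hsX)), ρ t • x = t • x := fun t x => rfl
  have : IsPretransitive ↥(MulAction.toPermHom ↥hsG ↥(orbit ↥hsG hsX)).range
      ↥(orbit ↥hsG hsX) :=
    ⟨fun x y => by
      obtain ⟨t, ht⟩ := exists_smul_eq ↥hsG x y
      exact ⟨ρ t, ht⟩⟩
  obtain ⟨D'⟩ := r3_data_transfer ρ hρ D
  have h2 := r3_card_out (MulAction.toPermHom ↥hsG ↥(orbit ↥hsG hsX)).range hX' D'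
  obtain ⟨ψ⟩ := hsG_equiv_HS
  rw [← card_out_congr ψ, card_out_congr ρ]
  exact h2

end Cfsg.Agent.Lib.helper9
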