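import Cfsg.Agent.Lib.helper9.McLFus
import Cfsg.Agent.Lib.helper9.M24Simple
import Cfsg.Agent.Lib.helper33.M22Aut

/-!
The joint stabiliser in `Cfsg.Co0` of the three vectors `(-5, -1²³)`, `(4, 4, 0²²)` and
`(4, -4, 0²²)` consists of the coordinate permutations from `M₂₂`; it is simple of order 443520.
-/

set_option autoImplicit false
open Cfsg
open Cfsg.Agent.Lib.helper93

namespace Cfsg.Agent.Lib.helper9

/-- The group `M₂₂` of the Prelude is simple. -/
theorem sporM22_simple : IsSimpleGroup ↥Spor.M22 := by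
  have h := m22_simple none (some 0) (by decide)
  have e : MulAction.stabilizer M24 (none : GolayPt) ⊓ MulAction.stabilizer M24 (some 0 : GolayPt) =
      Spor.M22.subgroupOf M24 := by
    ext k
    simp only [Subgroup.mem_inf, Subgroup.mem_subgroupOf, MulAction.mem_stabilizer_iff, Spor.M22,
      Spor.M23]
    constructor
    · rintro ⟨hp, hq⟩
      exact ⟨⟨k.2, hp⟩, hq⟩
    · rintro ⟨⟨-, hp⟩, hq⟩
      exact ⟨hp, hq⟩
  rw [e] at h
  exact (Subgroup.subgroupOfEquivOfLe M22_le_M24).symm.isSimpleGroup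

/-- The joint stabiliser of the three standard vectors. -/
def stabVUU : Subgroup ↥Co0 :=
  MulAction.stabilizer ↥Co0 Spor.leechV ⊓ MulAction.stabilizer ↥Co0 Spor.leechU ⊓
    MulAction.stabilizer ↥Co0 Spor.leechU'

theorem mem_stabVUU (g : ↥Co0) : g ∈ stabVUU ↔
    g.1 Spor.leechV = Spor.leechV ∧ g.1 Spor.leechU = Spor.leechU ∧
      g.1 Spor.leechU' = Spor.leechU' := by
  unfold stabVUU
  rw [Subgroup.mem_inf, Subgroup.mem_inf, MulAction.mem_stabilizer_iff,
    MulAction.mem_stabilizer_iff, MulAction.mem_stabilizer_iff, and_assoc]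
  rfl

theorem leechU_add_U' : Spor.leechU + Spor.leechU' = E none := by
  apply Subtype.ext
  funext i
  show Spor.vecU i + Spor.vecU' i = (E none : ↥leechLattice).1 i
  rw [E_apply]
  unfold Spor.vecU Spor.vecU'
  by_cases h1 : i = none
  · simp [h1]
  · by_cases h2 : i = some 0
    · simp [h2]
    · simp [h1, h2]

theorem permLeech_fix_U' (σ : ↥M24) (h : σ.1 none = none) (h0 : σ.1 (some 0) = some 0) :
    permLeech σ Spor.leechU' = Spor.leechU' := by
  have h1 : permLeech σ (Spor.leechU + Spor.leechU') = Spor.leechU + Spor.leechU' := by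
    rw [leechU_add_U', permLeech_E, h]
  have h2 := (permLeech_mem_Co0 σ).1 Spor.leechU Spor.leechU'
  rw [h2, permLeech_fix_U σ h h0] at h1
  exact add_left_cancel h1

/-- The coordinate permutations from `M₂₂`, as automorphisms of the lattice. -/
noncomputable def m22ToCo : ↥Spor.M22 →* ↥Co0 :=
  (permLeech.comp (Subgroup.inclusion M22_le_M24)).codRestrict Co0
    (fun _ => permLeech_mem_Co0 _)

theorem m22ToCo_val (σ : ↥Spor.M22) :
    (m22ToCo σ).1 = permLeech ⟨σ.1, M22_le_M24 σ.2⟩ := rfl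

theorem m22ToCo_mem (σ : ↥Spor.M22) : m22ToCo σ ∈ stabVUU := by
  rw [mem_stabVUU, m22ToCo_val]
  exact ⟨permLeech_fix_V _ (M22_none σ.2), permLeech_fix_U _ (M22_none σ.2) (M22_zero σ.2),
    permLeech_fix_U' _ (M22_none σ.2) (M22_zero σ.2)⟩

theorem m22ToCo_injective : Function.Injective m22ToCo := by
  intro a b h
  have h1 : permLeech ⟨a.1, M22_le_M24 a.2⟩ = permLeech ⟨b.1, M22_le_M24 b.2⟩ := by
    rw [← m22ToCo_val, ← m22ToCo_val, h]
  have h2 := permLeech_injective h1
  exact Subtype.ext (congrArg (fun t : ↥M24 => t.1) h2)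

theorem m22ToCo_surj (g : ↥Co0) (hg : g ∈ stabVUU) : ∃ σ : ↥Spor.M22, m22ToCo σ = g := by
  obtain ⟨hV, hU, hU'⟩ := (mem_stabVUU g).1 hg
  have hMcL : g.1 ∈ Spor.McL :=
    Subgroup.mem_inf.2 ⟨Subgroup.mem_inf.2 ⟨g.2, MulAction.mem_stabilizer_iff.2 hV⟩,
      MulAction.mem_stabilizer_iff.2 hU⟩
  have hE : g.1 (E none) = E none := by
    rw [← leechU_add_U', g.2.1, hU, hU']
  obtain ⟨σ, hσ, hσg⟩ := mcl_monomial g.1 hMcL hE
  refine ⟨⟨σ.1, hσ⟩, ?_⟩
  apply Subtype.ext
  rw [m22ToCo_val]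
  exact hσg

/-- The stabiliser of the three standard vectors is isomorphic to `M₂₂`. -/
theorem stabVUU_equiv : Nonempty (↥Spor.M22 ≃* ↥stabVUU) := by
  let f : ↥Spor.M22 →* ↥stabVUU := m22ToCo.codRestrict stabVUU m22ToCo_mem
  have hf : Function.Bijective f := by
    constructor
    · intro a b h
      exact m22ToCo_injective (congrArg Subtype.val h)
    · rintro ⟨g, hg⟩
      obtain ⟨σ, hσ⟩ := m22ToCo_surj g hg
      exact ⟨σ, Subtype.ext hσ⟩
  exact ⟨MulEquiv.ofBijective f hf⟩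

theorem stabVUU_simple : IsSimpleGroup ↥stabVUU := by
  obtain ⟨e⟩ := stabVUU_equiv
  have := sporM22_simple
  exact e.symm.isSimpleGroup

theorem stabVUU_card : Nat.card ↥stabVUU = 443520 := by
  obtain ⟨e⟩ := stabVUU_equiv
  rw [← Nat.card_congr e.toEquiv]
  exact Cfsg.Agent.Lib.helper33.card_M22

/-- A point stabiliser which is the stabiliser of the three standard vectors is simple of
order 443520. -/
theorem stab_frame_simple (G0 : Subgroup ↥Co0) (x0 : ↥leechLattice)
    (h : ∀ g : ↥Co0, (g ∈ G0 ∧ g.1 x0 = x0) ↔ g ∈ stabVUU) :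
    IsSimpleGroup ↥(MulAction.stabilizer ↥G0 x0) ∧
      Nat.card ↥(MulAction.stabilizer ↥G0 x0) = 443520 := by
  have hle : stabVUU ≤ G0 := fun g hg => ((h g).2 hg).1
  have e : MulAction.stabilizer ↥G0 x0 = stabVUU.subgroupOf G0 := by
    ext g
    rw [Subgroup.mem_subgroupOf, MulAction.mem_stabilizer_iff, ← h]
    constructor
    · intro hx
      exact ⟨g.2, hx⟩
    · rintro ⟨-, hx⟩
      exact hx
  rw [e]
  have := stabVUU_simple
  exact ⟨(Subgroup.subgroupOfEquivOfLe hle).isSimpleGroup,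
    (Nat.card_congr (Subgroup.subgroupOfEquivOfLe hle).toEquiv).trans stabVUU_card⟩

end Cfsg.Agent.Lib.helper9
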