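import Cfsg.Agent.Lib.helper9.SimpleCrit
import Cfsg.Agent.Lib.helper9.M22Stab
import Cfsg.Agent.Lib.helper9.Co0Fin
import Cfsg.Agent.Lib.helper93.Co0HS

/-!
The joint stabiliser in `Cfsg.Co0` of two vectors of norm 48 with inner product `-32` is simple of
order 44352000 (the Higman–Sims group).
-/

set_option autoImplicit false
open Cfsg
open Cfsg.Agent.Lib.helper93

namespace Cfsg.Agent.Lib.helper9

/-- The second vector of the standard Higman–Sims frame: `(1, 5, 1²²)`. -/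
def hsW : ↥leechLattice := -(Spor.leechV + Spor.leechU')

/-- The base point of the standard Higman–Sims frame: `(-4, -4, 0²²)`. -/
def hsX : ↥leechLattice := -Spor.leechU

theorem hsV_norm : sqNorm (Spor.leechV : GolayPt → ℤ) = 48 := by
  show sqNorm Spor.vecV = 48
  decide +kernel

theorem hsW_norm : sqNorm (hsW : GolayPt → ℤ) = 48 := by
  show sqNorm (-(Spor.vecV + Spor.vecU')) = 48
  decide +kernel

theorem hs_dot : dotInt (Spor.leechV : GolayPt → ℤ) (hsW : GolayPt → ℤ) = -32 := by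
  show dotInt Spor.vecV (-(Spor.vecV + Spor.vecU')) = -32
  decide +kernel

theorem hsX_phi : Phi100 (Spor.leechV, hsW) hsX := by
  refine ⟨?_, ?_, ?_⟩
  · show sqNorm (-Spor.vecU) = 32
    decide +kernel
  · show dotInt Spor.vecV (-Spor.vecU) = 24
    decide +kernel
  · show dotInt (-(Spor.vecV + Spor.vecU')) (-Spor.vecU) = -24
    decide +kernel

/-- The Higman–Sims group of the standard frame. -/
def hsG : Subgroup ↥Co0 :=
  MulAction.stabilizer ↥Co0 Spor.leechV ⊓ MulAction.stabilizer ↥Co0 hsW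

theorem mem_hsG (g : ↥Co0) : g ∈ hsG ↔ g.1 Spor.leechV = Spor.leechV ∧ g.1 hsW = hsW := by
  unfold hsG
  rw [Subgroup.mem_inf, MulAction.mem_stabilizer_iff, MulAction.mem_stabilizer_iff]
  rfl

theorem hs_frame (g : ↥Co0) : (g ∈ hsG ∧ g.1 hsX = hsX) ↔ g ∈ stabVUU := by
  rw [mem_hsG, mem_stabVUU]
  constructor
  · rintro ⟨⟨hV, hW⟩, hX⟩
    have hU : g.1 Spor.leechU = Spor.leechU := by
      unfold hsX at hX
      rw [co_map_neg] at hX
      exact neg_injective hX
    have hU' : g.1 Spor.leechU' = Spor.leechU' := by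
      unfold hsW at hW
      rw [co_map_neg, g.2.1, hV] at hW
      exact add_left_cancel (neg_injective hW)
    exact ⟨hV, hU, hU'⟩
  · rintro ⟨hV, hU, hU'⟩
    refine ⟨⟨hV, ?_⟩, ?_⟩
    · unfold hsW
      rw [co_map_neg, g.2.1, hV, hU']
    · unfold hsX
      rw [co_map_neg, hU]

theorem hs_orbit : MulAction.orbit ↥hsG hsX = {x | Phi100 (Spor.leechV, hsW) x} := by
  ext y
  constructor
  · rintro ⟨g, rfl⟩
    have h1 := Phi100_inv g.1 (Spor.leechV, hsW) hsX hsX_phi
    have h2 : act2 g.1 (Spor.leechV, hsW) = (Spor.leechV, hsW) := by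
      obtain ⟨a, b⟩ := (mem_hsG g.1).1 g.2
      unfold act2
      rw [a, b]
    rw [h2] at h1
    exact h1
  · intro hy
    obtain ⟨g, hgV, hgW, hgX⟩ :=
      (HS_conf Spor.leechV hsW hsV_norm hsW_norm hs_dot).2 hsX y hsX_phi hy
    exact ⟨⟨g, (mem_hsG g).2 ⟨hgV, hgW⟩⟩, hgX⟩

theorem hs_arith : ∀ J : Finset (Fin 2), (1 + ∑ i ∈ J, ![22, 77] i) ∣ 100 →
    J = ∅ ∨ J = Finset.univ := by decide

theorem hs_sylow_arith : ∀ d, d ∣ 100 → ¬ 5 ∣ d → d ≡ 1 [MOD 5] → d = 1 := by
  intro d hd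
  have hle : d ≤ 100 := Nat.le_of_dvd (by norm_num) hd
  revert hd
  revert d
  decide

/-- The Higman–Sims group of the standard frame is simple of order 44352000. -/
theorem hsG_isHS : IsHS ↥hsG := by
  have : Finite ↥Co0 := finite_Co0
  have hfr := stab_frame_simple hsG hsX hs_frame
  have hconf := HS_conf Spor.leechV hsW hsV_norm hsW_norm hs_dot
  have hJ := J_conf Spor.leechV hsW hsX hsV_norm hsW_norm hs_dot hsX_phi
  have horb : (MulAction.orbit ↥hsG hsX).ncard = 100 := by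
    rw [hs_orbit]
    exact hconf.1
  have hidx : (MulAction.stabilizer ↥hsG hsX).index = 100 := by
    rw [MulAction.index_stabilizer]
    exact horb
  have hxx : dotInt (hsX : GolayPt → ℤ) (hsX : GolayPt → ℤ) = 32 := by
    rw [dot_self_eq]
    exact hsX_phi.1
  -- the two classes
  let A : Fin 2 → Set ↥leechLattice :=
    ![{y | PhiJ8 (Spor.leechV, hsW, hsX) y}, {y | PhiJ16 (Spor.leechV, hsW, hsX) y}]
  have hA0 : A 0 = {y | PhiJ8 (Spor.leechV, hsW, hsX) y} := rfl
  have hA1 : A 1 = {y | PhiJ16 (Spor.leechV, hsW, hsX) y} := rfl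
  have htr : ∀ y y', PsiJ (Spor.leechV, hsW, hsX) y y' →
      ∃ h ∈ MulAction.stabilizer ↥hsG hsX, h • y = y' := by
    intro y y' hyy
    obtain ⟨g, hgV, hgW, hgX, hgy⟩ := hJ.2.2 y y' hyy
    exact ⟨⟨g, (mem_hsG g).2 ⟨hgV, hgW⟩⟩, MulAction.mem_stabilizer_iff.2 hgX, hgy⟩
  have hmax : ∀ K : Subgroup ↥hsG, MulAction.stabilizer ↥hsG hsX ≤ K →
      K = MulAction.stabilizer ↥hsG hsX ∨ K = ⊤ := by
    apply max_of_classes hsX A ![22, 77] 100 horb
    · intro y hy hne
      rw [hs_orbit] at hy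
      by_cases hd : dotInt (hsX : GolayPt → ℤ) (y : GolayPt → ℤ) = 8
      · exact ⟨0, ⟨hy, hd⟩⟩
      · exact ⟨1, ⟨hy, hne, hd⟩⟩
    · intro i y hy
      rw [hs_orbit]
      fin_cases i
      · have hy' : PhiJ8 (Spor.leechV, hsW, hsX) y := hy
        refine ⟨hy'.1, ?_⟩
        rintro rfl
        have h8 : dotInt (hsX : GolayPt → ℤ) (hsX : GolayPt → ℤ) = 8 := hy'.2
        rw [hxx] at h8
        norm_num at h8
      · have hy' : PhiJ16 (Spor.leechV, hsW, hsX) y := hy
        exact ⟨hy'.1, hy'.2.1⟩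
    · intro i j hij
      rw [Set.disjoint_left]
      intro y hyi hyj
      fin_cases i <;> fin_cases j
      · exact hij rfl
      · have h1 : PhiJ8 (Spor.leechV, hsW, hsX) y := hyi
        have h2 : PhiJ16 (Spor.leechV, hsW, hsX) y := hyj
        exact h2.2.2 h1.2
      · have h1 : PhiJ16 (Spor.leechV, hsW, hsX) y := hyi
        have h2 : PhiJ8 (Spor.leechV, hsW, hsX) y := hyj
        exact h1.2.2 h2.2
      · exact hij rfl
    · intro i
      fin_cases i
      · exact hJ.1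
      · exact hJ.2.1
    · intro i y hy y' hy'
      fin_cases i
      · have h1 : PhiJ8 (Spor.leechV, hsW, hsX) y := hy
        have h2 : PhiJ8 (Spor.leechV, hsW, hsX) y' := hy'
        have n1 : y ≠ hsX := by
          rintro rfl
          have h8 : dotInt (hsX : GolayPt → ℤ) (hsX : GolayPt → ℤ) = 8 := h1.2
          rw [hxx] at h8
          norm_num at h8
        have n2 : y' ≠ hsX := by
          rintro rfl
          have h8 : dotInt (hsX : GolayPt → ℤ) (hsX : GolayPt → ℤ) = 8 := h2.2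
          rw [hxx] at h8
          norm_num at h8
        exact htr y y' ⟨h1.1, h2.1, n1, n2, ⟨fun _ => h2.2, fun _ => h1.2⟩⟩
      · have h1 : PhiJ16 (Spor.leechV, hsW, hsX) y := hy
        have h2 : PhiJ16 (Spor.leechV, hsW, hsX) y' := hy'
        exact htr y y' ⟨h1.1, h2.1, h1.2.1, h2.2.1,
          ⟨fun h => absurd h h1.2.2, fun h => absurd h h2.2.2⟩⟩
    · exact hs_arith
  -- the stabiliser moves a point
  have hnn : ¬ (MulAction.stabilizer ↥hsG hsX).Normal := by
    have h22 : 1 < {y | PhiJ8 (Spor.leechV, hsW, hsX) y}.ncard := by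
      rw [hJ.1]
      norm_num
    obtain ⟨y, y', hy, hy', hne⟩ := (Set.one_lt_ncard_iff
      (Set.finite_of_ncard_ne_zero (by rw [hJ.1]; norm_num))).1 h22
    have h1 : PhiJ8 (Spor.leechV, hsW, hsX) y := hy
    have h2 : PhiJ8 (Spor.leechV, hsW, hsX) y' := hy'
    have n1 : y ≠ hsX := by
      rintro rfl
      have h8 : dotInt (hsX : GolayPt → ℤ) (hsX : GolayPt → ℤ) = 8 := h1.2
      rw [hxx] at h8
      norm_num at h8
    have n2 : y' ≠ hsX := by
      rintro rfl
      have h8 : dotInt (hsX : GolayPt → ℤ) (hsX : GolayPt → ℤ) = 8 := h2.2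
      rw [hxx] at h8
      norm_num at h8
    refine stab_not_normal hsX y y' ?_ hne
      (htr y y' ⟨h1.1, h2.1, n1, n2, ⟨fun _ => h2.2, fun _ => h1.2⟩⟩)
    rw [hs_orbit]
    exact h1.1
  have hreg := no_regular_sylow (MulAction.stabilizer ↥hsG hsX) hmax 5 (hp := ⟨by norm_num⟩)
    (by rw [hidx]; norm_num) 2 Nat.prime_two (by norm_num) (by rw [hidx]; norm_num)
    (by rw [hidx]; exact hs_sylow_arith)
  refine ⟨simple_of_max_simple (MulAction.stabilizer ↥hsG hsX) hfr.1 hmax hnn hreg, ?_⟩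
  have hc := Subgroup.card_mul_index (MulAction.stabilizer ↥hsG hsX)
  rw [hfr.2, hidx] at hc
  rw [← hc]

/-- The joint stabiliser of two vectors of norm 48 with inner product `-32` is simple of order
44352000. -/
theorem isHS_of_pair (v w : ↥leechLattice) (hv : sqNorm (v : GolayPt → ℤ) = 48)
    (hw : sqNorm (w : GolayPt → ℤ) = 48)
    (hvw : dotInt (v : GolayPt → ℤ) (w : GolayPt → ℤ) = -32) :
    IsHS ↥(MulAction.stabilizer ↥Co0 v ⊓ MulAction.stabilizer ↥Co0 w) := by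
  obtain ⟨h1, hh1⟩ := hs_pair_to_base Spor.leechV hsW hsV_norm hsW_norm hs_dot
  obtain ⟨h2, hh2⟩ := hs_pair_to_base v w hv hw hvw
  have e1 := Prod.ext_iff.1 hh1
  have e2 := Prod.ext_iff.1 hh2
  have a1 : h1.1 cH.1 = Spor.leechV := e1.1
  have a2 : h1.1 cH.2 = hsW := e1.2
  have b1 : h2.1 cH.1 = v := e2.1
  have b2 : h2.1 cH.2 = w := e2.2
  have c1 : (h2 * h1⁻¹) • Spor.leechV = v := by
    show h2.1 ((h1⁻¹ : ↥Co0).1 Spor.leechV) = v
    rw [← a1, Cfsg.Agent.Lib.helper93.co_inv_apply, b1]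
  have c2 : (h2 * h1⁻¹) • hsW = w := by
    show h2.1 ((h1⁻¹ : ↥Co0).1 hsW) = w
    rw [← a2, Cfsg.Agent.Lib.helper93.co_inv_apply, b2]
  obtain ⟨e⟩ := stab2_conj (h2 * h1⁻¹) Spor.leechV hsW
  rw [c1, c2] at e
  have hs := hsG_isHS
  have hsimp : IsSimpleGroup ↥(MulAction.stabilizer ↥Co0 Spor.leechV ⊓
      MulAction.stabilizer ↥Co0 hsW) := hs.1
  exact ⟨e.symm.isSimpleGroup, (Nat.card_congr e.symm.toEquiv).trans hs.2⟩

end Cfsg.Agent.Lib.helper9
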