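import Mathlib
import Cfsg.Agent.Lib.helper86.IvDefs

set_option autoImplicit false

namespace Cfsg.Agent.Lib.helper86.IV

/-- the restriction of an involutive automorphism to an invariant subgroup -/
def helper9_ivRes {G : Type*} [Group G] (α : MulAut G) (h2 : ∀ g, α (α g) = g)
    (N : Subgroup G) (hN : ∀ n ∈ N, α n ∈ N) : MulAut ↥N where
  toFun n := ⟨α n, hN n n.2⟩
  invFun n := ⟨α n, hN n n.2⟩
  left_inv n := Subtype.ext (h2 n)
  right_inv n := Subtype.ext (h2 n)
  map_mul' a b := Subtype.ext (map_mul α (a : G) (b : G))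

theorem helper9_ivRes_coe {G : Type*} [Group G] (α : MulAut G) (h2 : ∀ g, α (α g) = g)
    (N : Subgroup G) (hN : ∀ n ∈ N, α n ∈ N) (n : ↥N) :
    ((helper9_ivRes α h2 N hN n : ↥N) : G) = α (n : G) := rfl

/-- BFS core: BF (for the subgroup `↥N`) as a hypothesis. -/
theorem helper9_iv_bf_sub_core {G : Type*} [Group G] [Finite G] (α : MulAut G)
    (h2 : ∀ g, α (α g) = g) (N : Subgroup G) (hN : ∀ n ∈ N, α n ∈ N) (hne : ∃ n ∈ N, α n ≠ n)
    (hBF : ∀ β : MulAut ↥N, (∀ g, β (β g) = g) → (∃ g, β g ≠ g) →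
      ∃ g : ↥N, g ≠ 1 ∧
        (Subgroup.centralizer {g}).index ≤ 2 * (Nat.card {c : ↥N // β c = c}) ^ 2) :
    ∃ g ∈ N, g ≠ 1 ∧
      (Subgroup.centralizer {g}).relIndex N ≤ 2 * (Nat.card {c : N // α (c : G) = c}) ^ 2 := by
  classical
  obtain ⟨n₀, hn₀, hn₀α⟩ := hne
  have hβ2 : ∀ g, helper9_ivRes α h2 N hN (helper9_ivRes α h2 N hN g) = g :=
    fun g => Subtype.ext (h2 g)
  have hβne : ∃ g, helper9_ivRes α h2 N hN g ≠ g := by
    refine ⟨⟨n₀, hn₀⟩, ?_⟩
    intro hcon
    exact hn₀α (congrArg Subtype.val hcon)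
  obtain ⟨g, hg1, hg⟩ := hBF (helper9_ivRes α h2 N hN) hβ2 hβne
  refine ⟨g, g.2, ?_, ?_⟩
  · intro hcon
    exact hg1 (Subtype.ext hcon)
  · have e1 : (Subgroup.centralizer {(g : G)}).subgroupOf N = Subgroup.centralizer {g} := by
      ext n
      rw [Subgroup.mem_subgroupOf, Subgroup.mem_centralizer_iff, Subgroup.mem_centralizer_iff]
      constructor
      · intro hh y hy
        rw [Set.mem_singleton_iff] at hy
        subst hy
        exact Subtype.ext (hh (y : G) rfl)
      · intro hh y hy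
        rw [Set.mem_singleton_iff] at hy
        subst hy
        exact congrArg Subtype.val (hh g rfl)
    have e2 : Nat.card {c : ↥N // helper9_ivRes α h2 N hN c = c} =
        Nat.card {c : N // α (c : G) = c} :=
      Nat.card_congr (Equiv.subtypeEquivRight (fun c => Subtype.ext_iff))
    unfold Subgroup.relIndex
    rw [e1, ← e2]
    exact hg

end Cfsg.Agent.Lib.helper86.IV
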