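import Mathlib
import Cfsg.Agent.Lib.helper86.IvDefs
import Cfsg.Agent.Lib.helper8.IvBF
import Cfsg.Agent.Lib.helper9.IvBFScore

set_option autoImplicit false

namespace Cfsg.Agent.Lib.helper86.IV

/-- BFS : BF for an `α`-invariant subgroup (uses BF on `↥N` with `α` restricted). -/
theorem iv_bf_sub {G : Type*} [Group G] [Finite G] (α : MulAut G) (h2 : ∀ g, α (α g) = g)
    (N : Subgroup G) (hN : ∀ n ∈ N, α n ∈ N) (hne : ∃ n ∈ N, α n ≠ n) :
    ∃ g ∈ N, g ≠ 1 ∧
      (Subgroup.centralizer {g}).relIndex N ≤ 2 * (Nat.card {c : N // α (c : G) = c}) ^ 2 := by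
  exact helper9_iv_bf_sub_core α h2 N hN hne (fun β hβ hne' => iv_bf β hβ hne')

end Cfsg.Agent.Lib.helper86.IV
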