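/-
A binary code of length 24 with at most 4096 words whose words of weight 8 form a Steiner system
S(5, 8, 24) is the image of the code `golayCode` under a permutation of the coordinates.
-/
import Mathlib
import Cfsg.Agent.Lib.helper9.LcDefs
import Cfsg.Agent.Lib.helper9.GolayThm
import Cfsg.Agent.S0407
import Cfsg.Agent.S0363

set_option autoImplicit false

namespace Cfsg.Agent.Lib.helper9

open Cfsg

theorem gB_weight : ∀ b ∈ gB, pc b = 8 := by decide

/-- The code is contained in every submodule containing its words of weight 8. -/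
theorem golayCode_le_of_octads (D : Submodule (ZMod 2) (GolayPt → ZMod 2))
    (h : ∀ g ∈ golayCode, (support₂ g).card = 8 → g ∈ D) : golayCode ≤ D := by
  have h1 : golayCode = spanL gB := golayCode_eq_spanL
  rw [h1]
  unfold spanL
  rw [Submodule.span_le]
  rintro w ⟨b, hb, rfl⟩
  apply h
  · rw [h1]; exact Submodule.subset_span ⟨b, hb, rfl⟩
  · rw [support₂_dec, card_decSet]; exact gB_weight b hb

theorem lc_code_iso (C : Submodule (ZMod 2) (GolayPt → ZMod 2))
    (hst : IsSteinerSystem 5 8 (wordsOfWeight (C : Set (GolayPt → ZMod 2)) 8))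
    (hcard : Nat.card C ≤ 4096) :
    ∃ π : Equiv.Perm GolayPt, ∀ s : GolayPt → ZMod 2,
      s ∈ golayCode ↔ (fun p => s (π p)) ∈ C := by
  have hc : Fintype.card GolayPt = 24 := by simp [GolayPt]
  obtain ⟨e, he⟩ := Cfsg.Agent.S0407.result hc hc hst Cfsg.Agent.S0363.result
  refine ⟨e, ?_⟩
  let φ : (GolayPt → ZMod 2) ≃ₗ[ZMod 2] (GolayPt → ZMod 2) :=
    LinearEquiv.funCongrLeft (ZMod 2) (ZMod 2) e
  let D : Submodule (ZMod 2) (GolayPt → ZMod 2) := C.comap φ.toLinearMap
  have hD : ∀ s, s ∈ D ↔ (fun p => s (e p)) ∈ C := fun s => Iff.rfl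
  have hle : golayCode ≤ D := by
    apply golayCode_le_of_octads
    intro g hg hg8
    have ho : support₂ g ∈ octads := ⟨⟨g, hg, rfl⟩, hg8⟩
    rw [← he] at ho
    obtain ⟨b, ⟨⟨t, ht, rfl⟩, -⟩, hbe⟩ := ho
    rw [hD]
    have hbe' : (support₂ t).image e = support₂ g := hbe
    have key : (fun p => g (e p)) = t := by
      funext p
      have h1 : e p ∈ support₂ g ↔ p ∈ support₂ t := by
        rw [← hbe']
        simp
      simp only [support₂, Finset.mem_filter, Finset.mem_univ, true_and] at h1
      by_cases hg0 : g (e p) = 0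
      · have : t p = 0 := by
          by_contra h
          exact (h1.mpr h) hg0
        rw [hg0, this]
      · have ht0 : t p ≠ 0 := h1.mp hg0
        have hg1 : g (e p) = 1 := zmod2_ne_zero.mp hg0
        rw [hg1, zmod2_ne_zero.mp ht0]
    rw [key]
    exact ht
  have hcardD : Nat.card D = Nat.card C :=
    Nat.card_congr (LinearEquiv.ofSubmodule' φ C).toEquiv
  have hset : (golayCode : Set (GolayPt → ZMod 2)) = (D : Set (GolayPt → ZMod 2)) := by
    apply Set.eq_of_subset_of_ncard_le hle _ (Set.toFinite _)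
    rw [← Nat.card_coe_set_eq, ← Nat.card_coe_set_eq]
    have h1 : Nat.card (golayCode : Set (GolayPt → ZMod 2)) = 4096 := natCard_golayCode
    have h2 : Nat.card (D : Set (GolayPt → ZMod 2)) = Nat.card D := rfl
    rw [h1, h2, hcardD]
    exact hcard
  intro s
  rw [← hD]
  exact Set.ext_iff.mp hset s

end Cfsg.Agent.Lib.helper9
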