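/-
Signed permutations of a frame: the new family is again a frame, the coordinates are permuted
with signs, and the code of the lattice is permuted.
-/
import Mathlib
import Cfsg.Agent.Lib.helper9.LcDefs

set_option autoImplicit false
open Matrix

namespace Cfsg.Agent.Lib.helper9

open Cfsg

theorem lc_frame_perm (B : Matrix (Fin 24) (Fin 24) ℤ) (v : GolayPt → Fin 24 → ℤ)
    (hv : LcFrame B v) (π : Equiv.Perm GolayPt) (ε : GolayPt → ℤ)
    (hε : ∀ p, ε p = 1 ∨ ε p = -1) : LcFrame B (fun p => ε p • v (π p)) := by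
  refine ⟨fun p q => ?_, fun p q k => ?_⟩
  · show (ε p • v (π p)) ⬝ᵥ (B *ᵥ (ε q • v (π q))) = _
    rw [mulVec_smul, smul_dotProduct, dotProduct_smul, hv.1 (π p) (π q)]
    by_cases hpq : p = q
    · subst hpq
      simp only [if_true, smul_eq_mul]
      rcases hε p with h | h <;> rw [h] <;> norm_num
    · have : π p ≠ π q := fun h => hpq (π.injective h)
      simp [hpq, this]
  · have h1 := hv.2 (π p) (π q) k
    simp only [Pi.sub_apply, Pi.smul_apply, smul_eq_mul] at h1 ⊢
    rcases hε p with hp | hp <;> rcases hε q with hq | hq <;> rw [hp, hq] <;> omega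

theorem lc_map_perm (B : Matrix (Fin 24) (Fin 24) ℤ) (v : GolayPt → Fin 24 → ℤ)
    (π : Equiv.Perm GolayPt) (ε : GolayPt → ℤ) (x : Fin 24 → ℤ) (p : GolayPt) :
    lcMap B (fun p => ε p • v (π p)) x p = ε p * lcMap B v x (π p) := by
  show x ⬝ᵥ (B *ᵥ (ε p • v (π p))) = ε p * (x ⬝ᵥ (B *ᵥ v (π p)))
  rw [mulVec_smul, dotProduct_smul, smul_eq_mul]

theorem lc_cast_sign (e a : ℤ) (he : e = 1 ∨ e = -1) : ((e * a : ℤ) : ZMod 2) = (a : ZMod 2) := by
  rcases he with h | h
  · rw [h, one_mul]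
  · rw [h]
    push_cast
    have : (-1 : ZMod 2) = 1 := by decide
    rw [this, one_mul]

theorem lc_code_perm (L L' : AddSubgroup (GolayPt → ℤ)) (π : Equiv.Perm GolayPt)
    (ε : GolayPt → ℤ) (hε : ∀ p, ε p = 1 ∨ ε p = -1)
    (h : ∀ u : GolayPt → ℤ, u ∈ L' ↔ ∃ w ∈ L, u = fun p => ε p * w (π p))
    (s : GolayPt → ZMod 2) :
    s ∈ lcCode L' ↔ ∃ t ∈ lcCode L, s = fun p => t (π p) := by
  have hsq : ∀ p, ε p * ε p = 1 := by
    intro p
    rcases hε p with h | h <;> rw [h] <;> norm_num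
  constructor
  · rintro ⟨k, hk, rfl⟩
    obtain ⟨w, hw, hkw⟩ := (h _).mp hk
    -- w (π p) = ε p * 2 k p
    have hw2 : ∀ p, w (π p) = 2 * (ε p * k p) := by
      intro p
      have h1 := congrFun hkw p
      simp only [Pi.smul_apply, smul_eq_mul] at h1
      calc w (π p) = ε p * ε p * w (π p) := by rw [hsq, one_mul]
        _ = ε p * (ε p * w (π p)) := by ring
        _ = ε p * (2 * k p) := by rw [← h1]
        _ = 2 * (ε p * k p) := by ring
    refine ⟨fun q => ((ε (π.symm q) * k (π.symm q) : ℤ) : ZMod 2), ⟨fun q => ε (π.symm q) * k (π.symm q), ?_, rfl⟩, ?_⟩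
    · have : (2 : ℤ) • (fun q => ε (π.symm q) * k (π.symm q)) = w := by
        funext q
        have h2 := hw2 (π.symm q)
        simp only [Equiv.apply_symm_apply] at h2
        simp only [Pi.smul_apply, smul_eq_mul]
        rw [h2]
      rw [this]
      exact hw
    · funext p
      simp only [Equiv.symm_apply_apply]
      exact (lc_cast_sign _ _ (hε p)).symm
  · rintro ⟨t, ⟨k, hk, rfl⟩, rfl⟩
    refine ⟨fun p => ε p * k (π p), ?_, ?_⟩
    · rw [h]
      refine ⟨_, hk, ?_⟩
      funext p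
      simp only [Pi.smul_apply, smul_eq_mul]
      ring
    · funext p
      exact (lc_cast_sign _ _ (hε p)).symm

end Cfsg.Agent.Lib.helper9
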