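/-
Characterisation of the rank-24 lattice (statement S0406): assembly of the pieces.
-/
import Mathlib
import Cfsg.Agent.Lib.helper9.LcDefs
import Cfsg.Agent.Lib.helper9.LcIso
import Cfsg.Agent.Lib.helper9.LcPerm
import Cfsg.Agent.Lib.helper19.LcA
import Cfsg.Agent.Lib.helper39.LcB
import Cfsg.Agent.Lib.helper19.LcC1
import Cfsg.Agent.Lib.helper95.LcC2
import Cfsg.Agent.Lib.helper32.LcD
import Cfsg.Agent.Lib.helper61.LcE
import Cfsg.Agent.Lib.helper95.LcF1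
import Cfsg.Agent.Lib.helper32.LcF2
import Cfsg.Agent.Lib.helper78.LcG
import Cfsg.Agent.Lib.helper32.LcH
import Cfsg.Agent.Lib.helper83.LcI
import Cfsg.Agent.Lib.helper78.LcJ
import Cfsg.Agent.Lib.helper95.LcK
import Cfsg.Agent.Lib.helper14.LcN0
import Cfsg.Agent.Lib.helper61.LcN1
import Cfsg.Agent.Lib.helper61.LcN2
import Cfsg.Agent.S1587
import Cfsg.Agent.S1588

set_option autoImplicit false
open Matrix

namespace Cfsg.Agent.Lib.helper9

open Cfsg

/-- A rank-24 even lattice without roots and with the stated numbers of vectors of norms 4, 6, 8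
is isomorphic to the lattice `leechLattice`. -/
theorem lc_main (B : Matrix (Fin 24) (Fin 24) ℤ) (hsymm : B.IsSymm)
    (hpos : ∀ x : Fin 24 → ℤ, x ≠ 0 → 0 < x ⬝ᵥ (B *ᵥ x))
    (heven : ∀ x : Fin 24 → ℤ, (2 : ℤ) ∣ x ⬝ᵥ (B *ᵥ x))
    (h2 : ∀ x : Fin 24 → ℤ, x ⬝ᵥ (B *ᵥ x) ≠ 2)
    (h4 : {x : Fin 24 → ℤ | x ⬝ᵥ (B *ᵥ x) = 4}.ncard = 196560)
    (h6 : {x : Fin 24 → ℤ | x ⬝ᵥ (B *ᵥ x) = 6}.ncard = 16773120)
    (h8 : {x : Fin 24 → ℤ | x ⬝ᵥ (B *ᵥ x) = 8}.ncard = 398034000) :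
    ∃ f : (Fin 24 → ℤ) ≃+ Cfsg.leechLattice, ∀ x : Fin 24 → ℤ,
      Cfsg.sqNorm ((f x : Cfsg.leechLattice) : Cfsg.GolayPt → ℤ) = 8 * (x ⬝ᵥ (B *ᵥ x)) := by
  have hne : {x : Fin 24 → ℤ | x ⬝ᵥ (B *ᵥ x) = 8}.Nonempty := by
    apply Set.nonempty_of_ncard_ne_zero
    rw [h8]; norm_num
  obtain ⟨x0, hx0⟩ := hne
  have h48 := Cfsg.Agent.S1588.result B hsymm hpos heven h2 h4 h6 h8 x0 hx0
  have h87 := fun x y hx hy hc => Cfsg.Agent.S1587.result B hsymm hpos heven h2 x y hx hy hc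
  obtain ⟨v0, hv0⟩ := helper19.lc_exists_frame B h87 x0 h48
  -- facts for any frame
  have hdot : ∀ v, LcFrame B v → ∀ x y : Fin 24 → ℤ,
      dotInt (lcMap B v x) (lcMap B v y) = 8 * (x ⬝ᵥ (B *ᵥ y)) :=
    fun v hv => helper39.lc_frame_dot B hsymm v hv.1
  have hpre : ∀ v, LcFrame B v → LcPre (lcLat B v) := fun v hv =>
    helper19.lc_frame_pre_of_count B hpos heven h2 v hv (hdot v hv)
      (helper95.lc_frame_count B hpos h4 v (hdot v hv))
  -- facts for any such lattice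
  have hmin : ∀ L, LcPre L → ∀ s ∈ lcCode L, s ≠ 0 → 8 ≤ (support₂ s).card :=
    fun L hL s hs => (helper61.lc_code_weight L hL (helper32.lc_four_mem L hL) s hs).2
  have hfacts : ∀ L, LcPre L →
      (wordsOfWeight (lcCode L : Set (GolayPt → ZMod 2)) 8).ncard = 759 ∧
      Nat.card (lcCode L) = 4096 ∧ ∃ u ∈ L, ∀ p, ¬ (2 : ℤ) ∣ u p := by
    intro L hL
    exact helper95.lc_count_main L hL (helper32.lc_parity L hL) helper32.lc_count_four
      (helper83.lc_count_even L hL (helper32.lc_four_sum L hL) (hmin L hL))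
      (helper78.lc_count_odd L)
      (helper78.lc_octads_le (lcCode L) (hmin L hL))
      (helper32.lc_card_le_of_orth (lcCode L) (helper95.lc_code_orth L hL))
  -- the permutation
  have hL0 := hpre v0 hv0
  obtain ⟨hA0, hC0, -⟩ := hfacts _ hL0
  have hst0 := helper78.lc_steiner_of_card (lcCode (lcLat B v0)) (hmin _ hL0) hA0
  obtain ⟨π, hπ⟩ := lc_code_iso (lcCode (lcLat B v0)) hst0 hC0.le
  have hone : ∀ p : GolayPt, (1 : ℤ) = 1 ∨ (1 : ℤ) = -1 := fun _ => Or.inl rfl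
  set v1 : GolayPt → Fin 24 → ℤ := fun p => (1 : ℤ) • v0 (π.symm p) with hv1def
  have hv1 : LcFrame B v1 := lc_frame_perm B v0 hv0 π.symm (fun _ => 1) hone
  have hL1 := hpre v1 hv1
  have hrel1 : ∀ u : GolayPt → ℤ, u ∈ lcLat B v1 ↔
      ∃ w ∈ lcLat B v0, u = fun p => (1 : ℤ) * w (π.symm p) := by
    intro u
    constructor
    · rintro ⟨x, rfl⟩
      exact ⟨lcMap B v0 x, ⟨x, rfl⟩, funext fun p => lc_map_perm B v0 π.symm (fun _ => 1) x p⟩
    · rintro ⟨w, ⟨x, rfl⟩, rfl⟩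
      exact ⟨x, funext fun p => lc_map_perm B v0 π.symm (fun _ => 1) x p⟩
  have hC1 : ∀ s : GolayPt → ZMod 2, s ∈ lcCode (lcLat B v1) ↔ s ∈ golayCode := by
    intro s
    rw [lc_code_perm (lcLat B v0) (lcLat B v1) π.symm (fun _ => 1) hone hrel1 s, hπ s]
    constructor
    · rintro ⟨t, ht, rfl⟩
      simpa using ht
    · intro h
      exact ⟨_, h, by funext p; simp⟩
  -- the signs
  obtain ⟨-, -, u1, hu1, hodd1⟩ := hfacts _ hL1
  set ε : GolayPt → ℤ := fun p => if (4 : ℤ) ∣ u1 p - 1 then 1 else -1 with hεdef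
  have hε : ∀ p, ε p = 1 ∨ ε p = -1 := by
    intro p
    simp only [hεdef]
    split_ifs
    · exact Or.inl rfl
    · exact Or.inr rfl
  set v2 : GolayPt → Fin 24 → ℤ := fun p => ε p • v1 ((1 : Equiv.Perm GolayPt) p) with hv2def
  have hv2 : LcFrame B v2 := lc_frame_perm B v1 hv1 1 ε hε
  have hL2 := hpre v2 hv2
  have hrel2 : ∀ u : GolayPt → ℤ, u ∈ lcLat B v2 ↔
      ∃ w ∈ lcLat B v1, u = fun p => ε p * w ((1 : Equiv.Perm GolayPt) p) := by
    intro u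
    constructor
    · rintro ⟨x, rfl⟩
      exact ⟨lcMap B v1 x, ⟨x, rfl⟩, funext fun p => lc_map_perm B v1 1 ε x p⟩
    · rintro ⟨w, ⟨x, rfl⟩, rfl⟩
      exact ⟨x, funext fun p => lc_map_perm B v1 1 ε x p⟩
  have hC2 : ∀ s : GolayPt → ZMod 2, s ∈ lcCode (lcLat B v2) ↔ s ∈ golayCode := by
    intro s
    rw [lc_code_perm (lcLat B v1) (lcLat B v2) 1 ε hε hrel2 s, ← hC1 s]
    constructor
    · rintro ⟨t, ht, rfl⟩
      simpa using ht
    · intro h
      exact ⟨s, h, by funext p; simp⟩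
  set u2 : GolayPt → ℤ := fun p => ε p * u1 ((1 : Equiv.Perm GolayPt) p) with hu2def
  have hu2 : u2 ∈ lcLat B v2 := (hrel2 u2).mpr ⟨u1, hu1, rfl⟩
  have hu2' : ∀ p, (4 : ℤ) ∣ u2 p - 1 := by
    intro p
    have ho := hodd1 p
    simp only [hu2def, hεdef, Equiv.Perm.coe_one, id_eq]
    split_ifs with h
    · simpa using h
    · omega
  have hE := helper14.lc_even_sum _ hL2 u2 hu2 hu2'
  have h0 := helper14.lc_u0_sum _ hL2 u2 hu2 hu2'
  have hiff : ∀ x : GolayPt → ℤ, x ∈ lcLat B v2 ↔ x ∈ leechLattice := fun x =>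
    ⟨helper61.lc_sub_leech _ (helper32.lc_parity _ hL2) hC2 u2 hu2 hu2' hE h0 x,
      helper61.lc_leech_sub _ (helper32.lc_four_mem _ hL2) hC2 u2 hu2 hu2' hE h0 x⟩
  -- the isomorphism
  have hinj : Function.Injective (lcMap B v2) := by
    rw [injective_iff_map_eq_zero]
    intro x hx
    by_contra hx0
    have h := hdot v2 hv2 x x
    rw [hx] at h
    have hp := hpos x hx0
    simp [dotInt] at h
    omega
  let g : (Fin 24 → ℤ) →+ leechLattice :=
    (lcMap B v2).codRestrict leechLattice (fun x => (hiff _).mp ⟨x, rfl⟩)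
  have hg : Function.Bijective g := by
    constructor
    · intro x y hxy
      apply hinj
      exact congrArg Subtype.val hxy
    · rintro ⟨y, hy⟩
      obtain ⟨x, hx⟩ := (hiff y).mpr hy
      exact ⟨x, Subtype.ext hx⟩
  refine ⟨AddEquiv.ofBijective g hg, fun x => ?_⟩
  have h := hdot v2 hv2 x x
  rw [← h]
  simp [sqNorm, dotInt, sq, g]

end Cfsg.Agent.Lib.helper9
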