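import Cfsg.Agent.Lib.helper93.Leech
import Cfsg.Agent.Lib.helper9.GolayThm

/-!
The sum of squares of every vector of `Cfsg.leechLattice` is divisible by 16.
-/

set_option autoImplicit false
open Cfsg

namespace Cfsg.Agent.Lib.helper9

open Cfsg.Agent.Lib.helper93 in
theorem leech_even (x : GolayPt → ℤ) (hx : x ∈ leechLattice) : (16 : ℤ) ∣ sqNorm x := by
  rw [mem_leechLattice_iff, mem_leechSet_iff] at hx
  obtain ⟨m, h2, hs, hw⟩ := hx
  have hdiv : ∀ i, ∃ e c : ℤ, (e = 0 ∨ e = 1) ∧ (e = 0 ↔ x i ≡ m [ZMOD 4]) ∧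
      x i = m + 2 * e + 4 * c := by
    intro i
    have h := h2 i
    by_cases h4 : x i ≡ m [ZMOD 4]
    · refine ⟨0, (x i - m) / 4, Or.inl rfl, by simp [h4], ?_⟩
      unfold Int.ModEq at h4; omega
    · refine ⟨1, (x i - m - 2) / 4, Or.inr rfl, by simp [h4], ?_⟩
      unfold Int.ModEq at h4 h; omega
  choose e c he01 he hxi using hdiv
  have hee : ∀ i, e i * e i = e i := by
    intro i
    rcases he01 i with h | h <;> rw [h] <;> norm_num
  have hA : ∑ i, e i = (hammingNorm (wd m x) : ℤ) := by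
    have h1 : hammingNorm (wd m x) = (Finset.univ.filter fun i => wd m x i ≠ 0).card := rfl
    rw [h1, Finset.card_filter]
    push_cast
    refine Finset.sum_congr rfl fun i _ => ?_
    unfold wd
    by_cases h4 : x i ≡ m [ZMOD 4]
    · rw [(he i).2 h4]; simp [h4]
    · have h01 : e i = 1 := by
        rcases he01 i with h | h
        · exact absurd ((he i).1 h) h4
        · exact h
      rw [h01]; simp [h4]
  obtain ⟨a, ha⟩ : ∃ a : ℤ, ∑ i, e i = 4 * a := by
    rw [hA]
    rcases golay_weights _ hw with h | h | h | h | h <;> rw [h]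
    exacts [⟨0, by norm_num⟩, ⟨2, by norm_num⟩, ⟨3, by norm_num⟩, ⟨4, by norm_num⟩,
      ⟨6, by norm_num⟩]
  have hcard : (Finset.univ : Finset GolayPt).card = 24 := by decide
  have hsum : ∑ i, x i = 24 * m + 2 * (∑ i, e i) + 4 * ∑ i, c i := by
    rw [Finset.sum_congr rfl (fun i _ => hxi i), Finset.sum_add_distrib, Finset.sum_add_distrib,
      ← Finset.mul_sum, ← Finset.mul_sum, Finset.sum_const, hcard]
    simp
  have hsq : sqNorm x = 24 * m ^ 2 + 4 * (1 + m) * (∑ i, e i) +
      16 * (∑ i, (c i ^ 2 + e i * c i)) + 8 * m * ∑ i, c i := by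
    unfold sqNorm
    have hterm : ∀ i, x i ^ 2 = m ^ 2 + 4 * (1 + m) * e i + 16 * (c i ^ 2 + e i * c i) +
        8 * m * c i := by
      intro i
      rw [hxi i]
      have h := hee i
      calc (m + 2 * e i + 4 * c i) ^ 2
          = m ^ 2 + 4 * (e i * e i) + 4 * m * e i + 16 * (c i ^ 2 + e i * c i) +
              8 * m * c i := by ring
        _ = m ^ 2 + 4 * (1 + m) * e i + 16 * (c i ^ 2 + e i * c i) + 8 * m * c i := by
              rw [h]; ring
    rw [Finset.sum_congr rfl (fun i _ => hterm i), Finset.sum_add_distrib, Finset.sum_add_distrib,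
      Finset.sum_add_distrib, ← Finset.mul_sum, ← Finset.mul_sum, ← Finset.mul_sum,
      Finset.sum_const, hcard]
    simp
  obtain ⟨t, ht⟩ := hs.dvd
  rw [hsum, ha] at ht
  have hCs : ∑ i, c i = -5 * m - 2 * a - 2 * t := by linarith
  refine ⟨-m ^ 2 + (1 + m) * a + (∑ i, (c i ^ 2 + e i * c i)) - m * a - m * t, ?_⟩
  rw [hsq, ha, hCs]
  ring

end Cfsg.Agent.Lib.helper9
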