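import Cfsg.Agent.Lib.helper9.TblGroup
import Cfsg.Agent.Lib.helper9.M11Out

/-!
The `2`-fusion system of `M₁₁`: an explicit Sylow `2`-subgroup (semidihedral of order `16`), its
self-normalisation, and the closure derivation.
-/

set_option autoImplicit false
open Cfsg
open scoped Pointwise

namespace Cfsg.Agent.Lib.helper9

/-- The mask of the dodecad of squares. -/
def sqD : ℕ := 340831

theorem squareDodecad_eq : Spor.squareDodecad = decSet sqD := by decide

theorem pt_zero : pt 0 = (some 0 : GolayPt) := by decide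

/-- Table check of membership in `M₁₂`. -/
def g12chk (n : ℕ) : Bool := m24N n && invN n sqD

/-- Table check of membership in `M₁₁`. -/
def g11chk (n : ℕ) : Bool := g12chk n && Nat.beq (getN n 0) 0

theorem mem_M12_of_chk {σ : Equiv.Perm GolayPt} {n : ℕ} (ht : IsTableN σ n)
    (h : g12chk n = true) : σ ∈ Spor.M12 := by
  simp only [g12chk, Bool.and_eq_true] at h
  refine Subgroup.mem_inf.2 ⟨mem_M24_of_m24N ht h.1, ?_⟩
  rw [MulAction.mem_stabilizer_iff, squareDodecad_eq]
  exact smul_decSet_of_invMask (invMask_of_invN ht h.2)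

theorem mem_M11_of_chk {σ : Equiv.Perm GolayPt} {n : ℕ} (ht : IsTableN σ n)
    (h : g11chk n = true) : σ ∈ Spor.M11 := by
  simp only [g11chk, Bool.and_eq_true, Nat.beq_eq] at h
  refine Subgroup.mem_inf.2 ⟨mem_M12_of_chk ht h.1, ?_⟩
  rw [MulAction.mem_stabilizer_iff, ← pt_zero, Equiv.Perm.smul_def,
    apply_pt_tbl ht (by norm_num), h.2]

theorem invMask_of_mem_M12 {g : Equiv.Perm GolayPt} (hg : g ∈ Spor.M12) : InvMask g sqD := by
  have h := MulAction.mem_stabilizer_iff.1 (Subgroup.mem_inf.1 hg).2
  rw [squareDodecad_eq] at h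
  exact invMask_of_smul_eq g sqD h

theorem fix_zero_of_mem_M11 {g : Equiv.Perm GolayPt} (hg : g ∈ Spor.M11) : g (pt 0) = pt 0 := by
  have h := MulAction.mem_stabilizer_iff.1 (Subgroup.mem_inf.1 hg).2
  rw [pt_zero]
  exact h

theorem card_sporM11 : Nat.card Spor.M11 = 7920 := by
  obtain ⟨e⟩ := exists_equiv_M11
  rw [Nat.card_congr e.toEquiv, card_G11]

theorem NF.tail {G S : Subgroup (Equiv.Perm GolayPt)} {P : List ℕ} {x : ℕ}
    {g : Equiv.Perm GolayPt} (h : NF G S (x :: P) g) : NF G S P g :=
  ⟨h.1, h.2.1, fun i hi => h.2.2 i (List.mem_cons_of_mem _ hi)⟩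

theorem invMask_cast {g : Equiv.Perm GolayPt} {a b : ℕ} (h : InvMask g a) (e : a = b) :
    InvMask g b := e ▸ h

/-- Polycyclic generators of a Sylow `2`-subgroup of `M₁₁` (packed tables). -/
def xs11 : List ℕ :=
  [482223737158332458211731027529179424, 435164862652805219953057134465356032,
   433855540511915653515377358015598784, 975568990542510601383932054293655808]

/-- The central involution. -/
def z11 : ℕ := 975568990542510601383932054293655808

/-- Closure derivation for `M₁₁`. -/
def steps11 : List (ℕ × ℕ × ℕ) :=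
  [(0, 975568990542510601383932054293655808, 716144208262170111133250662290752800),
   (0, 975568990542510601383932054293655808, 217493761755864086305337789431292480),
   (1, 435164862652805219953057134465356032, 974421764120477162002732052473186496),
   (0, 433855540511915653515377358015598784, 984642754306893001986305023279301696),
   (1, 974421764120477162002732052473186496, 840086891282243158276052755232984192)]

def w11a : List ℕ :=
  [482223737158332458211731027529179424]

def w11b : List ℕ :=
  [482223737158332458211731027529179424]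

def w11c : List ℕ :=
  [984818244535754528103549039458486304, 435164862652805219953057134465356032]

def w11d : List ℕ :=
  [984818244535754528103549039458486304, 479895065208888429441249993246934400,
   433855540511915653515377358015598784, 856028587583515862247718690046941472,
   422659491490495656944525070364320864, 975568990542510601383932054293655808,
   840086891282243158276052755232984192, 484803052076903246389454996492132416]

theorem pc11 : pcChk xs11 = true := by decide +kernel

theorem nd11 : nodupB (expand xs11) = true := by decide +kernel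

theorem cent11 : centChk xs11 z11 = true := by decide +kernel

theorem gen11 : xs11.all g11chk = true := by decide +kernel

theorem le11 : grpN xs11 ≤ Spor.M11 := by
  rw [grpN, Subgroup.closure_le]
  rintro σ ⟨a, ha, rfl⟩
  exact mem_M11_of_chk (permN_table (pcChk_ok pc11 a ha)) (List.all_eq_true.1 gen11 a ha)

theorem card11 : Nat.card (grpN xs11) = 2 ^ 4 := card_grpN pc11 nd11

theorem fus11 : (xs11.all fun x => memB x (fusRun g11chk (expand xs11) steps11 [z11])) = true := by
  decide +kernel

theorem hsc11 (T : Subgroup (Equiv.Perm GolayPt)) (hT : T ≤ grpN xs11) (hne : T ≠ ⊥)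
    (hcl : ∀ t ∈ T, ∀ g ∈ Spor.M11, g * t * g⁻¹ ∈ grpN xs11 → g * t * g⁻¹ ∈ T) :
    T = grpN xs11 :=
  sc_of_fus Spor.M11 xs11 z11 pc11 nd11 cent11 g11chk
    (fun _ hok hg => mem_M11_of_chk (permN_table hok) hg) le11 steps11 fus11 T hT hne hcl

theorem wf11a : wfixChk (expand xs11) [0] 1 8193 w11a = true := by decide +kernel

theorem wf11b : wfixChk (expand xs11) [13, 0] 2 335873 w11b = true := by decide +kernel

theorem tr11c : transChk (expand xs11) [13, 0] 327680 16 w11c = true := by decide +kernel

theorem tr11d : transChk (expand xs11) [18, 16, 13, 0] 4958 1 w11d = true := by decide +kernel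

theorem hN11 : ∀ g ∈ Spor.M11, (∀ x ∈ grpN xs11, g * x * g⁻¹ ∈ grpN xs11) → g ∈ grpN xs11 := by
  intro g hg hn
  have iD : ∀ g, g ∈ Spor.M11 → InvMask g sqD :=
    fun g hg => invMask_of_mem_M12 (Subgroup.mem_inf.1 hg).1
  have iF1 : ∀ g, NF Spor.M11 (grpN xs11) [0] g → InvMask g 8193 :=
    fun g hg => invMask_of_wfixChk pc11 nd11 wf11a hg
  have iF2 : ∀ g, NF Spor.M11 (grpN xs11) [13, 0] g → InvMask g 335873 :=
    fun g hg => invMask_of_wfixChk pc11 nd11 wf11b hg
  have ibc : ∀ g, NF Spor.M11 (grpN xs11) [13, 0] g → InvMask g 327680 :=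
    fun g hg => invMask_cast (invMask_xor (iF2 g hg) (iF1 g hg.tail)) (by decide)
  have s5 : ∀ g, NF Spor.M11 (grpN xs11) [1, 18, 16, 13, 0] g → g ∈ grpN xs11 := by
    intro g hg
    have h12 : g ∈ M24 ⊓ MulAction.stabilizer (Equiv.Perm GolayPt) Spor.squareDodecad :=
      (Subgroup.mem_inf.1 hg.1).1
    have h1 : g = 1 := by
      refine dodStab_sharpOn _ squareDodecad_mem g h12 (([1, 18, 16, 13, 0].map pt).toFinset)
        ?_ ?_ ?_
      · rw [squareDodecad_eq]; decide +kernel
      · decide +kernel
      · intro x hx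
        rw [List.mem_toFinset, List.mem_map] at hx
        obtain ⟨i, hi, rfl⟩ := hx
        exact hg.2.2 i hi
    rw [h1]; exact one_mem _
  have s4 : ∀ g, NF Spor.M11 (grpN xs11) [18, 16, 13, 0] g → g ∈ grpN xs11 :=
    nf_reduce pc11 le11 tr11d
      (fun g hg => invMask_cast (invMask_xor (iD g hg.1) (iF2 g hg.tail.tail)) (by decide)) s5
  have s3 : ∀ g, NF Spor.M11 (grpN xs11) [16, 13, 0] g → g ∈ grpN xs11 :=
    nf_free (fun g hg => fix_of_invMask (by norm_num) (invMask_cast
      (invMask_xor (ibc g hg.tail) (invMask_of_fix (hg.2.2 16 (by decide)))) (by decide))) s4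
  have s2 : ∀ g, NF Spor.M11 (grpN xs11) [13, 0] g → g ∈ grpN xs11 :=
    nf_reduce pc11 le11 tr11c ibc s3
  have s1 : ∀ g, NF Spor.M11 (grpN xs11) [0] g → g ∈ grpN xs11 :=
    nf_free (fun g hg => fix_of_invMask (by norm_num) (invMask_cast
      (invMask_xor (iF1 g hg) (invMask_of_fix (hg.2.2 0 (by decide)))) (by decide))) s2
  have s0 : ∀ g, NF Spor.M11 (grpN xs11) [] g → g ∈ grpN xs11 :=
    nf_free (fun g hg => fix_zero_of_mem_M11 hg.1) s1
  exact s0 g ⟨hg, hn, fun i hi => absurd hi List.not_mem_nil⟩

end Cfsg.Agent.Lib.helper9
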