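import Cfsg.Agent.Lib.helper9.M11Fus

/-!
The `2`-fusion system of `M₁₂`: an explicit Sylow `2`-subgroup of order `64`, its
self-normalisation, and the closure derivation.
-/

set_option autoImplicit false
open Cfsg
open scoped Pointwise

namespace Cfsg.Agent.Lib.helper9

theorem card_sporM12 : Nat.card Spor.M12 = 95040 := by
  have h : Spor.M12 = stabMask sqD := by
    unfold Spor.M12 stabMask
    rw [squareDodecad_eq]
  rw [h]
  exact card_stabMask sqD (squareDodecad_eq ▸ squareDodecad_mem)

/-- Polycyclic generators of a Sylow `2`-subgroup of `M₁₂` (packed tables). -/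
def xs12 : List ℕ :=
  [594826230841844568410795268056351244, 604237268782259688898616693108015619,
   234290472293010193588506207205834962, 238428012207352563148106544618483730,
   811923517995438522528613985850444300, 838139441830840926294867946613654086]

/-- The central involution. -/
def z12 : ℕ := 838139441830840926294867946613654086

/-- Closure derivation for `M₁₂`. -/
def steps12 : List (ℕ × ℕ × ℕ) :=
  [(0, 838139441830840926294867946613654086, 879383859566367921403088713593069650),
   (0, 234290472293010193588506207205834962, 735185934783081415405007035089141965),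
   (0, 234290472293010193588506207205834962, 816786983325453605876654227673658496),
   (0, 962345136607280717534243700293615654, 845958167556406337738161366650341584),
   (1, 234290472293010193588506207205834962, 962345136607280717534243700293615654),
   (0, 238022237606077627242322270972119233, 815614439359573198111469568140812866),
   (1, 962345136607280717534243700293615654, 603913480026515438306465673306458188),
   (1, 962750882686369159848927527195184704, 944558913980101041870943135326126081),
   (1, 944558913980101041870943135326126081, 603913480026515438306465673306458188),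
   (1, 594989163434573220980871650910181900, 962345136607280717534243700293615654),
   (1, 234290472293010193588506207205834962, 603913480026515438306465673306458188)]

def w12a : List ℕ :=
  [434431125146144129631474742396650594]

def w12b : List ℕ :=
  [984818244535754528103549039458486304, 440678057114513519765508212256211330,
   811923517995438522528613985850444300, 238428012207352563148106544618483730]

def w12c : List ℕ :=
  [594826230841844568410795268056351244]

def w12d : List ℕ :=
  [984818244535754528103549039458486304, 234290472293010193588506207205834962]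

def w12e : List ℕ :=
  [984818244535754528103549039458486304, 238184346198083660176014492530379794,
   434025426880043913177883924007780752, 603913480026515438306465673306458188,
   838139441830840926294867946613654086, 802512361117278052200919238564840963,
   731274886055749796487569447343167586, 940421215921327069738151835091415233]

theorem pc12 : pcChk xs12 = true := by decide +kernel

theorem nd12 : nodupB (expand xs12) = true := by decide +kernel

theorem cent12 : centChk xs12 z12 = true := by decide +kernel

theorem gen12 : xs12.all g12chk = true := by decide +kernel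

theorem le12 : grpN xs12 ≤ Spor.M12 := by
  rw [grpN, Subgroup.closure_le]
  rintro σ ⟨a, ha, rfl⟩
  exact mem_M12_of_chk (permN_table (pcChk_ok pc12 a ha)) (List.all_eq_true.1 gen12 a ha)

theorem card12 : Nat.card (grpN xs12) = 2 ^ 6 := card_grpN pc12 nd12

theorem fus12 : (xs12.all fun x => memB x (fusRun g12chk (expand xs12) steps12 [z12])) = true := by
  decide +kernel

theorem hsc12 (T : Subgroup (Equiv.Perm GolayPt)) (hT : T ≤ grpN xs12) (hne : T ≠ ⊥)
    (hcl : ∀ t ∈ T, ∀ g ∈ Spor.M12, g * t * g⁻¹ ∈ grpN xs12 → g * t * g⁻¹ ∈ T) :
    T = grpN xs12 :=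
  sc_of_fus Spor.M12 xs12 z12 pc12 nd12 cent12 g12chk
    (fun _ hok hg => mem_M12_of_chk (permN_table hok) hg) le12 steps12 fus12 T hT hne hcl

theorem wf12a : wfixChk (expand xs12) [] 4 2141072 w12a = true := by decide +kernel

theorem tr12b : transChk (expand xs12) [] 8976 4 w12b = true := by decide +kernel

theorem wf12c : wfixChk (expand xs12) [4] 1 8208 w12c = true := by decide +kernel

theorem tr12d : transChk (expand xs12) [13, 4] 768 8 w12d = true := by decide +kernel

theorem tr12e : transChk (expand xs12) [9, 8, 13, 4] 331855 0 w12e = true := by decide +kernel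

theorem hN12 : ∀ g ∈ Spor.M12, (∀ x ∈ grpN xs12, g * x * g⁻¹ ∈ grpN xs12) → g ∈ grpN xs12 := by
  intro g hg hn
  have iD : ∀ g, g ∈ Spor.M12 → InvMask g sqD := fun g hg => invMask_of_mem_M12 hg
  have iQ : ∀ g, NF Spor.M12 (grpN xs12) [] g → InvMask g 8976 :=
    fun g hg => invMask_cast (invMask_and (invMask_of_wfixChk pc12 nd12 wf12a hg) (iD g hg.1))
      (by decide)
  have iF1 : ∀ g, NF Spor.M12 (grpN xs12) [4] g → InvMask g 8208 :=
    fun g hg => invMask_of_wfixChk pc12 nd12 wf12c hg
  have irest : ∀ g, NF Spor.M12 (grpN xs12) [4] g → InvMask g 768 :=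
    fun g hg => invMask_cast (invMask_xor (iQ g hg.tail) (iF1 g hg)) (by decide)
  have s5 : ∀ g, NF Spor.M12 (grpN xs12) [0, 9, 8, 13, 4] g → g ∈ grpN xs12 := by
    intro g hg
    have h1 : g = 1 := by
      refine dodStab_sharpOn _ squareDodecad_mem g hg.1 (([0, 9, 8, 13, 4].map pt).toFinset)
        ?_ ?_ ?_
      · rw [squareDodecad_eq]; decide +kernel
      · decide +kernel
      · intro x hx
        rw [List.mem_toFinset, List.mem_map] at hx
        obtain ⟨i, hi, rfl⟩ := hx
        exact hg.2.2 i hi
    rw [h1]; exact one_mem _
  have s4 : ∀ g, NF Spor.M12 (grpN xs12) [9, 8, 13, 4] g → g ∈ grpN xs12 :=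
    nf_reduce pc12 le12 tr12e
      (fun g hg => invMask_cast (invMask_xor (iD g hg.1) (iQ g hg.tail.tail.tail.tail))
        (by decide)) s5
  have s3 : ∀ g, NF Spor.M12 (grpN xs12) [8, 13, 4] g → g ∈ grpN xs12 :=
    nf_free (fun g hg => fix_of_invMask (by norm_num) (invMask_cast
      (invMask_xor (irest g hg.tail.tail) (invMask_of_fix (hg.2.2 8 (by decide)))) (by decide))) s4
  have s2 : ∀ g, NF Spor.M12 (grpN xs12) [13, 4] g → g ∈ grpN xs12 :=
    nf_reduce pc12 le12 tr12d (fun g hg => irest g hg.tail) s3
  have s1 : ∀ g, NF Spor.M12 (grpN xs12) [4] g → g ∈ grpN xs12 :=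
    nf_free (fun g hg => fix_of_invMask (by norm_num) (invMask_cast
      (invMask_xor (iF1 g hg) (invMask_of_fix (hg.2.2 4 (by decide)))) (by decide))) s2
  have s0 : ∀ g, NF Spor.M12 (grpN xs12) [] g → g ∈ grpN xs12 :=
    nf_reduce pc12 le12 tr12b iQ s1
  exact s0 g ⟨hg, hn, fun i hi => absurd hi List.not_mem_nil⟩

end Cfsg.Agent.Lib.helper9
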