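import Cfsg.Agent.Lib.helper9.M22Fus

/-!
The `2`-fusion system of `M₂₄`: an explicit Sylow `2`-subgroup of order `1024` containing the
one of `M₂₃` as the stabiliser of a point, its self-normalisation, and the closure derivation.
-/

set_option autoImplicit false
open Cfsg
open scoped Pointwise

namespace Cfsg.Agent.Lib.helper9

theorem nodupB_of_nodup {l : List ℕ} (h : l.Nodup) : nodupB l = true := by
  induction l with
  | nil => rfl
  | cons a l ih =>
    rw [List.nodup_cons] at h
    rw [nodupB, Bool.and_eq_true, Bool.not_eq_true']
    refine ⟨?_, ih h.2⟩
    by_contra hc
    rw [Bool.not_eq_false] at hc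
    exact h.1 (memB_iff.1 hc)

/-- Each generator of a polycyclic sequence lies outside the group of the later ones. -/
def pcNd : List ℕ → Bool
  | [] => true
  | x :: xs => Nat.blt x (Nat.pow 32 24) && !memB x (expand xs) && pcNd xs

/-- The expansion of a polycyclic sequence has no repetition. -/
theorem expand_nodup : ∀ {xs : List ℕ}, pcChk xs = true → pcNd xs = true →
    (expand xs).Nodup := by
  intro xs
  induction xs with
  | nil => intro _ _; exact List.nodup_singleton _
  | cons x xs ih =>
    intro hpc hnd
    have hpc' : pcChk xs = true := by
      simp only [pcChk, Bool.and_eq_true] at hpc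
      exact hpc.2
    have hx : okN x = true := pcChk_ok hpc x List.mem_cons_self
    simp only [pcNd, Bool.and_eq_true, Bool.not_eq_true', Nat.blt_eq] at hnd
    obtain ⟨⟨hlt, hnm⟩, hnd'⟩ := hnd
    have IH := ih hpc' hnd'
    have hξ := permN_table hx
    have hreal := expand_realize (pcChk_ok hpc')
    rw [expand, List.nodup_append']
    refine ⟨IH, ?_, ?_⟩
    · apply List.Nodup.map_on _ IH
      intro a ha b hb hab
      obtain ⟨σ, hσ, hσt⟩ := hreal a ha
      obtain ⟨τ, hτ, hτt⟩ := hreal b hb
      have h1 : σ * permN x = τ * permN x :=
        eq_of_isTableN (isTableN_mul hσt hξ) (hab ▸ isTableN_mul hτt hξ)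
      have h2 : σ = τ := mul_right_cancel h1
      exact eq_of_isTableN_lt hσt (h2 ▸ hτt) (expand_lt xs a ha) (expand_lt xs b hb)
    · rw [List.disjoint_left]
      intro a ha hb
      rw [List.mem_map] at hb
      obtain ⟨c, hc, hca⟩ := hb
      obtain ⟨σ, hσ, hσt⟩ := hreal a ha
      obtain ⟨τ, hτ, hτt⟩ := hreal c hc
      have h1 : σ = τ * permN x := eq_of_isTableN hσt (hca ▸ isTableN_mul hτt hξ)
      have h2 : permN x ∈ grpN xs := by
        have : permN x = τ⁻¹ * σ := by rw [h1]; group
        rw [this]; exact mul_mem (inv_mem hτ) hσ
      obtain ⟨n, hn, hnt⟩ := (mem_grpN_iff hpc' _).1 h2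
      have h3 : n = x := eq_of_isTableN_lt hnt hξ (expand_lt xs n hn) hlt
      rw [← h3, memB_iff.2 hn] at hnm
      exact absurd hnm (by decide)

/-- The three further polycyclic generators of a Sylow `2`-subgroup of `M₂₄` (packed tables). -/
def ys24 : List ℕ :=
  [718366624184515670783052604363680204, 882702674981746410672925599484960194,
   26831231662912343974279205358864535]

/-- Closure derivation for `M₂₄`. -/
def steps24 : List (ℕ × ℕ × ℕ) :=
  [(0, 974421764120477162002732052473186496, 252377436106019543479385597145138439),
   (0, 14378465008837454492506652706886711, 835055541435223737809914573082708371),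
   (0, 974421764120477162002732052473186496, 396185324464851389853732273283141857),
   (0, 14378465008837454492506652706886711, 837935125885585428579252719956965423),
   (0, 21640358517826665490162244441606199, 357549992164663166211687587933864100),
   (0, 974421764120477162002732052473186496, 653582171457997529742490898544010884),
   (1, 974421764120477162002732052473186496, 21640358517826665490162244441606199),
   (1, 24224315703573419112672331864049879, 111659797774288068647003713540775541),
   (1, 107381680018117815641809523405095541, 21640358517826665490162244441606199),
   (1, 891425906183104624194581440397345378, 899228298062650529276660608623805026),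
   (1, 21640358517826665490162244441606199, 111659797774288068647003713540775541),
   (1, 104798000130939861944480780384502005, 21640358517826665490162244441606199),
   (1, 901822109299813190370217098013180130, 899228298062650529276660608623805026),
   (1, 899228298062650529276660608623805026, 21640358517826665490162244441606199),
   (1, 104798194755982860161178794300015221, 111659797774288068647003713540775541),
   (1, 21640830209324920716119887807023319, 957557446835497456493610303259904704),
   (1, 8664996474180683144538378434447895, 21640358517826665490162244441606199),
   (1, 104798194755982860161178794300015221, 957557446835497456493610303259904704),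
   (1, 108681362575448457624945882978517525, 111659797774288068647003713540775541),
   (1, 25523522659815432594289358241368567, 21640358517826665490162244441606199),
   (1, 957557446835497456493610303259904704, 522251277153750913392469380079662129),
   (1, 510553411022461892134812125074274001, 957557446835497456493610303259904704),
   (1, 527449273490453206924348789334062385, 14378465008837454492506652706886711),
   (1, 720976416297898195603161794791844140, 522251277153750913392469380079662129),
   (1, 14378465008837454492506652706886711, 957557446835497456493610303259904704),
   (1, 1403849432196193905269685421167991, 14378465008837454492506652706886711),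
   (1, 965329173741913349462495688547371360, 21640358517826665490162244441606199),
   (1, 4752049953230420470935568862742903, 957557446835497456493610303259904704),
   (1, 15158731006619926502202329409980535, 21640358517826665490162244441606199),
   (1, 111659797774288068647003713540775541, 957557446835497456493610303259904704),
   (1, 107742223857519563328425680154648277, 899228298062650529276660608623805026),
   (1, 1404164950992705149270132590630551, 21640358517826665490162244441606199),
   (1, 965860316594859607127735316479399552, 957557446835497456493610303259904704),
   (1, 974421764120477162002732052473186496, 111659797774288068647003713540775541),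
   (1, 101263990798392073793418544643464437, 957557446835497456493610303259904704),
   (1, 92171321191665746989081514758823381, 21640358517826665490162244441606199),
   (1, 876205981794251158913901159881629122, 957557446835497456493610303259904704),
   (1, 890504443039360077349318643602906210, 899228298062650529276660608623805026),
   (1, 965860316594859607127735316479399552, 111659797774288068647003713540775541),
   (1, 974421764120477162002732052473186496, 957557446835497456493610303259904704),
   (1, 964032243391259362891605770676373952, 14378465008837454492506652706886711),
   (1, 24746253686911705759990396351927767, 522251277153750913392469380079662129),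
   (1, 509256271104915608568951741956470225, 14378465008837454492506652706886711)]

def w24a : List ℕ :=
  [959363917997236977129397315646772576]

def w24b : List ℕ :=
  [26831231662912343974279205358864535, 882702674981746410672925599484960194,
   505501206480264426191217777203980401, 440745243063502716370859547940794733,
   547199420449951781030486480944115914, 718366624184515670783052604363680204,
   874561588898124918685051497492250978, 984818244535754528103549039458486304]

/-- Polycyclic generators of a Sylow `2`-subgroup of `M₂₄`. -/
def xs24 : List ℕ := ys24 ++ xs22

theorem pc24 : pcChk xs24 = true := by decide +kernel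

theorem pcnd24 : pcNd xs24 = true := by decide +kernel

theorem nd24 : nodupB (expand xs24) = true := nodupB_of_nodup (expand_nodup pc24 pcnd24)

theorem cent24 : centChk xs24 z22 = true := by decide +kernel

theorem gen24 : xs24.all m24N = true := by decide +kernel

theorem le24 : grpN xs24 ≤ M24 := by
  rw [grpN, Subgroup.closure_le]
  rintro σ ⟨a, ha, rfl⟩
  exact mem_M24_of_m24N (permN_table (pcChk_ok pc24 a ha)) (List.all_eq_true.1 gen24 a ha)

theorem le2224 : grpN xs22 ≤ grpN xs24 :=
  (grpN_cons_le _ _).trans ((grpN_cons_le _ _).trans (grpN_cons_le _ _))

theorem card24 : Nat.card (grpN xs24) = 2 ^ 10 := card_grpN pc24 nd24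

theorem fus24 : (xs24.all fun x => memB x (fusRun m24N (expand xs24) steps24 [z22])) = true := by
  decide +kernel

theorem hsc24 (T : Subgroup (Equiv.Perm GolayPt)) (hT : T ≤ grpN xs24) (hne : T ≠ ⊥)
    (hcl : ∀ t ∈ T, ∀ g ∈ M24, g * t * g⁻¹ ∈ grpN xs24 → g * t * g⁻¹ ∈ T) :
    T = grpN xs24 :=
  sc_of_fus M24 xs24 z22 pc24 nd24 cent24 m24N
    (fun _ hok hg => mem_M24_of_m24N (permN_table hok) hg) le24 steps24 fus24 T hT hne hcl

theorem wf24a : wfixChk (expand xs24) [] 4 10630149 w24a = true := by decide +kernel

theorem tr24b : transChk (expand xs24) [] 10630149 23 w24b = true := by decide +kernel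

theorem stab24 : ((expand xs24).all fun n =>
    !Nat.beq (getN n 23) 23 || memB n (expand xs22)) = true := by decide +kernel

theorem stab24_mem {σ : Equiv.Perm GolayPt} (hσ : σ ∈ grpN xs24) (hfix : σ (pt 23) = pt 23) :
    σ ∈ grpN xs22 := by
  obtain ⟨n, hn, ht⟩ := (mem_grpN_iff pc24 σ).1 hσ
  have h := List.all_eq_true.1 stab24 n hn
  rw [getN_eq_of_fix ht (by norm_num) hfix, Nat.beq_refl] at h
  exact (mem_grpN_iff pc22 σ).2 ⟨n, memB_iff.1 (by simpa using h), ht⟩

theorem hN24 : ∀ g ∈ M24, (∀ x ∈ grpN xs24, g * x * g⁻¹ ∈ grpN xs24) → g ∈ grpN xs24 := by
  intro g hg hn
  have s1 : ∀ g, NF M24 (grpN xs24) [23] g → g ∈ grpN xs24 := by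
    intro g hg
    have h23 : g (pt 23) = pt 23 := hg.2.2 23 (by decide)
    have hg23 : g ∈ Spor.M23 := Subgroup.mem_inf.2 ⟨hg.1, by
      rw [MulAction.mem_stabilizer_iff, ← pt_none]; exact h23⟩
    apply le2224
    apply hN23 g hg23
    intro x hx
    have hx24 := hg.2.1 x (le2224 hx)
    have hx23 : x (pt 23) = pt 23 := fix_none_of_mem_M23 (le23 hx)
    have hfix : (g * x * g⁻¹) (pt 23) = pt 23 := by
      show g (x (g⁻¹ (pt 23))) = pt 23
      rw [show g⁻¹ (pt 23) = pt 23 from by rw [Equiv.Perm.inv_eq_iff_eq, h23], hx23, h23]
    exact stab24_mem hx24 hfix
  have s0 : ∀ g, NF M24 (grpN xs24) [] g → g ∈ grpN xs24 :=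
    nf_reduce pc24 le24 tr24b (fun g hg => invMask_of_wfixChk pc24 nd24 wf24a hg) s1
  exact s0 g ⟨hg, hn, fun i hi => absurd hi List.not_mem_nil⟩

end Cfsg.Agent.Lib.helper9
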