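import Cfsg.Agent.Lib.helper9.M24Trans

/-!
`Cfsg.M24` as the automorphism group of the octad system.
-/

set_option autoImplicit false
open Cfsg
open scoped Pointwise

namespace Cfsg.Agent.Lib.helper9

theorem gB_octads : ∀ b ∈ gB, syn b = true ∧ pc b = 8 := by
  decide +kernel

/-- A permutation preserving the family of octads preserves the code. -/
theorem mem_M24_of_smul_octads (g : Equiv.Perm GolayPt) (h : g • octads = octads) :
    g ∈ M24 := by
  have hinv : g⁻¹ • octads = octads := by
    rw [inv_smul_eq_iff, h]
  rw [mem_M24_iff]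
  intro w hw
  rw [golayCode_eq_spanL] at hw
  induction hw using Submodule.span_induction with
  | mem w hw =>
    obtain ⟨b, hb, rfl⟩ := hw
    have hO : decSet b ∈ octads := decSet_mem_octads b (gB_octads b hb).1 (gB_octads b hb).2
    have h1 : g⁻¹ • decSet b ∈ g⁻¹ • octads := Set.smul_mem_smul_set hO
    rw [hinv, ← support₂_dec, smul_support₂] at h1
    obtain ⟨v, hv, hvw⟩ := h1.1
    have h2 : v = dec b ∘ g := by
      have := support₂_injective hvw
      rw [this]; rfl
    rw [← h2]; exact hv
  | zero => exact Submodule.zero_mem _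
  | add x y _ _ hx hy => exact Submodule.add_mem _ hx hy
  | smul c x _ hx => exact Submodule.smul_mem _ c hx

theorem smul_octads_of_mem_M24 (g : Equiv.Perm GolayPt) (hg : g ∈ M24) :
    g • octads = octads := by
  apply Set.Subset.antisymm
  · rintro s ⟨t, ht, rfl⟩
    exact smul_mem_octads g hg t ht
  · intro s hs
    refine ⟨g⁻¹ • s, smul_mem_octads g⁻¹ (inv_mem hg) s hs, ?_⟩
    simp

/-- `M24` is the automorphism group of the octad system. -/
theorem M24_eq_setSystemAut : M24 = setSystemAut octads := by
  ext g
  exact ⟨fun hg => smul_octads_of_mem_M24 g hg, fun hg => mem_M24_of_smul_octads g hg⟩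

end Cfsg.Agent.Lib.helper9
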