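import Cfsg.Agent.Lib.helper9.M24Chain

/-!
Normal subgroups of doubly transitive permutation groups: a nontrivial normal subgroup is
transitive, and it cannot be regular when the degree is not a prime power (or when the group is
3-transitive of odd degree).  This gives an inductive criterion for simplicity in terms of the
point stabiliser.  Everything is stated for subgroups of `Equiv.Perm α`.
-/

set_option autoImplicit false
open scoped Pointwise

namespace Cfsg.Agent.Lib.helper9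

section

variable {α : Type*}

/-- `N` is a subgroup of `H` normalised by `H`. -/
def NormalIn (N H : Subgroup (Equiv.Perm α)) : Prop :=
  N ≤ H ∧ ∀ h ∈ H, ∀ n ∈ N, h * n * h⁻¹ ∈ N

theorem normalIn_of_normal {N H : Subgroup (Equiv.Perm α)} (hle : N ≤ H)
    (h : (N.subgroupOf H).Normal) : NormalIn N H := by
  refine ⟨hle, fun g hg n hn => ?_⟩
  have h1 : (⟨n, hle hn⟩ : H) ∈ N.subgroupOf H := hn
  exact h.conj_mem _ h1 ⟨g, hg⟩

theorem NormalIn.inf_normal {N H S : Subgroup (Equiv.Perm α)} (hN : NormalIn N H) (hS : S ≤ H) :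
    ((N ⊓ S).subgroupOf S).Normal := by
  refine ⟨fun n hn g => ?_⟩
  rw [Subgroup.mem_subgroupOf] at hn ⊢
  exact ⟨hN.2 _ (hS g.2) _ hn.1, S.mul_mem (S.mul_mem g.2 hn.2) (S.inv_mem g.2)⟩

/-- `H` acts faithfully and doubly transitively on the invariant set `X`. -/
structure TwoTrans (H : Subgroup (Equiv.Perm α)) (X : Set α) : Prop where
  inv : ∀ g ∈ H, ∀ x ∈ X, g x ∈ X
  faithful : ∀ g ∈ H, (∀ x ∈ X, g x = x) → g = 1
  two : ∀ x ∈ X, ∀ y ∈ X, ∀ x' ∈ X, ∀ y' ∈ X, x ≠ y → x' ≠ y' → ∃ g ∈ H, g x = x' ∧ g y = y'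

/-- A nontrivial normal subgroup of a doubly transitive group is transitive. -/
theorem normal_trans {H N : Subgroup (Equiv.Perm α)} {X : Set α} (hT : TwoTrans H X)
    (hN : NormalIn N H) (hbot : N ≠ ⊥) : ∀ x ∈ X, ∀ y ∈ X, ∃ n ∈ N, n x = y := by
  obtain ⟨n, hn1⟩ := (Subgroup.ne_bot_iff_exists_ne_one).1 hbot
  have hn' : (n : Equiv.Perm α) ∈ N := n.2
  have hne : (n : Equiv.Perm α) ≠ 1 := fun h => hn1 (Subtype.ext h)
  have hx0 : ∃ x0 ∈ X, (n : Equiv.Perm α) x0 ≠ x0 := by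
    by_contra h
    push Not at h
    exact hne (hT.faithful _ (hN.1 hn') h)
  obtain ⟨x0, hx0X, hx0⟩ := hx0
  intro x hx y hy
  by_cases hxy : x = y
  · exact ⟨1, one_mem _, by rw [hxy]; rfl⟩
  · obtain ⟨g, hg, h1, h2⟩ := hT.two x0 hx0X ((n : Equiv.Perm α) x0)
      (hT.inv _ (hN.1 hn') x0 hx0X) x hx y hy (Ne.symm hx0) hxy
    refine ⟨g * n * g⁻¹, hN.2 g hg _ hn', ?_⟩
    show g ((n : Equiv.Perm α) (g⁻¹ x)) = y
    rw [← h1, ← h2]
    simp

/-- Inductive step for simplicity: if every normal subgroup meeting the point stabiliser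
nontrivially contains it, and no nontrivial normal subgroup meets it trivially, then the only
normal subgroups are the trivial ones. -/
theorem simple_step {H : Subgroup (Equiv.Perm α)} {X : Set α} (hT : TwoTrans H X) (a : α)
    (ha : a ∈ X)
    (hS : ∀ N, NormalIn N H → N ⊓ (H ⊓ MulAction.stabilizer (Equiv.Perm α) a) ≠ ⊥ →
      H ⊓ MulAction.stabilizer (Equiv.Perm α) a ≤ N)
    (hreg : ∀ N, NormalIn N H → N ≠ ⊥ →
      N ⊓ (H ⊓ MulAction.stabilizer (Equiv.Perm α) a) = ⊥ → False) :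
    ∀ N, NormalIn N H → N = ⊥ ∨ N = H := by
  intro N hN
  by_cases hbot : N = ⊥
  · exact Or.inl hbot
  right
  by_cases hM : N ⊓ (H ⊓ MulAction.stabilizer (Equiv.Perm α) a) = ⊥
  · exact absurd hM (fun h => hreg N hN hbot h)
  · have hSN := hS N hN hM
    refine le_antisymm hN.1 (fun g hg => ?_)
    obtain ⟨n, hn, hna⟩ := normal_trans hT hN hbot a ha (g a) (hT.inv g hg a ha)
    have h1 : n⁻¹ * g ∈ H ⊓ MulAction.stabilizer (Equiv.Perm α) a := by
      refine Subgroup.mem_inf.2 ⟨H.mul_mem (H.inv_mem (hN.1 hn)) hg,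
        MulAction.mem_stabilizer_iff.2 ?_⟩
      show n⁻¹ (g a) = a
      rw [← hna]
      simp
    have h2 := N.mul_mem hn (hSN h1)
    rw [mul_inv_cancel_left] at h2
    exact h2

/-- The hypothesis on the stabiliser in `simple_step`, from simplicity of the stabiliser. -/
theorem le_of_simple {H S : Subgroup (Equiv.Perm α)} (hSH : S ≤ H) (hs : IsSimpleGroup ↥S) :
    ∀ N, NormalIn N H → N ⊓ S ≠ ⊥ → S ≤ N := by
  intro N hN hne
  rcases (Subgroup.isSimpleGroup_iff.1 hs).2 (N ⊓ S) inf_le_right (hN.inf_normal hSH) with h | h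
  · exact absurd h hne
  · exact inf_eq_right.1 h

/-- Simplicity of a subgroup from the absence of normal subgroups. -/
theorem isSimpleGroup_of_normalIn {H : Subgroup (Equiv.Perm α)} (hH : H ≠ ⊥)
    (h : ∀ N, NormalIn N H → N = ⊥ ∨ N = H) : IsSimpleGroup ↥H :=
  Subgroup.isSimpleGroup_iff.2 ⟨hH, fun N hle hn => h N (normalIn_of_normal hle hn)⟩

variable [Finite α]

omit [Finite α] in
/-- In a regular normal subgroup of a doubly transitive group, non-identity elements are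
conjugate, and the order of the subgroup is the degree. -/
theorem regular_props {H N : Subgroup (Equiv.Perm α)} {X : Set α} (hT : TwoTrans H X)
    (hN : NormalIn N H) (hbot : N ≠ ⊥) (a : α) (ha : a ∈ X)
    (hreg : N ⊓ (H ⊓ MulAction.stabilizer (Equiv.Perm α) a) = ⊥) :
    (∀ n ∈ N, n a = a → n = 1) ∧
      (∀ n₁ ∈ N, ∀ n₂ ∈ N, n₁ ≠ 1 → n₂ ≠ 1 → orderOf n₁ = orderOf n₂) ∧
      Nat.card N = X.ncard := by
  have hr : ∀ n ∈ N, n a = a → n = 1 := by
    intro n hn hna
    have h1 : n ∈ N ⊓ (H ⊓ MulAction.stabilizer (Equiv.Perm α) a) :=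
      Subgroup.mem_inf.2 ⟨hn, Subgroup.mem_inf.2 ⟨hN.1 hn, MulAction.mem_stabilizer_iff.2 hna⟩⟩
    rw [hreg] at h1
    exact Subgroup.mem_bot.1 h1
  refine ⟨hr, ?_, ?_⟩
  · intro n₁ hn₁ n₂ hn₂ hne₁ hne₂
    have hb₁ : n₁ a ≠ a := fun h => hne₁ (hr n₁ hn₁ h)
    have hb₂ : n₂ a ≠ a := fun h => hne₂ (hr n₂ hn₂ h)
    obtain ⟨k, hk, hka, hkb⟩ := hT.two a ha (n₁ a) (hT.inv _ (hN.1 hn₁) a ha) a ha (n₂ a)
      (hT.inv _ (hN.1 hn₂) a ha) (Ne.symm hb₁) (Ne.symm hb₂)
    have hka' : k⁻¹ a = a := by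
      rw [Equiv.Perm.inv_eq_iff_eq, hka]
    have hc : k * n₁ * k⁻¹ = n₂ := by
      have hmem : n₂⁻¹ * (k * n₁ * k⁻¹) ∈ N := N.mul_mem (N.inv_mem hn₂) (hN.2 k hk n₁ hn₁)
      have hfix : (n₂⁻¹ * (k * n₁ * k⁻¹)) a = a := by
        show n₂⁻¹ (k (n₁ (k⁻¹ a))) = a
        rw [hka', hkb]
        simp
      exact (inv_mul_eq_one.mp (hr _ hmem hfix)).symm
    have hsc : SemiconjBy k n₁ n₂ := by
      unfold SemiconjBy
      rw [← hc]
      group
    exact hsc.orderOf_eq
  · have h1 := card_eq_orbit_mul_stab N a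
    have h2 : N ⊓ MulAction.stabilizer (Equiv.Perm α) a = ⊥ := by
      rw [Subgroup.eq_bot_iff_forall]
      intro n hn
      exact hr n (Subgroup.mem_inf.1 hn).1 (MulAction.mem_stabilizer_iff.1 (Subgroup.mem_inf.1 hn).2)
    rw [h2, Subgroup.card_bot, mul_one] at h1
    rw [h1]
    have h3 : MulAction.orbit N a = X := by
      ext q
      rw [mem_orbit_subgroup_iff]
      constructor
      · rintro ⟨g, hg, rfl⟩
        exact hT.inv g (hN.1 hg) a ha
      · intro hq
        exact normal_trans hT hN hbot a ha q hq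
    rw [h3]
    rfl

/-- A doubly transitive group whose degree has two distinct prime divisors has no regular normal
subgroup. -/
theorem not_regular_of_two_primes {H N : Subgroup (Equiv.Perm α)} {X : Set α}
    (hT : TwoTrans H X) (hN : NormalIn N H) (hbot : N ≠ ⊥) (a : α) (ha : a ∈ X)
    (hreg : N ⊓ (H ⊓ MulAction.stabilizer (Equiv.Perm α) a) = ⊥)
    (p q : ℕ) (hp : p.Prime) (hq : q.Prime) (hpq : p ≠ q) (hpX : p ∣ X.ncard)
    (hqX : q ∣ X.ncard) : False := by
  obtain ⟨-, hconj, hcard⟩ := regular_props hT hN hbot a ha hreg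
  have hp' : Fact p.Prime := ⟨hp⟩
  have hq' : Fact q.Prime := ⟨hq⟩
  rw [← hcard] at hpX hqX
  obtain ⟨x, hx⟩ := exists_prime_orderOf_dvd_card' p hpX
  obtain ⟨y, hy⟩ := exists_prime_orderOf_dvd_card' q hqX
  have hx1 : (x : Equiv.Perm α) ≠ 1 := by
    intro h
    rw [← Subgroup.orderOf_coe, h, orderOf_one] at hx
    exact hp.one_lt.ne hx
  have hy1 : (y : Equiv.Perm α) ≠ 1 := by
    intro h
    rw [← Subgroup.orderOf_coe, h, orderOf_one] at hy
    exact hq.one_lt.ne hy
  have h := hconj x x.2 y y.2 hx1 hy1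
  rw [Subgroup.orderOf_coe, Subgroup.orderOf_coe, hx, hy] at h
  exact hpq h

omit [Finite α] in
/-- A doubly transitive group of odd degree in which the stabiliser of two points `a`, `b` fixes
no further point has no regular normal subgroup. -/
theorem not_regular_of_odd {H N : Subgroup (Equiv.Perm α)} {X : Set α}
    (hT : TwoTrans H X) (hN : NormalIn N H) (hbot : N ≠ ⊥) (a : α) (ha : a ∈ X)
    (hreg : N ⊓ (H ⊓ MulAction.stabilizer (Equiv.Perm α) a) = ⊥)
    (b : α) (hb : b ∈ X) (hba : b ≠ a)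
    (h3 : ∀ c ∈ X, c ≠ a → c ≠ b → ∃ k ∈ H, k a = a ∧ k b = b ∧ k c ≠ c)
    (hodd : ¬ 2 ∣ X.ncard) : False := by
  obtain ⟨hr, -, hcard⟩ := regular_props hT hN hbot a ha hreg
  obtain ⟨n, hn, hna⟩ := normal_trans hT hN hbot a ha b hb
  have hcb : n b ≠ b := by
    intro h
    rw [← hna] at h
    have h' := n.injective h
    rw [hna] at h'
    exact hba h'
  have hca : n b = a := by
    by_contra hca
    obtain ⟨k, hk, hka, hkb, hkc⟩ := h3 (n b) (hT.inv n (hN.1 hn) b hb) hca hcb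
    have hka' : k⁻¹ a = a := by
      rw [Equiv.Perm.inv_eq_iff_eq, hka]
    have hmem : n⁻¹ * (k * n * k⁻¹) ∈ N := N.mul_mem (N.inv_mem hn) (hN.2 k hk n hn)
    have hfix : (n⁻¹ * (k * n * k⁻¹)) a = a := by
      show n⁻¹ (k (n (k⁻¹ a))) = a
      rw [hka', hna, hkb, ← hna]
      simp
    have hc : k * n * k⁻¹ = n := (inv_mul_eq_one.mp (hr _ hmem hfix)).symm
    have hcomm : k * n = n * k := by
      have : k * n = (k * n * k⁻¹) * k := by group
      rw [this, hc]
    apply hkc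
    have h4 : (k * n) b = (n * k) b := by rw [hcomm]
    have h5 : k (n b) = n (k b) := h4
    rw [h5, hkb]
  have hsq : n * n = 1 := by
    apply hr _ (N.mul_mem hn hn)
    show n (n a) = a
    rw [hna, hca]
  have hn1 : n ≠ 1 := by
    intro h
    rw [h] at hna
    exact hba hna.symm
  have hord : orderOf n = 2 := by
    have hp2 : Fact (Nat.Prime 2) := ⟨Nat.prime_two⟩
    exact orderOf_eq_prime (by rw [pow_two]; exact hsq) hn1
  have hdvd : orderOf (⟨n, hn⟩ : N) ∣ Nat.card N := orderOf_dvd_natCard _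
  rw [← Subgroup.orderOf_coe] at hdvd
  simp only at hdvd
  rw [hord, hcard] at hdvd
  exact hodd hdvd

end

end Cfsg.Agent.Lib.helper9
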