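import Cfsg.Agent.Lib.helper9.M24Pack
import Cfsg.Agent.Lib.helper9.SimpleInd

/-!
The three-point stabiliser of `Cfsg.M24`: a normal subgroup meeting the four-point stabiliser
nontrivially contains it.  Proof by certificates: every non-identity element of the four-point
stabiliser has a conjugate `r` with `[h, r] = z0` for a fixed involution `z0`, and the transversal
elements of the last three levels are products of conjugates of `z0` in the three-point stabiliser.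
-/

set_option autoImplicit false
open Cfsg
open scoped Pointwise

namespace Cfsg.Agent.Lib.helper9

/-- A fixed involution of the four-point stabiliser. -/
noncomputable def z0 : Equiv.Perm GolayPt := E4 4 7 14

/-- The table of `z0`. -/
def z0T : ℕ := t4N 4 7 14

theorem z0_spec : z0 ∈ stabL M24 4 ∧ IsTableN z0 z0T := E4_spec (by decide +kernel)

/-! ### Every non-identity element of the four-point stabiliser generates `z0` -/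

/-- Class data: `(r, h)` with `z0 * r * h = h * r`. -/
def clsR : List (ℕ × ℕ × ℕ × ℕ × ℕ × ℕ) :=
  [(4, 7, 6, 12, 7, 5), (4, 7, 23, 4, 10, 5), (4, 10, 5, 4, 7, 23), (10, 7, 9, 12, 7, 5), (5, 7, 8, 8, 10, 17), (5, 7, 13, 6, 7, 15), (7, 12, 13, 12, 7, 5), (12, 7, 22, 12, 7, 5)]

/-- Check of a class datum. -/
def chkCls (e : ℕ × ℕ × ℕ × ℕ × ℕ × ℕ) : Bool :=
  ok4 e.1 e.2.1 e.2.2.1 && ok4 e.2.2.2.1 e.2.2.2.2.1 e.2.2.2.2.2 &&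
    Nat.beq (compN z0T (compN (t4N e.1 e.2.1 e.2.2.1) (t4N e.2.2.2.1 e.2.2.2.2.1 e.2.2.2.2.2)))
      (compN (t4N e.2.2.2.1 e.2.2.2.2.1 e.2.2.2.2.2) (t4N e.1 e.2.1 e.2.2.1))

theorem clsR_ok : clsR.all chkCls = true := by decide +kernel

/-- Certificates: entry for `q = (c4, c5, c6)` is `(k, g)` with `q * g = g * r_k`. -/
def cert4 : List (List (List (ℕ × ℕ × ℕ × ℕ))) :=
  [[[(0, 4, 7, 5), (0, 4, 7, 5), (0, 12, 10, 5), (0, 12, 7, 5), (0, 10, 7, 5), (0, 7, 10, 5), (1, 4, 12, 5), (0, 10, 10, 5), (0, 4, 10, 5), (1, 4, 10, 5), (0, 10, 12, 5), (0, 7, 7, 5), (0, 12, 12, 5), (0, 4, 12, 5), (0, 7, 12, 5), (1, 4, 7, 5)],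
    [(2, 4, 7, 5), (2, 4, 7, 21), (2, 4, 7, 11), (2, 4, 7, 18), (2, 4, 7, 13), (2, 4, 7, 8), (2, 4, 7, 17), (2, 4, 7, 22), (2, 4, 7, 6), (2, 4, 7, 23), (2, 4, 7, 19), (2, 4, 7, 9), (2, 4, 7, 15), (2, 4, 7, 16), (2, 4, 7, 20), (2, 4, 7, 14)],
    [(2, 14, 7, 11), (2, 15, 7, 6), (2, 21, 7, 13), (2, 8, 7, 5), (2, 19, 7, 17), (2, 22, 7, 5), (2, 17, 7, 16), (2, 18, 7, 5), (2, 13, 7, 8), (2, 5, 7, 17), (2, 6, 7, 5), (2, 20, 7, 22), (2, 11, 7, 18), (2, 9, 7, 16), (2, 16, 7, 17), (2, 23, 7, 8)]],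
   [[(3, 11, 12, 6), (2, 8, 7, 8), (4, 4, 7, 5), (2, 15, 7, 17), (2, 16, 7, 18), (5, 4, 7, 5), (6, 11, 12, 6), (4, 7, 12, 8), (4, 8, 10, 5), (7, 11, 12, 6), (5, 9, 10, 21), (4, 10, 7, 17), (5, 9, 10, 20), (5, 7, 12, 8), (2, 19, 7, 11), (0, 6, 12, 5)],
    [(3, 8, 7, 14), (5, 10, 10, 23), (2, 21, 7, 15), (5, 6, 10, 5), (5, 4, 10, 23), (4, 4, 10, 23), (7, 8, 7, 14), (2, 18, 7, 19), (2, 13, 7, 5), (0, 16, 10, 5), (4, 9, 10, 14), (2, 20, 7, 20), (4, 6, 7, 22), (4, 7, 7, 22), (5, 12, 10, 5), (6, 8, 7, 14)],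
    [(0, 21, 12, 5), (4, 7, 10, 13), (5, 6, 10, 22), (4, 8, 10, 6), (4, 6, 7, 23), (2, 11, 7, 15), (3, 13, 7, 19), (5, 8, 12, 23), (5, 7, 10, 13), (7, 13, 7, 19), (2, 9, 7, 23), (5, 4, 12, 17), (2, 22, 7, 22), (2, 6, 7, 6), (4, 4, 12, 17), (6, 13, 7, 19)]],
   [[(5, 4, 10, 20), (6, 18, 10, 14), (4, 4, 10, 20), (0, 21, 7, 5), (3, 18, 10, 14), (2, 16, 7, 8), (5, 12, 10, 18), (4, 8, 7, 17), (4, 5, 10, 9), (5, 5, 12, 14), (2, 8, 7, 9), (4, 7, 7, 15), (2, 15, 7, 15), (2, 19, 7, 13), (7, 18, 10, 14), (5, 9, 12, 14)],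
    [(4, 10, 12, 8), (3, 15, 10, 13), (2, 17, 7, 18), (0, 16, 7, 5), (7, 15, 10, 13), (5, 7, 10, 6), (4, 7, 10, 6), (2, 5, 7, 8), (2, 23, 7, 5), (4, 5, 10, 5), (5, 4, 12, 8), (2, 14, 7, 17), (5, 5, 12, 11), (5, 8, 7, 15), (6, 15, 10, 13), (4, 4, 12, 8)],
    [(2, 20, 7, 16), (7, 23, 7, 19), (5, 7, 12, 21), (0, 5, 7, 5), (6, 23, 7, 19), (4, 8, 7, 9), (2, 21, 7, 9), (5, 10, 7, 9), (5, 9, 7, 22), (2, 18, 7, 13), (4, 9, 7, 14), (5, 4, 7, 6), (4, 7, 12, 21), (4, 4, 7, 6), (3, 23, 7, 19), (2, 13, 7, 9)]],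
   [[(2, 10, 7, 21), (2, 10, 7, 14), (2, 10, 7, 15), (2, 10, 7, 23), (2, 10, 7, 5), (2, 10, 7, 9), (2, 10, 7, 18), (2, 10, 7, 16), (2, 10, 7, 8), (2, 10, 7, 20), (2, 10, 7, 6), (2, 10, 7, 19), (2, 10, 7, 22), (2, 10, 7, 11), (2, 10, 7, 17), (2, 10, 7, 13)],
    [(2, 22, 7, 17), (2, 20, 7, 6), (2, 15, 7, 9), (2, 21, 7, 18), (2, 13, 7, 16), (2, 17, 7, 8), (2, 9, 7, 15), (2, 19, 7, 23), (2, 16, 7, 5), (2, 11, 7, 21), (2, 5, 7, 23), (2, 8, 7, 23), (2, 23, 7, 19), (2, 14, 7, 9), (2, 18, 7, 17), (2, 6, 7, 17)],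
    [(7, 10, 10, 14), (3, 4, 12, 17), (1, 6, 7, 5), (3, 7, 10, 18), (3, 12, 12, 17), (6, 4, 7, 5), (7, 4, 10, 23), (1, 13, 7, 5), (1, 5, 10, 5), (7, 7, 7, 11), (6, 10, 7, 14), (1, 8, 12, 5), (6, 7, 12, 16), (6, 12, 7, 5), (3, 10, 12, 14), (7, 12, 10, 23)]],
   [[(5, 4, 12, 20), (2, 21, 7, 17), (3, 11, 7, 20), (2, 20, 7, 23), (2, 18, 7, 6), (4, 4, 12, 20), (5, 6, 10, 16), (7, 11, 7, 20), (6, 11, 7, 20), (5, 5, 10, 5), (4, 5, 7, 22), (0, 22, 7, 5), (4, 7, 10, 17), (4, 9, 7, 11), (2, 13, 7, 13), (5, 6, 10, 19)],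
    [(4, 5, 7, 17), (5, 5, 10, 6), (7, 13, 12, 21), (5, 4, 7, 8), (5, 9, 7, 8), (2, 23, 7, 21), (4, 7, 12, 23), (6, 13, 12, 21), (3, 13, 12, 21), (4, 4, 7, 8), (2, 14, 7, 15), (0, 18, 12, 5), (2, 17, 7, 6), (2, 5, 7, 9), (5, 12, 7, 15), (4, 6, 10, 9)],
    [(2, 6, 7, 19), (4, 4, 10, 6), (6, 5, 12, 5), (4, 7, 7, 5), (4, 6, 10, 17), (5, 10, 10, 22), (2, 11, 7, 6), (3, 5, 12, 5), (7, 5, 12, 5), (2, 9, 7, 11), (5, 4, 10, 6), (0, 17, 10, 5), (5, 9, 7, 13), (5, 7, 7, 5), (4, 10, 10, 22), (2, 22, 7, 16)]],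
   [[(5, 5, 10, 16), (4, 10, 7, 6), (2, 21, 7, 6), (4, 4, 7, 9), (4, 6, 12, 15), (7, 17, 12, 13), (5, 5, 10, 19), (2, 18, 7, 18), (2, 13, 7, 22), (5, 4, 7, 9), (6, 17, 12, 13), (2, 20, 7, 19), (3, 17, 12, 13), (0, 14, 12, 5), (4, 7, 12, 13), (5, 5, 10, 8)],
    [(0, 13, 10, 5), (5, 8, 10, 9), (2, 16, 7, 16), (5, 4, 10, 13), (5, 7, 7, 19), (4, 6, 10, 8), (6, 20, 10, 18), (2, 8, 7, 22), (2, 15, 7, 16), (3, 20, 10, 18), (4, 7, 7, 19), (2, 19, 7, 21), (4, 4, 10, 13), (4, 5, 10, 22), (5, 6, 10, 13), (7, 20, 10, 18)],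
    [(5, 6, 7, 21), (2, 14, 7, 23), (7, 16, 7, 23), (2, 17, 7, 20), (2, 23, 7, 23), (4, 8, 10, 13), (5, 12, 12, 16), (3, 16, 7, 23), (0, 15, 10, 5), (5, 10, 12, 15), (4, 4, 12, 15), (6, 16, 7, 23), (4, 8, 10, 20), (4, 5, 10, 14), (2, 5, 7, 15), (5, 4, 12, 15)]],
   [[(1, 8, 10, 5), (3, 12, 7, 5), (6, 4, 10, 23), (3, 4, 7, 5), (3, 7, 12, 16), (7, 12, 12, 17), (1, 5, 7, 5), (6, 7, 7, 11), (6, 12, 10, 23), (1, 6, 12, 5), (7, 4, 12, 17), (6, 10, 10, 14), (7, 7, 10, 18), (7, 10, 12, 14), (3, 10, 7, 14), (1, 13, 12, 5)],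
    [(2, 12, 7, 23), (2, 12, 7, 13), (2, 12, 7, 11), (2, 12, 7, 20), (2, 12, 7, 21), (2, 12, 7, 16), (2, 12, 7, 14), (2, 12, 7, 22), (2, 12, 7, 6), (2, 12, 7, 5), (2, 12, 7, 15), (2, 12, 7, 9), (2, 12, 7, 19), (2, 12, 7, 8), (2, 12, 7, 18), (2, 12, 7, 17)],
    [(2, 23, 7, 16), (2, 15, 7, 22), (2, 13, 7, 15), (2, 8, 7, 14), (2, 19, 7, 5), (2, 9, 7, 8), (2, 5, 7, 5), (2, 20, 7, 9), (2, 21, 7, 21), (2, 17, 7, 19), (2, 11, 7, 13), (2, 18, 7, 23), (2, 6, 7, 23), (2, 22, 7, 23), (2, 16, 7, 14), (2, 14, 7, 6)]],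
   [[(2, 19, 7, 18), (4, 9, 12, 11), (3, 13, 10, 22), (4, 10, 10, 20), (4, 4, 10, 18), (5, 4, 10, 18), (2, 16, 7, 19), (6, 13, 10, 22), (0, 20, 10, 5), (2, 8, 7, 11), (5, 5, 12, 17), (7, 13, 10, 22), (5, 6, 10, 18), (5, 9, 12, 5), (4, 5, 10, 11), (2, 15, 7, 8)],
    [(2, 5, 7, 16), (5, 5, 12, 22), (4, 6, 7, 8), (5, 7, 10, 22), (5, 9, 10, 8), (0, 19, 10, 5), (2, 23, 7, 17), (4, 7, 10, 22), (4, 5, 10, 23), (2, 14, 7, 14), (6, 8, 12, 14), (4, 4, 12, 16), (7, 8, 12, 14), (3, 8, 12, 14), (5, 4, 12, 16), (2, 17, 7, 13)],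
    [(3, 5, 7, 23), (2, 13, 7, 11), (4, 4, 7, 11), (2, 18, 7, 20), (2, 20, 7, 8), (5, 4, 7, 11), (6, 5, 7, 23), (4, 7, 12, 20), (4, 8, 7, 6), (7, 5, 7, 23), (5, 12, 7, 11), (4, 6, 12, 19), (5, 6, 12, 21), (5, 7, 12, 20), (2, 21, 7, 22), (0, 23, 7, 5)]],
   [[(1, 5, 12, 5), (7, 7, 12, 16), (3, 12, 10, 23), (7, 10, 7, 14), (7, 12, 7, 5), (6, 12, 12, 17), (1, 6, 10, 5), (3, 10, 10, 14), (3, 4, 10, 23), (1, 8, 7, 5), (6, 4, 12, 17), (3, 7, 7, 11), (6, 7, 10, 18), (6, 10, 12, 14), (7, 4, 7, 5), (1, 13, 10, 5)],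
    [(2, 7, 7, 6), (2, 7, 7, 13), (2, 7, 7, 19), (2, 7, 7, 18), (2, 7, 7, 20), (2, 7, 7, 5), (2, 7, 7, 11), (2, 7, 7, 15), (2, 7, 7, 8), (2, 7, 7, 9), (2, 7, 7, 17), (2, 7, 7, 16), (2, 7, 7, 14), (2, 7, 7, 23), (2, 7, 7, 21), (2, 7, 7, 22)],
    [(2, 14, 7, 22), (2, 8, 7, 17), (2, 13, 7, 19), (2, 15, 7, 11), (2, 16, 7, 23), (2, 6, 7, 14), (2, 17, 7, 15), (2, 20, 7, 11), (2, 21, 7, 20), (2, 5, 7, 14), (2, 22, 7, 14), (2, 18, 7, 14), (2, 9, 7, 19), (2, 11, 7, 20), (2, 19, 7, 14), (2, 23, 7, 15)]],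
   [[(5, 5, 7, 9), (3, 11, 10, 8), (4, 6, 7, 21), (7, 11, 10, 8), (6, 11, 10, 8), (2, 23, 7, 6), (5, 7, 7, 18), (4, 4, 10, 15), (4, 5, 12, 14), (5, 12, 10, 19), (2, 14, 7, 20), (4, 6, 7, 20), (2, 17, 7, 14), (2, 5, 7, 20), (0, 9, 12, 5), (5, 4, 10, 15)],
    [(5, 4, 12, 9), (2, 19, 7, 19), (3, 5, 10, 17), (2, 16, 7, 11), (2, 15, 7, 21), (4, 4, 12, 9), (5, 9, 10, 6), (7, 5, 10, 17), (6, 5, 10, 17), (5, 8, 7, 11), (4, 8, 12, 5), (0, 14, 7, 5), (4, 7, 10, 15), (4, 9, 7, 18), (2, 8, 7, 13), (5, 6, 7, 17)],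
    [(7, 8, 10, 14), (2, 22, 7, 18), (4, 5, 12, 9), (2, 9, 7, 21), (2, 6, 7, 20), (5, 6, 7, 9), (0, 15, 7, 5), (4, 10, 7, 13), (4, 4, 7, 13), (3, 8, 10, 14), (5, 5, 7, 14), (4, 7, 12, 22), (5, 4, 7, 13), (5, 9, 10, 17), (2, 11, 7, 23), (6, 8, 10, 14)]],
   [[(5, 7, 7, 6), (7, 19, 12, 5), (4, 5, 12, 19), (3, 19, 12, 5), (0, 15, 12, 5), (2, 21, 7, 8), (5, 5, 12, 21), (4, 7, 7, 6), (4, 4, 10, 14), (5, 4, 10, 14), (2, 18, 7, 15), (4, 6, 7, 9), (2, 13, 7, 17), (2, 20, 7, 13), (6, 19, 12, 5), (5, 8, 10, 19)],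
    [(2, 22, 7, 11), (5, 12, 12, 23), (4, 9, 10, 11), (5, 5, 10, 20), (5, 9, 12, 8), (0, 13, 7, 5), (2, 9, 7, 5), (4, 5, 10, 16), (4, 10, 12, 23), (2, 11, 7, 16), (6, 21, 12, 22), (4, 4, 12, 14), (7, 21, 12, 22), (3, 21, 12, 22), (5, 4, 12, 14), (2, 6, 7, 9)],
    [(4, 7, 12, 19), (5, 4, 7, 14), (0, 9, 7, 5), (5, 6, 7, 15), (5, 5, 7, 21), (2, 19, 7, 9), (4, 5, 7, 19), (3, 22, 12, 14), (6, 22, 12, 14), (4, 8, 10, 17), (2, 15, 7, 5), (7, 22, 12, 14), (2, 8, 7, 19), (2, 16, 7, 13), (5, 6, 7, 19), (4, 4, 7, 14)]],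
   [[(5, 5, 10, 22), (4, 8, 10, 19), (2, 5, 7, 6), (4, 4, 7, 15), (4, 6, 10, 6), (7, 18, 12, 14), (5, 9, 7, 16), (2, 17, 7, 22), (2, 14, 7, 19), (5, 4, 7, 15), (6, 18, 12, 14), (2, 23, 7, 13), (3, 18, 12, 14), (0, 13, 12, 5), (4, 7, 12, 5), (5, 6, 12, 23)],
    [(5, 12, 10, 9), (0, 14, 10, 5), (4, 5, 10, 18), (6, 23, 12, 21), (7, 23, 12, 21), (2, 22, 7, 15), (5, 4, 10, 9), (4, 5, 10, 21), (4, 5, 10, 20), (5, 6, 12, 11), (2, 6, 7, 8), (4, 4, 10, 9), (2, 11, 7, 9), (2, 9, 7, 6), (3, 23, 12, 21), (5, 7, 7, 14)],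
    [(0, 9, 10, 5), (4, 7, 10, 5), (5, 10, 12, 21), (4, 10, 12, 21), (4, 8, 12, 8), (2, 18, 7, 11), (3, 6, 7, 14), (5, 8, 12, 13), (5, 5, 10, 14), (7, 6, 7, 14), (2, 21, 7, 23), (5, 4, 12, 13), (2, 20, 7, 5), (2, 13, 7, 18), (4, 4, 12, 13), (6, 6, 7, 14)]],
   [[(2, 22, 7, 19), (4, 4, 10, 11), (6, 17, 10, 9), (4, 7, 7, 23), (4, 8, 7, 19), (5, 9, 7, 20), (2, 9, 7, 9), (3, 17, 10, 9), (7, 17, 10, 9), (2, 11, 7, 11), (5, 4, 10, 11), (0, 5, 12, 5), (5, 8, 7, 21), (5, 6, 12, 22), (4, 6, 10, 23), (2, 6, 7, 16)],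
    [(5, 5, 10, 23), (2, 13, 7, 20), (0, 6, 7, 5), (2, 18, 7, 22), (2, 20, 7, 14), (4, 5, 7, 6), (5, 4, 12, 18), (6, 9, 10, 9), (7, 9, 10, 9), (5, 7, 10, 23), (4, 7, 10, 23), (3, 9, 10, 9), (4, 8, 12, 15), (4, 4, 12, 18), (2, 21, 7, 14), (5, 12, 12, 13)],
    [(4, 10, 7, 19), (5, 10, 7, 19), (6, 20, 12, 16), (5, 5, 10, 9), (5, 7, 12, 14), (2, 23, 7, 20), (4, 4, 7, 16), (7, 20, 12, 16), (0, 21, 10, 5), (4, 5, 7, 14), (2, 14, 7, 16), (3, 20, 12, 16), (2, 17, 7, 9), (2, 5, 7, 22), (5, 4, 7, 16), (4, 9, 12, 16)]],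
   [[(2, 21, 7, 16), (4, 4, 10, 5), (6, 16, 10, 17), (4, 7, 7, 9), (4, 5, 12, 8), (5, 9, 12, 20), (2, 20, 7, 21), (3, 16, 10, 17), (7, 16, 10, 17), (2, 13, 7, 23), (5, 4, 10, 5), (0, 8, 7, 5), (5, 5, 12, 13), (5, 7, 7, 9), (4, 10, 10, 5), (2, 18, 7, 16)],
    [(4, 8, 10, 22), (6, 20, 7, 11), (2, 9, 7, 17), (7, 20, 7, 11), (0, 18, 7, 5), (5, 5, 10, 13), (4, 4, 12, 23), (2, 11, 7, 19), (2, 6, 7, 22), (4, 5, 10, 8), (5, 9, 12, 19), (2, 22, 7, 6), (5, 6, 10, 9), (5, 4, 12, 23), (3, 20, 7, 11), (4, 7, 10, 21)],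
    [(5, 5, 7, 20), (4, 6, 10, 13), (2, 15, 7, 14), (4, 5, 7, 16), (4, 6, 10, 21), (6, 9, 7, 15), (5, 4, 7, 17), (2, 19, 7, 6), (2, 16, 7, 20), (5, 8, 12, 22), (7, 9, 7, 15), (2, 8, 7, 16), (0, 22, 12, 5), (3, 9, 7, 15), (4, 4, 7, 17), (5, 10, 7, 5)]],
   [[(4, 4, 10, 16), (2, 5, 7, 21), (5, 4, 10, 16), (2, 23, 7, 11), (2, 17, 7, 5), (3, 6, 10, 14), (4, 7, 7, 20), (5, 9, 7, 14), (5, 7, 7, 20), (4, 8, 12, 22), (6, 6, 10, 14), (5, 9, 7, 23), (0, 22, 10, 5), (7, 6, 10, 14), (2, 14, 7, 18), (4, 5, 12, 23)],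
    [(2, 16, 7, 6), (5, 4, 12, 11), (4, 6, 12, 6), (5, 5, 12, 15), (5, 5, 12, 8), (7, 23, 10, 22), (2, 19, 7, 15), (4, 4, 12, 11), (4, 8, 12, 23), (2, 15, 7, 18), (3, 23, 10, 22), (4, 7, 10, 19), (0, 17, 7, 5), (6, 23, 10, 22), (5, 5, 12, 16), (2, 8, 7, 21)],
    [(5, 6, 7, 11), (4, 6, 12, 5), (2, 9, 7, 13), (4, 7, 12, 9), (4, 5, 12, 6), (6, 15, 7, 9), (5, 4, 7, 18), (2, 11, 7, 14), (2, 6, 7, 13), (5, 12, 7, 21), (7, 15, 7, 9), (2, 22, 7, 21), (0, 8, 10, 5), (3, 15, 7, 9), (4, 4, 7, 18), (5, 10, 7, 18)]],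
   [[(4, 5, 7, 5), (5, 6, 12, 17), (6, 21, 10, 19), (5, 8, 10, 18), (5, 7, 12, 17), (2, 5, 7, 11), (4, 4, 7, 19), (7, 21, 10, 19), (0, 20, 12, 5), (4, 7, 12, 17), (2, 17, 7, 11), (3, 21, 10, 19), (2, 14, 7, 8), (2, 23, 7, 18), (5, 4, 7, 19), (4, 8, 10, 15)],
    [(2, 6, 7, 15), (4, 8, 7, 8), (7, 14, 10, 21), (4, 9, 12, 18), (4, 7, 7, 17), (5, 5, 7, 15), (2, 11, 7, 22), (0, 23, 12, 5), (6, 14, 10, 21), (2, 9, 7, 22), (5, 5, 7, 8), (3, 14, 10, 21), (5, 5, 7, 19), (5, 4, 10, 22), (4, 4, 10, 22), (2, 22, 7, 8)],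
    [(5, 4, 12, 21), (2, 13, 7, 21), (3, 22, 7, 14), (2, 18, 7, 9), (2, 20, 7, 17), (4, 4, 12, 21), (5, 9, 12, 6), (7, 22, 7, 14), (6, 22, 7, 14), (5, 9, 12, 9), (4, 6, 12, 13), (0, 11, 7, 5), (4, 5, 7, 11), (4, 6, 12, 20), (2, 21, 7, 5), (5, 7, 10, 14)]],
   [[(2, 23, 7, 22), (4, 8, 12, 9), (3, 9, 12, 13), (4, 10, 10, 15), (4, 4, 10, 8), (5, 4, 10, 8), (2, 5, 7, 13), (6, 9, 12, 13), (0, 11, 10, 5), (2, 17, 7, 17), (5, 6, 12, 15), (7, 9, 12, 13), (5, 6, 12, 16), (5, 5, 7, 11), (4, 7, 7, 13), (2, 14, 7, 21)],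
    [(3, 17, 7, 15), (4, 5, 7, 20), (5, 4, 12, 6), (4, 5, 7, 18), (4, 4, 12, 6), (2, 19, 7, 8), (0, 23, 10, 5), (5, 7, 10, 16), (5, 9, 10, 11), (6, 17, 7, 15), (2, 15, 7, 13), (5, 10, 12, 11), (2, 8, 7, 18), (2, 16, 7, 9), (4, 5, 7, 13), (7, 17, 7, 15)],
    [(2, 9, 7, 20), (3, 16, 12, 5), (5, 8, 12, 16), (6, 16, 12, 5), (0, 19, 7, 5), (4, 7, 12, 6), (2, 22, 7, 20), (5, 4, 7, 20), (5, 7, 12, 6), (2, 6, 7, 18), (4, 4, 7, 20), (5, 5, 7, 5), (4, 6, 12, 17), (4, 9, 7, 16), (7, 16, 12, 5), (2, 11, 7, 17)]],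
   [[(0, 5, 10, 5), (4, 7, 10, 8), (5, 6, 7, 5), (4, 10, 12, 9), (4, 6, 12, 22), (2, 19, 7, 16), (3, 14, 7, 22), (5, 12, 12, 22), (5, 7, 10, 8), (7, 14, 7, 22), (2, 15, 7, 20), (5, 4, 12, 22), (2, 8, 7, 20), (2, 16, 7, 22), (4, 4, 12, 22), (6, 14, 7, 22)],
    [(2, 22, 7, 13), (3, 19, 7, 23), (5, 5, 7, 17), (6, 19, 7, 23), (0, 16, 12, 5), (4, 5, 12, 11), (2, 9, 7, 18), (5, 4, 7, 21), (5, 7, 12, 11), (2, 11, 7, 5), (4, 4, 7, 21), (5, 9, 10, 14), (4, 8, 7, 21), (4, 8, 7, 13), (7, 19, 7, 23), (2, 6, 7, 21)],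
    [(2, 14, 7, 13), (4, 7, 7, 21), (0, 6, 10, 5), (4, 4, 10, 19), (4, 5, 12, 17), (5, 5, 7, 6), (2, 17, 7, 23), (7, 22, 10, 14), (3, 22, 10, 14), (2, 5, 7, 18), (5, 8, 7, 17), (6, 22, 10, 14), (5, 4, 10, 19), (5, 10, 10, 16), (4, 9, 10, 16), (2, 23, 7, 9)]],
   [[(5, 7, 7, 8), (7, 21, 7, 21), (4, 8, 7, 23), (3, 21, 7, 21), (0, 18, 10, 5), (2, 19, 7, 20), (5, 10, 10, 13), (4, 7, 7, 8), (4, 4, 10, 21), (5, 4, 10, 21), (2, 15, 7, 19), (4, 6, 10, 19), (2, 8, 7, 6), (2, 16, 7, 15), (6, 21, 7, 21), (5, 5, 12, 23)],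
    [(4, 9, 10, 18), (6, 19, 10, 17), (2, 14, 7, 5), (7, 19, 10, 17), (0, 8, 12, 5), (5, 6, 7, 18), (4, 4, 12, 19), (2, 23, 7, 14), (2, 5, 7, 19), (4, 6, 7, 15), (5, 9, 10, 15), (2, 17, 7, 21), (5, 5, 12, 6), (5, 4, 12, 19), (3, 19, 10, 17), (4, 7, 10, 9)],
    [(2, 21, 7, 11), (3, 14, 12, 19), (5, 8, 10, 5), (6, 14, 12, 19), (0, 17, 12, 5), (4, 5, 12, 18), (2, 20, 7, 15), (5, 4, 7, 22), (5, 6, 12, 13), (2, 13, 7, 6), (4, 4, 7, 22), (5, 9, 7, 6), (4, 5, 12, 13), (4, 5, 12, 21), (7, 14, 12, 19), (2, 18, 7, 21)]],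
   [[(4, 5, 7, 15), (5, 5, 7, 18), (6, 6, 12, 14), (5, 12, 7, 17), (5, 7, 12, 15), (2, 16, 7, 21), (4, 4, 7, 23), (7, 6, 12, 14), (0, 11, 12, 5), (4, 7, 12, 15), (2, 8, 7, 15), (3, 6, 12, 14), (2, 15, 7, 23), (2, 19, 7, 22), (5, 4, 7, 23), (4, 9, 12, 14)],
    [(5, 4, 10, 17), (6, 15, 12, 15), (4, 4, 10, 17), (0, 19, 12, 5), (3, 15, 12, 15), (2, 20, 7, 18), (5, 9, 12, 18), (4, 8, 12, 21), (4, 8, 12, 20), (5, 5, 12, 20), (2, 13, 7, 14), (4, 5, 12, 16), (2, 18, 7, 8), (2, 21, 7, 19), (7, 15, 12, 15), (5, 6, 10, 23)],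
    [(2, 9, 7, 14), (5, 4, 12, 5), (4, 6, 7, 5), (5, 10, 12, 17), (5, 7, 10, 20), (7, 18, 7, 14), (2, 22, 7, 9), (4, 4, 12, 5), (4, 5, 10, 15), (2, 6, 7, 11), (3, 18, 7, 14), (4, 7, 10, 20), (0, 20, 7, 5), (6, 18, 7, 14), (5, 5, 10, 18), (2, 11, 7, 8)]]]

/-- The certificate of a normal form triple. -/
def cert4At (c4 c5 c6 : ℕ) : ℕ × ℕ × ℕ × ℕ :=
  ((cert4.getD (c4 - 4) []).getD ((orbL.getD 5 []).idxOf c5) []).getD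
    ((orbL.getD 6 []).idxOf c6) (0, 0, 0, 0)

/-- Check of a certificate. -/
def chk4 (c4 c5 c6 : ℕ) (e : ℕ × ℕ × ℕ × ℕ) : Bool :=
  decide (e.1 < clsR.length) && ok4 e.2.1 e.2.2.1 e.2.2.2 &&
    Nat.beq (compN (t4N c4 c5 c6) (t4N e.2.1 e.2.2.1 e.2.2.2))
      (compN (t4N e.2.1 e.2.2.1 e.2.2.2)
        (t4N (clsR.getD e.1 (0, 0, 0, 0, 0, 0)).1 (clsR.getD e.1 (0, 0, 0, 0, 0, 0)).2.1
          (clsR.getD e.1 (0, 0, 0, 0, 0, 0)).2.2.1))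

theorem cert4_ok : ((orbL.getD 4 []).all fun c4 => (orbL.getD 5 []).all fun c5 =>
    (orbL.getD 6 []).all fun c6 =>
      (c4 == 4 && c5 == 7 && c6 == 5) || chk4 c4 c5 c6 (cert4At c4 c5 c6)) = true := by
  decide +kernel

theorem tw_base_nil : tw 4 4 = [] ∧ tw 5 7 = [] ∧ tw 6 5 = [] := by decide +kernel

theorem z0_mem_of_cls {N : Subgroup (Equiv.Perm GolayPt)} (hN : NormalIn N (stabL M24 3))
    (e : ℕ × ℕ × ℕ × ℕ × ℕ × ℕ) (he : e ∈ clsR) (hr : E4 e.1 e.2.1 e.2.2.1 ∈ N) : z0 ∈ N := by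
  have h := clsR_ok
  rw [List.all_eq_true] at h
  have h1 := h e he
  simp only [chkCls, Bool.and_eq_true] at h1
  obtain ⟨⟨hr4, hh4⟩, heq⟩ := h1
  obtain ⟨-, hrT⟩ := E4_spec hr4
  obtain ⟨hhm, hhT⟩ := E4_spec hh4
  have e1 : z0 * (E4 e.1 e.2.1 e.2.2.1 * E4 e.2.2.2.1 e.2.2.2.2.1 e.2.2.2.2.2) =
      E4 e.2.2.2.1 e.2.2.2.2.1 e.2.2.2.2.2 * E4 e.1 e.2.1 e.2.2.1 :=
    eq_of_beq (isTableN_mul z0_spec.2 (isTableN_mul hrT hhT)) (isTableN_mul hhT hrT) heq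
  generalize E4 e.1 e.2.1 e.2.2.1 = r at hr e1
  generalize E4 e.2.2.2.1 e.2.2.2.2.1 e.2.2.2.2.2 = k at hhm e1
  have e2 : z0 = k * r * k⁻¹ * r⁻¹ := by
    have : z0 = (z0 * (r * k)) * k⁻¹ * r⁻¹ := by group
    rw [this, e1]
  rw [e2]
  exact N.mul_mem (hN.2 k (stabL_anti M24 (by norm_num) hhm) r hr) (N.inv_mem hr)

/-- A normal subgroup of the three-point stabiliser containing a non-identity element of the
four-point stabiliser contains `z0`. -/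
theorem z0_mem_of_mem {N : Subgroup (Equiv.Perm GolayPt)} (hN : NormalIn N (stabL M24 3))
    (q : Equiv.Perm GolayPt) (hq : q ∈ N) (hq4 : q ∈ stabL M24 4) (hq1 : q ≠ 1) : z0 ∈ N := by
  obtain ⟨c4, c5, c6, hok, hqe⟩ := nf4N q hq4
  have hqT := (E4_spec hok).2
  simp only [ok4, Bool.and_eq_true, List.contains_iff_mem] at hok
  obtain ⟨⟨hc4, hc5⟩, hc6⟩ := hok
  have h := cert4_ok
  rw [List.all_eq_true] at h
  have h1 := h c4 hc4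
  rw [List.all_eq_true] at h1
  have h2 := h1 c5 hc5
  rw [List.all_eq_true] at h2
  have h3 := h2 c6 hc6
  rw [Bool.or_eq_true] at h3
  rcases h3 with h3 | h3
  · exfalso
    simp only [Bool.and_eq_true, beq_iff_eq] at h3
    obtain ⟨⟨rfl, rfl⟩, rfl⟩ := h3
    apply hq1
    rw [hqe, E4, tw_base_nil.1, tw_base_nil.2.1, tw_base_nil.2.2]
    rfl
  · generalize cert4At c4 c5 c6 = e at h3
    simp only [chk4, Bool.and_eq_true, decide_eq_true_eq] at h3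
    obtain ⟨⟨hk, hg4⟩, heq⟩ := h3
    have hmem : clsR.getD e.1 (0, 0, 0, 0, 0, 0) ∈ clsR := by
      rw [List.getD_eq_getElem _ _ hk]
      exact List.getElem_mem hk
    generalize clsR.getD e.1 (0, 0, 0, 0, 0, 0) = c at hmem heq
    have hc := clsR_ok
    rw [List.all_eq_true] at hc
    have hc1 := hc c hmem
    simp only [chkCls, Bool.and_eq_true] at hc1
    obtain ⟨hgm, hgT⟩ := E4_spec hg4
    obtain ⟨-, hrT⟩ := E4_spec hc1.1.1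
    rw [← hqe] at hqT
    have e1 : q * E4 e.2.1 e.2.2.1 e.2.2.2 = E4 e.2.1 e.2.2.1 e.2.2.2 * E4 c.1 c.2.1 c.2.2.1 :=
      eq_of_beq (isTableN_mul hqT hgT) (isTableN_mul hgT hrT) heq
    refine z0_mem_of_cls hN c hmem ?_
    generalize E4 e.2.1 e.2.2.1 e.2.2.2 = g at hgm e1
    have e2 : E4 c.1 c.2.1 c.2.2.1 = g⁻¹ * q * g⁻¹⁻¹ := by
      have : E4 c.1 c.2.1 c.2.2.1 = g⁻¹ * (g * E4 c.1 c.2.1 c.2.2.1) := by group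
      rw [this, ← e1]
      group
    rw [e2]
    exact hN.2 g⁻¹ (inv_mem (stabL_anti M24 (by norm_num) hgm)) q hq

/-! ### The transversal elements are products of conjugates of `z0` -/

/-- Certificates: entry `j - 4`, `c` is a list of pairs `(s, u)` of normal form quadruples with
`u * z0 = s * u`, the product of the `s` being the transversal element `tw j c`. -/
def gcert : List (List (List ((ℕ × ℕ × ℕ × ℕ) × (ℕ × ℕ × ℕ × ℕ)))) :=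
  [[[],
    [],
    [],
    [],
    [],
    [((3, 4, 7, 23), (3, 4, 10, 5)), ((3, 23, 7, 16), (22, 4, 10, 5))],
    [((3, 4, 7, 9), (4, 4, 12, 5)), ((3, 14, 7, 11), (8, 8, 10, 5))],
    [((10, 18, 10, 21), (4, 8, 10, 5)), ((10, 20, 12, 11), (7, 13, 7, 5))],
    [((3, 4, 7, 19), (4, 4, 10, 5)), ((3, 14, 10, 13), (20, 8, 12, 5))],
    [((3, 9, 7, 21), (5, 8, 10, 5)), ((3, 4, 7, 21), (10, 13, 7, 5))],
    [((3, 10, 7, 5), (3, 8, 12, 5))],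
    [((23, 9, 7, 6), (5, 6, 7, 5)), ((23, 16, 12, 9), (14, 6, 12, 5))],
    [((3, 12, 7, 5), (3, 5, 7, 5))],
    [((3, 19, 10, 15), (5, 8, 12, 5)), ((3, 6, 10, 9), (8, 8, 12, 5))],
    [((3, 4, 7, 11), (7, 8, 7, 5)), ((3, 22, 7, 11), (13, 6, 10, 5))],
    [((3, 9, 7, 21), (5, 8, 10, 5)), ((3, 13, 7, 22), (22, 4, 12, 5))],
    [((3, 4, 7, 19), (4, 4, 10, 5)), ((3, 23, 10, 9), (16, 13, 10, 5))],
    [((3, 4, 7, 19), (4, 4, 10, 5)), ((3, 15, 10, 6), (17, 5, 12, 5))],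
    [((3, 4, 7, 20), (7, 8, 10, 5)), ((3, 14, 7, 11), (8, 8, 10, 5))],
    [((3, 4, 7, 16), (7, 8, 12, 5)), ((3, 23, 7, 16), (22, 4, 10, 5))],
    [((23, 9, 7, 6), (5, 6, 7, 5)), ((23, 7, 7, 13), (17, 4, 12, 5))],
    [((3, 21, 7, 5), (17, 5, 7, 5))],
    [((3, 4, 7, 11), (7, 8, 7, 5)), ((3, 14, 7, 11), (8, 8, 10, 5))],
    [((3, 4, 7, 16), (7, 8, 12, 5)), ((3, 19, 7, 16), (18, 5, 12, 5))]],
   [[],
    [],
    [],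
    [],
    [],
    [],
    [],
    [],
    [],
    [],
    [((14, 12, 12, 17), (5, 6, 10, 5)), ((14, 12, 7, 23), (17, 13, 12, 5))],
    [],
    [((14, 12, 12, 17), (5, 6, 10, 5)), ((14, 12, 10, 14), (23, 6, 12, 5))],
    [],
    [],
    [],
    [],
    [],
    [],
    [],
    [],
    [],
    [],
    []],
   [[],
    [],
    [],
    [],
    [],
    [],
    [((3, 4, 7, 6), (12, 8, 12, 5))],
    [],
    [((3, 4, 7, 8), (10, 13, 10, 5))],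
    [((3, 4, 7, 9), (4, 4, 12, 5))],
    [],
    [((3, 4, 7, 11), (7, 8, 7, 5))],
    [],
    [((3, 4, 7, 13), (12, 8, 7, 5))],
    [((3, 4, 7, 14), (3, 4, 7, 5))],
    [((3, 4, 7, 15), (12, 8, 10, 5))],
    [((3, 4, 7, 16), (7, 8, 12, 5))],
    [((3, 4, 7, 17), (3, 4, 12, 5))],
    [((3, 4, 7, 18), (4, 4, 7, 5))],
    [((3, 4, 7, 19), (4, 4, 10, 5))],
    [((3, 4, 7, 20), (7, 8, 10, 5))],
    [((3, 4, 7, 21), (10, 13, 7, 5))],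
    [((3, 4, 7, 22), (10, 13, 12, 5))],
    [((3, 4, 7, 23), (3, 4, 10, 5))]]]

/-- The table of a normal form quadruple. -/
def tq (e : ℕ × ℕ × ℕ × ℕ) : ℕ := t3N e.1 e.2.1 e.2.2.1 e.2.2.2

/-- Check of one conjugate. -/
def chkS (e : (ℕ × ℕ × ℕ × ℕ) × (ℕ × ℕ × ℕ × ℕ)) : Bool :=
  ok3 e.1.1 e.1.2.1 e.1.2.2.1 e.1.2.2.2 && ok3 e.2.1 e.2.2.1 e.2.2.2.1 e.2.2.2.2 &&
    Nat.beq (compN (tq e.2) z0T) (compN (tq e.1) (tq e.2))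

/-- The table of the product of the conjugates. -/
def prodS : List ((ℕ × ℕ × ℕ × ℕ) × (ℕ × ℕ × ℕ × ℕ)) → ℕ
  | [] => idN
  | e :: l => compN (tq e.1) (prodS l)

theorem gcert_ok : ((List.range 3).all fun j => (orbL.getD (j + 4) []).all fun c =>
    ((gcert.getD j []).getD c []).all chkS &&
      Nat.beq (ttN (j + 4) c) (prodS ((gcert.getD j []).getD c []))) = true := by
  decide +kernel

theorem prodS_mem {N : Subgroup (Equiv.Perm GolayPt)} (hN : NormalIn N (stabL M24 3))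
    (hz : z0 ∈ N) : ∀ l : List ((ℕ × ℕ × ℕ × ℕ) × (ℕ × ℕ × ℕ × ℕ)), l.all chkS = true →
      ∃ σ ∈ N, IsTableN σ (prodS l) := by
  intro l
  induction l with
  | nil => intro _; exact ⟨1, one_mem _, isTableN_one⟩
  | cons e l ih =>
    intro h
    rw [List.all_cons, Bool.and_eq_true] at h
    obtain ⟨σ, hσ, hσT⟩ := ih h.2
    have h1 := h.1
    simp only [chkS, Bool.and_eq_true] at h1
    obtain ⟨⟨hs, hu⟩, heq⟩ := h1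
    obtain ⟨-, hsT⟩ := E3_spec hs
    obtain ⟨hum, huT⟩ := E3_spec hu
    have e1 : E3 e.2.1 e.2.2.1 e.2.2.2.1 e.2.2.2.2 * z0 =
        E3 e.1.1 e.1.2.1 e.1.2.2.1 e.1.2.2.2 * E3 e.2.1 e.2.2.1 e.2.2.2.1 e.2.2.2.2 :=
      eq_of_beq (isTableN_mul huT z0_spec.2) (isTableN_mul hsT huT) heq
    refine ⟨E3 e.1.1 e.1.2.1 e.1.2.2.1 e.1.2.2.2 * σ, N.mul_mem ?_ hσ, isTableN_mul hsT hσT⟩
    generalize E3 e.2.1 e.2.2.1 e.2.2.2.1 e.2.2.2.2 = u at hum e1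
    have e2 : E3 e.1.1 e.1.2.1 e.1.2.2.1 e.1.2.2.2 = u * z0 * u⁻¹ := by
      rw [e1]; group
    rw [e2]
    exact hN.2 u hum z0 hz

theorem tw_mem_of_z0 {N : Subgroup (Equiv.Perm GolayPt)} (hN : NormalIn N (stabL M24 3))
    (hz : z0 ∈ N) (j : ℕ) (hj : j < 3) (c : ℕ) (hc : c ∈ orbL.getD (j + 4) []) :
    permW (tw (j + 4) c) ∈ N := by
  have h := gcert_ok
  rw [List.all_eq_true] at h
  have h1 := h j (List.mem_range.2 hj)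
  rw [List.all_eq_true] at h1
  have h2 := h1 c hc
  rw [Bool.and_eq_true] at h2
  obtain ⟨σ, hσ, hσT⟩ := prodS_mem hN hz _ h2.1
  rw [eq_of_beq (isTableN_tw (j + 4) c (by omega) hc) hσT h2.2]
  exact hσ

/-- A normal subgroup of the three-point stabiliser meeting the four-point stabiliser nontrivially
contains it. -/
theorem stab4_le {N : Subgroup (Equiv.Perm GolayPt)} (hN : NormalIn N (stabL M24 3))
    (hne : N ⊓ stabL M24 4 ≠ ⊥) : stabL M24 4 ≤ N := by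
  obtain ⟨q, hq1⟩ := (Subgroup.ne_bot_iff_exists_ne_one).1 hne
  have hq : (q : Equiv.Perm GolayPt) ∈ N ⊓ stabL M24 4 := q.2
  have hz : z0 ∈ N := z0_mem_of_mem hN q (Subgroup.mem_inf.1 hq).1 (Subgroup.mem_inf.1 hq).2
    (fun h => hq1 (Subtype.ext h))
  intro g hg
  obtain ⟨c4, hc4, c5, hc5, c6, hc6, hge, -⟩ := nf4 g hg
  rw [hge]
  exact N.mul_mem (tw_mem_of_z0 hN hz 0 (by norm_num) c4 hc4)
    (N.mul_mem (tw_mem_of_z0 hN hz 1 (by norm_num) c5 hc5)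
      (tw_mem_of_z0 hN hz 2 (by norm_num) c6 hc6))

end Cfsg.Agent.Lib.helper9
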