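import Cfsg.Agent.Lib.helper9.M22Fus
import Cfsg.Agent.Lib.helper9.CrossStab
import Cfsg.Agent.Lib.helper9.FusCrit2
import Cfsg.Agent.Lib.helper93.LeechPack
import Cfsg.Prelude.Def_Spor_Conway

/-!
The `2`-fusion system of the McLaughlin group: the Sylow `2`-subgroup of `M₂₂`, acting on the
Leech lattice by coordinate permutations, is a self-normalising subgroup of `McL` with no proper
nontrivial strongly closed subgroup.
-/

set_option autoImplicit false
open Cfsg
open Cfsg.Agent.Lib.helper93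

namespace Cfsg.Agent.Lib.helper9

/-- The coordinate permutation action of `M24` on the lattice, as a homomorphism. -/
noncomputable def permLeech : ↥M24 →* Equiv.Perm ↥leechLattice where
  toFun σ := (permCo σ.1 σ.2).1
  map_one' := by
    apply Equiv.ext; intro v; apply Subtype.ext; rfl
  map_mul' σ τ := by
    apply Equiv.ext; intro v; apply Subtype.ext; rfl

theorem permLeech_apply (σ : ↥M24) (v : ↥leechLattice) (i : GolayPt) :
    ((permLeech σ v : ↥leechLattice) : GolayPt → ℤ) i = (v : GolayPt → ℤ) (σ.1.symm i) := rfl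

theorem permLeech_mem_Co0 (σ : ↥M24) : permLeech σ ∈ Co0 := (permCo σ.1 σ.2).2

theorem permLeech_E (σ : ↥M24) (q : GolayPt) : permLeech σ (E q) = E (σ.1 q) :=
  permCo_E σ.1 σ.2 q

theorem permLeech_injective : Function.Injective permLeech := by
  intro σ τ h
  apply Subtype.ext; apply Equiv.ext; intro q
  have h1 : permLeech σ (E q) = permLeech τ (E q) := by rw [h]
  rw [permLeech_E, permLeech_E] at h1
  have h2 := congrFun (congrArg Subtype.val h1) (σ.1 q)
  rw [E_apply, E_apply, if_pos rfl] at h2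
  by_contra hne
  rw [if_neg hne] at h2
  norm_num at h2

theorem permLeech_fix_V (σ : ↥M24) (h : σ.1 none = none) :
    permLeech σ Spor.leechV = Spor.leechV := by
  apply Subtype.ext; funext i
  show Spor.vecV (σ.1.symm i) = Spor.vecV i
  unfold Spor.vecV
  have h' : σ.1.symm none = none := by rw [Equiv.symm_apply_eq]; exact h.symm
  by_cases hi : i = none
  · subst hi; rw [h']
  · have h2 : σ.1.symm i ≠ none := fun hh => hi (by rw [← σ.1.apply_symm_apply i, hh, h])
    rw [if_neg h2, if_neg hi]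

theorem permLeech_fix_U (σ : ↥M24) (h : σ.1 none = none) (h0 : σ.1 (some 0) = some 0) :
    permLeech σ Spor.leechU = Spor.leechU := by
  apply Subtype.ext; funext i
  show Spor.vecU (σ.1.symm i) = Spor.vecU i
  unfold Spor.vecU
  have h' : σ.1.symm none = none := by rw [Equiv.symm_apply_eq]; exact h.symm
  have h0' : σ.1.symm (some 0) = some 0 := by rw [Equiv.symm_apply_eq]; exact h0.symm
  by_cases hi : i = none ∨ i = some 0
  · rw [if_pos hi]
    rcases hi with rfl | rfl
    · rw [h', if_pos (Or.inl rfl)]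
    · rw [h0', if_pos (Or.inr rfl)]
  · have h2 : ¬ (σ.1.symm i = none ∨ σ.1.symm i = some 0) := by
      rintro (hh | hh)
      · exact hi (Or.inl (by rw [← σ.1.apply_symm_apply i, hh, h]))
      · exact hi (Or.inr (by rw [← σ.1.apply_symm_apply i, hh, h0]))
    rw [if_neg h2, if_neg hi]

theorem M22_le_M24 : Spor.M22 ≤ M24 := inf_le_left.trans inf_le_left

theorem M22_none {σ : Equiv.Perm GolayPt} (h : σ ∈ Spor.M22) : σ none = none :=
  MulAction.mem_stabilizer_iff.1 (Subgroup.mem_inf.1 (Subgroup.mem_inf.1 h).1).2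

theorem M22_zero {σ : Equiv.Perm GolayPt} (h : σ ∈ Spor.M22) : σ (some 0) = some 0 :=
  MulAction.mem_stabilizer_iff.1 (Subgroup.mem_inf.1 h).2

/-- The image in `McL` of the Sylow `2`-subgroup of `M₂₂`. -/
noncomputable def mclS : Subgroup (Equiv.Perm ↥leechLattice) :=
  ((grpN xs22).subgroupOf M24).map permLeech

theorem mem_mclS_iff (f : Equiv.Perm ↥leechLattice) :
    f ∈ mclS ↔ ∃ σ : ↥M24, σ.1 ∈ grpN xs22 ∧ permLeech σ = f := Iff.rfl

theorem permLeech_mem_McL (σ : ↥M24) (h : σ.1 ∈ Spor.M22) : permLeech σ ∈ Spor.McL :=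
  Subgroup.mem_inf.2 ⟨Subgroup.mem_inf.2 ⟨permLeech_mem_Co0 σ,
    MulAction.mem_stabilizer_iff.2 (permLeech_fix_V σ (M22_none h))⟩,
    MulAction.mem_stabilizer_iff.2 (permLeech_fix_U σ (M22_none h) (M22_zero h))⟩

theorem mclS_le : mclS ≤ Spor.McL := by
  rintro f ⟨σ, hσ, rfl⟩
  exact permLeech_mem_McL σ (le22 hσ)

theorem card_mclS : Nat.card mclS = 2 ^ 7 := by
  rw [← card22]
  unfold mclS
  rw [Nat.card_congr
    (Subgroup.equivMapOfInjective _ permLeech permLeech_injective).toEquiv.symm]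
  exact Nat.card_congr (Subgroup.subgroupOfEquivOfLe (le22.trans M22_le_M24)).toEquiv

/-! ### Vectors fixed by the `2`-group -/

theorem exists_map_of_transChk {xs : List ℕ} (hpc : pcChk xs = true) {P : List ℕ} {m x0 : ℕ}
    {ws : List ℕ} (hchk : transChk (expand xs) P m x0 ws = true) (y : ℕ) (hy : y < 24)
    (hm : m.testBit y = true) : ∃ s ∈ grpN xs, s (pt y) = pt x0 := by
  simp only [transChk, Bool.and_eq_true, List.all_eq_true, Bool.or_eq_true, Bool.not_eq_true',
    List.any_eq_true, List.mem_range, Nat.blt_eq, Nat.beq_eq] at hchk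
  obtain ⟨⟨⟨⟨hx0, hbit⟩, hP24⟩, hws⟩, htr⟩ := hchk
  rcases htr y hy with h1 | ⟨n, hn, hny⟩
  · rw [hm] at h1; exact absurd h1 (by decide)
  · obtain ⟨hnL, hnP⟩ := hws n hn
    obtain ⟨s, hs, hst⟩ := expand_realize (pcChk_ok hpc) n (memB_iff.1 hnL)
    exact ⟨s, hs, by rw [apply_pt_tbl hst hy, hny]⟩

theorem tr22h : transChk (expand xs22) [] 2097156 2
    [idN, 981443362225953844553244091530990848] = true := by decide +kernel

/-- Representative index of the orbit of the index `i` under the Sylow `2`-subgroup. -/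
def cls22 (i : ℕ) : ℕ :=
  if i = 23 then 23 else if i = 0 then 0 else if i = 2 ∨ i = 21 then 2
  else if i = 10 ∨ i = 12 ∨ i = 13 ∨ i = 17 then 10 else 1

theorem cls22_key : ∀ i < 24, cls22 i = i ∨ ((6147066 : ℕ).testBit i = true ∧ cls22 i = 1) ∨
    ((144384 : ℕ).testBit i = true ∧ cls22 i = 10) ∨
    ((2097156 : ℕ).testBit i = true ∧ cls22 i = 2) := by decide

theorem const_of_fix {x : ↥leechLattice} (hx : ∀ f ∈ mclS, f x = x) {s : Equiv.Perm GolayPt}
    (hs : s ∈ grpN xs22) (p : GolayPt) :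
    (x : GolayPt → ℤ) (s p) = (x : GolayPt → ℤ) p := by
  have hs24 : s ∈ M24 := M22_le_M24 (le22 hs)
  have h1 := hx (permLeech ⟨s, hs24⟩) ⟨⟨s, hs24⟩, hs, rfl⟩
  have h2 := congrFun (congrArg Subtype.val h1) (s p)
  rw [permLeech_apply] at h2
  rw [← h2]
  show (x : GolayPt → ℤ) (s.symm (s p)) = (x : GolayPt → ℤ) p
  rw [Equiv.symm_apply_apply]

theorem cls_of_fix {x : ↥leechLattice} (hx : ∀ f ∈ mclS, f x = x) (i : ℕ) (hi : i < 24) :
    (x : GolayPt → ℤ) (pt i) = (x : GolayPt → ℤ) (pt (cls22 i)) := by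
  rcases cls22_key i hi with h | ⟨hb, h⟩ | ⟨hb, h⟩ | ⟨hb, h⟩
  · rw [h]
  · obtain ⟨s, hs, hsy⟩ := exists_map_of_transChk pc22 tr22d i hi hb
    rw [h, ← hsy]; exact (const_of_fix hx hs _).symm
  · obtain ⟨s, hs, hsy⟩ := exists_map_of_transChk pc22 tr22e i hi hb
    rw [h, ← hsy]; exact (const_of_fix hx hs _).symm
  · obtain ⟨s, hs, hsy⟩ := exists_map_of_transChk pc22 tr22h i hi hb
    rw [h, ← hsy]; exact (const_of_fix hx hs _).symm

theorem vecV_pt : ∀ i < 24, Spor.vecV (pt i) = if i = 23 then -5 else -1 := by decide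

theorem vecU_pt : ∀ i < 24, Spor.vecU (pt i) = if i = 23 ∨ i = 0 then 4 else 0 := by decide

theorem sqNorm_of_fix {x : ↥leechLattice} (hx : ∀ f ∈ mclS, f x = x) :
    sqNorm (x : GolayPt → ℤ) = x.1 (pt 23) ^ 2 + x.1 (pt 0) ^ 2 + 2 * x.1 (pt 2) ^ 2 +
      4 * x.1 (pt 10) ^ 2 + 16 * x.1 (pt 1) ^ 2 := by
  unfold sqNorm
  rw [sum_vecP_eq (fun p => x.1 p ^ 2)]
  have h : ∀ i ∈ Finset.range 24, x.1 (pt i) ^ 2 = x.1 (pt (cls22 i)) ^ 2 := fun i hi => by
    rw [cls_of_fix hx i (Finset.mem_range.1 hi)]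
  rw [Finset.sum_congr rfl h]
  simp only [Finset.sum_range_succ, Finset.sum_range_zero]
  norm_num [cls22]
  ring

theorem dotU_of_fix {x : ↥leechLattice} (hx : ∀ f ∈ mclS, f x = x) :
    dotInt (Spor.leechU : GolayPt → ℤ) (x : GolayPt → ℤ) = 4 * x.1 (pt 23) + 4 * x.1 (pt 0) := by
  unfold dotInt
  rw [sum_vecP_eq (fun p => (Spor.leechU : GolayPt → ℤ) p * x.1 p)]
  have h : ∀ i ∈ Finset.range 24, (Spor.leechU : GolayPt → ℤ) (pt i) * x.1 (pt i) =
      (if i = 23 ∨ i = 0 then 4 else 0) * x.1 (pt (cls22 i)) := fun i hi => by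
    rw [cls_of_fix hx i (Finset.mem_range.1 hi)]
    congr 1
    exact vecU_pt i (Finset.mem_range.1 hi)
  rw [Finset.sum_congr rfl h]
  simp only [Finset.sum_range_succ, Finset.sum_range_zero]
  norm_num [cls22]
  ring

theorem dotV_of_fix {x : ↥leechLattice} (hx : ∀ f ∈ mclS, f x = x) :
    dotInt (Spor.leechV : GolayPt → ℤ) (x : GolayPt → ℤ) = -5 * x.1 (pt 23) - x.1 (pt 0) -
      2 * x.1 (pt 2) - 4 * x.1 (pt 10) - 16 * x.1 (pt 1) := by
  unfold dotInt
  rw [sum_vecP_eq (fun p => (Spor.leechV : GolayPt → ℤ) p * x.1 p)]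
  have h : ∀ i ∈ Finset.range 24, (Spor.leechV : GolayPt → ℤ) (pt i) * x.1 (pt i) =
      (if i = 23 then -5 else -1) * x.1 (pt (cls22 i)) := fun i hi => by
    rw [cls_of_fix hx i (Finset.mem_range.1 hi)]
    congr 1
    exact vecV_pt i (Finset.mem_range.1 hi)
  rw [Finset.sum_congr rfl h]
  simp only [Finset.sum_range_succ, Finset.sum_range_zero]
  norm_num [cls22]
  ring

theorem dioph22 (a b c d e : ℤ)
    (h1 : a ^ 2 + b ^ 2 + 2 * c ^ 2 + 4 * d ^ 2 + 16 * e ^ 2 = 64)
    (h2 : 4 * a + 4 * b = 32) (h3 : -5 * a - b - 2 * c - 4 * d - 16 * e = -40) :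
    a = 8 := by
  have he : -2 ≤ e ∧ e ≤ 2 :=
    abs_le_of_sq_le_sq' (by nlinarith [sq_nonneg a, sq_nonneg b, sq_nonneg c, sq_nonneg d])
      (by norm_num)
  have hd : -4 ≤ d ∧ d ≤ 4 :=
    abs_le_of_sq_le_sq' (by nlinarith [sq_nonneg a, sq_nonneg b, sq_nonneg c, sq_nonneg e])
      (by norm_num)
  have ha : -8 ≤ a ∧ a ≤ 8 :=
    abs_le_of_sq_le_sq' (by nlinarith [sq_nonneg d, sq_nonneg b, sq_nonneg c, sq_nonneg e])
      (by norm_num)
  have hb : b = 8 - a := by linarith
  have hc : c = 16 - 2 * a - 2 * d - 8 * e := by linarith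
  subst hb; subst hc
  obtain ⟨he1, he2⟩ := he
  obtain ⟨hd1, hd2⟩ := hd
  obtain ⟨ha1, ha2⟩ := ha
  interval_cases e <;> interval_cases d <;> interval_cases a <;>
    first | rfl | (exfalso; norm_num at h1)

theorem sq_pair_le (x : GolayPt → ℤ) (p q : GolayPt) (hpq : p ≠ q) :
    x p ^ 2 + x q ^ 2 ≤ sqNorm x := by
  unfold sqNorm
  rw [← Finset.sum_pair (f := fun i => x i ^ 2) hpq]
  exact Finset.sum_le_sum_of_subset_of_nonneg (Finset.subset_univ _) (fun i _ _ => sq_nonneg _)

theorem sq_triple_le (x : GolayPt → ℤ) (p q r : GolayPt) (hpq : p ≠ q) (hpr : p ≠ r)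
    (hqr : q ≠ r) : x p ^ 2 + x q ^ 2 + x r ^ 2 ≤ sqNorm x := by
  unfold sqNorm
  have h : ∑ i ∈ ({p, q, r} : Finset GolayPt), x i ^ 2 = x p ^ 2 + x q ^ 2 + x r ^ 2 := by
    rw [Finset.sum_insert (by simp [hpq, hpr]), Finset.sum_pair hqr, add_assoc]
  rw [← h]
  exact Finset.sum_le_sum_of_subset_of_nonneg (Finset.subset_univ _) (fun i _ _ => sq_nonneg _)

/-- A lattice vector of squared length `64` with a coordinate `8` is `8 e_p`. -/
theorem eq_E_of_coord (x : ↥leechLattice) (p : GolayPt) (h64 : sqNorm (x : GolayPt → ℤ) = 64)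
    (hp : (x : GolayPt → ℤ) p = 8) : x = E p := by
  apply Subtype.ext; funext q
  rw [E_apply]
  by_cases hq : q = p
  · rw [if_pos hq, hq, hp]
  · rw [if_neg hq]
    have h := sq_pair_le (x : GolayPt → ℤ) p q (Ne.symm hq)
    rw [h64, hp] at h
    have h2 : (x : GolayPt → ℤ) q ^ 2 ≤ 0 := by linarith
    exact pow_eq_zero_iff (two_ne_zero) |>.1 (le_antisymm h2 (sq_nonneg _))

/-! ### Normalising elements fix `8 e_∞` -/

theorem McL_mem_Co0 {g : Equiv.Perm ↥leechLattice} (hg : g ∈ Spor.McL) : g ∈ Co0 :=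
  (Subgroup.mem_inf.1 (Subgroup.mem_inf.1 hg).1).1

theorem McL_fix_V {g : Equiv.Perm ↥leechLattice} (hg : g ∈ Spor.McL) :
    g Spor.leechV = Spor.leechV :=
  MulAction.mem_stabilizer_iff.1 (Subgroup.mem_inf.1 (Subgroup.mem_inf.1 hg).1).2

theorem McL_fix_U {g : Equiv.Perm ↥leechLattice} (hg : g ∈ Spor.McL) :
    g Spor.leechU = Spor.leechU :=
  MulAction.mem_stabilizer_iff.1 (Subgroup.mem_inf.1 hg).2

theorem finite_mclS : Finite mclS :=
  Nat.finite_of_card_ne_zero (by rw [card_mclS]; norm_num)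

theorem fix_E_none (g : Equiv.Perm ↥leechLattice) (hg : g ∈ Spor.McL)
    (hn : ∀ f ∈ mclS, g * f * g⁻¹ ∈ mclS) : g (E none) = E none := by
  have hCo : g ∈ Co0 := McL_mem_Co0 hg
  have hV := McL_fix_V hg
  have hU := McL_fix_U hg
  have := finite_mclS
  have hn' := conj_inv_mem_of_conj_mem mclS g hn
  have hfixE : ∀ f ∈ mclS, f (E none) = E none := by
    rintro f ⟨σ, hσ, rfl⟩
    have h22 : σ.1 ∈ Spor.M22 := le22 hσ
    rw [permLeech_E, M22_none h22]
  have hx : ∀ f ∈ mclS, f (g (E none)) = g (E none) := by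
    intro f hf
    have h1 := hfixE _ (hn' f hf)
    have h2 : g ((g⁻¹ * f * g) (E none)) = f (g (E none)) := by
      show g (g⁻¹ (f (g (E none)))) = f (g (E none))
      exact g.apply_symm_apply _
    rw [← h2, h1]
  have h64 : sqNorm ((g (E none) : ↥leechLattice) : GolayPt → ℤ) = 64 := by
    rw [hCo.2, sqNorm_E]
  have hdU : dotInt (Spor.leechU : GolayPt → ℤ) ((g (E none) : ↥leechLattice) : GolayPt → ℤ)
      = 32 := by
    have h := dotInt_map g hCo Spor.leechU (E none)
    rw [hU] at h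
    rw [h, E_coe, dotInt_single]
    rfl
  have hdV : dotInt (Spor.leechV : GolayPt → ℤ) ((g (E none) : ↥leechLattice) : GolayPt → ℤ)
      = -40 := by
    have h := dotInt_map g hCo Spor.leechV (E none)
    rw [hV] at h
    rw [h, E_coe, dotInt_single]
    rfl
  rw [sqNorm_of_fix hx] at h64
  rw [dotU_of_fix hx] at hdU
  rw [dotV_of_fix hx] at hdV
  have ha := dioph22 _ _ _ _ _ h64 hdU hdV
  rw [pt_none] at ha
  exact eq_E_of_coord _ none (by rw [hCo.2, sqNorm_E]) ha

/-! ### The vectors of shape `(4, 4, 0, …)` through the extra point -/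

/-- The vector with entries `4` at the extra point and at `q`. -/
def w44 (q : GolayPt) : GolayPt → ℤ := fun i => (if i = none then 4 else 0) + (if i = q then 4 else 0)

theorem w44_mem (q : GolayPt) : w44 q ∈ leechLattice := by
  apply AddSubgroup.subset_closure
  refine Spor.mem_leechSet_of_const_mod_four _ 0 0 (by decide) ?_ ?_
  · intro i
    unfold w44
    split_ifs <;> decide
  · unfold w44
    rw [Finset.sum_add_distrib, Finset.sum_ite_eq' Finset.univ none (fun _ => (4 : ℤ)),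
      Finset.sum_ite_eq' Finset.univ q (fun _ => (4 : ℤ))]
    simp only [Finset.mem_univ, if_true]
    decide

theorem two_w44 (q : GolayPt) :
    (2 : ℤ) • (⟨w44 q, w44_mem q⟩ : ↥leechLattice) = E none + E q := by
  apply Subtype.ext; funext i
  show (2 : ℤ) • w44 q i = (E none : GolayPt → ℤ) i + (E q : GolayPt → ℤ) i
  rw [E_apply, E_apply]
  unfold w44
  split_ifs <;> norm_num

theorem sqNorm_w44 (q : GolayPt) (hq : q ≠ none) : sqNorm (w44 q) = 32 := by
  unfold sqNorm
  have h : ∀ i : GolayPt, w44 q i ^ 2 = (if i = none then 16 else 0) + (if i = q then 16 else 0) := by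
    intro i
    unfold w44
    by_cases h1 : i = none
    · have h2 : i ≠ q := fun h => hq (h ▸ h1)
      rw [if_pos h1, if_neg h2, if_pos h1, if_neg h2]; norm_num
    · by_cases h2 : i = q
      · rw [if_neg h1, if_pos h2, if_neg h1, if_pos h2]; norm_num
      · rw [if_neg h1, if_neg h2, if_neg h1, if_neg h2]; norm_num
  rw [Finset.sum_congr rfl (fun i _ => h i), Finset.sum_add_distrib,
    Finset.sum_ite_eq' Finset.univ none (fun _ => (16 : ℤ)),
    Finset.sum_ite_eq' Finset.univ q (fun _ => (16 : ℤ))]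
  simp only [Finset.mem_univ, if_true]
  norm_num

/-- A lattice vector of squared length `32` with coordinate `4` at the extra point has exactly
one further nonzero coordinate, equal to `4` or `-4`. -/
theorem shape44 (w : GolayPt → ℤ) (hw : w ∈ leechLattice) (h32 : sqNorm w = 32)
    (h4 : w none = 4) :
    ∃ k : GolayPt, k ≠ none ∧ (w k = 4 ∨ w k = -4) ∧ ∀ i, i ≠ none → i ≠ k → w i = 0 := by
  rw [mem_leechLattice_iff] at hw
  rcases leechSet_cases w hw with ⟨hev, -, hcw⟩ | ⟨hodd, -, -⟩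
  · have hwt := golay_weights (wd 0 w) hcw
    rw [hammingNorm_wd] at hwt
    have hF : (Finset.univ.filter fun i => ¬ w i ≡ 0 [ZMOD 4]).card ≤ 4 := by
      have hnone : none ∉ Finset.univ.filter fun i => ¬ w i ≡ 0 [ZMOD 4] := by
        rw [Finset.mem_filter, h4]
        rintro ⟨-, h⟩
        exact h (by decide)
      have h1 : ∀ i ∈ Finset.univ.filter fun i => ¬ w i ≡ 0 [ZMOD 4], (4 : ℤ) ≤ w i ^ 2 := by
        intro i hi
        have h2 := (Finset.mem_filter.1 hi).2
        have h3 := hev i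
        unfold Int.ModEq at h2 h3
        have h5 : 2 ≤ w i ∨ w i ≤ -2 := by omega
        rcases h5 with h5 | h5 <;> nlinarith
      have h2 : ∑ i ∈ insert none (Finset.univ.filter fun i => ¬ w i ≡ 0 [ZMOD 4]), w i ^ 2
          ≤ sqNorm w :=
        Finset.sum_le_sum_of_subset_of_nonneg (Finset.subset_univ _) (fun i _ _ => sq_nonneg _)
      rw [Finset.sum_insert hnone, h4, h32] at h2
      have h3 := Finset.card_nsmul_le_sum _ (fun i => w i ^ 2) 4 h1
      rw [nsmul_eq_mul] at h3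
      have h6 : ((Finset.univ.filter fun i => ¬ w i ≡ 0 [ZMOD 4]).card : ℤ) ≤ 4 := by linarith
      exact_mod_cast h6
    have hF0 : (Finset.univ.filter fun i => ¬ w i ≡ 0 [ZMOD 4]).card = 0 := by omega
    have hall : ∀ i, w i ≡ 0 [ZMOD 4] := by
      intro i
      by_contra hi
      have : i ∈ Finset.univ.filter fun i => ¬ w i ≡ 0 [ZMOD 4] :=
        Finset.mem_filter.2 ⟨Finset.mem_univ i, hi⟩
      rw [Finset.card_eq_zero] at hF0
      rw [hF0] at this
      exact absurd this (Finset.notMem_empty i)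
    have hex : ∃ k, k ≠ none ∧ w k ≠ 0 := by
      by_contra hcon
      push Not at hcon
      have h1 : sqNorm w = ∑ i : GolayPt, (if i = none then (16 : ℤ) else 0) := by
        unfold sqNorm
        apply Finset.sum_congr rfl
        intro i _
        by_cases hi : i = none
        · rw [if_pos hi, hi, h4]; norm_num
        · rw [if_neg hi, hcon i hi]; norm_num
      rw [Finset.sum_ite_eq' Finset.univ none (fun _ => (16 : ℤ)), h32] at h1
      simp only [Finset.mem_univ, if_true] at h1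
      norm_num at h1
    obtain ⟨k, hk, hk0⟩ := hex
    have hk4 := hall k
    unfold Int.ModEq at hk4
    have hk16 : 16 ≤ w k ^ 2 := by
      have h5 : 4 ≤ w k ∨ w k ≤ -4 := by omega
      rcases h5 with h5 | h5 <;> nlinarith
    have hpair := sq_pair_le w none k (Ne.symm hk)
    rw [h4, h32] at hpair
    refine ⟨k, hk, ?_, ?_⟩
    · have h5 : w k ^ 2 = 4 ^ 2 := by linarith
      rcases sq_eq_sq_iff_eq_or_eq_neg.1 h5 with h | h
      · exact Or.inl h
      · exact Or.inr h
    · intro i hi hik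
      have h3 := sq_triple_le w none k i (Ne.symm hk) (Ne.symm hi) (Ne.symm hik)
      rw [h4, h32] at h3
      have h5 : w i ^ 2 ≤ 0 := by linarith
      exact (pow_eq_zero_iff two_ne_zero).1 (le_antisymm h5 (sq_nonneg _))
  · exfalso
    have h := hodd none
    rw [h4] at h
    exact absurd h (by decide)

theorem image_E_cross (g : Equiv.Perm ↥leechLattice) (hCo : g ∈ Co0) (hE : g (E none) = E none)
    (q : GolayPt) : ((g (E q) : ↥leechLattice) : GolayPt → ℤ) ∈ stdCross := by
  by_cases hq : q = none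
  · subst hq
    rw [hE, E_coe]
    exact ⟨none, 8, Or.inl rfl, rfl⟩
  · have h2W : (2 : ℤ) • (⟨w44 q, w44_mem q⟩ : ↥leechLattice) = E none + E q := two_w44 q
    have hgW : (2 : ℤ) • g ⟨w44 q, w44_mem q⟩ = E none + g (E q) := by
      have h := congrArg (coAdd g hCo) h2W
      rw [map_zsmul, map_add, coAdd_apply, coAdd_apply, coAdd_apply, hE] at h
      exact h
    have h32 : sqNorm ((g ⟨w44 q, w44_mem q⟩ : ↥leechLattice) : GolayPt → ℤ) = 32 := by
      rw [hCo.2]
      exact sqNorm_w44 q hq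
    have h4 : ((g ⟨w44 q, w44_mem q⟩ : ↥leechLattice) : GolayPt → ℤ) none = 4 := by
      have h := dotInt_map g hCo ⟨w44 q, w44_mem q⟩ (E none)
      rw [hE, E_coe, dotInt_single, dotInt_single] at h
      have h5 : w44 q none = 4 := by
        unfold w44
        rw [if_pos rfl, if_neg (Ne.symm hq)]; norm_num
      have h6 : ((g ⟨w44 q, w44_mem q⟩ : ↥leechLattice) : GolayPt → ℤ) none * 8 = w44 q none * 8 := h
      rw [h5] at h6
      linarith
    obtain ⟨k, hk, hk4, hk0⟩ := shape44 _ (g ⟨w44 q, w44_mem q⟩).2 h32 h4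
    have hfun : ∀ i, ((g (E q) : ↥leechLattice) : GolayPt → ℤ) i =
        2 * ((g ⟨w44 q, w44_mem q⟩ : ↥leechLattice) : GolayPt → ℤ) i -
          (E none : GolayPt → ℤ) i := by
      intro i
      have h := congrFun (congrArg Subtype.val hgW) i
      have h' : (2 : ℤ) • ((g ⟨w44 q, w44_mem q⟩ : ↥leechLattice) : GolayPt → ℤ) i =
          (E none : GolayPt → ℤ) i + ((g (E q) : ↥leechLattice) : GolayPt → ℤ) i := h
      rw [smul_eq_mul] at h'
      linarith
    refine ⟨k, 2 * ((g ⟨w44 q, w44_mem q⟩ : ↥leechLattice) : GolayPt → ℤ) k, ?_, ?_⟩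
    · rcases hk4 with h | h <;> rw [h] <;> norm_num
    · funext i
      rw [hfun i]
      by_cases hik : i = k
      · subst hik
        rw [Pi.single_eq_same, E_apply, if_neg hk]; ring
      · rw [Pi.single_eq_of_ne hik]
        by_cases hin : i = none
        · subst hin
          rw [h4, E_apply, if_pos rfl]; norm_num
        · rw [hk0 i hin hik, E_apply, if_neg hin]; norm_num

/-! ### Elements of `McL` fixing `8 e_∞` are coordinate permutations from `M₂₂` -/

theorem mcl_monomial (g : Equiv.Perm ↥leechLattice) (hg : g ∈ Spor.McL)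
    (hE : g (E none) = E none) : ∃ σ : ↥M24, σ.1 ∈ Spor.M22 ∧ permLeech σ = g := by
  have hCo : g ∈ Co0 := McL_mem_Co0 hg
  have hV := McL_fix_V hg
  have hU := McL_fix_U hg
  have hcross : ∀ v : ↥leechLattice, (v : GolayPt → ℤ) ∈ stdCross →
      ((((⟨g, hCo⟩ : ↥Co0) • v : ↥leechLattice)) : GolayPt → ℤ) ∈ stdCross := by
    rintro v ⟨i, s, hs, hv⟩
    show ((g v : ↥leechLattice) : GolayPt → ℤ) ∈ stdCross
    rcases hs with rfl | rfl
    · have h1 : v = E i := Subtype.ext (by rw [hv, E_coe])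
      rw [h1]
      exact image_E_cross g hCo hE i
    · have h1 : v = -E i := Subtype.ext (by rw [hv, AddSubgroup.coe_neg, E_coe, ← Pi.single_neg])
      rw [h1]
      have h2 : g (-E i) = -g (E i) := map_neg (coAdd g hCo) (E i)
      rw [h2]
      obtain ⟨j, t, ht, hj⟩ := image_E_cross g hCo hE i
      refine ⟨j, -t, ?_, ?_⟩
      · rcases ht with rfl | rfl
        · right; rfl
        · left; norm_num
      · rw [AddSubgroup.coe_neg, hj, Pi.single_neg]
  obtain ⟨σ, hσ, c, -, hform⟩ := crossStab_monomial ⟨g, hCo⟩ hcross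
  have hform' : ∀ v : ↥leechLattice,
      ((g v : ↥leechLattice) : GolayPt → ℤ) = signedPerm σ c (v : GolayPt → ℤ) := hform
  have hVf : Spor.vecV = signedPerm σ c Spor.vecV := by
    have h := hform' Spor.leechV
    rw [hV] at h
    exact h
  have hUf : Spor.vecU = signedPerm σ c Spor.vecU := by
    have h := hform' Spor.leechU
    rw [hU] at h
    exact h
  have hneg : ∀ j, Spor.vecV j < 0 := fun j => by
    unfold Spor.vecV
    split_ifs <;> norm_num
  have hcemp : ∀ i, i ∉ c := by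
    intro i hi
    have h := congrFun hVf i
    unfold signedPerm at h
    rw [if_pos hi] at h
    have h1 := hneg i
    have h2 := hneg (σ.symm i)
    linarith
  have hnone : σ.symm none = none := by
    have h := congrFun hVf none
    unfold signedPerm at h
    rw [if_neg (hcemp none)] at h
    by_contra hne
    unfold Spor.vecV at h
    rw [if_pos rfl, if_neg hne] at h
    norm_num at h
  have hzero : σ.symm (some 0) = some 0 := by
    have h := congrFun hUf (some 0)
    unfold signedPerm at h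
    rw [if_neg (hcemp _)] at h
    unfold Spor.vecU at h
    rw [if_pos (Or.inr rfl)] at h
    by_contra hne
    have h2 : σ.symm (some 0) ≠ none := fun h3 => by
      have h4 := σ.symm.injective (h3.trans hnone.symm)
      exact absurd h4 (by simp)
    rw [if_neg (by
      rintro (h3 | h3)
      · exact h2 h3
      · exact hne h3)] at h
    norm_num at h
  refine ⟨⟨σ, hσ⟩, ?_, ?_⟩
  · refine Subgroup.mem_inf.2 ⟨Subgroup.mem_inf.2 ⟨hσ, MulAction.mem_stabilizer_iff.2 ?_⟩,
      MulAction.mem_stabilizer_iff.2 ?_⟩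
    · exact ((Equiv.symm_apply_eq σ).1 hnone).symm
    · exact ((Equiv.symm_apply_eq σ).1 hzero).symm
  · apply Equiv.ext
    intro v
    apply Subtype.ext
    funext i
    rw [hform' v, permLeech_apply]
    unfold signedPerm
    rw [if_neg (hcemp i)]

/-! ### The two hypotheses of the criterion -/

theorem hNmcl : ∀ g ∈ Spor.McL, (∀ f ∈ mclS, g * f * g⁻¹ ∈ mclS) → g ∈ mclS := by
  intro g hg hn
  obtain ⟨σ, hσ22, rfl⟩ := mcl_monomial g hg (fix_E_none g hg hn)
  refine ⟨σ, ?_, rfl⟩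
  apply hN22 σ.1 hσ22
  intro s hs
  have hs24 : s ∈ M24 := M22_le_M24 (le22 hs)
  obtain ⟨τ, hτ, hτe⟩ := hn (permLeech ⟨s, hs24⟩) ⟨⟨s, hs24⟩, hs, rfl⟩
  have h1 : permLeech τ = permLeech (σ * ⟨s, hs24⟩ * σ⁻¹) := by
    rw [hτe, map_mul, map_mul, map_inv]
  have h2 := permLeech_injective h1
  have h3 : τ.1 = σ.1 * s * σ.1⁻¹ := by rw [h2]; rfl
  rw [← h3]
  exact hτ

theorem hscmcl (T : Subgroup (Equiv.Perm ↥leechLattice)) (hT : T ≤ mclS) (hne : T ≠ ⊥)
    (hcl : ∀ t ∈ T, ∀ g ∈ Spor.McL, g * t * g⁻¹ ∈ mclS → g * t * g⁻¹ ∈ T) : T = mclS := by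
  have hT0 : ∀ σ : ↥M24, σ.1 ∈ (T.comap permLeech).map M24.subtype ↔ permLeech σ ∈ T := by
    intro σ
    constructor
    · rintro ⟨τ, hτ, h⟩
      have h2 : τ = σ := Subtype.ext h
      rw [← h2]
      exact hτ
    · intro h
      exact ⟨σ, h, rfl⟩
  have h1 : (T.comap permLeech).map M24.subtype = grpN xs22 := by
    apply hsc22
    · rintro _ ⟨τ, hτ, rfl⟩
      obtain ⟨ρ, hρ, hρe⟩ := hT hτ
      have h2 : ρ = τ := permLeech_injective hρe
      rw [← h2]
      exact hρ
    · intro hbot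
      apply hne
      rw [Subgroup.eq_bot_iff_forall]
      intro t ht
      obtain ⟨ρ, hρ, rfl⟩ := hT ht
      have h2 : ρ.1 ∈ (T.comap permLeech).map M24.subtype := (hT0 ρ).2 ht
      rw [hbot, Subgroup.mem_bot] at h2
      have h3 : ρ = 1 := Subtype.ext h2
      rw [h3, map_one]
    · rintro _ ⟨τ, hτ, rfl⟩ g hg hgS
      have hg24 : g ∈ M24 := M22_le_M24 hg
      have h2 : permLeech ((⟨g, hg24⟩ : ↥M24) * τ * (⟨g, hg24⟩ : ↥M24)⁻¹) ∈ T := by
        rw [map_mul, map_mul, map_inv]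
        apply hcl _ hτ _ (permLeech_mem_McL ⟨g, hg24⟩ hg)
        rw [← map_inv, ← map_mul, ← map_mul]
        exact ⟨_, hgS, rfl⟩
      exact (hT0 _).2 h2
  apply le_antisymm hT
  rintro f ⟨σ, hσ, rfl⟩
  have h2 : σ.1 ∈ (T.comap permLeech).map M24.subtype := by
    rw [h1]
    exact hσ
  exact (hT0 σ).1 h2

/-- The `2`-fusion system of a group isomorphic to `McL` is simple. -/
theorem mcl_fusion_simple {G : Type*} [Group G] [Finite G] (hG : Spor.IsoMcL G) (S : Sylow 2 G) :
    (groupFusionSystem (S : Subgroup G)).IsSimple 2 := by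
  obtain ⟨e⟩ := hG
  exact fus_crit_iso Spor.McL mclS e mclS_le 7 (by norm_num) card_mclS hNmcl hscmcl S

end Cfsg.Agent.Lib.helper9
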