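import Cfsg.Agent.Lib.helper9.SimpleCrit2
import Cfsg.Agent.Lib.helper9.M22Stab
import Cfsg.Agent.Lib.helper9.Co0Fin
import Cfsg.Agent.Lib.helper93.Co0X25

/-!
The joint stabiliser in `Cfsg.Co0` of two minimal vectors with inner product `-8` is simple of
order 898128000 (the McLaughlin group).
-/

set_option autoImplicit false
open Cfsg
open Cfsg.Agent.Lib.helper93

namespace Cfsg.Agent.Lib.helper9

theorem dot_self_sq (a : GolayPt → ℤ) : dotInt a a = sqNorm a := by
  unfold dotInt sqNorm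
  refine Finset.sum_congr rfl fun i _ => ?_
  ring

/-- The second vector of the standard McLaughlin frame: `(1, -3, 1²²)`. -/
def mcW : ↥leechLattice := -(Spor.leechV + Spor.leechU)

/-- The vector `(5, 1²³)` of norm 48. -/
def mcU : ↥leechLattice := -Spor.leechV

theorem mcV_norm : sqNorm (Spor.leechU : GolayPt → ℤ) = 32 := by
  show sqNorm Spor.vecU = 32
  decide +kernel

theorem mcW_norm : sqNorm (mcW : GolayPt → ℤ) = 32 := by
  show sqNorm (-(Spor.vecV + Spor.vecU)) = 32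
  decide +kernel

theorem mc_dot : dotInt (Spor.leechU : GolayPt → ℤ) (mcW : GolayPt → ℤ) = -8 := by
  show dotInt Spor.vecU (-(Spor.vecV + Spor.vecU)) = -8
  decide +kernel

theorem mcU_norm : sqNorm (mcU : GolayPt → ℤ) = 48 := by
  show sqNorm (-Spor.vecV) = 48
  decide +kernel

theorem mcU_dist : sqNorm ((mcU : GolayPt → ℤ) - (Spor.leechU : GolayPt → ℤ)) = 32 := by
  show sqNorm (-Spor.vecV - Spor.vecU) = 32
  decide +kernel

/-- The McLaughlin group of the standard frame. -/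
def mcG : Subgroup ↥Co0 :=
  MulAction.stabilizer ↥Co0 Spor.leechU ⊓ MulAction.stabilizer ↥Co0 mcW

theorem mem_mcG (g : ↥Co0) : g ∈ mcG ↔ g.1 Spor.leechU = Spor.leechU ∧ g.1 mcW = mcW := by
  unfold mcG
  rw [Subgroup.mem_inf, MulAction.mem_stabilizer_iff, MulAction.mem_stabilizer_iff]
  rfl

theorem mem_mcG_iff (g : ↥Co0) : g ∈ mcG ↔
    g.1 Spor.leechV = Spor.leechV ∧ g.1 Spor.leechU = Spor.leechU := by
  rw [mem_mcG]
  constructor
  · rintro ⟨hU, hW⟩
    refine ⟨?_, hU⟩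
    unfold mcW at hW
    rw [co_map_neg, g.2.1, hU] at hW
    exact add_right_cancel (neg_injective hW)
  · rintro ⟨hV, hU⟩
    refine ⟨hU, ?_⟩
    unfold mcW
    rw [co_map_neg, g.2.1, hV, hU]

theorem mcG_fix_U (g : ↥Co0) (hg : g ∈ mcG) : g.1 mcU = mcU := by
  unfold mcU
  rw [co_map_neg, ((mem_mcG_iff g).1 hg).1]

theorem mc_frame (g : ↥Co0) : (g ∈ mcG ∧ g.1 Spor.leechU' = Spor.leechU') ↔ g ∈ stabVUU := by
  rw [mem_mcG_iff, mem_stabVUU, and_assoc]

/-- The 2025 points of the standard frame. -/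
def mcPts : Set ↥leechLattice :=
  {x : ↥leechLattice | sqNorm (x : GolayPt → ℤ) = 32 ∧
    dotInt (Spor.leechU : GolayPt → ℤ) (x : GolayPt → ℤ) = 0 ∧
    dotInt (mcW : GolayPt → ℤ) (x : GolayPt → ℤ) = 16}

theorem mcX_mem : Spor.leechU' ∈ mcPts := by
  refine ⟨?_, ?_, ?_⟩
  · show sqNorm Spor.vecU' = 32
    decide +kernel
  · show dotInt Spor.vecU Spor.vecU' = 0
    decide +kernel
  · show dotInt (-(Spor.vecV + Spor.vecU)) Spor.vecU' = 16
    decide +kernel

theorem mc_orbit : MulAction.orbit ↥mcG Spor.leechU' = mcPts := by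
  ext y
  constructor
  · rintro ⟨g, rfl⟩
    obtain ⟨hU, hW⟩ := (mem_mcG g.1).1 g.2
    obtain ⟨h1, h2, h3⟩ := mcX_mem
    refine ⟨?_, ?_, ?_⟩
    · show sqNorm ((g.1.1 Spor.leechU' : ↥leechLattice) : GolayPt → ℤ) = 32
      rw [g.1.2.2]
      exact h1
    · show dotInt (Spor.leechU : GolayPt → ℤ)
        ((g.1.1 Spor.leechU' : ↥leechLattice) : GolayPt → ℤ) = 0
      rw [inv_dot g.1 Spor.leechU Spor.leechU' hU]
      exact h2
    · show dotInt (mcW : GolayPt → ℤ)
        ((g.1.1 Spor.leechU' : ↥leechLattice) : GolayPt → ℤ) = 16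
      rw [inv_dot g.1 mcW Spor.leechU' hW]
      exact h3
  · intro hy
    have hS := McL_2025 Spor.leechU mcW mcV_norm mcW_norm mc_dot
    obtain ⟨g, hgV, hgW, hgX⟩ :=
      hS.2.1 Spor.leechU' y ((hS.2.2.1 _).2 mcX_mem) ((hS.2.2.1 _).2 hy)
    exact ⟨⟨g, (mem_mcG g).2 ⟨hgV, hgW⟩⟩, hgX⟩

theorem mc_arith : ∀ J : Finset (Fin 3), (1 + ∑ i ∈ J, ![330, 462, 1232] i) ∣ 2025 →
    J = ∅ ∨ J = Finset.univ := by decide

theorem mc_arith2 : ∀ J : Finset (Fin 2), (1 + ∑ i ∈ J, ![112, 162] i) ∣ 275 →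
    J = ∅ ∨ J = Finset.univ := by decide

/-- The 275 points of the standard frame. -/
theorem mc_orbit275 (x : ↥leechLattice) (hx : Phi275 (mcU, Spor.leechU) x) :
    MulAction.orbit ↥mcG x = {y | Phi275 (mcU, Spor.leechU) y} := by
  ext y
  constructor
  · rintro ⟨g, rfl⟩
    have h1 := Phi275_inv g.1 (mcU, Spor.leechU) x hx
    have h2 : act2 g.1 (mcU, Spor.leechU) = (mcU, Spor.leechU) := by
      unfold act2
      rw [mcG_fix_U g.1 g.2, ((mem_mcG g.1).1 g.2).1]
    rw [h2] at h1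
    exact h1
  · intro hy
    obtain ⟨g, hgU, hgV, hgX⟩ :=
      (McL_conf mcU Spor.leechU mcU_norm ⟨mcV_norm, mcU_dist⟩).2 x y hx hy
    have hg : g ∈ mcG := by
      rw [mem_mcG_iff]
      refine ⟨?_, hgV⟩
      unfold mcU at hgU
      rw [co_map_neg] at hgU
      exact neg_injective hgU
    exact ⟨⟨g, hg⟩, hgX⟩

/-- The stabiliser of one of the 275 points is a maximal subgroup of index 275. -/
theorem mc_max275 [Finite ↥Co0] : ∃ x : ↥leechLattice,
    (MulAction.stabilizer ↥mcG x).index = 275 ∧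
    ∀ K : Subgroup ↥mcG, MulAction.stabilizer ↥mcG x ≤ K →
      K = MulAction.stabilizer ↥mcG x ∨ K = ⊤ := by
  have hconf := McL_conf mcU Spor.leechU mcU_norm ⟨mcV_norm, mcU_dist⟩
  obtain ⟨x, hx⟩ : {x | Phi275 (mcU, Spor.leechU) x}.Nonempty :=
    Set.nonempty_of_ncard_ne_zero (by rw [hconf.1]; norm_num)
  have hx' : Phi275 (mcU, Spor.leechU) x := hx
  have hU := U_conf mcU Spor.leechU x mcU_norm ⟨mcV_norm, mcU_dist⟩ hx'
  have horb : (MulAction.orbit ↥mcG x).ncard = 275 := by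
    rw [mc_orbit275 x hx']
    exact hconf.1
  have hxx : dotInt (x : GolayPt → ℤ) (x : GolayPt → ℤ) = 32 := by
    rw [dot_self_sq]
    exact hx'.1
  refine ⟨x, by rw [MulAction.index_stabilizer]; exact horb, ?_⟩
  let A : Fin 2 → Set ↥leechLattice :=
    ![{y | PhiU8 (mcU, Spor.leechU, x) y}, {y | PhiU16 (mcU, Spor.leechU, x) y}]
  have hsub : ∀ i, ∀ y ∈ A i, y ∈ MulAction.orbit ↥mcG x ∧ y ≠ x := by
    intro i y hy
    rw [mc_orbit275 x hx']
    fin_cases i
    · have hy' : PhiU8 (mcU, Spor.leechU, x) y := hy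
      refine ⟨hy'.1, ?_⟩
      rintro rfl
      have h8 : dotInt (y : GolayPt → ℤ) (y : GolayPt → ℤ) = 8 := hy'.2
      rw [hxx] at h8
      norm_num at h8
    · have hy' : PhiU16 (mcU, Spor.leechU, x) y := hy
      exact ⟨hy'.1, hy'.2.1⟩
  have hdisj : ∀ i j, i ≠ j → Disjoint (A i) (A j) := by
    intro i j hij
    rw [Set.disjoint_left]
    intro y hyi hyj
    fin_cases i <;> fin_cases j
    · exact hij rfl
    · have h1 : PhiU8 (mcU, Spor.leechU, x) y := hyi
      have h2 : PhiU16 (mcU, Spor.leechU, x) y := hyj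
      have h3 : dotInt (x : GolayPt → ℤ) (y : GolayPt → ℤ) = 8 := h1.2
      have h4 : dotInt (x : GolayPt → ℤ) (y : GolayPt → ℤ) = 16 := h2.2.2
      rw [h3] at h4
      norm_num at h4
    · have h1 : PhiU16 (mcU, Spor.leechU, x) y := hyi
      have h2 : PhiU8 (mcU, Spor.leechU, x) y := hyj
      have h3 : dotInt (x : GolayPt → ℤ) (y : GolayPt → ℤ) = 8 := h2.2
      have h4 : dotInt (x : GolayPt → ℤ) (y : GolayPt → ℤ) = 16 := h1.2.2
      rw [h3] at h4
      norm_num at h4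
    · exact hij rfl
  have hcard : ∀ i, (A i).ncard = ![112, 162] i := by
    intro i
    fin_cases i
    · exact hU.1
    · exact hU.2.1
  have hcov := cov_of_sum (MulAction.orbit ↥mcG x)
    (Set.finite_range fun g : ↥mcG => g • x) x A ![112, 162] hsub (MulAction.mem_orbit_self x)
    hdisj hcard (by rw [horb]; decide)
  refine max_of_classes x A ![112, 162] 275 horb hcov hsub hdisj hcard ?_ mc_arith2
  intro i y hy y' hy'
  have n1 := (hsub i y hy).2
  have n2 := (hsub i y' hy').2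
  have key : PsiU (mcU, Spor.leechU, x) y y' := by
    fin_cases i
    · have h1 : PhiU8 (mcU, Spor.leechU, x) y := hy
      have h2 : PhiU8 (mcU, Spor.leechU, x) y' := hy'
      exact ⟨h1.1, h2.1, n1, n2, h1.2.trans h2.2.symm⟩
    · have h1 : PhiU16 (mcU, Spor.leechU, x) y := hy
      have h2 : PhiU16 (mcU, Spor.leechU, x) y' := hy'
      exact ⟨h1.1, h2.1, n1, n2, h1.2.2.trans h2.2.2.symm⟩
  obtain ⟨g, hgU, hgV, hgX, hgy⟩ := hU.2.2 y y' key
  have hg : g ∈ mcG := by
    rw [mem_mcG_iff]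
    refine ⟨?_, hgV⟩
    unfold mcU at hgU
    rw [co_map_neg] at hgU
    exact neg_injective hgU
  exact ⟨⟨g, hg⟩, MulAction.mem_stabilizer_iff.2 hgX, hgy⟩

/-- The McLaughlin group of the standard frame is simple of order 898128000. -/
theorem mcG_isMcL : IsMcL ↥mcG := by
  have : Finite ↥Co0 := finite_Co0
  have hfr := stab_frame_simple mcG Spor.leechU' mc_frame
  have hS := McL_2025 Spor.leechU mcW mcV_norm mcW_norm mc_dot
  have horb : (MulAction.orbit ↥mcG Spor.leechU').ncard = 2025 := by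
    rw [mc_orbit]
    exact hS.1
  have hidx : (MulAction.stabilizer ↥mcG Spor.leechU').index = 2025 := by
    rw [MulAction.index_stabilizer]
    exact horb
  obtain ⟨y1, y2, y3, hy1', hy2', hy3', c1, c2, c3⟩ :=
    hS.2.2.2 Spor.leechU' ((hS.2.2.1 _).2 mcX_mem)
  have hy1 : y1 ∈ mcPts := (hS.2.2.1 _).1 hy1'
  have hy2 : y2 ∈ mcPts := (hS.2.2.1 _).1 hy2'
  have hy3 : y3 ∈ mcPts := (hS.2.2.1 _).1 hy3'
  have hmax : ∀ K : Subgroup ↥mcG, MulAction.stabilizer ↥mcG Spor.leechU' ≤ K →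
      K = MulAction.stabilizer ↥mcG Spor.leechU' ∨ K = ⊤ := by
    apply max_of_orbits Spor.leechU' ![y1, y2, y3] ![330, 462, 1232] 2025 horb
    · intro i
      rw [mc_orbit]
      fin_cases i
      · exact hy1
      · exact hy2
      · exact hy3
    · intro i
      rw [orbit_stab_sub]
      fin_cases i
      · exact c1
      · exact c2
      · exact c3
    · decide
    · decide
    · decide
    · exact mc_arith
  have hnn : ¬ (MulAction.stabilizer ↥mcG Spor.leechU').Normal := by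
    apply not_normal_of_orbit Spor.leechU' y1
    · rw [mc_orbit]
      exact hy1
    · rw [orbit_stab_sub]
      have c1' : (MulAction.orbit ↥(mcG ⊓ MulAction.stabilizer ↥Co0 Spor.leechU') y1).ncard =
          330 := c1
      rw [c1']
      norm_num
  have hc := Subgroup.card_mul_index (MulAction.stabilizer ↥mcG Spor.leechU')
  rw [hfr.2, hidx] at hc
  obtain ⟨x', hidx', hmax'⟩ := mc_max275
  have hc' := Subgroup.card_mul_index (MulAction.stabilizer ↥mcG x')
  rw [hidx', ← hc] at hc'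
  have hcard' : Nat.card ↥(MulAction.stabilizer ↥mcG x') = 3265920 := by omega
  have hreg := no_regular_aux_max (MulAction.stabilizer ↥mcG Spor.leechU')
    (MulAction.stabilizer ↥mcG x') hmax' (by rw [hidx, hcard']; norm_num)
    (by rw [hidx, hidx']; norm_num)
  refine ⟨simple_of_max_simple (MulAction.stabilizer ↥mcG Spor.leechU') hfr.1 hmax hnn hreg, ?_⟩
  rw [← hc]

/-- The joint stabiliser of two minimal vectors with inner product `-8` is simple of order
898128000. -/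
theorem isMcL_of_pair (v w : ↥leechLattice) (hv : sqNorm (v : GolayPt → ℤ) = 32)
    (hw : sqNorm (w : GolayPt → ℤ) = 32)
    (hvw : dotInt (v : GolayPt → ℤ) (w : GolayPt → ℤ) = -8) :
    IsMcL ↥(MulAction.stabilizer ↥Co0 v ⊓ MulAction.stabilizer ↥Co0 w) := by
  obtain ⟨g, hg⟩ := Cfsg.Agent.S0400.result Spor.leechU v mcV_norm hv
  have hg' : g.1 Spor.leechU = v := hg
  have hn : sqNorm ((g.1 mcW : ↥leechLattice) : GolayPt → ℤ) = 32 := by
    rw [g.2.2]
    exact mcW_norm
  have hd : dotInt (v : GolayPt → ℤ) ((g.1 mcW : ↥leechLattice) : GolayPt → ℤ) = -8 := by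
    rw [← hg', co_dot]
    exact mc_dot
  obtain ⟨g', hg'v, hg'w⟩ := stab_trans (-8) (Or.inr (Or.inl rfl)) v (g.1 mcW) w hv hn hw hd hvw
  have c1 : (g' * g) • Spor.leechU = v := by
    show g'.1 (g.1 Spor.leechU) = v
    rw [hg', hg'v]
  have c2 : (g' * g) • mcW = w := hg'w
  obtain ⟨e⟩ := stab2_conj (g' * g) Spor.leechU mcW
  rw [c1, c2] at e
  have hs := mcG_isMcL
  have hsimp : IsSimpleGroup ↥(MulAction.stabilizer ↥Co0 Spor.leechU ⊓
      MulAction.stabilizer ↥Co0 mcW) := hs.1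
  exact ⟨e.symm.isSimpleGroup, (Nat.card_congr e.symm.toEquiv).trans hs.2⟩

end Cfsg.Agent.Lib.helper9
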