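import Mathlib
import Cfsg.Agent.S0065

set_option autoImplicit false
set_option linter.style.haveILetI false

namespace Cfsg.Agent.Lib.helper79.P3

theorem helper9_fact9 : (Nat.card (Equiv.Perm (Fin 9))).factorization 3 = 4 := by
  have h9 : Nat.card (Equiv.Perm (Fin 9)) = 3 ^ 4 * 4480 := by
    rw [Nat.card_perm, Nat.card_fin]
    decide
  rw [h9, Nat.factorization_mul (by norm_num) (by norm_num), Finsupp.add_apply,
    Nat.factorization_pow, Finsupp.smul_apply, Nat.Prime.factorization_self (by norm_num),
    Nat.factorization_eq_zero_of_not_dvd (by norm_num)]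
  rfl

theorem helper9_p3_sylow9 {G : Type*} [Group G] [Finite G] (hG : Nat.card G = 81)
    (hZ : Nat.card (Subgroup.center G) = 3) (M : Subgroup G) (hM : Nat.card M = 27)
    (hMc : ∀ a ∈ M, ∀ b ∈ M, a * b = b * a) (hMe : ∀ a ∈ M, a ^ 3 = 1) :
    ∃ W : Sylow 3 (Equiv.Perm (Fin 9)), Nonempty (G ≃* ↥(W : Subgroup (Equiv.Perm (Fin 9)))) := by
  classical
  haveI : Fact (Nat.Prime 3) := ⟨by norm_num⟩
  have hGp : IsPGroup 3 G := IsPGroup.of_card (n := 4) (by rw [hG]; norm_num)
  haveI : Group.IsNilpotent G := hGp.isNilpotent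
  -- step 1: center ≤ M
  have hZM : Subgroup.center G ≤ M := by
    intro z hz
    by_contra hzM
    have hdvd : Nat.card (M ⊔ Subgroup.zpowers z : Subgroup G) ∣ 81 :=
      hG ▸ Subgroup.card_subgroup_dvd_card _
    have hdvd2 : 27 ∣ Nat.card (M ⊔ Subgroup.zpowers z : Subgroup G) :=
      hM ▸ Subgroup.card_dvd_of_le le_sup_left
    have hne : Nat.card (M ⊔ Subgroup.zpowers z : Subgroup G) ≠ 27 := by
      intro h27
      have heq : M = M ⊔ Subgroup.zpowers z :=
        Subgroup.eq_of_le_of_card_ge le_sup_left (by rw [h27, hM])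
      apply hzM
      rw [heq]
      exact (le_sup_right : Subgroup.zpowers z ≤ _) (Subgroup.mem_zpowers z)
    have h81 : Nat.card (M ⊔ Subgroup.zpowers z : Subgroup G) = 81 := by
      obtain ⟨k, hk⟩ := hdvd2
      rw [hk] at hdvd hne ⊢
      have hk3 : k ∣ 3 := by
        have : 27 * k ∣ 27 * 3 := by simpa using hdvd
        exact Nat.dvd_of_mul_dvd_mul_left (by norm_num) this
      rcases (Nat.dvd_prime (by norm_num : Nat.Prime 3)).mp hk3 with h | h
      · subst h; exact absurd rfl hne
      · subst h; rfl
    have htop : M ⊔ Subgroup.zpowers z = ⊤ := Subgroup.eq_top_of_card_eq _ (h81.trans hG.symm)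
    have hMle : M ≤ Subgroup.center G := by
      intro a ha
      rw [Subgroup.mem_center_iff]
      intro g
      have hle : M ⊔ Subgroup.zpowers z ≤ Subgroup.centralizer ({a} : Set G) := by
        rw [sup_le_iff]
        constructor
        · intro b hb
          rw [Subgroup.mem_centralizer_iff]
          intro c hc
          rw [Set.mem_singleton_iff] at hc
          subst hc
          exact hMc c ha b hb
        · rw [Subgroup.zpowers_le, Subgroup.mem_centralizer_iff]
          intro c hc
          exact (Subgroup.mem_center_iff.mp hz) c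
      have hg : g ∈ Subgroup.centralizer ({a} : Set G) := hle (htop ▸ Subgroup.mem_top g)
      rw [Subgroup.mem_centralizer_iff] at hg
      exact (hg a rfl).symm
    have := Subgroup.card_le_of_le hMle
    omega
  -- step 2: a nontrivial central element
  have hZne : Subgroup.center G ≠ ⊥ := by
    intro h
    rw [h] at hZ
    simp at hZ
  obtain ⟨z, hz1⟩ := (Subgroup.ne_bot_iff_exists_ne_one).mp hZne
  -- step 3: character
  letI : CommGroup M :=
    { (inferInstance : Group M) with mul_comm := fun a b => Subtype.ext (hMc a a.2 b b.2) }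
  haveI : NeZero (Monoid.exponent ↥M) := ⟨Monoid.exponent_ne_zero_of_finite⟩
  have hzM1 : (⟨(z : G), hZM z.2⟩ : M) ≠ 1 := by
    intro h
    apply hz1
    apply Subtype.ext
    have := congrArg Subtype.val h
    simpa using this
  obtain ⟨φ, hφ⟩ := CommGroup.exists_apply_ne_one_of_hasEnoughRootsOfUnity M ℂ hzM1
  have hr3 : φ.range ≤ rootsOfUnity 3 ℂ := by
    rintro y ⟨m, rfl⟩
    rw [mem_rootsOfUnity]
    rw [← map_pow]
    have : m ^ 3 = 1 := Subtype.ext (by simpa using hMe m m.2)
    rw [this, map_one]
  have hr3c : Nat.card φ.range ≤ 3 := by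
    have h1 := Subgroup.card_le_of_le hr3
    have h2 := card_rootsOfUnity ℂ 3
    omega
  haveI : Finite φ.range := Finite.of_surjective φ.rangeRestrict φ.rangeRestrict_surjective
  have hrd : Nat.card φ.range ∣ 27 := hM ▸ Subgroup.card_range_dvd φ
  have hr1 : Nat.card φ.range ≠ 1 := by
    intro h1
    have hb : φ.range = ⊥ := (Subgroup.eq_bot_iff_card _).mpr h1
    apply hφ
    have : φ ⟨(z : G), hZM z.2⟩ ∈ φ.range := ⟨_, rfl⟩
    rw [hb, Subgroup.mem_bot] at this
    exact this
  have hrc : Nat.card φ.range = 3 := by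
    have hpos : 0 < Nat.card φ.range := Nat.card_pos
    have : Nat.card φ.range = 2 ∨ Nat.card φ.range = 3 := by omega
    rcases this with h | h
    · rw [h] at hrd; norm_num at hrd
    · exact h
  have hker : Nat.card φ.ker = 9 := by
    have h1 := Subgroup.card_mul_index φ.ker
    rw [Subgroup.index_ker, hrc, hM] at h1
    omega
  set B : Subgroup G := φ.ker.map M.subtype with hB
  have hBc : Nat.card B = 9 := by
    rw [hB, Subgroup.card_map_of_injective M.subtype_injective, hker]
  have hzB : (z : G) ∉ B := by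
    rintro ⟨m, hm, hmz⟩
    apply hφ
    have : m = ⟨(z : G), hZM z.2⟩ := Subtype.ext (by simpa using hmz)
    rw [← this]
    exact hm
  -- step 4: trivial core
  have hcore : B.normalCore = ⊥ := by
    by_contra hne
    have h1 := Cfsg.Agent.S0065.result B.normalCore hne
    have hle : B.normalCore ⊓ Subgroup.center G ≤ Subgroup.center G := inf_le_right
    have hd : Nat.card (B.normalCore ⊓ Subgroup.center G : Subgroup G) ∣ 3 :=
      hZ ▸ Subgroup.card_dvd_of_le hle
    have hc : Nat.card (B.normalCore ⊓ Subgroup.center G : Subgroup G) = 3 := by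
      rcases (Nat.dvd_prime (by norm_num : Nat.Prime 3)).mp hd with h | h
      · exact absurd ((Subgroup.eq_bot_iff_card _).mpr h) h1
      · exact h
    have heq : B.normalCore ⊓ Subgroup.center G = Subgroup.center G :=
      Subgroup.eq_of_le_of_card_ge hle (by rw [hc, hZ])
    apply hzB
    have hzc : (z : G) ∈ B.normalCore ⊓ Subgroup.center G := by
      rw [heq]
      exact z.2
    exact Subgroup.normalCore_le B hzc.1
  -- step 5: the action
  have hidx : Nat.card (G ⧸ B) = 9 := by
    have h1 := Subgroup.card_mul_index B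
    rw [hBc, hG, Subgroup.index_eq_card] at h1
    omega
  let e : (G ⧸ B) ≃ Fin 9 := Finite.equivFinOfCardEq hidx
  let f : G →* Equiv.Perm (Fin 9) :=
    (e.permCongrHom.toMonoidHom).comp (MulAction.toPermHom G (G ⧸ B))
  have hf : Function.Injective f := by
    have h1 : Function.Injective (MulAction.toPermHom G (G ⧸ B)) := by
      rw [← MonoidHom.ker_eq_bot_iff, ← Subgroup.normalCore_eq_ker, hcore]
    exact e.permCongrHom.injective.comp h1
  have hcard : Nat.card f.range = 3 ^ (Nat.card (Equiv.Perm (Fin 9))).factorization 3 := by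
    rw [helper9_fact9, ← Nat.card_congr (MonoidHom.ofInjective hf).toEquiv, hG]
    norm_num
  refine ⟨Sylow.ofCard f.range hcard, ⟨?_⟩⟩
  rw [Sylow.coe_ofCard]
  exact MonoidHom.ofInjective hf

end Cfsg.Agent.Lib.helper79.P3
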