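import Mathlib
import Cfsg.Agent.Lib.helper65.PearlBasic

set_option autoImplicit false

namespace Cfsg.Agent.Lib.helper65.PearlPow

open Cfsg.Agent.Lib.helper68

variable {H : Type*} [Group H]

/-- Q, with the statements of D1, I1, S, U as hypotheses. -/
theorem helper9_q_claim_core (x g : H) {w : ℕ} (hg : g ∈ gam H w)
    (hD1 : ∀ {u v : ℕ} {s s' : ℕ → H}, PolySeq v s → Rel u s s' → Rel (u + 1) (dl s) (dl s'))
    (hI1 : ∀ {v j : ℕ} {s : ℕ → H} {y : H}, PolySeq v s → y ∈ gam H j →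
      Rel (v + 1 + j) (dl s) (dl (fun n => s n * y)))
    (hS : ∀ j : ℕ, Rel (w + j + 2) ((ph x)^[j] (dl (tt x g))) (dl ((ph x)^[j] (tt x g))))
    (hU : ∀ j : ℕ, Rel (w + j + 2) (fun n => (ph x)^[j + 1] (tt x g) n * yk x (com x g) j)
      ((ph x)^[j] (dl (tt x g))))
    (k : ℕ) :
    Rel (w + k + 2) (fun n => (ph x)^[k + 1] (tt x g) n * yk x (com x g) k)
      (dl^[k + 1] (tt x g)) := by
  induction k with
  | zero =>
    apply rel_of_eq
    show (fun n => ph x (tt x g) n * com x g) = dl (tt x g)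
    exact (dl_tt x g).symm
  | succ k ih =>
    have hΦ : PolySeq (w + (k + 1)) ((ph x)^[k + 1] (tt x g)) :=
      polyseq_ph_iter x (tt_polyseq x g hg) (k + 1)
    have hy : yk x (com x g) k ∈ gam H (w + 1 + k) := yk_mem x g hg k
    have hs : PolySeq (w + (k + 1)) (fun n => (ph x)^[k + 1] (tt x g) n * yk x (com x g) k) :=
      PolySeq.mul hΦ (PolySeq.mono (by omega) (polyseq_const hy))
    have R1 : Rel (w + (k + 1) + 2) (dl (fun n => (ph x)^[k + 1] (tt x g) n * yk x (com x g) k))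
        (dl^[k + 1 + 1] (tt x g)) := by
      rw [Function.iterate_succ_apply' dl (k + 1)]
      exact rel_mono (by omega) (hD1 hs ih)
    have R2 : Rel (w + (k + 1) + 2) (dl ((ph x)^[k + 1] (tt x g)))
        (dl (fun n => (ph x)^[k + 1] (tt x g) n * yk x (com x g) k)) :=
      rel_mono (by omega) (hI1 hΦ hy)
    have R3 := hS (k + 1)
    have R4 := hU (k + 1)
    exact rel_trans R4 (rel_trans R3 (rel_trans R2 R1))

end Cfsg.Agent.Lib.helper65.PearlPow
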