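import Mathlib
import Cfsg.Agent.Lib.helper65.PearlBasic
import Cfsg.Agent.Lib.helper9.PearlQcore
import Cfsg.Agent.Lib.helper43.PearlD1
import Cfsg.Agent.Lib.helper43.PearlD2
import Cfsg.Agent.Lib.helper98.PearlI1
import Cfsg.Agent.Lib.helper58.PearlI3
import Cfsg.Agent.Lib.helper73.PearlS
import Cfsg.Agent.Lib.helper11.PearlUcore

set_option autoImplicit false

namespace Cfsg.Agent.Lib.helper65.PearlPow

open Cfsg.Agent.Lib.helper68

variable {H : Type*} [Group H]

/-- Q (M/L). Induction on `k`: `k = 0` is `dl_tt`. Step: `rel_dl` on the hypothesis, then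
`rel_dl_mul_const`, `s_claim (k+1)`, `u_claim (k+1)` and `rel_trans` / `rel_symm` / `rel_mono`. -/
theorem q_claim (x g : H) {w : ℕ} (hw : 1 ≤ w) (hg : g ∈ gam H w) (k : ℕ) :
    Rel (w + k + 2) (fun n => (ph x)^[k + 1] (tt x g) n * yk x (com x g) k)
      (dl^[k + 1] (tt x g)) :=
  helper9_q_claim_core x g hg (fun hs h => rel_dl hs h) (fun hs hy => rel_dl_mul_const hs hy)
    (fun j => h73_s_claim x g hw hg j)
    (fun j => h11_u_claim_core (fun _ _ x _ _ hs h => rel_ph x hs h)
      (fun _ _ x _ _ hs hy => rel_ph_mul_const x hs hy) x g hg j) k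

end Cfsg.Agent.Lib.helper65.PearlPow
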