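import Mathlib

set_option autoImplicit false

namespace Cfsg.Agent.Lib.helper9.S2113

open scoped commutatorElement

theorem h9_comm_mul_central_left {Γ : Type*} [Group Γ] (x y κ : Γ)
    (hk : κ ∈ Subgroup.center Γ) : ⁅x * κ, y⁆ = ⁅x, y⁆ := by
  rw [Subgroup.mem_center_iff] at hk
  calc ⁅x * κ, y⁆ = x * (κ * y) * κ⁻¹ * x⁻¹ * y⁻¹ := by rw [commutatorElement_def]; group
    _ = x * (y * κ) * κ⁻¹ * x⁻¹ * y⁻¹ := by rw [hk y]
    _ = ⁅x, y⁆ := by rw [commutatorElement_def]; group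

theorem h9_comm_mul_central_right {Γ : Type*} [Group Γ] (x y κ : Γ)
    (hk : κ ∈ Subgroup.center Γ) : ⁅x, y * κ⁆ = ⁅x, y⁆ := by
  rw [Subgroup.mem_center_iff] at hk
  calc ⁅x, y * κ⁆ = x * y * (κ * x⁻¹) * κ⁻¹ * y⁻¹ := by rw [commutatorElement_def]; group
    _ = x * y * (x⁻¹ * κ) * κ⁻¹ * y⁻¹ := by rw [hk x⁻¹]
    _ = ⁅x, y⁆ := by rw [commutatorElement_def]; group

theorem h9_comm_congr {G Γ : Type*} [Group G] [Group Γ] (σ : Γ →* G)
    (hc : σ.ker ≤ Subgroup.center Γ) (x x' y y' : Γ) (hx : σ x = σ x') (hy : σ y = σ y') :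
    ⁅x, y⁆ = ⁅x', y'⁆ := by
  have hk : x⁻¹ * x' ∈ Subgroup.center Γ := by
    apply hc; rw [MonoidHom.mem_ker, map_mul, map_inv, hx, inv_mul_cancel]
  have hk' : y⁻¹ * y' ∈ Subgroup.center Γ := by
    apply hc; rw [MonoidHom.mem_ker, map_mul, map_inv, hy, inv_mul_cancel]
  have e1 : x' = x * (x⁻¹ * x') := by group
  have e2 : y' = y * (y⁻¹ * y') := by group
  rw [e1, e2, h9_comm_mul_central_left _ _ _ hk, h9_comm_mul_central_right _ _ _ hk']

theorem h9_comm_mul_right {Γ : Type*} [Group Γ] (x y y' : Γ)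
    (hk : ⁅x, y'⁆ ∈ Subgroup.center Γ) : ⁅x, y * y'⁆ = ⁅x, y⁆ * ⁅x, y'⁆ := by
  rw [Subgroup.mem_center_iff] at hk
  calc ⁅x, y * y'⁆ = x * y * x⁻¹ * (⁅x, y'⁆ * y⁻¹) := by
        rw [commutatorElement_def, commutatorElement_def]; group
    _ = x * y * x⁻¹ * (y⁻¹ * ⁅x, y'⁆) := by rw [hk y⁻¹]
    _ = ⁅x, y⁆ * ⁅x, y'⁆ := by rw [commutatorElement_def x y]; group

theorem h9_comm_conj {Γ : Type*} [Group Γ] (h x y : Γ)
    (hk : ⁅x, y⁆ ∈ Subgroup.center Γ) : ⁅h * x * h⁻¹, h * y * h⁻¹⁆ = ⁅x, y⁆ := by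
  rw [Subgroup.mem_center_iff] at hk
  calc ⁅h * x * h⁻¹, h * y * h⁻¹⁆ = h * ⁅x, y⁆ * h⁻¹ := by
        rw [commutatorElement_def, commutatorElement_def]; group
    _ = ⁅x, y⁆ * h * h⁻¹ := by rw [hk h]
    _ = ⁅x, y⁆ := by group

/-- PIECE TWOC: the preimage of such a `2³` in a central extension is abelian. -/
theorem helper9_two_comm {G Γ : Type*} [Group G] [Group Γ] (σ : Γ →* G) (hsurj : Function.Surjective σ)
    (hc : σ.ker ≤ Subgroup.center Γ) (S : Subgroup G) (hcard : Nat.card S = 8)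
    (hexp : ∀ x ∈ S, x * x = 1) (g : G) (hg : ∀ x ∈ S, g * x * g⁻¹ ∈ S) (hg7 : g ^ 7 = 1)
    (hfix : ∀ x ∈ S, g * x * g⁻¹ = x → x = 1)
    (hF : ∀ (f : ZMod 7 → Γ) (j : ZMod 7), (∀ a b, f a * f b = f b * f a) → f 0 = 1 →
      (∀ k, f k * f k = 1) → (∀ k, f (-k) = f k) → j ≠ 0 → j ≠ 1 →
      (∀ i, f (i + j) = f i * f (i + 1)) → ∀ k, f k = 1)
    (x y : Γ) (hx : σ x ∈ S) (hy : σ y ∈ S) : x * y = y * x := by
  classical
  have : Fact (Nat.Prime 7) := ⟨by norm_num⟩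
  have hker : ∀ z : Γ, σ z = 1 → ∀ w, z * w = w * z := fun z hz w =>
    ((Subgroup.mem_center_iff.mp (hc (MonoidHom.mem_ker.mpr hz))) w).symm
  by_cases hx1 : σ x = 1
  · exact hker x hx1 y
  by_cases hy1 : σ y = 1
  · exact (hker y hy1 x).symm
  -- S is abelian
  have hinv : ∀ a ∈ S, a⁻¹ = a := fun a ha => inv_eq_of_mul_eq_one_left (hexp a ha)
  have hSab : ∀ a ∈ S, ∀ b ∈ S, a * b = b * a := by
    intro a ha b hb
    have h3 := hinv (a * b) (S.mul_mem ha hb)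
    rw [mul_inv_rev, hinv a ha, hinv b hb] at h3
    exact h3.symm
  -- powers of g
  obtain ⟨P, hP⟩ : ∃ P : ZMod 7 → G, ∀ k, P k = g ^ k.val := ⟨fun k => g ^ k.val, fun _ => rfl⟩
  have hPadd : ∀ a b, P (a + b) = P a * P b := by
    intro a b
    rw [hP, hP, hP, ZMod.val_add, ← pow_eq_pow_mod _ hg7, pow_add]
  have hP0 : P 0 = 1 := by rw [hP, ZMod.val_zero, pow_zero]
  have hP1 : P 1 = g := by
    have h1 : (1 : ZMod 7).val = 1 := rfl
    rw [hP, h1, pow_one]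
  have hPS : ∀ k, ∀ s ∈ S, P k * s * (P k)⁻¹ ∈ S := by
    intro k s hs
    rw [hP]
    generalize k.val = n
    induction n with
    | zero => simpa using hs
    | succ n ih =>
      have h1 := hg _ ih
      have e : g ^ (n + 1) * s * (g ^ (n + 1))⁻¹ = g * (g ^ n * s * (g ^ n)⁻¹) * g⁻¹ := by
        rw [pow_succ']; group
      rw [e]; exact h1
  have hconj1 : ∀ k, ∀ s, P k * s * (P k)⁻¹ = 1 → s = 1 := by
    intro k s h
    have e : s = (P k)⁻¹ * (P k * s * (P k)⁻¹) * P k := by group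
    rw [e, h]; group
  -- no fixed points for nontrivial powers
  have hnf : ∀ d : ZMod 7, d ≠ 0 → ∀ s ∈ S, P d * s * (P d)⁻¹ = s → s = 1 := by
    intro d hd s hs hds
    apply hfix s hs
    have hcomm : Commute (P d) s := by
      have h1 : P d * s = s * P d := by
        calc P d * s = P d * s * (P d)⁻¹ * P d := by group
          _ = s * P d := by rw [hds]
      exact h1
    have hmul : ∀ n : ℕ, P ((n : ZMod 7) * d) = (P d) ^ n := by
      intro n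
      induction n with
      | zero => simp [hP0]
      | succ n ih => rw [Nat.cast_succ, add_mul, one_mul, hPadd, ih, pow_succ]
    have hg' : g = (P d) ^ (d⁻¹).val := by
      rw [← hmul, ZMod.natCast_zmod_val, inv_mul_cancel₀ hd, hP1]
    have hcg : Commute g s := by rw [hg']; exact hcomm.pow_left _
    calc g * s * g⁻¹ = s * g * g⁻¹ := by rw [hcg.eq]
      _ = s := by group
  -- the orbit of s₀ = σ x
  obtain ⟨t, ht⟩ : ∃ t : ZMod 7 → G, ∀ k, t k = P k * σ x * (P k)⁻¹ :=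
    ⟨fun k => P k * σ x * (P k)⁻¹, fun _ => rfl⟩
  have htS : ∀ k, t k ∈ S := fun k => by rw [ht]; exact hPS k _ hx
  have ht0 : t 0 = σ x := by rw [ht, hP0]; group
  have htadd : ∀ a b, t (a + b) = P a * t b * (P a)⁻¹ := by
    intro a b; rw [ht, ht, hPadd]; group
  have ht1 : t 1 = g * σ x * g⁻¹ := by rw [ht, hP1]
  have htne : ∀ k, t k ≠ 1 := by
    intro k h
    rw [ht] at h
    exact hx1 (hconj1 k _ h)
  have htinj : Function.Injective t := by
    intro a b hab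
    by_contra hne
    have hd : a - b ≠ 0 := sub_ne_zero.mpr hne
    have e1 : a = (a - b) + b := by ring
    have h2 : t a = P (a - b) * t b * (P (a - b))⁻¹ := by
      conv_lhs => rw [e1]
      exact htadd _ _
    have h1 : t b = 1 := hnf (a - b) hd (t b) (htS b) (by rw [← h2, hab])
    exact htne b h1
  have hsurjt : ∀ b ∈ S, b ≠ 1 → ∃ k, t k = b := by
    have hS8 : (S : Set G).ncard = 8 := by
      rw [← Nat.card_coe_set_eq]; exact hcard
    have hSfin : (S : Set G).Finite := Set.finite_of_ncard_ne_zero (by rw [hS8]; norm_num)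
    have h7 : ((S : Set G) \ {1}).ncard = 7 := by
      rw [Set.ncard_sdiff_singleton_of_mem S.one_mem, hS8]
    have hr7 : (Set.range t).ncard = 7 := by
      rw [← Set.image_univ, Set.ncard_image_of_injective _ htinj, Set.ncard_univ,
        Nat.card_eq_fintype_card, ZMod.card]
    have hsub : Set.range t ⊆ (S : Set G) \ {1} := by
      rintro _ ⟨k, rfl⟩
      exact ⟨htS k, htne k⟩
    have heq := Set.eq_of_subset_of_ncard_le hsub (by rw [h7, hr7]) (hSfin.subset Set.sdiff_subset)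
    intro b hb hb1
    have hmem : b ∈ Set.range t := by rw [heq]; exact ⟨hb, hb1⟩
    exact hmem
  -- lifts
  obtain ⟨γ, hγ⟩ := hsurj g
  obtain ⟨Y, hY⟩ : ∃ Y : ZMod 7 → Γ, ∀ k, Y k = γ ^ k.val * x * (γ ^ k.val)⁻¹ :=
    ⟨fun k => γ ^ k.val * x * (γ ^ k.val)⁻¹, fun _ => rfl⟩
  have hσY : ∀ k, σ (Y k) = t k := by
    intro k; rw [hY, ht, hP, map_mul, map_mul, map_inv, map_pow, hγ]
  have hYS : ∀ k, σ (Y k) ∈ S := fun k => by rw [hσY]; exact htS k
  have hcen : ∀ a b : Γ, σ a ∈ S → σ b ∈ S → ⁅a, b⁆ ∈ Subgroup.center Γ := by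
    intro a b ha hb
    apply hc
    rw [MonoidHom.mem_ker, map_commutatorElement, commutatorElement_eq_one_iff_mul_comm]
    exact hSab _ ha _ hb
  obtain ⟨f, hf⟩ : ∃ f : ZMod 7 → Γ, ∀ k, f k = ⁅x, Y k⁆ := ⟨fun k => ⁅x, Y k⁆, fun _ => rfl⟩
  have hfc : ∀ k, f k ∈ Subgroup.center Γ := fun k => by rw [hf]; exact hcen _ _ hx (hYS k)
  have hf1 : ∀ a b, f a * f b = f b * f a := fun a b =>
    (Subgroup.mem_center_iff.mp (hfc b)) (f a)
  have hf0 : f 0 = 1 := by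
    rw [hf, hY, ZMod.val_zero, pow_zero, one_mul, inv_one, mul_one, commutatorElement_self]
  have hfsq : ∀ k, f k * f k = 1 := by
    intro k
    have h1 : ⁅x, Y k * Y k⁆ = ⁅x, Y k⁆ * ⁅x, Y k⁆ :=
      h9_comm_mul_right x (Y k) (Y k) (by rw [← hf]; exact hfc k)
    have h2 : ⁅x, Y k * Y k⁆ = ⁅x, 1⁆ := h9_comm_congr σ hc _ _ _ _ rfl (by
      rw [map_mul, map_one, hσY]; exact hexp _ (htS k))
    rw [commutatorElement_one_right] at h2
    rw [hf, ← h1, h2]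
  have hfneg : ∀ k, f (-k) = f k := by
    intro k
    have h1 : ⁅γ ^ k.val * x * (γ ^ k.val)⁻¹, γ ^ k.val * Y (-k) * (γ ^ k.val)⁻¹⁆ = ⁅x, Y (-k)⁆ :=
      h9_comm_conj _ _ _ (by rw [← hf]; exact hfc (-k))
    have h2 : ⁅γ ^ k.val * x * (γ ^ k.val)⁻¹, γ ^ k.val * Y (-k) * (γ ^ k.val)⁻¹⁆ = ⁅Y k, x⁆ := by
      apply h9_comm_congr σ hc
      · rw [hY]
      · rw [map_mul, map_mul, map_inv, map_pow, hγ, hσY, ← hP, ← htadd, add_neg_cancel, ht0]
    have h3 : ⁅Y k, x⁆ = (f k)⁻¹ := by rw [hf, commutatorElement_inv]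
    have h4 : (f k)⁻¹ = f k := inv_eq_of_mul_eq_one_left (hfsq k)
    rw [hf (-k), ← h1, h2, h3, h4]
  -- the index j
  have hprod : σ x * t 1 ∈ S := S.mul_mem hx (htS 1)
  have hprod1 : σ x * t 1 ≠ 1 := by
    intro h
    have h1 : t 1 = (σ x)⁻¹ := eq_inv_of_mul_eq_one_right h
    rw [hinv _ hx, ht1] at h1
    exact hx1 (hfix _ hx h1)
  obtain ⟨j, hj⟩ := hsurjt _ hprod hprod1
  have hj0 : j ≠ 0 := by
    rintro rfl
    rw [ht0] at hj
    have h1 : t 1 = 1 := mul_eq_left.mp hj.symm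
    exact htne 1 h1
  have hj1 : j ≠ 1 := by
    rintro rfl
    have h1 : σ x = 1 := mul_eq_right.mp hj.symm
    exact hx1 h1
  have hrel : ∀ i, f (i + j) = f i * f (i + 1) := by
    intro i
    have h1 : ⁅x, Y (i + j)⁆ = ⁅x, Y i * Y (i + 1)⁆ := by
      apply h9_comm_congr σ hc
      · rfl
      · rw [map_mul, hσY, hσY, hσY, htadd i j, hj, htadd i 1, ht i]; group
    have h2 : ⁅x, Y i * Y (i + 1)⁆ = ⁅x, Y i⁆ * ⁅x, Y (i + 1)⁆ :=
      h9_comm_mul_right _ _ _ (by rw [← hf]; exact hfc (i + 1))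
    rw [hf, hf, hf, h1, h2]
  have hfall := hF f j hf1 hf0 hfsq hfneg hj0 hj1 hrel
  obtain ⟨k, hk⟩ := hsurjt (σ y) hy hy1
  have h1 : ⁅x, y⁆ = ⁅x, Y k⁆ := h9_comm_congr σ hc _ _ _ _ rfl (by rw [hσY, hk])
  have h2 : ⁅x, y⁆ = 1 := by rw [h1, ← hf]; exact hfall k
  exact commutatorElement_eq_one_iff_mul_comm.mp h2

end Cfsg.Agent.Lib.helper9.S2113
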