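import Mathlib
import Cfsg.Agent.Lib.helper92.S3664Defs

/-!
S3664 piece X13 (architect helper92): the explicit element `x13` of `Sz(8)` has order 13 and the
traces of its nontrivial powers are neither 0 nor 1.  Also the literal power tables used by piece N13.
-/

set_option autoImplicit false
set_option maxRecDepth 100000

namespace Cfsg.Agent.Lib.helper9.S3664

open Cfsg.Agent.Lib.helper92.S3664 Cfsg.Agent.Lib.helper17 Cfsg.Agent.Lib.helper8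

/-- literal powers of the matrix of `x13` -/
def h9pw : ℕ → Matrix (Fin 4) (Fin 4) K
  | 0 => !![H8.h1, H8.h0, H8.h0, H8.h0; H8.h0, H8.h1, H8.h0, H8.h0; H8.h0, H8.h0, H8.h1, H8.h0; H8.h0, H8.h0, H8.h0, H8.h1]
  | 1 => !![H8.h5, H8.h7, H8.h2, H8.h1; H8.h0, H8.h6, H8.h1, H8.h0; H8.h2, H8.h1, H8.h0, H8.h0; H8.h1, H8.h0, H8.h0, H8.h0]
  | 2 => !![H8.h2, H8.h0, H8.h6, H8.h5; H8.h2, H8.h3, H8.h6, H8.h0; H8.h1, H8.h3, H8.h5, H8.h2; H8.h5, H8.h7, H8.h2, H8.h1]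
  | 3 => !![H8.h3, H8.h3, H8.h4, H8.h2; H8.h6, H8.h2, H8.h7, H8.h2; H8.h6, H8.h3, H8.h1, H8.h1; H8.h2, H8.h0, H8.h6, H8.h5]
  | 4 => !![H8.h5, H8.h7, H8.h5, H8.h3; H8.h4, H8.h4, H8.h5, H8.h6; H8.h0, H8.h4, H8.h4, H8.h6; H8.h3, H8.h3, H8.h4, H8.h2]
  | 5 => !![H8.h5, H8.h7, H8.h6, H8.h5; H8.h5, H8.h1, H8.h7, H8.h4; H8.h5, H8.h1, H8.h4, H8.h0; H8.h5, H8.h7, H8.h5, H8.h3]
  | 6 => !![H8.h5, H8.h4, H8.h6, H8.h5; H8.h6, H8.h7, H8.h0, H8.h5; H8.h4, H8.h4, H8.h0, H8.h5; H8.h5, H8.h7, H8.h6, H8.h5]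
  | 7 => !![H8.h5, H8.h5, H8.h5, H8.h5; H8.h6, H8.h0, H8.h0, H8.h6; H8.h7, H8.h4, H8.h7, H8.h4; H8.h5, H8.h4, H8.h6, H8.h5]
  | 8 => !![H8.h3, H8.h0, H8.h4, H8.h5; H8.h5, H8.h4, H8.h7, H8.h6; H8.h7, H8.h1, H8.h1, H8.h7; H8.h5, H8.h5, H8.h5, H8.h5]
  | 9 => !![H8.h2, H8.h6, H8.h6, H8.h3; H8.h4, H8.h4, H8.h5, H8.h5; H8.h3, H8.h4, H8.h4, H8.h7; H8.h3, H8.h0, H8.h4, H8.h5]
  | 10 => !![H8.h5, H8.h1, H8.h2, H8.h2; H8.h6, H8.h1, H8.h7, H8.h4; H8.h0, H8.h3, H8.h2, H8.h3; H8.h2, H8.h6, H8.h6, H8.h3]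
  | 11 => !![H8.h1, H8.h2, H8.h0, H8.h5; H8.h2, H8.h5, H8.h6, H8.h6; H8.h7, H8.h3, H8.h3, H8.h0; H8.h5, H8.h1, H8.h2, H8.h2]
  | 12 => !![H8.h0, H8.h0, H8.h0, H8.h1; H8.h0, H8.h0, H8.h1, H8.h2; H8.h0, H8.h1, H8.h6, H8.h7; H8.h1, H8.h2, H8.h0, H8.h5]
  | _ => 0

/-- literal powers of the entrywise square of the matrix of `x13` -/
def h9qw : ℕ → Matrix (Fin 4) (Fin 4) K
  | 0 => !![H8.h1, H8.h0, H8.h0, H8.h0; H8.h0, H8.h1, H8.h0, H8.h0; H8.h0, H8.h0, H8.h1, H8.h0; H8.h0, H8.h0, H8.h0, H8.h1]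
  | 1 => !![H8.h7, H8.h3, H8.h4, H8.h1; H8.h0, H8.h2, H8.h1, H8.h0; H8.h4, H8.h1, H8.h0, H8.h0; H8.h1, H8.h0, H8.h0, H8.h0]
  | 2 => !![H8.h4, H8.h0, H8.h2, H8.h7; H8.h4, H8.h5, H8.h2, H8.h0; H8.h1, H8.h5, H8.h7, H8.h4; H8.h7, H8.h3, H8.h4, H8.h1]
  | 3 => !![H8.h5, H8.h5, H8.h6, H8.h4; H8.h2, H8.h4, H8.h3, H8.h4; H8.h2, H8.h5, H8.h1, H8.h1; H8.h4, H8.h0, H8.h2, H8.h7]
  | 4 => !![H8.h7, H8.h3, H8.h7, H8.h5; H8.h6, H8.h6, H8.h7, H8.h2; H8.h0, H8.h6, H8.h6, H8.h2; H8.h5, H8.h5, H8.h6, H8.h4]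
  | 5 => !![H8.h7, H8.h3, H8.h2, H8.h7; H8.h7, H8.h1, H8.h3, H8.h6; H8.h7, H8.h1, H8.h6, H8.h0; H8.h7, H8.h3, H8.h7, H8.h5]
  | 6 => !![H8.h7, H8.h6, H8.h2, H8.h7; H8.h2, H8.h3, H8.h0, H8.h7; H8.h6, H8.h6, H8.h0, H8.h7; H8.h7, H8.h3, H8.h2, H8.h7]
  | 7 => !![H8.h7, H8.h7, H8.h7, H8.h7; H8.h2, H8.h0, H8.h0, H8.h2; H8.h3, H8.h6, H8.h3, H8.h6; H8.h7, H8.h6, H8.h2, H8.h7]
  | 8 => !![H8.h5, H8.h0, H8.h6, H8.h7; H8.h7, H8.h6, H8.h3, H8.h2; H8.h3, H8.h1, H8.h1, H8.h3; H8.h7, H8.h7, H8.h7, H8.h7]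
  | 9 => !![H8.h4, H8.h2, H8.h2, H8.h5; H8.h6, H8.h6, H8.h7, H8.h7; H8.h5, H8.h6, H8.h6, H8.h3; H8.h5, H8.h0, H8.h6, H8.h7]
  | 10 => !![H8.h7, H8.h1, H8.h4, H8.h4; H8.h2, H8.h1, H8.h3, H8.h6; H8.h0, H8.h5, H8.h4, H8.h5; H8.h4, H8.h2, H8.h2, H8.h5]
  | 11 => !![H8.h1, H8.h4, H8.h0, H8.h7; H8.h4, H8.h7, H8.h2, H8.h2; H8.h3, H8.h5, H8.h5, H8.h0; H8.h7, H8.h1, H8.h4, H8.h4]
  | 12 => !![H8.h0, H8.h0, H8.h0, H8.h1; H8.h0, H8.h0, H8.h1, H8.h4; H8.h0, H8.h1, H8.h2, H8.h3; H8.h1, H8.h4, H8.h0, H8.h7]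
  | _ => 0

theorem h9_x13_mat : matS x13 = h9pw 1 := by
  rw [x13_mat]
  decide

theorem h9_matS_pow (u : S) (n : ℕ) : matS (u ^ n) = matS u ^ n := by
  induction n with
  | zero => rw [pow_zero, pow_zero, matS_one]
  | succ n ih => rw [pow_succ, pow_succ, matS_mul, ih]

theorem h9_pw_zero : h9pw 0 = 1 := by decide

theorem h9_pw_succ : ∀ i : Fin 12, h9pw (i.val + 1) = h9pw i.val * h9pw 1 := by decide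

theorem h9_pw_last : h9pw 12 * h9pw 1 = 1 := by decide

theorem h9_pw_pow (i : ℕ) (hi : i ≤ 12) : h9pw 1 ^ i = h9pw i := by
  induction i with
  | zero => rw [pow_zero, h9_pw_zero]
  | succ n ih =>
    rw [pow_succ, ih (by omega)]
    exact (h9_pw_succ ⟨n, by omega⟩).symm

theorem h9_x13_pow13 : x13 ^ 13 = 1 := by
  apply matS_inj
  rw [h9_matS_pow, h9_x13_mat, pow_succ, h9_pw_pow 12 (le_refl _), h9_pw_last, matS_one]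

theorem h9_x13_ne_one : x13 ≠ 1 := by
  intro h
  have h1 : matS x13 = matS 1 := by rw [h]
  rw [h9_x13_mat, matS_one] at h1
  revert h1
  decide

theorem orderOf_x13 : orderOf x13 = 13 := by
  have : Fact (Nat.Prime 13) := ⟨by norm_num⟩
  exact orderOf_eq_prime h9_x13_pow13 h9_x13_ne_one

theorem h9_trace_pw : ∀ r : Fin 13, r.val ≠ 0 →
    (Matrix.trace (h9pw r.val) ≠ 0 ∧ Matrix.trace (h9pw r.val) ≠ 1) := by decide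

theorem trace_x13_pow (j : ℕ) : x13 ^ j = 1 ∨ (trS (x13 ^ j) ≠ 0 ∧ trS (x13 ^ j) ≠ 1) := by
  have hj : x13 ^ j = x13 ^ (j % 13) := by
    conv_lhs => rw [← Nat.div_add_mod j 13, pow_add, pow_mul, h9_x13_pow13, one_pow, one_mul]
  rw [hj]
  have hlt : j % 13 < 13 := Nat.mod_lt _ (by norm_num)
  by_cases h0 : j % 13 = 0
  · left
    rw [h0, pow_zero]
  · right
    have hm : matS (x13 ^ (j % 13)) = h9pw (j % 13) := by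
      rw [h9_matS_pow, h9_x13_mat, h9_pw_pow _ (by omega)]
    have key := h9_trace_pw ⟨j % 13, hlt⟩ h0
    unfold trS
    rw [hm]
    exact key

end Cfsg.Agent.Lib.helper9.S3664
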