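import Mathlib
import Cfsg.Agent.Lib.helper92.S3664Defs
import Cfsg.Agent.Lib.helper9.S3664X13

/-!
S3664 piece N13 (architect helper92): the explicit element `x13` of order 13 of `Sz(8)` has no
nonzero fixed point on `A = M₄(F₈)` (norm trick: `∑_{i<13} Xⁱ M (Yᵀ)ⁱ = 0` for every `M`).
-/

set_option autoImplicit false
set_option maxRecDepth 100000

namespace Cfsg.Agent.Lib.helper9.S3664

open Cfsg.Agent.Lib.helper92.S3664 Cfsg.Agent.Lib.helper17 Cfsg.Agent.Lib.helper8

theorem h9_y13_mat : (matS x13).map (frK 1) = h9qw 1 := by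
  rw [h9_x13_mat]
  decide

theorem h9_qw_zero : h9qw 0 = 1 := by decide

theorem h9_qw_succ : ∀ i : Fin 12, h9qw (i.val + 1) = h9qw i.val * h9qw 1 := by decide

theorem h9_qw_pow (i : ℕ) (hi : i ≤ 12) : h9qw 1 ^ i = h9qw i := by
  induction i with
  | zero => rw [pow_zero, h9_qw_zero]
  | succ n ih =>
    rw [pow_succ, ih (by omega)]
    exact (h9_qw_succ ⟨n, by omega⟩).symm

/-- the 256 entries of the norm map vanish -/
theorem h9_norm : ∀ c k d l : Fin 4,
    ∑ i ∈ Finset.range 13, h9pw i c k * h9qw i d l = 0 := by decide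

theorem h9_entry (a : A) (c d : Fin 4) :
    (∑ i ∈ Finset.range 13, h9pw i * a * (h9qw i).transpose) c d
      = ∑ k : Fin 4, ∑ l : Fin 4, a k l * ∑ i ∈ Finset.range 13, h9pw i c k * h9qw i d l := by
  rw [Matrix.sum_apply]
  simp only [Matrix.mul_apply, Matrix.transpose_apply, Finset.sum_mul, Finset.mul_sum]
  rw [Finset.sum_comm]
  refine (Finset.sum_congr rfl (fun l _ => Finset.sum_comm)).trans ?_
  rw [Finset.sum_comm]
  refine Finset.sum_congr rfl (fun k _ => Finset.sum_congr rfl (fun l _ =>
    Finset.sum_congr rfl (fun i _ => by ring)))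

theorem h9_thirteen : ∀ x : K, (13 : ℕ) • x = x := by decide

theorem x13_fpf (a : A) (h : act (SemidirectProduct.inl x13) a = a) : a = 0 := by
  have hXY : h9pw 1 * a * (h9qw 1).transpose = a := by
    have h1 : act (SemidirectProduct.inl x13) a
        = matS x13 * a * ((matS x13).map (frK 1)).transpose := by
      unfold act
      have h2 : a.map (frK (Multiplicative.toAdd (SemidirectProduct.inl x13 : G).right)) = a := by
        ext i j
        simp [frK_zero]
      rw [h2]
      rfl
    rw [h1, h9_y13_mat, h9_x13_mat] at h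
    exact h
  have hpow : ∀ i : ℕ, h9pw 1 ^ i * a * (h9qw 1).transpose ^ i = a := by
    intro i
    induction i with
    | zero => rw [pow_zero, pow_zero, Matrix.one_mul, Matrix.mul_one]
    | succ n ih =>
      have e : h9pw 1 ^ (n + 1) * a * (h9qw 1).transpose ^ (n + 1)
          = h9pw 1 ^ n * (h9pw 1 * a * (h9qw 1).transpose) * (h9qw 1).transpose ^ n := by
        rw [pow_succ, pow_succ']
        simp only [Matrix.mul_assoc]
      rw [e, hXY, ih]
  have hterm : ∀ i ∈ Finset.range 13, h9pw i * a * (h9qw i).transpose = a := by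
    intro i hi
    have hi' : i ≤ 12 := by
      have := Finset.mem_range.1 hi
      omega
    have := hpow i
    rw [← Matrix.transpose_pow, h9_pw_pow i hi', h9_qw_pow i hi'] at this
    exact this
  have hsum : ∑ i ∈ Finset.range 13, h9pw i * a * (h9qw i).transpose = (13 : ℕ) • a := by
    rw [Finset.sum_congr rfl hterm, Finset.sum_const, Finset.card_range]
  ext c d
  have h0 : (∑ i ∈ Finset.range 13, h9pw i * a * (h9qw i).transpose) c d = 0 := by
    rw [h9_entry]
    refine Finset.sum_eq_zero (fun k _ => Finset.sum_eq_zero (fun l _ => ?_))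
    rw [h9_norm c k d l, mul_zero]
  rw [hsum, Matrix.smul_apply, h9_thirteen] at h0
  rw [h0]
  rfl

end Cfsg.Agent.Lib.helper9.S3664
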