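import Mathlib

/-!
S3664 piece SYLC (architect helper92), insurance copy: if `p² ∤ |G|` then any two elements of
order `p` are conjugate up to powers.
-/

set_option autoImplicit false

namespace Cfsg.Agent.Lib.helper9.S3664

theorem sylow_conj {G : Type*} [Group G] [Finite G] (p : ℕ) (hp : p.Prime)
    (hp2 : ¬ p ^ 2 ∣ Nat.card G) (x y : G) (hx : orderOf x = p) (hy : orderOf y = p) :
    ∃ (c : G) (j : ℕ), y = c * x ^ j * c⁻¹ := by
  have : Fact p.Prime := ⟨hp⟩
  have hxP : IsPGroup p (Subgroup.zpowers x) := by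
    apply IsPGroup.of_card (n := 1)
    rw [Nat.card_zpowers, hx, pow_one]
  have hyP : IsPGroup p (Subgroup.zpowers y) := by
    apply IsPGroup.of_card (n := 1)
    rw [Nat.card_zpowers, hy, pow_one]
  obtain ⟨P, hP⟩ := hxP.exists_le_sylow
  obtain ⟨Q, hQ⟩ := hyP.exists_le_sylow
  have hG0 : Nat.card G ≠ 0 := Nat.card_pos.ne'
  have hf : (Nat.card G).factorization p = 1 := by
    have h1 : 1 ≤ (Nat.card G).factorization p := by
      rw [← hp.pow_dvd_iff_le_factorization hG0, pow_one, ← hx]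
      exact orderOf_dvd_natCard x
    have h2 : ¬ 2 ≤ (Nat.card G).factorization p := by
      rw [← hp.pow_dvd_iff_le_factorization hG0]
      exact hp2
    omega
  have hcard : ∀ R : Sylow p G, Nat.card R = p := by
    intro R
    rw [R.card_eq_multiplicity, hf, pow_one]
  have hPx : Subgroup.zpowers x = (P : Subgroup G) := by
    apply Subgroup.eq_of_le_of_card_ge hP
    rw [hcard P, Nat.card_zpowers, hx]
  obtain ⟨c, hc⟩ := MulAction.exists_smul_eq G P Q
  have hyQ : y ∈ (Q : Subgroup G) := hQ (Subgroup.mem_zpowers y)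
  rw [← hc, Sylow.coe_subgroup_smul, Subgroup.mem_pointwise_smul_iff_inv_smul_mem, ← hPx] at hyQ
  have hyQ' : c⁻¹ * y * c ∈ Subgroup.zpowers x := by
    have e : (MulAut.conj c)⁻¹ • y = c⁻¹ * y * c := by
      rw [← map_inv, MulAut.smul_def, MulAut.conj_apply, inv_inv]
    rw [← e]
    exact hyQ
  have hfin : IsOfFinOrder x := isOfFinOrder_of_finite x
  rw [← hfin.mem_powers_iff_mem_zpowers] at hyQ'
  obtain ⟨j, hj⟩ := hyQ'
  refine ⟨c, j, ?_⟩
  have hj' : x ^ j = c⁻¹ * y * c := hj
  rw [hj']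
  group

end Cfsg.Agent.Lib.helper9.S3664
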