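import Mathlib
import Cfsg.Agent.Lib.helper92.S3664Defs
import Cfsg.Agent.Lib.helper9.S3664X13

/-!
S3664 pieces X7 and FIX (architect helper92), insurance copies: the explicit torus element `x7`
of `Sz(8)` has order 7 with traces of nontrivial powers outside `{0, 1}`; explicit fixed points
of elements of order 3, 5, 7 of `G` on `A`.
-/

set_option autoImplicit false
set_option maxRecDepth 100000

namespace Cfsg.Agent.Lib.helper9.S3664

open Cfsg.Agent.Lib.helper92.S3664 Cfsg.Agent.Lib.helper17 Cfsg.Agent.Lib.helper8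

/-- literal powers of the matrix of `x7` -/
def h9dw : ℕ → Matrix (Fin 4) (Fin 4) K
  | 0 => !![H8.h1, H8.h0, H8.h0, H8.h0; H8.h0, H8.h1, H8.h0, H8.h0; H8.h0, H8.h0, H8.h1, H8.h0; H8.h0, H8.h0, H8.h0, H8.h1]
  | 1 => !![H8.h7, H8.h0, H8.h0, H8.h0; H8.h0, H8.h2, H8.h0, H8.h0; H8.h0, H8.h0, H8.h5, H8.h0; H8.h0, H8.h0, H8.h0, H8.h4]
  | 2 => !![H8.h3, H8.h0, H8.h0, H8.h0; H8.h0, H8.h4, H8.h0, H8.h0; H8.h0, H8.h0, H8.h7, H8.h0; H8.h0, H8.h0, H8.h0, H8.h6]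
  | 3 => !![H8.h2, H8.h0, H8.h0, H8.h0; H8.h0, H8.h3, H8.h0, H8.h0; H8.h0, H8.h0, H8.h6, H8.h0; H8.h0, H8.h0, H8.h0, H8.h5]
  | 4 => !![H8.h5, H8.h0, H8.h0, H8.h0; H8.h0, H8.h6, H8.h0, H8.h0; H8.h0, H8.h0, H8.h3, H8.h0; H8.h0, H8.h0, H8.h0, H8.h2]
  | 5 => !![H8.h6, H8.h0, H8.h0, H8.h0; H8.h0, H8.h7, H8.h0, H8.h0; H8.h0, H8.h0, H8.h4, H8.h0; H8.h0, H8.h0, H8.h0, H8.h3]
  | 6 => !![H8.h4, H8.h0, H8.h0, H8.h0; H8.h0, H8.h5, H8.h0, H8.h0; H8.h0, H8.h0, H8.h2, H8.h0; H8.h0, H8.h0, H8.h0, H8.h7]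
  | _ => 0

/-- literal powers of the matrix of `n5` -/
def h9nw : ℕ → Matrix (Fin 4) (Fin 4) K
  | 0 => !![H8.h1, H8.h0, H8.h0, H8.h0; H8.h0, H8.h1, H8.h0, H8.h0; H8.h0, H8.h0, H8.h1, H8.h0; H8.h0, H8.h0, H8.h0, H8.h1]
  | 1 => !![H8.h1, H8.h1, H8.h0, H8.h1; H8.h1, H8.h0, H8.h1, H8.h0; H8.h0, H8.h1, H8.h0, H8.h0; H8.h1, H8.h0, H8.h0, H8.h0]
  | 2 => !![H8.h1, H8.h1, H8.h1, H8.h1; H8.h1, H8.h0, H8.h0, H8.h1; H8.h1, H8.h0, H8.h1, H8.h0; H8.h1, H8.h1, H8.h0, H8.h1]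
  | 3 => !![H8.h1, H8.h0, H8.h1, H8.h1; H8.h0, H8.h1, H8.h0, H8.h1; H8.h1, H8.h0, H8.h0, H8.h1; H8.h1, H8.h1, H8.h1, H8.h1]
  | 4 => !![H8.h0, H8.h0, H8.h0, H8.h1; H8.h0, H8.h0, H8.h1, H8.h0; H8.h0, H8.h1, H8.h0, H8.h1; H8.h1, H8.h0, H8.h1, H8.h1]
  | _ => 0

theorem h9_x7_mat : matS x7 = h9dw 1 := by
  rw [x7_mat]
  decide

theorem h9_dw_zero : h9dw 0 = 1 := by decide

theorem h9_dw_succ : ∀ i : Fin 6, h9dw (i.val + 1) = h9dw i.val * h9dw 1 := by decide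

theorem h9_dw_last : h9dw 6 * h9dw 1 = 1 := by decide

theorem h9_dw_pow (i : ℕ) (hi : i ≤ 6) : h9dw 1 ^ i = h9dw i := by
  induction i with
  | zero => rw [pow_zero, h9_dw_zero]
  | succ n ih =>
    rw [pow_succ, ih (by omega)]
    exact (h9_dw_succ ⟨n, by omega⟩).symm

theorem h9_x7_pow7 : x7 ^ 7 = 1 := by
  apply matS_inj
  rw [h9_matS_pow, h9_x7_mat, pow_succ, h9_dw_pow 6 (le_refl _), h9_dw_last, matS_one]

theorem h9_x7_ne_one : x7 ≠ 1 := by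
  intro h
  have h1 : matS x7 = matS 1 := by rw [h]
  rw [h9_x7_mat, matS_one] at h1
  revert h1
  decide

theorem orderOf_x7 : orderOf x7 = 7 := by
  have : Fact (Nat.Prime 7) := ⟨by norm_num⟩
  exact orderOf_eq_prime h9_x7_pow7 h9_x7_ne_one

theorem h9_trace_dw : ∀ r : Fin 7, r.val ≠ 0 →
    (Matrix.trace (h9dw r.val) ≠ 0 ∧ Matrix.trace (h9dw r.val) ≠ 1) := by decide

theorem trace_x7_pow (j : ℕ) : x7 ^ j = 1 ∨ (trS (x7 ^ j) ≠ 0 ∧ trS (x7 ^ j) ≠ 1) := by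
  have hj : x7 ^ j = x7 ^ (j % 7) := by
    conv_lhs => rw [← Nat.div_add_mod j 7, pow_add, pow_mul, h9_x7_pow7, one_pow, one_mul]
  rw [hj]
  have hlt : j % 7 < 7 := Nat.mod_lt _ (by norm_num)
  by_cases h0 : j % 7 = 0
  · left
    rw [h0, pow_zero]
  · right
    have hm : matS (x7 ^ (j % 7)) = h9dw (j % 7) := by
      rw [h9_matS_pow, h9_x7_mat, h9_dw_pow _ (by omega)]
    have key := h9_trace_dw ⟨j % 7, hlt⟩ h0
    unfold trS
    rw [hm]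
    exact key

/-! ### FIX -/

theorem h9_act_inl (u : S) (a : A) :
    act (SemidirectProduct.inl u) a = matS u * a * ((matS u).map (frK 1)).transpose := by
  unfold act
  have h2 : a.map (frK (Multiplicative.toAdd (SemidirectProduct.inl u : G).right)) = a := by
    ext i j
    simp [frK_zero]
  rw [h2]
  rfl

theorem h9_orderOf_inl (u : S) : orderOf (SemidirectProduct.inl u : G) = orderOf u :=
  orderOf_injective (SemidirectProduct.inl : S →* G) SemidirectProduct.inl_injective u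

theorem h9_n5_mat : matS n5 = h9nw 1 := by
  rw [n5_mat]
  decide

theorem h9_nw_zero : h9nw 0 = 1 := by decide

theorem h9_nw_succ : ∀ i : Fin 4, h9nw (i.val + 1) = h9nw i.val * h9nw 1 := by decide

theorem h9_nw_last : h9nw 4 * h9nw 1 = 1 := by decide

theorem h9_nw_pow (i : ℕ) (hi : i ≤ 4) : h9nw 1 ^ i = h9nw i := by
  induction i with
  | zero => rw [pow_zero, h9_nw_zero]
  | succ n ih =>
    rw [pow_succ, ih (by omega)]
    exact (h9_nw_succ ⟨n, by omega⟩).symm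

theorem h9_orderOf_n5 : orderOf n5 = 5 := by
  have : Fact (Nat.Prime 5) := ⟨by norm_num⟩
  refine orderOf_eq_prime ?_ ?_
  · apply matS_inj
    rw [h9_matS_pow, h9_n5_mat, pow_succ, h9_nw_pow 4 (le_refl _), h9_nw_last, matS_one]
  · intro h
    have h1 : matS n5 = matS 1 := by rw [h]
    rw [h9_n5_mat, matS_one] at h1
    revert h1
    decide

theorem fix3 : ∃ g : G, orderOf g = 3 ∧ ∃ a : A, a ≠ 0 ∧ act g a = a := by
  refine ⟨SemidirectProduct.inr q1, ?_, (1 : A), by decide, ?_⟩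
  · rw [orderOf_injective (SemidirectProduct.inr : Multiplicative (ZMod 3) →* G)
      SemidirectProduct.inr_injective q1]
    have : Fact (Nat.Prime 3) := ⟨by norm_num⟩
    refine orderOf_eq_prime ?_ ?_
    · decide
    · decide
  · unfold act
    have h1 : ((SemidirectProduct.inr q1 : G).left.1.1 : Matrix (Fin 4) (Fin 4) K) = 1 := by
      rw [SemidirectProduct.left_inr]
      rfl
    have h2 : (1 : A).map (frK (Multiplicative.toAdd (SemidirectProduct.inr q1 : G).right)) = 1 := by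
      rw [SemidirectProduct.right_inr]
      decide
    have h3 : ((1 : Matrix (Fin 4) (Fin 4) K).map (frK 1)).transpose = 1 := by decide
    rw [h1, h2, h3, Matrix.one_mul, Matrix.one_mul]

theorem fix5 : ∃ g : G, orderOf g = 5 ∧ ∃ a : A, a ≠ 0 ∧ act g a = a := by
  refine ⟨SemidirectProduct.inl n5, ?_, (matW : A), by decide, ?_⟩
  · rw [h9_orderOf_inl, h9_orderOf_n5]
  · rw [h9_act_inl, h9_n5_mat]
    decide

theorem fix7 : ∃ g : G, orderOf g = 7 ∧ ∃ a : A, a ≠ 0 ∧ act g a = a := by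
  refine ⟨SemidirectProduct.inl x7, ?_, (Matrix.of ![![0, 1, 0, 0], ![0, 0, 0, 0], ![0, 0, 0, 0], ![0, 0, 0, 0]] : A), by decide, ?_⟩
  · rw [h9_orderOf_inl, orderOf_x7]
  · rw [h9_act_inl, h9_x7_mat]
    decide

end Cfsg.Agent.Lib.helper9.S3664
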