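import Mathlib
import Cfsg.Agent.Lib.helper9.Srg77Defs

/-!
Strongly regular graphs with parameters (77, 16, 0, 4): the relation "no common neighbour"
is transitive on triads (piece C2 of the plan).
-/

set_option autoImplicit false
set_option linter.unusedSectionVars false

namespace Cfsg.Agent.Lib.helper9

open Finset

section C2

variable {V : Type*} [Fintype V] [DecidableEq V] {G : SimpleGraph V} [DecidableRel G.Adj]

/-- The vertices different from and non-adjacent to `x`, `y`, `z`. -/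
def farSet (G : SimpleGraph V) [DecidableRel G.Adj] (x y z : V) : Finset V :=
  Finset.univ.filter (fun u => u ≠ x ∧ u ≠ y ∧ u ≠ z ∧ ¬ G.Adj x u ∧ ¬ G.Adj y u ∧ ¬ G.Adj z u)

theorem mem_farSet {x y z u : V} : u ∈ farSet G x y z ↔
    u ≠ x ∧ u ≠ y ∧ u ≠ z ∧ ¬ G.Adj x u ∧ ¬ G.Adj y u ∧ ¬ G.Adj z u := by
  rw [farSet, Finset.mem_filter]
  simp

theorem farSet_swap (x y z : V) : farSet G x y z = farSet G x z y := by
  ext u
  rw [mem_farSet, mem_farSet]
  tauto

theorem mem_zset_swap {x y z : V} (hne : x ≠ y) (hxy : ¬ G.Adj x y) (hz : z ∈ zset G x y) :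
    y ∈ zset G x z := by
  rw [mem_zset] at hz ⊢
  refine ⟨fun e => hne e.symm, fun e => hz.2.1 e.symm, hxy, fun hc => hz.2.2.2.1 hc.symm, ?_⟩
  rw [Finset.inter_right_comm]
  exact hz.2.2.2.2

variable (h : Srg77 G)

include h

theorem card_nbr_union_three {x y z : V} (hne : x ≠ y) (hxy : ¬ G.Adj x y)
    (hz : z ∈ zset G x y) : (nbr G x ∪ nbr G y ∪ nbr G z).card = 36 := by
  rw [mem_zset] at hz
  obtain ⟨hzx, hzy, hxz, hyz, h0⟩ := hz
  have h1 : (nbr G x ∪ nbr G y).card = 28 := by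
    have := Finset.card_union_add_card_inter (nbr G x) (nbr G y)
    rw [h.deg, h.deg, h.mu x y hne hxy] at this
    omega
  have h2 : (nbr G x ∪ nbr G y) ∩ nbr G z = (nbr G x ∩ nbr G z) ∪ (nbr G y ∩ nbr G z) :=
    Finset.union_inter_distrib_right _ _ _
  have h3 : Disjoint (nbr G x ∩ nbr G z) (nbr G y ∩ nbr G z) := by
    rw [Finset.disjoint_left]
    intro u hu hu'
    rw [Finset.mem_inter] at hu hu'
    have : u ∈ nbr G x ∩ nbr G y ∩ nbr G z :=
      Finset.mem_inter.2 ⟨Finset.mem_inter.2 ⟨hu.1, hu'.1⟩, hu.2⟩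
    rw [h0] at this
    exact absurd this (Finset.notMem_empty u)
  have h4 : ((nbr G x ∪ nbr G y) ∩ nbr G z).card = 8 := by
    rw [h2, Finset.card_union_of_disjoint h3, h.mu x z (Ne.symm hzx) hxz,
      h.mu y z (Ne.symm hzy) hyz]
  have := Finset.card_union_add_card_inter (nbr G x ∪ nbr G y) (nbr G z)
  rw [h1, h.deg, h4] at this
  omega

theorem card_farSet {x y z : V} (hne : x ≠ y) (hxy : ¬ G.Adj x y) (hz : z ∈ zset G x y) :
    (farSet G x y z).card = 38 := by
  have hU := card_nbr_union_three h hne hxy hz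
  rw [mem_zset] at hz
  obtain ⟨hzx, hzy, hxz, hyz, h0⟩ := hz
  have h1 : (Finset.univ : Finset V)
      = insert x (insert y (insert z ((nbr G x ∪ nbr G y ∪ nbr G z) ∪ farSet G x y z))) := by
    ext u
    simp only [Finset.mem_univ, Finset.mem_insert, Finset.mem_union, mem_nbr, mem_farSet,
      true_iff]
    tauto
  have hd : Disjoint (nbr G x ∪ nbr G y ∪ nbr G z) (farSet G x y z) := by
    rw [Finset.disjoint_left]
    intro u hu hu'
    rw [mem_farSet] at hu'
    simp only [Finset.mem_union, mem_nbr] at hu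
    tauto
  have hz' : z ∉ (nbr G x ∪ nbr G y ∪ nbr G z) ∪ farSet G x y z := by
    simp only [Finset.mem_union, mem_nbr, mem_farSet, not_or]
    refine ⟨⟨⟨hxz, hyz⟩, G.loopless.irrefl z⟩, fun hc => hc.2.2.1 rfl⟩
  have hy' : y ∉ insert z ((nbr G x ∪ nbr G y ∪ nbr G z) ∪ farSet G x y z) := by
    simp only [Finset.mem_insert, Finset.mem_union, mem_nbr, mem_farSet, not_or]
    refine ⟨fun e => hzy e.symm, ⟨⟨hxy, G.loopless.irrefl y⟩, fun hc => hyz hc.symm⟩,
      fun hc => hc.2.1 rfl⟩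
  have hx' : x ∉ insert y (insert z ((nbr G x ∪ nbr G y ∪ nbr G z) ∪ farSet G x y z)) := by
    simp only [Finset.mem_insert, Finset.mem_union, mem_nbr, mem_farSet, not_or]
    refine ⟨hne, fun e => hzx e.symm, ⟨⟨G.loopless.irrefl x, fun hc => hxy hc.symm⟩,
      fun hc => hxz hc.symm⟩, fun hc => hc.1 rfl⟩
  have h2 := congrArg Finset.card h1
  rw [Finset.card_univ, h.card, Finset.card_insert_of_notMem hx',
    Finset.card_insert_of_notMem hy', Finset.card_insert_of_notMem hz',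
    Finset.card_union_of_disjoint hd, hU] at h2
  omega

/-- A common neighbour of `x` and `y` has exactly 10 neighbours in the far set. -/
theorem card_nbr_inter_farSet {x y z w : V} (hne : x ≠ y) (hxy : ¬ G.Adj x y)
    (hz : z ∈ zset G x y) (hw : w ∈ nbr G x ∩ nbr G y) : (nbr G w ∩ farSet G x y z).card = 10 := by
  rw [mem_zset] at hz
  obtain ⟨hzx, hzy, hxz, hyz, h0⟩ := hz
  rw [Finset.mem_inter, mem_nbr, mem_nbr] at hw
  obtain ⟨hxw, hyw⟩ := hw
  have hwz : ¬ G.Adj w z := by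
    intro hc
    have : w ∈ nbr G x ∩ nbr G y ∩ nbr G z :=
      Finset.mem_inter.2 ⟨Finset.mem_inter.2 ⟨mem_nbr.2 hxw, mem_nbr.2 hyw⟩, mem_nbr.2 hc.symm⟩
    rw [h0] at this
    exact absurd this (Finset.notMem_empty w)
  have hwz' : w ≠ z := fun e => hxz (e ▸ hxw)
  have h1 : nbr G w = insert x (insert y ((nbr G w ∩ nbr G z) ∪ (nbr G w ∩ farSet G x y z))) := by
    ext u
    simp only [Finset.mem_insert, Finset.mem_union, Finset.mem_inter, mem_nbr, mem_farSet]
    constructor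
    · intro hu
      by_cases hux : u = x
      · exact Or.inl hux
      by_cases huy : u = y
      · exact Or.inr (Or.inl huy)
      by_cases huz : G.Adj z u
      · exact Or.inr (Or.inr (Or.inl ⟨hu, huz⟩))
      · refine Or.inr (Or.inr (Or.inr ⟨hu, hux, huy, ?_, ?_, ?_, huz⟩))
        · rintro rfl
          exact hwz hu
        · exact h.tri w x u hxw.symm hu
        · exact h.tri w y u hyw.symm hu
    · rintro (rfl | rfl | ⟨hu, -⟩ | ⟨hu, -⟩)
      · exact hxw.symm
      · exact hyw.symm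
      · exact hu
      · exact hu
  have hd : Disjoint (nbr G w ∩ nbr G z) (nbr G w ∩ farSet G x y z) := by
    rw [Finset.disjoint_left]
    intro u hu hu'
    rw [Finset.mem_inter, mem_nbr, mem_nbr] at hu
    rw [Finset.mem_inter, mem_farSet] at hu'
    exact hu'.2.2.2.2.2.2 hu.2
  have hy' : y ∉ (nbr G w ∩ nbr G z) ∪ (nbr G w ∩ farSet G x y z) := by
    simp only [Finset.mem_union, Finset.mem_inter, mem_nbr, mem_farSet, not_or, not_and]
    exact ⟨fun _ hc => hyz hc.symm, fun _ _ hc => absurd rfl hc⟩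
  have hx' : x ∉ insert y ((nbr G w ∩ nbr G z) ∪ (nbr G w ∩ farSet G x y z)) := by
    simp only [Finset.mem_insert, Finset.mem_union, Finset.mem_inter, mem_nbr, mem_farSet,
      not_or, not_and]
    exact ⟨hne, fun _ hc => hxz hc.symm, fun _ hc => absurd rfl hc⟩
  have h2 := congrArg Finset.card h1
  rw [h.deg, Finset.card_insert_of_notMem hx', Finset.card_insert_of_notMem hy',
    Finset.card_union_of_disjoint hd, h.mu w z hwz' hwz] at h2
  omega

theorem sum_far_f {x y z : V} (hne : x ≠ y) (hxy : ¬ G.Adj x y) (hz : z ∈ zset G x y) :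
    ∑ u ∈ farSet G x y z, (nbr G u ∩ (nbr G x ∩ nbr G y)).card = 40 := by
  rw [sum_card_nbr_inter, Finset.sum_congr rfl
    (fun w hw => card_nbr_inter_farSet h hne hxy hz hw), Finset.sum_const, h.mu x y hne hxy]
  rfl

/-- The vertices of the far set with no neighbour among the common neighbours of `x`, `y`. -/
theorem farSet_filter_eq
    (hC1 : ∀ x y z z' : V, x ≠ y → ¬ G.Adj x y → z ∈ zset G x y → z' ∈ zset G x y →
      ¬ G.Adj z z')
    {x y z : V} (hne : x ≠ y) (hxy : ¬ G.Adj x y) (hz : z ∈ zset G x y) :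
    (farSet G x y z).filter (fun u => (nbr G u ∩ (nbr G x ∩ nbr G y)).card = 0)
      = (zset G x y).erase z := by
  ext u
  rw [Finset.mem_filter, mem_farSet, Finset.mem_erase, mem_zset, Finset.card_eq_zero,
    Finset.inter_comm (nbr G u)]
  constructor
  · rintro ⟨⟨hux, huy, huz, hxu, hyu, hzu⟩, h0⟩
    exact ⟨huz, hux, huy, hxu, hyu, h0⟩
  · rintro ⟨huz, hux, huy, hxu, hyu, h0⟩
    refine ⟨⟨hux, huy, huz, hxu, hyu, ?_⟩, h0⟩
    exact hC1 x y z u hne hxy hz (mem_zset.2 ⟨hux, huy, hxu, hyu, h0⟩)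

theorem sum_far_f_sq
    (hA : ∀ x y z : V, Triad G x y z → (nbr G x ∩ nbr G y ∩ nbr G z).card ≤ 2)
    (hB : ∀ x y : V, x ≠ y → ¬ G.Adj x y → (zset G x y).card = 3)
    (hC1 : ∀ x y z z' : V, x ≠ y → ¬ G.Adj x y → z ∈ zset G x y → z' ∈ zset G x y →
      ¬ G.Adj z z')
    {x y z : V} (hne : x ≠ y) (hxy : ¬ G.Adj x y) (hz : z ∈ zset G x y) :
    ∑ u ∈ farSet G x y z, ((nbr G u ∩ (nbr G x ∩ nbr G y)).card : ℤ) ^ 2 = 48 := by
  have hle : ∀ u ∈ farSet G x y z, (nbr G u ∩ (nbr G x ∩ nbr G y)).card ≤ 2 := by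
    intro u hu
    rw [mem_farSet] at hu
    rw [Finset.inter_comm]
    exact hA x y u ⟨hne, fun e => hu.1 e.symm, fun e => hu.2.1 e.symm, hxy, hu.2.2.2.1,
      hu.2.2.2.2.1⟩
  have h1 : ∀ u ∈ farSet G x y z, ((nbr G u ∩ (nbr G x ∩ nbr G y)).card : ℤ) ^ 2
      = 3 * ((nbr G u ∩ (nbr G x ∩ nbr G y)).card : ℤ) - 2
        + (if (nbr G u ∩ (nbr G x ∩ nbr G y)).card = 0 then 2 else 0) := by
    intro u hu
    have := hle u hu
    generalize (nbr G u ∩ (nbr G x ∩ nbr G y)).card = n at this ⊢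
    interval_cases n <;> simp
  rw [Finset.sum_congr rfl h1, Finset.sum_add_distrib, Finset.sum_sub_distrib, ← Finset.mul_sum,
    ← Nat.cast_sum, sum_far_f h hne hxy hz, Finset.sum_const, card_farSet h hne hxy hz,
    Finset.sum_ite, Finset.sum_const, Finset.sum_const_zero, farSet_filter_eq h hC1 hne hxy hz,
    Finset.card_erase_of_mem hz, hB x y hne hxy]
  norm_num

theorem sum_far_fg {x y z : V} (hne : x ≠ y) (hxy : ¬ G.Adj x y) (hz : z ∈ zset G x y) :
    ∑ u ∈ farSet G x y z,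
      (nbr G u ∩ (nbr G x ∩ nbr G y)).card * (nbr G u ∩ (nbr G x ∩ nbr G z)).card = 48 := by
  have hz0 := hz
  rw [mem_zset] at hz
  obtain ⟨hzx, hzy, hxz, hyz, h0⟩ := hz
  have key : ∀ w ∈ nbr G x ∩ nbr G y, ∀ w' ∈ nbr G x ∩ nbr G z,
      (nbr G w ∩ nbr G w' ∩ farSet G x y z).card = 3 := by
    intro w hw w' hw'
    rw [Finset.mem_inter, mem_nbr, mem_nbr] at hw hw'
    obtain ⟨hxw, hyw⟩ := hw
    obtain ⟨hxw', hzw'⟩ := hw'
    have hwz : ¬ G.Adj z w := by
      intro hc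
      have : w ∈ nbr G x ∩ nbr G y ∩ nbr G z :=
        Finset.mem_inter.2 ⟨Finset.mem_inter.2 ⟨mem_nbr.2 hxw, mem_nbr.2 hyw⟩, mem_nbr.2 hc⟩
      rw [h0] at this
      exact absurd this (Finset.notMem_empty w)
    have hw'y : ¬ G.Adj y w' := by
      intro hc
      have : w' ∈ nbr G x ∩ nbr G y ∩ nbr G z :=
        Finset.mem_inter.2 ⟨Finset.mem_inter.2 ⟨mem_nbr.2 hxw', mem_nbr.2 hc⟩, mem_nbr.2 hzw'⟩
      rw [h0] at this
      exact absurd this (Finset.notMem_empty w')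
    have hww' : w ≠ w' := fun e => hwz (e ▸ hzw')
    have hnadj : ¬ G.Adj w w' := h.tri x w w' hxw hxw'
    have h1 : nbr G w ∩ nbr G w' = insert x (nbr G w ∩ nbr G w' ∩ farSet G x y z) := by
      ext u
      simp only [Finset.mem_insert, Finset.mem_inter, mem_nbr, mem_farSet]
      constructor
      · rintro ⟨hu, hu'⟩
        by_cases hux : u = x
        · exact Or.inl hux
        refine Or.inr ⟨⟨hu, hu'⟩, hux, ?_, ?_, ?_, ?_, ?_⟩
        · rintro rfl
          exact hw'y hu'.symm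
        · rintro rfl
          exact hwz hu.symm
        · exact h.tri w x u hxw.symm hu
        · exact h.tri w y u hyw.symm hu
        · exact h.tri w' z u hzw'.symm hu'
      · rintro (rfl | ⟨hu, -⟩)
        · exact ⟨hxw.symm, hxw'.symm⟩
        · exact hu
    have hx' : x ∉ nbr G w ∩ nbr G w' ∩ farSet G x y z := by
      simp only [Finset.mem_inter, mem_farSet, not_and]
      exact fun _ hc => absurd rfl hc
    have h2 := congrArg Finset.card h1
    rw [h.mu w w' hww' hnadj, Finset.card_insert_of_notMem hx'] at h2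
    omega
  rw [sum_card_mul_card, Finset.sum_congr rfl
    (fun w hw => Finset.sum_congr rfl (fun w' hw' => key w hw w' hw')), Finset.sum_const,
    Finset.sum_const, h.mu x y hne hxy, h.mu x z (Ne.symm hzx) hxz]
  rfl

/-- Piece C2: the relation "no common neighbour" is transitive. -/
theorem zset_mem_zset
    (hA : ∀ x y z : V, Triad G x y z → (nbr G x ∩ nbr G y ∩ nbr G z).card ≤ 2)
    (hB : ∀ x y : V, x ≠ y → ¬ G.Adj x y → (zset G x y).card = 3)
    (hC1 : ∀ x y z z' : V, x ≠ y → ¬ G.Adj x y → z ∈ zset G x y → z' ∈ zset G x y →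
      ¬ G.Adj z z')
    {x y z z' : V} (hne : x ≠ y) (hxy : ¬ G.Adj x y) (hz : z ∈ zset G x y)
    (hz' : z' ∈ zset G x y) (hzz : z ≠ z') : z' ∈ zset G x z := by
  have hz0 := hz
  have hz0' := hz'
  rw [mem_zset] at hz hz'
  obtain ⟨hzx, hzy, hxz, hyz, h0⟩ := hz
  obtain ⟨hzx', hzy', hxz', hyz', h0'⟩ := hz'
  have hnzz : ¬ G.Adj z z' := hC1 x y z z' hne hxy hz0 hz0'
  have hy2 : y ∈ zset G x z := mem_zset_swap hne hxy hz0
  -- the three sums
  have s1 := sum_far_f_sq h hA hB hC1 hne hxy hz0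
  have s2 := sum_far_f_sq h hA hB hC1 (Ne.symm hzx) hxz hy2
  rw [← farSet_swap] at s2
  have s3 := sum_far_fg h hne hxy hz0
  have s3' : ∑ u ∈ farSet G x y z, ((nbr G u ∩ (nbr G x ∩ nbr G y)).card : ℤ)
      * ((nbr G u ∩ (nbr G x ∩ nbr G z)).card : ℤ) = 48 := by
    have := congrArg (Nat.cast : ℕ → ℤ) s3
    rw [Nat.cast_sum] at this
    simp only [Nat.cast_mul] at this
    exact this
  have hsum : ∑ u ∈ farSet G x y z, (((nbr G u ∩ (nbr G x ∩ nbr G y)).card : ℤ)
      - ((nbr G u ∩ (nbr G x ∩ nbr G z)).card : ℤ)) ^ 2 = 0 := by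
    have e : ∀ u ∈ farSet G x y z, (((nbr G u ∩ (nbr G x ∩ nbr G y)).card : ℤ)
        - ((nbr G u ∩ (nbr G x ∩ nbr G z)).card : ℤ)) ^ 2
        = ((nbr G u ∩ (nbr G x ∩ nbr G y)).card : ℤ) ^ 2
          - 2 * (((nbr G u ∩ (nbr G x ∩ nbr G y)).card : ℤ)
            * ((nbr G u ∩ (nbr G x ∩ nbr G z)).card : ℤ))
          + ((nbr G u ∩ (nbr G x ∩ nbr G z)).card : ℤ) ^ 2 := fun u _ => by ring
    rw [Finset.sum_congr rfl e, Finset.sum_add_distrib, Finset.sum_sub_distrib, ← Finset.mul_sum,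
      s1, s2, s3']
    norm_num
  have hall := (Finset.sum_eq_zero_iff_of_nonneg (fun u _ => sq_nonneg _)).1 hsum
  have hmem : z' ∈ farSet G x y z :=
    mem_farSet.2 ⟨hzx', hzy', fun e => hzz e.symm, hxz', hyz', hnzz⟩
  have h1 := hall z' hmem
  rw [sq_eq_zero_iff, sub_eq_zero, Nat.cast_inj] at h1
  have h2 : (nbr G z' ∩ (nbr G x ∩ nbr G y)).card = 0 := by
    rw [Finset.card_eq_zero, Finset.inter_comm]
    exact h0'
  rw [h2] at h1
  refine mem_zset.2 ⟨hzx', fun e => hzz e.symm, hxz', hnzz, ?_⟩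
  rw [Finset.inter_comm]
  exact Finset.card_eq_zero.1 h1.symm

end C2

end Cfsg.Agent.Lib.helper9
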