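import Mathlib
import Cfsg.Agent.Lib.helper9.Srg77Defs
import Cfsg.Agent.Lib.helper9.S77C2

/-!
Strongly regular graphs with parameters (77, 16, 0, 4): pieces C1 and C3 of the plan
(the lines are cocliques and are determined by any two of their vertices).
-/

set_option autoImplicit false
set_option linter.unusedSectionVars false

namespace Cfsg.Agent.Lib.helper9

open Finset

section C1

variable {V : Type*} [Fintype V] [DecidableEq V] {G : SimpleGraph V} [DecidableRel G.Adj]

/-- Piece C1: two vertices with no common neighbour with `x`, `y` are not adjacent. -/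
theorem zset_not_adj (h : Srg77 G)
    (hA : ∀ x y z : V, Triad G x y z → (nbr G x ∩ nbr G y ∩ nbr G z).card ≤ 2)
    {x y z z' : V} (hne : x ≠ y) (hxy : ¬ G.Adj x y) (hz : z ∈ zset G x y)
    (hz' : z' ∈ zset G x y) : ¬ G.Adj z z' := by
  intro hadj
  have hz0 := hz
  rw [mem_zset] at hz hz'
  obtain ⟨hzx, hzy, hxz, hyz, h0⟩ := hz
  obtain ⟨hzx', hzy', hxz', hyz', h0'⟩ := hz'
  -- the set E
  have hE : (nbr G z \ (nbr G x ∪ nbr G y)).card = 8 := by
    have h2 : nbr G z ∩ (nbr G x ∪ nbr G y) = (nbr G z ∩ nbr G x) ∪ (nbr G z ∩ nbr G y) :=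
      Finset.inter_union_distrib_left _ _ _
    have h3 : Disjoint (nbr G z ∩ nbr G x) (nbr G z ∩ nbr G y) := by
      rw [Finset.disjoint_left]
      intro u hu hu'
      rw [Finset.mem_inter] at hu hu'
      have : u ∈ nbr G x ∩ nbr G y ∩ nbr G z :=
        Finset.mem_inter.2 ⟨Finset.mem_inter.2 ⟨hu.2, hu'.2⟩, hu.1⟩
      rw [h0] at this
      exact absurd this (Finset.notMem_empty u)
    have h4 : (nbr G z ∩ (nbr G x ∪ nbr G y)).card = 8 := by
      rw [h2, Finset.card_union_of_disjoint h3, h.mu z x hzx (fun hc => hxz hc.symm),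
        h.mu z y hzy (fun hc => hyz hc.symm)]
    have := Finset.card_sdiff_add_card_inter (nbr G z) (nbr G x ∪ nbr G y)
    rw [h4, h.deg] at this
    omega
  have hmemE : ∀ u, u ∈ nbr G z \ (nbr G x ∪ nbr G y) ↔ G.Adj z u ∧ ¬ G.Adj x u ∧ ¬ G.Adj y u := by
    intro u
    rw [Finset.mem_sdiff, Finset.mem_union, mem_nbr, mem_nbr, mem_nbr]
    tauto
  -- bound on E
  have hle : ∀ u ∈ nbr G z \ (nbr G x ∪ nbr G y), (nbr G u ∩ (nbr G x ∩ nbr G y)).card ≤ 2 := by
    intro u hu
    rw [hmemE] at hu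
    rw [Finset.inter_comm]
    refine hA x y u ⟨hne, ?_, ?_, hxy, hu.2.1, hu.2.2⟩
    · rintro rfl
      exact hxz hu.1.symm
    · rintro rfl
      exact hyz hu.1.symm
  -- the sum over E
  have hsum : ∑ u ∈ nbr G z \ (nbr G x ∪ nbr G y), (nbr G u ∩ (nbr G x ∩ nbr G y)).card = 16 := by
    rw [sum_card_nbr_inter]
    have key : ∀ w ∈ nbr G x ∩ nbr G y, (nbr G w ∩ (nbr G z \ (nbr G x ∪ nbr G y))).card = 4 := by
      intro w hw
      rw [Finset.mem_inter, mem_nbr, mem_nbr] at hw
      obtain ⟨hxw, hyw⟩ := hw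
      have hwz : ¬ G.Adj w z := by
        intro hc
        have : w ∈ nbr G x ∩ nbr G y ∩ nbr G z :=
          Finset.mem_inter.2 ⟨Finset.mem_inter.2 ⟨mem_nbr.2 hxw, mem_nbr.2 hyw⟩,
            mem_nbr.2 hc.symm⟩
        rw [h0] at this
        exact absurd this (Finset.notMem_empty w)
      have hwz' : w ≠ z := fun e => hxz (e ▸ hxw)
      have e1 : nbr G w ∩ (nbr G z \ (nbr G x ∪ nbr G y)) = nbr G w ∩ nbr G z := by
        ext u
        rw [Finset.mem_inter, hmemE, Finset.mem_inter, mem_nbr, mem_nbr]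
        constructor
        · rintro ⟨hu, hu', -⟩
          exact ⟨hu, hu'⟩
        · rintro ⟨hu, hu'⟩
          exact ⟨hu, hu', h.tri w x u hxw.symm hu, h.tri w y u hyw.symm hu⟩
      rw [e1, h.mu w z hwz' hwz]
    rw [Finset.sum_congr rfl key, Finset.sum_const, h.mu x y hne hxy]
    rfl
  -- z' is in E with value 0
  have hz'E : z' ∈ nbr G z \ (nbr G x ∪ nbr G y) := (hmemE z').2 ⟨hadj, hxz', hyz'⟩
  have hz'0 : (nbr G z' ∩ (nbr G x ∩ nbr G y)).card = 0 := by
    rw [Finset.card_eq_zero, Finset.inter_comm]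
    exact h0'
  have h5 := Finset.add_sum_erase (nbr G z \ (nbr G x ∪ nbr G y))
    (fun u => (nbr G u ∩ (nbr G x ∩ nbr G y)).card) hz'E
  rw [hsum, hz'0, zero_add] at h5
  have h6 : ∑ u ∈ (nbr G z \ (nbr G x ∪ nbr G y)).erase z',
      (nbr G u ∩ (nbr G x ∩ nbr G y)).card ≤ ((nbr G z \ (nbr G x ∪ nbr G y)).erase z').card • 2 :=
    Finset.sum_le_card_nsmul _ _ _ (fun u hu => hle u (Finset.mem_of_mem_erase hu))
  rw [Finset.card_erase_of_mem hz'E, hE, h5] at h6
  norm_num at h6

/-- The lines have five vertices. -/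
theorem card_line
    (hB : ∀ x y : V, x ≠ y → ¬ G.Adj x y → (zset G x y).card = 3)
    {x y : V} (hne : x ≠ y) (hxy : ¬ G.Adj x y) : (line G x y).card = 5 := by
  have hy : y ∉ zset G x y := fun hc => (mem_zset.1 hc).2.1 rfl
  have hx : x ∉ insert y (zset G x y) := by
    rw [Finset.mem_insert, not_or]
    exact ⟨hne, fun hc => (mem_zset.1 hc).1 rfl⟩
  rw [line, Finset.card_insert_of_notMem hx, Finset.card_insert_of_notMem hy, hB x y hne hxy]

theorem line_eq_left
    (hB : ∀ x y : V, x ≠ y → ¬ G.Adj x y → (zset G x y).card = 3)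
    (hC2 : ∀ x y z z' : V, x ≠ y → ¬ G.Adj x y → z ∈ zset G x y → z' ∈ zset G x y → z ≠ z' →
      z' ∈ zset G x z)
    {x y z : V} (hne : x ≠ y) (hxy : ¬ G.Adj x y) (hz : z ∈ zset G x y) :
    line G x z = line G x y := by
  have hz0 := hz
  rw [mem_zset] at hz
  obtain ⟨hzx, hzy, hxz, hyz, h0⟩ := hz
  have hy : y ∉ (zset G x y).erase z := fun hc =>
    (mem_zset.1 (Finset.mem_of_mem_erase hc)).2.1 rfl
  have hsub : insert y ((zset G x y).erase z) ⊆ zset G x z := by
    intro u hu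
    rw [Finset.mem_insert] at hu
    rcases hu with rfl | hu
    · exact mem_zset_swap hne hxy hz0
    · rw [Finset.mem_erase] at hu
      exact hC2 x y z u hne hxy hz0 hu.2 (Ne.symm hu.1)
  have hcard : (zset G x z).card ≤ (insert y ((zset G x y).erase z)).card := by
    rw [Finset.card_insert_of_notMem hy, Finset.card_erase_of_mem hz0, hB x y hne hxy,
      hB x z (Ne.symm hzx) hxz]
  have heq := Finset.eq_of_subset_of_card_le hsub hcard
  rw [line, line, ← heq, Finset.insert_comm z y, Finset.insert_erase hz0]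

/-- Piece C3: a line is a coclique and is the line through any two of its vertices. -/
theorem line_eq_of_mem
    (hB : ∀ x y : V, x ≠ y → ¬ G.Adj x y → (zset G x y).card = 3)
    (hC1 : ∀ x y z z' : V, x ≠ y → ¬ G.Adj x y → z ∈ zset G x y → z' ∈ zset G x y →
      ¬ G.Adj z z')
    (hC2 : ∀ x y z z' : V, x ≠ y → ¬ G.Adj x y → z ∈ zset G x y → z' ∈ zset G x y → z ≠ z' →
      z' ∈ zset G x z)
    {x y a b : V} (hne : x ≠ y) (hxy : ¬ G.Adj x y) (ha : a ∈ line G x y)
    (hb : b ∈ line G x y) (hab : a ≠ b) : ¬ G.Adj a b ∧ line G a b = line G x y := by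
  have hyx : ¬ G.Adj y x := fun hc => hxy hc.symm
  have left : ∀ z, z ∈ zset G x y → line G x z = line G x y :=
    fun z hz => line_eq_left hB hC2 hne hxy hz
  have right : ∀ z, z ∈ zset G x y → line G y z = line G x y := by
    intro z hz
    rw [line_comm x y]
    exact line_eq_left hB hC2 (Ne.symm hne) hyx (by rw [zset_comm]; exact hz)
  rw [mem_line] at ha hb
  rcases ha with rfl | rfl | ha <;> rcases hb with rfl | rfl | hb
  · exact absurd rfl hab
  · exact ⟨hxy, rfl⟩
  · exact ⟨(mem_zset.1 hb).2.2.1, left b hb⟩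
  · exact ⟨hyx, line_comm _ _⟩
  · exact absurd rfl hab
  · exact ⟨(mem_zset.1 hb).2.2.2.1, right b hb⟩
  · refine ⟨fun hc => (mem_zset.1 ha).2.2.1 hc.symm, ?_⟩
    rw [line_comm]
    exact left a ha
  · refine ⟨fun hc => (mem_zset.1 ha).2.2.2.1 hc.symm, ?_⟩
    rw [line_comm]
    exact right a ha
  · refine ⟨hC1 x y a b hne hxy ha hb, ?_⟩
    have hax : x ≠ a := Ne.symm (mem_zset.1 ha).1
    have hxa : ¬ G.Adj x a := (mem_zset.1 ha).2.2.1
    have hb' : b ∈ zset G x a := hC2 x y a b hne hxy ha hb hab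
    have h1 : line G a b = line G x a := by
      rw [line_comm x a]
      exact line_eq_left hB hC2 (Ne.symm hax) (fun hc => hxa hc.symm)
        (by rw [zset_comm]; exact hb')
    rw [h1]
    exact left a ha

end C1

end Cfsg.Agent.Lib.helper9
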