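import Mathlib
import Cfsg.Prelude.Def_Sporadic_a
import Cfsg.Agent.Lib.helper9.Srg77Defs
import Cfsg.Agent.Lib.helper10.S3622Unique

/-!
Strongly regular graphs with parameters (77, 16, 0, 4): from the Steiner system of the 22
cocliques of size 21 to the isomorphism of two such graphs.
-/

set_option autoImplicit false
set_option linter.unusedSectionVars false

namespace Cfsg.Agent.Lib.helper9

open Finset

section Final

variable {V : Type*} [Fintype V] [DecidableEq V] (G : SimpleGraph V) [DecidableRel G.Adj]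

/-- The facts about the cocliques of size 21 needed for the reconstruction. -/
structure Srg77Facts : Prop where
  two : ∀ L : Finset V, IsLine G L → ((cocl G).filter (fun C => L ⊆ C)).card = 2
  six : ∀ x : V, ((cocl G).filter (fun C => x ∈ C)).card = 6
  card : (cocl G).card = 22
  three : ∀ C₁ C₂ C₃ : Finset V, C₁ ∈ cocl G → C₂ ∈ cocl G → C₃ ∈ cocl G → C₁ ≠ C₂ → C₁ ≠ C₃ →
    C₂ ≠ C₃ → (C₁ ∩ C₂ ∩ C₃).card = 1
  steiner : Cfsg.IsSteinerSystem 3 6 (cBlocks G)

/-- The block of a vertex: the cocliques of size 21 through it. -/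
def cBlock (x : V) : Finset {C : Finset V // C ∈ cocl G} :=
  Finset.univ.filter (fun C : {C : Finset V // C ∈ cocl G} => x ∈ C.1)

variable {G}

theorem mem_cBlock {x : V} {C : {C : Finset V // C ∈ cocl G}} : C ∈ cBlock G x ↔ x ∈ C.1 := by
  rw [cBlock, Finset.mem_filter]
  simp

theorem cBlock_mem_cBlocks (x : V) : cBlock G x ∈ cBlocks G := ⟨x, rfl⟩

theorem card_cBlock (f : Srg77Facts G) (x : V) : (cBlock G x).card = 6 := by
  rw [← f.six x]
  refine Finset.card_bij (fun C _ => C.1) ?_ ?_ ?_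
  · intro C hC
    exact Finset.mem_filter.2 ⟨C.2, mem_cBlock.1 hC⟩
  · intro C _ C' _ e
    exact Subtype.ext e
  · intro C hC
    rw [Finset.mem_filter] at hC
    exact ⟨⟨C, hC.1⟩, mem_cBlock.2 hC.2, rfl⟩

theorem cBlock_injective (f : Srg77Facts G) : Function.Injective (cBlock G) := by
  intro x x' e
  have h6 := card_cBlock f x
  obtain ⟨s, hs, hs3⟩ := Finset.exists_subset_card_eq (s := cBlock G x) (n := 3)
    (by rw [h6]; norm_num)
  obtain ⟨C₁, C₂, C₃, h12, h13, h23, rfl⟩ := Finset.card_eq_three.1 hs3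
  have m1 : C₁ ∈ cBlock G x := hs (by simp)
  have m2 : C₂ ∈ cBlock G x := hs (by simp)
  have m3 : C₃ ∈ cBlock G x := hs (by simp)
  have hx : x ∈ C₁.1 ∩ C₂.1 ∩ C₃.1 := by
    rw [Finset.mem_inter, Finset.mem_inter]
    exact ⟨⟨mem_cBlock.1 m1, mem_cBlock.1 m2⟩, mem_cBlock.1 m3⟩
  have hx' : x' ∈ C₁.1 ∩ C₂.1 ∩ C₃.1 := by
    rw [e] at m1 m2 m3
    rw [Finset.mem_inter, Finset.mem_inter]
    exact ⟨⟨mem_cBlock.1 m1, mem_cBlock.1 m2⟩, mem_cBlock.1 m3⟩
  have hc := f.three C₁.1 C₂.1 C₃.1 C₁.2 C₂.2 C₃.2 (fun e => h12 (Subtype.ext e))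
    (fun e => h13 (Subtype.ext e)) (fun e => h23 (Subtype.ext e))
  exact Finset.card_le_one.1 hc.le x hx x' hx'

theorem adj_iff_disjoint_cBlock (f : Srg77Facts G) (x x' : V) :
    G.Adj x x' ↔ Disjoint (cBlock G x) (cBlock G x') := by
  constructor
  · intro hadj
    rw [Finset.disjoint_left]
    intro C hC hC'
    exact (mem_cocl.1 C.2).1 x (mem_cBlock.1 hC) x' (mem_cBlock.1 hC') hadj
  · intro hd
    by_contra hadj
    by_cases hxx : x = x'
    · subst hxx
      have h6 := card_cBlock f x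
      obtain ⟨C, hC⟩ := Finset.card_pos.1 (by rw [h6]; norm_num : 0 < (cBlock G x).card)
      exact Finset.disjoint_left.1 hd hC hC
    · have h2 := f.two (line G x x') ⟨x, x', hxx, hadj, rfl⟩
      obtain ⟨C, hC⟩ := Finset.card_pos.1
        (by rw [h2]; norm_num : 0 < ((cocl G).filter (fun C => line G x x' ⊆ C)).card)
      rw [Finset.mem_filter] at hC
      exact Finset.disjoint_left.1 hd
        (mem_cBlock.2 (hC.2 (left_mem_line x x')) : (⟨C, hC.1⟩ : {C : Finset V // C ∈ cocl G})
          ∈ cBlock G x)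
        (mem_cBlock.2 (hC.2 (right_mem_line x x')))

end Final

section Iso

variable {V W : Type*} [Fintype V] [Fintype W] [DecidableEq V] [DecidableEq W]
  {G : SimpleGraph V} {H : SimpleGraph W} [DecidableRel G.Adj] [DecidableRel H.Adj]

/-- Two strongly regular graphs with parameters (77, 16, 0, 4) whose cocliques of size 21 behave
as expected are isomorphic. -/
theorem srg77_iso_of_facts (hG : Srg77 G) (fG : Srg77Facts G) (hH : Srg77 H)
    (fH : Srg77Facts H) : Nonempty (G ≃g H) := by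
  have cG : Fintype.card {C : Finset V // C ∈ cocl G} = 22 := by
    rw [Fintype.card_coe, fG.card]
  have cH : Fintype.card {C : Finset W // C ∈ cocl H} = 22 := by
    rw [Fintype.card_coe, fH.card]
  obtain ⟨e, he⟩ := Cfsg.Agent.Lib.helper10.s3622_unique cG cH fG.steiner fH.steiner
  have hex : ∀ x : V, ∃ y : W, cBlock H y = (cBlock G x).image e := by
    intro x
    have h1 : (cBlock G x).image e ∈ cBlocks H := by
      rw [← he]
      exact ⟨cBlock G x, cBlock_mem_cBlocks x, rfl⟩
    obtain ⟨y, hy⟩ := h1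
    exact ⟨y, hy⟩
  choose ψ hψ using hex
  have hinj : Function.Injective ψ := by
    intro x x' hxx
    have h1 : (cBlock G x).image e = (cBlock G x').image e := by
      rw [← hψ x, ← hψ x', hxx]
    exact cBlock_injective fG (Finset.image_injective e.injective h1)
  have hbij : Function.Bijective ψ := by
    rw [Fintype.bijective_iff_injective_and_card]
    exact ⟨hinj, by rw [hG.card, hH.card]⟩
  refine ⟨{ toEquiv := Equiv.ofBijective ψ hbij, map_rel_iff' := ?_ }⟩
  intro x x'
  show H.Adj (ψ x) (ψ x') ↔ G.Adj x x'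
  rw [adj_iff_disjoint_cBlock fH, adj_iff_disjoint_cBlock fG, hψ x, hψ x',
    Finset.disjoint_image e.injective]

end Iso

end Cfsg.Agent.Lib.helper9
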