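import Mathlib
import Cfsg.Agent.Lib.helper9.S77Final
import Cfsg.Agent.Lib.helper9.S77C1
import Cfsg.Agent.Lib.helper17.S77A
import Cfsg.Agent.Lib.helper90.S77B
import Cfsg.Agent.Lib.helper39.S77D
import Cfsg.Agent.Lib.helper29.S77E
import Cfsg.Agent.Lib.helper29.S77F
import Cfsg.Agent.Lib.helper68.S77G1
import Cfsg.Agent.Lib.helper68.S77G2
import Cfsg.Agent.Lib.helper92.S77H1
import Cfsg.Agent.Lib.helper96.S77H2
import Cfsg.Agent.Lib.helper1.S77H3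
import Cfsg.Agent.Lib.helper1.S77I

/-!
Strongly regular graphs with parameters (77, 16, 0, 4): assembly of the pieces.
-/

set_option autoImplicit false
set_option linter.unusedSectionVars false

namespace Cfsg.Agent.Lib.helper9

open Finset

variable {V : Type*} [Fintype V] [DecidableEq V] {G : SimpleGraph V} [DecidableRel G.Adj]

/-- All the facts about the cocliques of size 21 of a strongly regular graph with parameters
(77, 16, 0, 4). -/
theorem srg77_facts (h : Srg77 G) : Srg77Facts G := by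
  have hA : ∀ x y z : V, Triad G x y z → (nbr G x ∩ nbr G y ∩ nbr G z).card ≤ 2 :=
    fun x y z ht => Cfsg.Agent.Lib.helper17.triad_le_two h ht
  have hB : ∀ x y : V, x ≠ y → ¬ G.Adj x y → (zset G x y).card = 3 :=
    fun x y hne hxy => Cfsg.Agent.Lib.helper90.card_zset h hA hne hxy
  have hC1 : ∀ x y z z' : V, x ≠ y → ¬ G.Adj x y → z ∈ zset G x y → z' ∈ zset G x y →
      ¬ G.Adj z z' :=
    fun x y z z' hne hxy hz hz' => zset_not_adj h hA hne hxy hz hz'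
  have hC2 : ∀ x y z z' : V, x ≠ y → ¬ G.Adj x y → z ∈ zset G x y → z' ∈ zset G x y → z ≠ z' →
      z' ∈ zset G x z :=
    fun x y z z' hne hxy hz hz' hzz => zset_mem_zset h hA hB hC1 hne hxy hz hz' hzz
  have hcl : ∀ x y : V, x ≠ y → ¬ G.Adj x y → (line G x y).card = 5 :=
    fun x y hne hxy => card_line hB hne hxy
  have hL : ∀ x y a b : V, x ≠ y → ¬ G.Adj x y → a ∈ line G x y → b ∈ line G x y → a ≠ b →
      ¬ G.Adj a b ∧ line G a b = line G x y :=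
    fun x y a b hne hxy ha hb hab => line_eq_of_mem hB hC1 hC2 hne hxy ha hb hab
  have hD : ∀ L : Finset V, IsLine G L → ∀ v : V,
      (nbr G v ∩ L).card = 0 ∨ (nbr G v ∩ L).card = 2 :=
    fun L hLine v => Cfsg.Agent.Lib.helper39.card_nbr_inter_line h hcl hL hLine v
  have hnear : ∀ L : Finset V, IsLine G L →
      (Finset.univ.filter (fun v => v ∉ L ∧ ∀ a ∈ L, ¬ G.Adj v a)).card = 32 :=
    fun L hLine => Cfsg.Agent.Lib.helper39.card_near_line h hcl hL hLine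
  have hE : ∀ L₁ L₂ : Finset V, IsLine G L₁ → IsLine G L₂ → L₁ ≠ L₂ → ∀ x m : V, x ∈ L₁ →
      x ∈ L₂ → m ∈ L₁ → m ≠ x → (∀ m' ∈ L₂, ¬ G.Adj m m') → ∀ a ∈ L₁, ∀ b ∈ L₂, ¬ G.Adj a b :=
    fun L₁ L₂ h₁ h₂ hne x m hx₁ hx₂ hm hmx hn =>
      Cfsg.Agent.Lib.helper29.coclique_union_of_near h hA hcl hL hD h₁ h₂ hne hx₁ hx₂ hm hmx hn
  have hF : ∀ L : Finset V, IsLine G L → ∀ v : V, v ∉ L → (∀ a ∈ L, ¬ G.Adj v a) →
      L.biUnion (fun a => line G v a) ∈ cocl G ∧ L ⊆ L.biUnion (fun a => line G v a) ∧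
        v ∈ L.biUnion (fun a => line G v a) :=
    fun L hLine v hv hn => Cfsg.Agent.Lib.helper29.coclique_of_near hcl hL hE hLine hv hn
  have hG1 : ∀ C : Finset V, C ∈ cocl G → ∀ v : V, v ∉ C → (nbr G v ∩ C).card = 6 :=
    fun C hC v hv => Cfsg.Agent.Lib.helper68.coclique_nbr_card h hC hv
  have hG2 : ∀ C : Finset V, C ∈ cocl G → ∀ x c : V, x ∈ C → c ∈ C → x ≠ c →
      line G x c ⊆ C :=
    fun C hC x c hx hc hxc => Cfsg.Agent.Lib.helper68.line_subset_coclique h hA hB hG1 hC hx hc hxc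
  have hH1 : ∀ L : Finset V, IsLine G L → ((cocl G).filter (fun C => L ⊆ C)).card = 2 :=
    fun L hLine => Cfsg.Agent.Lib.helper92.card_cocl_of_line hcl hnear hF hG2 hLine
  have hH2 : ∀ x : V, ((cocl G).filter (fun C => x ∈ C)).card = 6 :=
    fun x => Cfsg.Agent.Lib.helper96.card_cocl_of_mem h hcl hL hG2 hH1 x
  have hcard : (cocl G).card = 22 := Cfsg.Agent.Lib.helper96.card_cocl h hH2
  have hI : ∀ C C' : Finset V, C ∈ cocl G → C' ∈ cocl G → C ≠ C' → IsLine G (C ∩ C') :=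
    fun C C' hC hC' hne => Cfsg.Agent.Lib.helper1.cocl_inter_isLine hcl hL hG2 hH2 hcard hC hC' hne
  have hH3 : ∀ C₁ C₂ C₃ : Finset V, C₁ ∈ cocl G → C₂ ∈ cocl G → C₃ ∈ cocl G → C₁ ≠ C₂ →
      C₁ ≠ C₃ → C₂ ≠ C₃ → (C₁ ∩ C₂ ∩ C₃).card = 1 :=
    fun C₁ C₂ C₃ h₁ h₂ h₃ h₁₂ h₁₃ h₂₃ =>
      Cfsg.Agent.Lib.helper1.cocl_inter_three hcl hL hG2 hH1 hI h₁ h₂ h₃ h₁₂ h₁₃ h₂₃
  exact ⟨hH1, hH2, hcard, hH3, Cfsg.Agent.Lib.helper1.cBlocks_steiner hH2 hH3⟩

end Cfsg.Agent.Lib.helper9
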