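import Mathlib

set_option autoImplicit false

namespace Cfsg.Agent.Lib.helper9.SubBorel

/-- Upper triangular matrices in `SL₂(F)` whose `(0,0)` entry is a `d`-th root of unity. -/
def h9sbSub (F : Type*) [Field F] (d : ℕ) : Subgroup (Matrix.SpecialLinearGroup (Fin 2) F) where
  carrier := {M | M.1 1 0 = 0 ∧ (M.1 0 0) ^ d = 1}
  one_mem' := by simp
  mul_mem' := by
    rintro a b ⟨ha1, ha2⟩ ⟨hb1, hb2⟩
    refine ⟨?_, ?_⟩
    · simp [Matrix.mul_apply, Fin.sum_univ_two, ha1, hb1]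
    · simp [Matrix.mul_apply, Fin.sum_univ_two, hb1, mul_pow, ha2, hb2]
  inv_mem' := by
    rintro a ⟨ha1, ha2⟩
    have hdet : a.1 0 0 * a.1 1 1 = 1 := by
      have h := a.2
      rw [Matrix.det_fin_two, ha1] at h
      simpa using h
    refine ⟨?_, ?_⟩
    · simp [Matrix.SpecialLinearGroup.coe_inv, Matrix.adjugate_fin_two, ha1]
    · have h2 : (a.1 0 0 * a.1 1 1) ^ d = 1 := by rw [hdet]; simp
      rw [mul_pow, ha2, one_mul] at h2
      simpa [Matrix.SpecialLinearGroup.coe_inv, Matrix.adjugate_fin_two] using h2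

theorem h9sb_mem {F : Type*} [Field F] (d : ℕ) (M : Matrix.SpecialLinearGroup (Fin 2) F) :
    M ∈ h9sbSub F d ↔ M.1 1 0 = 0 ∧ (M.1 0 0) ^ d = 1 := Iff.rfl

/-- The diagonal matrix `diag(a, a⁻¹)`. -/
def h9sbDiag {F : Type*} [Field F] (a : Fˣ) : Matrix.SpecialLinearGroup (Fin 2) F :=
  ⟨!![(a : F), 0; 0, ((a⁻¹ : Fˣ) : F)], by simp [Matrix.det_fin_two]⟩

/-- The transvection `[[1,1],[0,1]]`. -/
def h9sbUp (F : Type*) [Field F] : Matrix.SpecialLinearGroup (Fin 2) F :=
  ⟨!![1, 1; 0, 1], by simp [Matrix.det_fin_two]⟩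

theorem h9sbDiag_coe {F : Type*} [Field F] (a : Fˣ) :
    ((h9sbDiag a : Matrix.SpecialLinearGroup (Fin 2) F) : Matrix (Fin 2) (Fin 2) F)
      = !![(a : F), 0; 0, ((a⁻¹ : Fˣ) : F)] := rfl

theorem h9sbUp_coe {F : Type*} [Field F] :
    ((h9sbUp F : Matrix.SpecialLinearGroup (Fin 2) F) : Matrix (Fin 2) (Fin 2) F)
      = !![1, 1; 0, 1] := rfl

theorem h9sb_conj10 {F : Type*} [Field F] (g : Fˣ) (M : Matrix.SpecialLinearGroup (Fin 2) F) :
    (h9sbDiag g * M * (h9sbDiag g)⁻¹).1 1 0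
      = ((g⁻¹ : Fˣ) : F) * M.1 1 0 * ((g⁻¹ : Fˣ) : F) := by
  rw [Matrix.SpecialLinearGroup.coe_mul, Matrix.SpecialLinearGroup.coe_mul,
    Matrix.SpecialLinearGroup.coe_inv, h9sbDiag_coe, Matrix.adjugate_fin_two]
  simp only [Matrix.mul_apply, Fin.sum_univ_two]
  simp

theorem h9sb_conj00 {F : Type*} [Field F] (g : Fˣ) (M : Matrix.SpecialLinearGroup (Fin 2) F) :
    (h9sbDiag g * M * (h9sbDiag g)⁻¹).1 0 0 = M.1 0 0 := by
  rw [Matrix.SpecialLinearGroup.coe_mul, Matrix.SpecialLinearGroup.coe_mul,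
    Matrix.SpecialLinearGroup.coe_inv, h9sbDiag_coe, Matrix.adjugate_fin_two]
  simp only [Matrix.mul_apply, Fin.sum_univ_two]
  simp
  field_simp

theorem h9sb_comm01 {F : Type*} [Field F] (a : Fˣ)
    (h : h9sbUp F * h9sbDiag a = h9sbDiag a * h9sbUp F) : ((a⁻¹ : Fˣ) : F) = (a : F) := by
  have h01 := congrArg (fun M : Matrix.SpecialLinearGroup (Fin 2) F => M.1 0 1) h
  simp only [Matrix.SpecialLinearGroup.coe_mul, h9sbDiag_coe, h9sbUp_coe] at h01
  simp only [Matrix.mul_apply, Fin.sum_univ_two] at h01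
  simpa using h01

/-- Over a finite field of characteristic `2` with at least four elements such that `|F| - 1` is
not prime, `SL₂(F)` has a non-abelian subgroup that is not self-normalizing. -/
theorem h9_sl2_subborel {F : Type*} [Field F] [Fintype F] [CharP F 2]
    (h4 : 4 ≤ Fintype.card F) (hq : ¬ (Fintype.card F - 1).Prime) :
    ∃ H : Subgroup (Matrix.SpecialLinearGroup (Fin 2) F),
      ¬ IsMulCommutative H ∧
        Subgroup.normalizer (H : Set (Matrix.SpecialLinearGroup (Fin 2) F)) ≠ H := by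
  classical
  obtain ⟨d, hdq, hd2, hdlt⟩ := Nat.exists_dvd_of_not_prime2 (by omega) hq
  obtain ⟨g, hg⟩ := IsCyclic.exists_generator (α := Fˣ)
  have hord : orderOf g = Fintype.card F - 1 := by
    rw [orderOf_eq_card_of_forall_mem_zpowers hg, Nat.card_eq_fintype_card, Fintype.card_units]
  obtain ⟨e, he⟩ := hdq
  have hepos : 0 < e := by
    rcases Nat.eq_zero_or_pos e with h | h
    · subst h; omega
    · exact h
  have helt : e < Fintype.card F - 1 := by
    rw [he]; nlinarith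
  -- the element `a = g ^ e` of order `d`
  have ha1 : (g ^ e) ^ d = 1 := by
    rw [← pow_mul, mul_comm, ← he, ← hord, pow_orderOf_eq_one]
  have ha2 : g ^ e ≠ 1 := by
    intro h
    have := orderOf_dvd_of_pow_eq_one h
    rw [hord] at this
    exact absurd (Nat.le_of_dvd hepos this) (by omega)
  have hc : g ^ d ≠ 1 := by
    intro h
    have := orderOf_dvd_of_pow_eq_one h
    rw [hord] at this
    exact absurd (Nat.le_of_dvd (by omega) this) (by omega)
  refine ⟨h9sbSub F d, ?_, ?_⟩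
  · intro hcomm
    have hu : h9sbUp F ∈ h9sbSub F d := by
      rw [h9sb_mem]; simp [h9sbUp]
    have ht : h9sbDiag (g ^ e) ∈ h9sbSub F d := by
      rw [h9sb_mem]
      refine ⟨by simp [h9sbDiag], ?_⟩
      have : (((g ^ e) ^ d : Fˣ) : F) = 1 := by rw [ha1]; simp
      simpa [h9sbDiag] using this
    have hcm := mul_comm' (⟨h9sbUp F, hu⟩ : h9sbSub F d) ⟨h9sbDiag (g ^ e), ht⟩
    have hcm2 : h9sbUp F * h9sbDiag (g ^ e) = h9sbDiag (g ^ e) * h9sbUp F :=
      congrArg Subtype.val hcm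
    have h01 := h9sb_comm01 (g ^ e) hcm2
    have hsq : ((g ^ e : Fˣ) : F) * ((g ^ e : Fˣ) : F) = 1 := by
      have h3 : ((g ^ e : Fˣ) : F) * (((g ^ e)⁻¹ : Fˣ) : F) = 1 := by
        rw [← Units.val_mul, mul_inv_cancel, Units.val_one]
      rw [h01] at h3
      exact h3
    have h5 : (((g ^ e : Fˣ) : F) + 1) * (((g ^ e : Fˣ) : F) + 1) = 0 := by
      have h2 : (2 : F) = 0 := CharP.cast_eq_zero F 2
      have : (((g ^ e : Fˣ) : F) + 1) * (((g ^ e : Fˣ) : F) + 1)
          = ((g ^ e : Fˣ) : F) * ((g ^ e : Fˣ) : F) + 2 * ((g ^ e : Fˣ) : F) + 1 := by ring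
      rw [this, hsq, h2]
      have : (1 : F) + 0 * ((g ^ e : Fˣ) : F) + 1 = 2 := by ring
      rw [this, h2]
    have h6 : ((g ^ e : Fˣ) : F) + 1 = 0 := by
      rcases mul_self_eq_zero.mp h5 with h
      exact h
    have h7 : ((g ^ e : Fˣ) : F) = 1 := by
      have h2 : (2 : F) = 0 := CharP.cast_eq_zero F 2
      have : ((g ^ e : Fˣ) : F) = (((g ^ e : Fˣ) : F) + 1) + 1 - 2 := by ring
      rw [this, h6, h2]; ring
    exact ha2 (Units.ext (by simpa using h7))
  · intro hN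
    have hs : h9sbDiag g ∈ Subgroup.normalizer
        ((h9sbSub F d : Subgroup (Matrix.SpecialLinearGroup (Fin 2) F)) :
          Set (Matrix.SpecialLinearGroup (Fin 2) F)) := by
      rw [Subgroup.mem_normalizer_iff]
      intro M
      rw [h9sb_mem, h9sb_mem]
      rw [h9sb_conj10, h9sb_conj00]
      have hne : ((g⁻¹ : Fˣ) : F) ≠ 0 := Units.ne_zero _
      constructor
      · rintro ⟨h1, h2⟩
        exact ⟨by rw [h1]; simp, h2⟩
      · rintro ⟨h1, h2⟩
        refine ⟨?_, h2⟩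
        rcases mul_eq_zero.mp h1 with h | h
        · rcases mul_eq_zero.mp h with h | h
          · exact absurd h hne
          · exact h
        · exact absurd h hne
    rw [hN, h9sb_mem] at hs
    have h8 : ((g ^ d : Fˣ) : F) = 1 := by
      simpa [h9sbDiag] using hs.2
    exact hc (Units.ext (by simpa using h8))

/-- Transport to an abstract group: if every non-abelian subgroup of `G ≃* SL₂(F)` is
self-normalizing (`F` finite of characteristic `2`, `|F| ≥ 4`), then `|F| - 1` is prime. -/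
theorem h9_sl2_subborel_prime {F : Type*} [Field F] [Fintype F] [CharP F 2]
    {G : Type*} [Group G] (φ : G ≃* Matrix.SpecialLinearGroup (Fin 2) F)
    (h4 : 4 ≤ Fintype.card F)
    (hself : ∀ H : Subgroup G, ¬ IsMulCommutative H → Subgroup.normalizer (H : Set G) = H) :
    (Fintype.card F - 1).Prime := by
  by_contra hq
  obtain ⟨H, hH1, hH2⟩ := h9_sl2_subborel h4 hq
  have hK := hself (H.map φ.symm.toMonoidHom) (by
    intro hc
    apply hH1
    refine ⟨⟨fun x y => ?_⟩⟩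
    have hx : φ.symm x.1 ∈ H.map φ.symm.toMonoidHom := Subgroup.mem_map_of_mem _ x.2
    have hy : φ.symm y.1 ∈ H.map φ.symm.toMonoidHom := Subgroup.mem_map_of_mem _ y.2
    have h := mul_comm' (⟨φ.symm x.1, hx⟩ : H.map φ.symm.toMonoidHom) ⟨φ.symm y.1, hy⟩
    have h2 : φ.symm x.1 * φ.symm y.1 = φ.symm y.1 * φ.symm x.1 := congrArg Subtype.val h
    rw [← map_mul, ← map_mul] at h2
    exact Subtype.ext (φ.symm.injective h2))
  rw [← Subgroup.map_equiv_normalizer_eq] at hK
  exact hH2 (Subgroup.map_injective φ.symm.injective hK)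

end Cfsg.Agent.Lib.helper9.SubBorel
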