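import Mathlib
import Cfsg.Agent.Lib.helper18.PSLCongr
import Cfsg.Agent.Lib.helper9.SL2SubBorel

set_option autoImplicit false

namespace Cfsg.Agent.Lib.helper9.SubBorel

/-- In characteristic `2` the centre of `SL₂(F)` is trivial. -/
theorem h9_center_sl2_char_two {F : Type*} [Field F] [CharP F 2] :
    Subgroup.center (Matrix.SpecialLinearGroup (Fin 2) F) = ⊥ := by
  rw [eq_bot_iff]
  intro A hA
  rw [Matrix.SpecialLinearGroup.mem_center_iff] at hA
  obtain ⟨r, hr, hA⟩ := hA
  rw [Fintype.card_fin] at hr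
  have h2 : (2 : F) = 0 := CharP.cast_eq_zero F 2
  have h5 : (r + 1) * (r + 1) = 0 := by
    have : (r + 1) * (r + 1) = r ^ 2 + 2 * r + 1 := by ring
    rw [this, hr, h2]
    have : (1 : F) + 0 * r + 1 = 2 := by ring
    rw [this, h2]
  have h6 : r + 1 = 0 := mul_self_eq_zero.mp h5
  have h7 : r = 1 := by
    have : r = (r + 1) + 1 - 2 := by ring
    rw [this, h6, h2]; ring
  rw [Subgroup.mem_bot]
  apply Subtype.ext
  rw [← hA, h7]
  simp

/-- In characteristic `2`, `SL₂(F) ≃* PSL₂(F)`. -/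
noncomputable def h9_sl2_equiv_psl2 (F : Type*) [Field F] [CharP F 2] :
    Matrix.SpecialLinearGroup (Fin 2) F ≃* Matrix.ProjectiveSpecialLinearGroup (Fin 2) F :=
  ((QuotientGroup.quotientMulEquivOfEq h9_center_sl2_char_two).trans
    QuotientGroup.quotientBot).symm

/-- `SL₂(F) ≃* PSL₂(GaloisField 2 n)` when `|F| = 2 ^ n`. -/
theorem h9_sl2_equiv_psl2_galois {F : Type*} [Field F] [Fintype F] [CharP F 2] (n : ℕ)
    (hn : n ≠ 0) (hF : Fintype.card F = 2 ^ n) :
    Nonempty (Matrix.SpecialLinearGroup (Fin 2) F ≃*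
      Matrix.ProjectiveSpecialLinearGroup (Fin 2) (GaloisField 2 n)) := by
  have : Fact (Nat.Prime 2) := ⟨Nat.prime_two⟩
  let _ : Fintype (GaloisField 2 n) := Fintype.ofFinite _
  have hc : Fintype.card F = Fintype.card (GaloisField 2 n) := by
    rw [hF, ← Nat.card_eq_fintype_card, GaloisField.card 2 n hn]
  obtain ⟨e⟩ := Cfsg.Agent.Lib.helper18.nonempty_pslCongr_of_card_eq (n := Fin 2) hc
  exact ⟨(h9_sl2_equiv_psl2 F).trans e⟩

/-- A group of order `6` is not simple. -/
theorem h9_not_simple_of_card_six {G : Type*} [Group G] [Finite G] [IsSimpleGroup G]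
    (h6 : Nat.card G = 6) : False := by
  have : Fact (Nat.Prime 3) := ⟨by norm_num⟩
  obtain ⟨K, hK⟩ := Sylow.exists_subgroup_card_pow_prime (G := G) 3 (n := 1)
    (by rw [h6]; norm_num)
  have hidx : K.index = 2 := by
    have := K.card_mul_index
    rw [hK, h6] at this
    omega
  have hKn : K.Normal := Subgroup.normal_of_index_eq_two hidx
  rcases hKn.eq_bot_or_eq_top with h | h
  · rw [h, Subgroup.card_bot] at hK; norm_num at hK
  · rw [h, Subgroup.card_top, h6] at hK; norm_num at hK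

theorem h9_card_sl2_zmod_two :
    Nat.card (Matrix.SpecialLinearGroup (Fin 2) (ZMod 2)) = 6 := by
  rw [Nat.card_eq_fintype_card]
  decide +kernel

/-- The reduction step after `S2202`: a non-abelian simple group isomorphic to `SL₂(F) × A`,
`F` a finite field of characteristic two and `A` abelian, is `SL₂(F)` with `|F| = 2 ^ n`,
`n ≥ 2`, hence `PSL₂(GaloisField 2 n)`. -/
theorem h9_simple_of_sl2_prod {G : Type*} [Group G] [Finite G] [IsSimpleGroup G]
    (hna : ¬ IsMulCommutative G) (F : Type) [Field F] [Fintype F] [CharP F 2]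
    (A : Type) [CommGroup A] (e : G ≃* Matrix.SpecialLinearGroup (Fin 2) F × A) :
    ∃ n : ℕ, 2 ≤ n ∧ Fintype.card F = 2 ^ n ∧
      Nonempty (G ≃* Matrix.SpecialLinearGroup (Fin 2) F) ∧
      Nonempty (G ≃* Matrix.ProjectiveSpecialLinearGroup (Fin 2) (GaloisField 2 n)) := by
  classical
  -- the projection to `A` is trivial
  let p : G →* A := (MonoidHom.snd _ A).comp e.toMonoidHom
  have hker : p.ker = ⊤ := by
    rcases (MonoidHom.normal_ker p).eq_bot_or_eq_top with h | h
    · exfalso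
      apply hna
      refine ⟨⟨fun a b => ?_⟩⟩
      have hinj : Function.Injective p := (MonoidHom.ker_eq_bot_iff p).mp h
      apply hinj
      rw [map_mul, map_mul, mul_comm]
    · exact h
  have hp : ∀ g : G, (e g).2 = 1 := by
    intro g
    have : g ∈ p.ker := by rw [hker]; trivial
    exact this
  let f : G →* Matrix.SpecialLinearGroup (Fin 2) F := (MonoidHom.fst _ A).comp e.toMonoidHom
  have hf : Function.Bijective f := by
    constructor
    · intro a b hab
      apply e.injective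
      apply Prod.ext
      · exact hab
      · rw [hp, hp]
    · intro s
      refine ⟨e.symm (s, 1), ?_⟩
      show (e (e.symm (s, 1))).1 = s
      rw [e.apply_symm_apply]
  let φ : G ≃* Matrix.SpecialLinearGroup (Fin 2) F := MulEquiv.ofBijective f hf
  obtain ⟨n, -, hn⟩ := FiniteField.card F 2
  have hn2 : 2 ≤ (n : ℕ) := by
    by_contra hlt
    have h1 : (n : ℕ) = 1 := by have := n.pos; omega
    rw [h1, pow_one] at hn
    have hc : Fintype.card F = Fintype.card (ZMod 2) := by rw [hn, ZMod.card]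
    let ψ : G ≃* Matrix.SpecialLinearGroup (Fin 2) (ZMod 2) :=
      φ.trans (Cfsg.Agent.Lib.helper18.slCongr (FiniteField.ringEquivOfCardEq hc))
    have h6 : Nat.card G = 6 := by
      rw [Nat.card_congr ψ.toEquiv, h9_card_sl2_zmod_two]
    exact h9_not_simple_of_card_six h6
  obtain ⟨ψ⟩ := h9_sl2_equiv_psl2_galois (F := F) (n : ℕ) (by omega) hn
  exact ⟨n, hn2, hn, ⟨φ⟩, ⟨φ.trans ψ⟩⟩

/-- The forward direction of the final step: after `S2202`, a simple group all of whose
non-abelian subgroups are self-normalizing and which is `SL₂(F) × A` is `PSL₂(2ⁿ)` with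
`2ⁿ - 1` prime. -/
theorem h9_psl2_of_sl2_prod {G : Type*} [Group G] [Finite G] [IsSimpleGroup G]
    (hna : ¬ IsMulCommutative G)
    (hself : ∀ H : Subgroup G, ¬ IsMulCommutative H → Subgroup.normalizer (H : Set G) = H)
    (F : Type) [Field F] [Fintype F] [CharP F 2]
    (A : Type) [CommGroup A] (e : G ≃* Matrix.SpecialLinearGroup (Fin 2) F × A) :
    ∃ n : ℕ, 2 ≤ n ∧ (2 ^ n - 1).Prime ∧
      Nonempty (G ≃* Matrix.ProjectiveSpecialLinearGroup (Fin 2) (GaloisField 2 n)) := by
  obtain ⟨n, hn2, hn, ⟨φ⟩, hψ⟩ := h9_simple_of_sl2_prod hna F A e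
  refine ⟨n, hn2, ?_, hψ⟩
  have h4 : 4 ≤ Fintype.card F := by
    rw [hn]
    calc 4 = 2 ^ 2 := by norm_num
      _ ≤ 2 ^ n := Nat.pow_le_pow_right (by norm_num) hn2
  have := h9_sl2_subborel_prime φ h4 hself
  rwa [hn] at this

end Cfsg.Agent.Lib.helper9.SubBorel
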