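import Mathlib
import Cfsg.Agent.Lib.helper69.SNDefs
import Cfsg.Agent.Lib.helper9.SL2Simple

set_option autoImplicit false

namespace Cfsg.Agent.Lib.helper9.SNG

open Cfsg.Agent.Lib.helper69.SNG

universe u v

/-- **[BOREL]** -/
theorem sl2_sn_prime {F : Type} [Field F] [Fintype F] [CharP F 2] {n : ℕ} (hn : 2 ≤ n)
    (hF : Fintype.card F = 2 ^ n) (h : SN (Matrix.SpecialLinearGroup (Fin 2) F)) :
    (2 ^ n - 1).Prime := by
  have h4 : 4 ≤ Fintype.card F := by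
    rw [hF]
    calc 4 = 2 ^ 2 := by norm_num
      _ ≤ 2 ^ n := Nat.pow_le_pow_right (by norm_num) hn
  have := Cfsg.Agent.Lib.helper9.SubBorel.h9_sl2_subborel_prime
    (MulEquiv.refl (Matrix.SpecialLinearGroup (Fin 2) F)) h4 h
  rwa [hF] at this

/-- **[FIELD]** -/
theorem sl2_equiv_psl2_galois {F : Type} [Field F] [Fintype F] [CharP F 2] {n : ℕ} (hn : n ≠ 0)
    (hF : Fintype.card F = 2 ^ n) :
    Nonempty (Matrix.SpecialLinearGroup (Fin 2) F ≃*
      Matrix.ProjectiveSpecialLinearGroup (Fin 2) (GaloisField 2 n)) :=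
  Cfsg.Agent.Lib.helper9.SubBorel.h9_sl2_equiv_psl2_galois n hn hF

end Cfsg.Agent.Lib.helper9.SNG
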