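import Mathlib
import Cfsg.Agent.Lib.helper69.SNDefs

set_option autoImplicit false

namespace Cfsg.Agent.Lib.helper9.SNG

open Cfsg.Agent.Lib.helper69.SNG

universe u v

/-- If `z` commutes with everything, then `y ^ k * a * (y ^ k)⁻¹ = z ^ k * a` whenever
`y * a * y⁻¹ = z * a`. -/
theorem h9_conj_pow_left {C : Type u} [Group C] (y a z : C) (hz : ∀ g : C, z * g = g * z)
    (h : y * a * y⁻¹ = z * a) (k : ℕ) : y ^ k * a * (y ^ k)⁻¹ = z ^ k * a := by
  induction k with
  | zero => simp
  | succ k ih =>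
    have e : y ^ (k + 1) * a * (y ^ (k + 1))⁻¹ = y * (y ^ k * a * (y ^ k)⁻¹) * y⁻¹ := by
      rw [pow_succ']; group
    rw [e, ih]
    have e2 : y * (z ^ k * a) * y⁻¹ = z ^ k * (y * a * y⁻¹) := by
      have hzk : ∀ g : C, z ^ k * g = g * z ^ k := by
        intro g
        exact ((Commute.pow_left (hz g) k)).eq
      rw [← mul_assoc, ← hzk y]; group
    rw [e2, h, pow_succ]; group

/-- If `z` commutes with everything, then `y * a ^ k * y⁻¹ = z ^ k * a ^ k` whenever
`y * a * y⁻¹ = z * a`. -/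
theorem h9_conj_pow_right {C : Type u} [Group C] (y a z : C) (hz : ∀ g : C, z * g = g * z)
    (h : y * a * y⁻¹ = z * a) (k : ℕ) : y * a ^ k * y⁻¹ = z ^ k * a ^ k := by
  have e : y * a ^ k * y⁻¹ = (y * a * y⁻¹) ^ k := by
    rw [conj_pow]
  rw [e, h]
  exact (Commute.mul_pow (hz a) k)

/-- A subgroup of prime index together with an element outside it generates the group. -/
theorem h9_sup_zpowers_eq_top {C : Type u} [Group C] (A : Subgroup C) (hAi : A.index.Prime)
    (y : C) (hy : y ∉ A) : A ⊔ Subgroup.zpowers y = ⊤ := by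
  have hle : A ≤ A ⊔ Subgroup.zpowers y := le_sup_left
  have hmul := Subgroup.relIndex_mul_index hle
  have hdvd : (A ⊔ Subgroup.zpowers y).index ∣ A.index := Dvd.intro_left _ hmul
  rcases (Nat.dvd_prime hAi).mp hdvd with h1 | h1
  · exact Subgroup.index_eq_one.mp h1
  · exfalso
    rw [h1] at hmul
    have hr : A.relIndex (A ⊔ Subgroup.zpowers y) = 1 := by
      have hpos : 0 < A.index := hAi.pos
      have : A.relIndex (A ⊔ Subgroup.zpowers y) * A.index = 1 * A.index := by rw [hmul, one_mul]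
      exact Nat.eq_of_mul_eq_mul_right hpos this
    have hle2 : A ⊔ Subgroup.zpowers y ≤ A := Subgroup.relIndex_eq_one.mp hr
    exact hy (hle2 (Subgroup.mem_sup_right (Subgroup.mem_zpowers y)))

/-- An element commuting with `A` and with `y` is central when `A ⊔ ⟨y⟩ = ⊤`. -/
theorem h9_comm_all_of_sup {C : Type u} [Group C] (A : Subgroup C) (y : C)
    (htop : A ⊔ Subgroup.zpowers y = ⊤) (w : C) (hwA : ∀ a ∈ A, w * a = a * w)
    (hwy : w * y = y * w) : ∀ g : C, w * g = g * w := by
  have hle : A ⊔ Subgroup.zpowers y ≤ Subgroup.centralizer ({w} : Set C) := by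
    rw [sup_le_iff]
    constructor
    · intro a ha
      rw [Subgroup.mem_centralizer_iff]
      intro w' hw'
      rw [Set.mem_singleton_iff] at hw'
      rw [hw']
      exact hwA a ha
    · rw [Subgroup.zpowers_le]
      rw [Subgroup.mem_centralizer_iff]
      intro w' hw'
      rw [Set.mem_singleton_iff] at hw'
      rw [hw']
      exact hwy
  intro g
  have hg : g ∈ Subgroup.centralizer ({w} : Set C) := hle (by rw [htop]; exact Subgroup.mem_top g)
  rw [Subgroup.mem_centralizer_iff] at hg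
  exact hg w (Set.mem_singleton w)

open scoped IsMulCommutative in
/-- **[CENT-NE]** -/
theorem sn_center_prime_index_ne {C : Type u} [Group C] [Finite C] (h : SN C)
    (A : Subgroup C) [A.Normal] (hA : IsMulCommutative A) (hAi : A.index.Prime)
    (x : C) (hx : x ∈ Subgroup.center C) (hxo : (orderOf x).Prime)
    (hne : A.index ≠ orderOf x) : IsMulCommutative C := by
  classical
  have hpF : Fact (orderOf x).Prime := ⟨hxo⟩
  have hxc : ∀ g : C, g * x = x * g := fun g => Subgroup.mem_center_iff.mp hx g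
  have hAab : ∀ a ∈ A, ∀ b ∈ A, a * b = b * a := (comm_iff A).mp hA
  -- the transfer into `A`
  let V : C →* A := MonoidHom.transfer (MonoidHom.id A)
  have hkey : ∀ (k : ℕ) (g₀ : C), g₀⁻¹ * x ^ k * g₀ ∈ A → g₀⁻¹ * x ^ k * g₀ = x ^ k := by
    intro k g₀ _
    have : x ^ k * g₀ = g₀ * x ^ k := ((Commute.pow_right (hxc g₀) k).eq).symm
    rw [mul_assoc, this, inv_mul_cancel_left]
  have hVx : ((V x : A) : C) = x ^ A.index := by
    have := MonoidHom.transfer_eq_pow (MonoidHom.id A) x hkey
    show ((MonoidHom.transfer (MonoidHom.id A) x : A) : C) = x ^ A.index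
    rw [this]
    rfl
  -- the `p'`-part of `|A|`
  obtain ⟨e, m, hpm, hcard⟩ := Nat.exists_eq_pow_mul_and_not_dvd
    (n := Nat.card A) Nat.card_pos.ne' (orderOf x) hxo.ne_one
  let ψ : C →* A := (powMonoidHom m).comp V
  have hψ : ∀ c : C, ψ c = (V c) ^ m := fun c => rfl
  -- `x ∉ ker ψ`
  have hxψ : x ∉ ψ.ker := by
    intro hmem
    rw [MonoidHom.mem_ker, hψ] at hmem
    have h1 : ((V x : A) : C) ^ m = 1 := by
      have := congrArg (Subtype.val : A → C) hmem
      simpa using this
    rw [hVx, ← pow_mul] at h1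
    have hdvd := orderOf_dvd_of_pow_eq_one h1
    rcases (Nat.Prime.dvd_mul hxo).mp hdvd with h2 | h2
    · exact hne ((Nat.prime_dvd_prime_iff_eq hxo hAi).mp h2).symm
    · exact hpm h2
  have hHtop : ψ.ker ≠ ⊤ := by
    intro htop
    exact hxψ (by rw [htop]; exact Subgroup.mem_top x)
  have hHc : IsMulCommutative ψ.ker := h.normal_comm ψ.ker hHtop
  have hHab : ∀ a ∈ ψ.ker, ∀ b ∈ ψ.ker, a * b = b * a := (comm_iff ψ.ker).mp hHc
  -- the index of `ker ψ` is a power of `p`
  have hpg : IsPGroup (orderOf x) ψ.range := by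
    rintro ⟨g, c, rfl⟩
    refine ⟨e, ?_⟩
    apply Subtype.ext
    show (ψ c) ^ (orderOf x ^ e) = 1
    rw [hψ, ← pow_mul, mul_comm, ← hcard]
    exact pow_card_eq_one'
  obtain ⟨j, hj⟩ := (IsPGroup.iff_card).mp hpg
  have hidx : ψ.ker.index = orderOf x ^ j := by rw [Subgroup.index_ker, hj]
  -- an element of `ker ψ` outside `A`
  obtain ⟨y, hyH, hyA⟩ : ∃ y, y ∈ ψ.ker ∧ y ∉ A := by
    by_contra hcon
    have hle : ψ.ker ≤ A := by
      intro y hy
      by_contra hyA
      exact hcon ⟨y, hy, hyA⟩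
    have hdvd := Subgroup.index_dvd_of_le hle
    rw [hidx] at hdvd
    have h2 := hAi.dvd_of_dvd_pow hdvd
    exact hne ((Nat.prime_dvd_prime_iff_eq hAi hxo).mp h2)
  have htop := h9_sup_zpowers_eq_top A hAi y hyA
  -- `y` commutes with `A`
  have hyA' : ∀ a ∈ A, y * a = a * y := by
    intro a ha
    set z := y * a * y⁻¹ * a⁻¹ with hz
    have hzA : z ∈ A := by
      have h1 : y * a * y⁻¹ ∈ A := ‹A.Normal›.conj_mem a ha y
      exact A.mul_mem h1 (A.inv_mem ha)
    have hzH : z ∈ ψ.ker := by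
      have h1 : a * y⁻¹ * a⁻¹ ∈ ψ.ker :=
        (MonoidHom.normal_ker ψ).conj_mem y⁻¹ (ψ.ker.inv_mem hyH) a
      have h2 : z = y * (a * y⁻¹ * a⁻¹) := by rw [hz]; group
      rw [h2]
      exact ψ.ker.mul_mem hyH h1
    have hzc : ∀ g : C, z * g = g * z :=
      h9_comm_all_of_sup A y htop z (fun b hb => hAab z hzA b hb) (hHab z hzH y hyH)
    have hconj : y * a * y⁻¹ = z * a := by rw [hz]; group
    -- `z ^ ℓ = 1`
    have h1 : z ^ A.index = 1 := by
      have h3 := h9_conj_pow_left y a z hzc hconj A.index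
      have h4 : y ^ A.index ∈ A := A.pow_index_mem y
      have h5 : y ^ A.index * a = a * y ^ A.index := hAab _ h4 a ha
      rw [h5, mul_inv_cancel_right] at h3
      exact (mul_eq_right.mp h3.symm)
    -- `z ^ (p ^ j) = 1`
    have h2 : z ^ ψ.ker.index = 1 := by
      have h3 := h9_conj_pow_right y a z hzc hconj ψ.ker.index
      have h4 : a ^ ψ.ker.index ∈ ψ.ker := ψ.ker.pow_index_mem a
      have h5 : y * a ^ ψ.ker.index = a ^ ψ.ker.index * y := hHab y hyH _ h4
      rw [h5, mul_inv_cancel_right] at h3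
      exact (mul_eq_right.mp h3.symm)
    have hz1 : z = 1 := by
      have d1 := orderOf_dvd_of_pow_eq_one h1
      have d2 := orderOf_dvd_of_pow_eq_one h2
      rw [hidx] at d2
      have hcop : Nat.Coprime A.index (orderOf x ^ j) :=
        Nat.Coprime.pow_right j ((Nat.coprime_primes hAi hxo).mpr hne)
      have d3 : orderOf z ∣ 1 := by
        have := Nat.dvd_gcd d1 d2
        rwa [hcop.gcd_eq_one] at this
      exact orderOf_eq_one_iff.mp (Nat.dvd_one.mp d3)
    rw [hz1, one_mul] at hconj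
    calc y * a = y * a * y⁻¹ * y := by group
      _ = a * y := by rw [hconj]
  -- conclusion
  have hyc : ∀ g : C, y * g = g * y := h9_comm_all_of_sup A y htop y hyA' rfl
  have hAc : ∀ a ∈ A, ∀ g : C, a * g = g * a := fun a ha =>
    h9_comm_all_of_sup A y htop a (fun b hb => hAab a ha b hb) ((hyc a).symm)
  have hcen : A ⊔ Subgroup.zpowers y ≤ Subgroup.center C := by
    rw [sup_le_iff]
    constructor
    · intro a ha
      rw [Subgroup.mem_center_iff]
      intro g
      exact (hAc a ha g).symm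
    · rw [Subgroup.zpowers_le, Subgroup.mem_center_iff]
      intro g
      exact (hyc g).symm
  rw [htop] at hcen
  rw [comm_iff_top]
  intro a b
  have ha : a ∈ Subgroup.center C := hcen (Subgroup.mem_top a)
  exact (Subgroup.mem_center_iff.mp ha b).symm

end Cfsg.Agent.Lib.helper9.SNG
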