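import Mathlib
import Cfsg.Agent.Lib.helper78.SR_N2a

set_option autoImplicit false
open Equiv MulAction

namespace Cfsg.Agent.Lib.helper70.SR

/-- One point of a transposition commuting with a two-point stabilizer lies in the pair. -/
theorem helper9_swap_point_mem (m : ℕ) (hm : 5 ≤ m) (a b i j : Fin m) (hij : i ≠ j)
    (h : ∀ σ : Perm (Fin m), σ a = a → σ b = b → σ * swap i j = swap i j * σ) :
    i = a ∨ i = b := by
  classical
  by_contra hcon
  obtain ⟨hia, hib⟩ := not_or.mp hcon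
  obtain ⟨l, -, hl⟩ : ∃ l, l ∈ (Finset.univ : Finset (Fin m)) ∧
      l ∉ ({a, b, i, j} : Finset (Fin m)) := by
    apply Finset.exists_mem_notMem_of_card_lt_card
    calc ({a, b, i, j} : Finset (Fin m)).card ≤ 4 := Finset.card_le_four
      _ < m := by omega
      _ = (Finset.univ : Finset (Fin m)).card := by simp
  simp only [Finset.mem_insert, Finset.mem_singleton, not_or] at hl
  obtain ⟨hla, hlb, hli, hlj⟩ := hl
  have h1 := h (swap i l) (swap_apply_of_ne_of_ne (Ne.symm hia) (Ne.symm hla))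
    (swap_apply_of_ne_of_ne (Ne.symm hib) (Ne.symm hlb))
  have h2 := congrArg (fun f : Perm (Fin m) => f j) h1
  simp only [Perm.coe_mul, Function.comp_apply] at h2
  rw [swap_apply_right, swap_apply_left, swap_apply_of_ne_of_ne (Ne.symm hij) (Ne.symm hlj),
    swap_apply_right] at h2
  exact hli h2

/-- Prefixed copy of P3 (a transposition commuting with a two-point stabilizer). -/
theorem helper9_swap_eq_of_comm_stab (m : ℕ) (hm : 5 ≤ m) (a b i j : Fin m) (hij : i ≠ j)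
    (h : ∀ σ : Perm (Fin m), σ a = a → σ b = b → σ * swap i j = swap i j * σ) :
    swap i j = swap a b := by
  have hi := helper9_swap_point_mem m hm a b i j hij h
  have hj := helper9_swap_point_mem m hm a b j i (Ne.symm hij)
    (by intro σ ha hb; rw [swap_comm j i]; exact h σ ha hb)
  rcases hi with hi | hi <;> rcases hj with hj | hj
  · exact absurd (hi.trans hj.symm) hij
  · rw [hi, hj]
  · rw [hi, hj, swap_comm]
  · exact absurd (hi.trans hj.symm) hij

/-- N2b (normalization of the coordinates), racing copy. -/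
theorem h9_exists_normalized (m : ℕ) (hm : 9 ≤ m) {G : Type*} [Group G] (x y : G) (K J : Subgroup G)
    (eK : Perm (Fin m) ≃* K) (eJ : Perm (Fin m) ≃* J)
    (hKx : K ≤ Subgroup.centralizer ({x} : Set G)) (hJy : J ≤ Subgroup.centralizer ({y} : Set G))
    (hyK : ∃ i j : Fin m, i ≠ j ∧ ((eK (swap i j) : K) : G) = y)
    (hxJ : ∃ i j : Fin m, i ≠ j ∧ ((eJ (swap i j) : J) : G) = x)
    (hIK : ∃ a b : Fin m, a ≠ b ∧ K ⊓ J =
      (stabilizer (Perm (Fin m)) a ⊓ stabilizer (Perm (Fin m)) b).map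
        (K.subtype.comp eK.toMonoidHom))
    (hIJ : ∃ a b : Fin m, a ≠ b ∧ K ⊓ J =
      (stabilizer (Perm (Fin m)) a ⊓ stabilizer (Perm (Fin m)) b).map
        (J.subtype.comp eJ.toMonoidHom))
    (hstab : ∀ (a b a' b' : Fin m), a ≠ b → a' ≠ b' →
      ∀ φ : ↥(stabilizer (Perm (Fin m)) a ⊓ stabilizer (Perm (Fin m)) b) ≃*
          ↥(stabilizer (Perm (Fin m)) a' ⊓ stabilizer (Perm (Fin m)) b'),
        ∃ g : Perm (Fin m), g a = a' ∧ g b = b' ∧
          ∀ σ : ↥(stabilizer (Perm (Fin m)) a ⊓ stabilizer (Perm (Fin m)) b),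
            ((φ σ : ↥(stabilizer (Perm (Fin m)) a' ⊓ stabilizer (Perm (Fin m)) b')) :
              Perm (Fin m)) = g * (σ : Perm (Fin m)) * g⁻¹) :
    ∃ (eK' : Perm (Fin m) ≃* K) (eJ' : Perm (Fin m) ≃* J) (a b : Fin m),
      a.val = 0 ∧ b.val = 1 ∧
      (∀ σ : Perm (Fin m), σ a = a → σ b = b → ((eK' σ : K) : G) = ((eJ' σ : J) : G)) ∧
      ((eJ' (swap a b) : J) : G) = x ∧ ((eK' (swap a b) : K) : G) = y := by
  classical
  have hinv : ∀ (f : Perm (Fin m)) (z : Fin m), f⁻¹ (f z) = z :=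
    fun f z => Perm.inv_eq_iff_eq.mpr rfl
  obtain ⟨a, b, hab, hIK⟩ := hIK
  obtain ⟨a', b', hab', hIJ⟩ := hIJ
  obtain ⟨φ, hφ⟩ := exists_stab_iso m K J eK eJ a b a' b' hIK hIJ
  obtain ⟨g, hga, hgb, hg⟩ := hstab a b a' b' hab hab' φ
  have hagree : ∀ σ : Perm (Fin m), σ a = a → σ b = b →
      ((eK σ : K) : G) = ((eJ (g * σ * g⁻¹) : J) : G) := by
    intro σ ha hb
    have hmem : σ ∈ stabilizer (Perm (Fin m)) a ⊓ stabilizer (Perm (Fin m)) b := by
      rw [Subgroup.mem_inf, mem_stabilizer_iff, mem_stabilizer_iff]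
      exact ⟨ha, hb⟩
    have h1 := hφ ⟨σ, hmem⟩
    have h2 := hg ⟨σ, hmem⟩
    rw [h2] at h1
    exact h1.symm
  obtain ⟨i, j, hij, hy⟩ := hyK
  obtain ⟨i', j', hij', hx⟩ := hxJ
  have hsw1 : swap i j = swap a b := by
    apply helper9_swap_eq_of_comm_stab m (by omega) a b i j hij
    intro σ ha hb
    have h1 : ((eJ (g * σ * g⁻¹) : J) : G) ∈ Subgroup.centralizer ({y} : Set G) := hJy (eJ _).2
    rw [Subgroup.mem_centralizer_iff] at h1
    have h2 := h1 y (Set.mem_singleton y)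
    rw [← hagree σ ha hb, ← hy] at h2
    have h3 : eK (swap i j * σ) = eK (σ * swap i j) := by
      apply Subtype.ext
      rw [map_mul, map_mul]
      exact h2
    exact (eK.injective h3).symm
  have hsw2 : swap i' j' = swap a' b' := by
    apply helper9_swap_eq_of_comm_stab m (by omega) a' b' i' j' hij'
    intro σ' ha hb
    have hσa : (g⁻¹ * σ' * g) a = a := by
      rw [Perm.mul_apply, Perm.mul_apply, hga, ha, ← hga, hinv]
    have hσb : (g⁻¹ * σ' * g) b = b := by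
      rw [Perm.mul_apply, Perm.mul_apply, hgb, hb, ← hgb, hinv]
    have h0 := hagree (g⁻¹ * σ' * g) hσa hσb
    have e : g * (g⁻¹ * σ' * g) * g⁻¹ = σ' := by group
    rw [e] at h0
    have h1 : ((eK (g⁻¹ * σ' * g) : K) : G) ∈ Subgroup.centralizer ({x} : Set G) := hKx (eK _).2
    rw [Subgroup.mem_centralizer_iff] at h1
    have h2 := h1 x (Set.mem_singleton x)
    rw [h0, ← hx] at h2
    have h3 : eJ (swap i' j' * σ') = eJ (σ' * swap i' j') := by
      apply Subtype.ext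
      rw [map_mul, map_mul]
      exact h2
    exact (eJ.injective h3).symm
  have hm0 : 0 < m := by omega
  have hm1 : 1 < m := by omega
  have ha0b0 : (⟨0, hm0⟩ : Fin m) ≠ ⟨1, hm1⟩ := by
    intro h
    have := congrArg Fin.val h
    simp at this
  obtain ⟨g', hg'a, hg'b⟩ : ∃ g' : Perm (Fin m), g' ⟨0, hm0⟩ = a ∧ g' ⟨1, hm1⟩ = b := by
    have hp : swap (⟨0, hm0⟩ : Fin m) a ⟨0, hm0⟩ = a := swap_apply_left _ a
    have hc : swap (⟨0, hm0⟩ : Fin m) a ⟨1, hm1⟩ ≠ a := by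
      intro h
      rw [← hp] at h
      exact ha0b0 ((swap (⟨0, hm0⟩ : Fin m) a).injective h).symm
    refine ⟨swap (swap (⟨0, hm0⟩ : Fin m) a ⟨1, hm1⟩) b * swap (⟨0, hm0⟩ : Fin m) a, ?_, ?_⟩
    · rw [Perm.mul_apply, hp, swap_apply_of_ne_of_ne (Ne.symm hc) hab]
    · rw [Perm.mul_apply, swap_apply_left]
  refine ⟨(MulAut.conj g').trans eK, (MulAut.conj (g * g')).trans eJ, ⟨0, hm0⟩, ⟨1, hm1⟩,
    rfl, rfl, ?_, ?_, ?_⟩
  · intro σ ha hb
    show ((eK (g' * σ * g'⁻¹) : K) : G) = ((eJ (g * g' * σ * (g * g')⁻¹) : J) : G)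
    have h1 : (g' * σ * g'⁻¹) a = a := by
      rw [Perm.mul_apply, Perm.mul_apply, ← hg'a, hinv, ha]
    have h2 : (g' * σ * g'⁻¹) b = b := by
      rw [Perm.mul_apply, Perm.mul_apply, ← hg'b, hinv, hb]
    rw [hagree _ h1 h2]
    have e : g * (g' * σ * g'⁻¹) * g⁻¹ = g * g' * σ * (g * g')⁻¹ := by group
    rw [e]
  · show ((eJ (g * g' * swap (⟨0, hm0⟩ : Fin m) ⟨1, hm1⟩ * (g * g')⁻¹) : J) : G) = x
    have e : g * g' * swap (⟨0, hm0⟩ : Fin m) ⟨1, hm1⟩ * (g * g')⁻¹ = swap a' b' := by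
      rw [← swap_apply_apply, Perm.mul_apply, Perm.mul_apply, hg'a, hg'b, hga, hgb]
    rw [e, ← hsw2, hx]
  · show ((eK (g' * swap (⟨0, hm0⟩ : Fin m) ⟨1, hm1⟩ * g'⁻¹) : K) : G) = y
    rw [← swap_apply_apply, hg'a, hg'b, ← hsw1, hy]

end Cfsg.Agent.Lib.helper70.SR
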