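import Mathlib
import Cfsg.Prelude.Def_Classical
import Cfsg.Prelude.Def_GeometricClasses

set_option autoImplicit false

namespace Cfsg.Agent.Lib.helper59.Sfk

open Matrix Cfsg.Geo

/-- Inductive core of JBASIS: every `X`-invariant subspace `W` on which the polar form is
nondegenerate has a family `e` with `e, X e` orthogonal, non-isotropic and spanning `W`. -/
theorem helper9_jb_ind {F : Type*} [Field F] {ι : Type} [Fintype ι] [DecidableEq ι]
    (h2 : (2 : F) ≠ 0) (Q : QuadraticForm F (ι → F)) (X : Matrix ι ι F)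
    (hQX : ∀ u, Q (X *ᵥ u) = Q u) (hXX : ∀ u, X *ᵥ (X *ᵥ u) = -u) :
    ∀ (n : ℕ) (W : Submodule F (ι → F)), Module.finrank F W ≤ n →
      (∀ w ∈ W, X *ᵥ w ∈ W) →
      (∀ w ∈ W, (∀ w' ∈ W, QuadraticMap.polar (⇑Q) w w' = 0) → w = 0) →
      ∃ (m : ℕ) (e : Fin m → (ι → F)), (∀ i, e i ∈ W) ∧
        (∀ i j, i ≠ j → QuadraticMap.polar (⇑Q) (e i) (e j) = 0) ∧
        (∀ i j, QuadraticMap.polar (⇑Q) (e i) (X *ᵥ e j) = 0) ∧
        (∀ i, Q (e i) ≠ 0) ∧
        W ≤ Submodule.span F (Set.range (Sum.elim e (fun i => X *ᵥ e i))) := by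
  have hBX : ∀ u v, QuadraticMap.polar (⇑Q) (X *ᵥ u) (X *ᵥ v) = QuadraticMap.polar (⇑Q) u v := by
    intro u v
    simp only [QuadraticMap.polar, ← Matrix.mulVec_add, hQX]
  have hskew : ∀ u v, QuadraticMap.polar (⇑Q) u (X *ᵥ v)
      = -QuadraticMap.polar (⇑Q) (X *ᵥ u) v := by
    intro u v
    rw [← hBX u (X *ᵥ v), hXX, QuadraticMap.polar_neg_right]
  have hself : ∀ u, QuadraticMap.polar (⇑Q) u (X *ᵥ u) = 0 := by
    intro u
    have h := hskew u u
    rw [QuadraticMap.polar_comm (⇑Q) (X *ᵥ u) u] at h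
    have h' : (2 : F) * QuadraticMap.polar (⇑Q) u (X *ᵥ u) = 0 := by linear_combination h
    rcases mul_eq_zero.mp h' with h'' | h''
    · exact absurd h'' h2
    · exact h''
  intro n
  induction n with
  | zero =>
    intro W hW _ _
    have hW0 : W = ⊥ := Submodule.finrank_eq_zero.mp (by omega)
    refine ⟨0, Fin.elim0, fun i => i.elim0, fun i => i.elim0, fun i => i.elim0,
      fun i => i.elim0, ?_⟩
    rw [hW0]
    exact bot_le
  | succ n ih =>
    intro W hW hinv hnd
    by_cases hW0 : W = ⊥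
    · refine ⟨0, Fin.elim0, fun i => i.elim0, fun i => i.elim0, fun i => i.elim0,
        fun i => i.elim0, ?_⟩
      rw [hW0]
      exact bot_le
    have hex : ∃ e₀ ∈ W, Q e₀ ≠ 0 := by
      by_contra hcon
      have hcon' : ∀ w ∈ W, Q w = 0 := by
        intro w hw
        by_contra hne
        exact hcon ⟨w, hw, hne⟩
      apply hW0
      rw [Submodule.eq_bot_iff]
      intro w hw
      apply hnd w hw
      intro w' hw'
      simp only [QuadraticMap.polar, hcon' w hw, hcon' w' hw', hcon' (w + w') (W.add_mem hw hw'),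
        sub_zero]
    obtain ⟨e₀, he₀W, hQe₀⟩ := hex
    have hb₀ : QuadraticMap.polar (⇑Q) e₀ e₀ ≠ 0 := by
      rw [QuadraticMap.polar_self, two_nsmul, ← two_mul]
      exact mul_ne_zero h2 hQe₀
    have hb₁ : QuadraticMap.polar (⇑Q) (X *ᵥ e₀) (X *ᵥ e₀) = QuadraticMap.polar (⇑Q) e₀ e₀ :=
      hBX e₀ e₀
    have hb₂ : QuadraticMap.polar (⇑Q) (X *ᵥ e₀) e₀ = 0 := by
      rw [QuadraticMap.polar_comm]
      exact hself e₀
    have hXe₀W : X *ᵥ e₀ ∈ W := hinv e₀ he₀W
    let W' : Submodule F (ι → F) :=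
      W ⊓ LinearMap.ker (QuadraticMap.polarBilin Q e₀) ⊓
        LinearMap.ker (QuadraticMap.polarBilin Q (X *ᵥ e₀))
    have hW'mem : ∀ w, w ∈ W' ↔ w ∈ W ∧ QuadraticMap.polar (⇑Q) e₀ w = 0 ∧
        QuadraticMap.polar (⇑Q) (X *ᵥ e₀) w = 0 := by
      intro w
      simp only [W', Submodule.mem_inf, LinearMap.mem_ker, QuadraticMap.polarBilin_apply_apply,
        and_assoc]
    have hW'le : W' ≤ W := fun w hw => ((hW'mem w).mp hw).1
    have hlt : W' < W := by
      refine lt_of_le_of_ne hW'le ?_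
      intro h
      have h' : e₀ ∈ W' := by rw [h]; exact he₀W
      exact hb₀ ((hW'mem e₀).mp h').2.1
    have hfin : Module.finrank F W' ≤ n := by
      have := Submodule.finrank_lt_finrank_of_lt hlt
      omega
    have hinv' : ∀ w ∈ W', X *ᵥ w ∈ W' := by
      intro w hw
      obtain ⟨hwW, h1, h2'⟩ := (hW'mem w).mp hw
      refine (hW'mem _).mpr ⟨hinv w hwW, ?_, ?_⟩
      · rw [hskew, h2', neg_zero]
      · rw [hBX, h1]
    have hdec : ∀ w'' ∈ W, ∃ a b : F, ∃ w' ∈ W', w'' = w' + a • e₀ + b • (X *ᵥ e₀) := by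
      intro w'' hw''
      refine ⟨QuadraticMap.polar (⇑Q) e₀ w'' / QuadraticMap.polar (⇑Q) e₀ e₀,
        QuadraticMap.polar (⇑Q) (X *ᵥ e₀) w'' / QuadraticMap.polar (⇑Q) e₀ e₀,
        w'' - (QuadraticMap.polar (⇑Q) e₀ w'' / QuadraticMap.polar (⇑Q) e₀ e₀) • e₀
          - (QuadraticMap.polar (⇑Q) (X *ᵥ e₀) w'' / QuadraticMap.polar (⇑Q) e₀ e₀) • (X *ᵥ e₀),
        ?_, ?_⟩
      · refine (hW'mem _).mpr ⟨?_, ?_, ?_⟩
        · exact W.sub_mem (W.sub_mem hw'' (W.smul_mem _ he₀W)) (W.smul_mem _ hXe₀W)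
        · rw [QuadraticMap.polar_sub_right, QuadraticMap.polar_sub_right,
            QuadraticMap.polar_smul_right, QuadraticMap.polar_smul_right, hself e₀, smul_eq_mul,
            smul_eq_mul, mul_zero, sub_zero, div_mul_cancel₀ _ hb₀, sub_self]
        · rw [QuadraticMap.polar_sub_right, QuadraticMap.polar_sub_right,
            QuadraticMap.polar_smul_right, QuadraticMap.polar_smul_right, hb₁, hb₂, smul_eq_mul,
            smul_eq_mul, mul_zero, sub_zero, div_mul_cancel₀ _ hb₀, sub_self]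
      · abel
    have hnd' : ∀ w ∈ W', (∀ w' ∈ W', QuadraticMap.polar (⇑Q) w w' = 0) → w = 0 := by
      intro w hw hperp
      obtain ⟨hwW, h1, h2'⟩ := (hW'mem w).mp hw
      apply hnd w hwW
      intro w'' hw''
      obtain ⟨a, b, w', hw', rfl⟩ := hdec w'' hw''
      rw [QuadraticMap.polar_add_right, QuadraticMap.polar_add_right,
        QuadraticMap.polar_smul_right, QuadraticMap.polar_smul_right, hperp w' hw',
        QuadraticMap.polar_comm (⇑Q) w e₀, h1, QuadraticMap.polar_comm (⇑Q) w (X *ᵥ e₀), h2']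
      simp
    obtain ⟨m', e', he'W, hc, hd, he, hspan⟩ := ih W' hfin hinv' hnd'
    refine ⟨m' + 1, Fin.cons e₀ e', ?_, ?_, ?_, ?_, ?_⟩
    · intro i
      refine Fin.cases ?_ (fun i => ?_) i
      · simpa using he₀W
      · simpa using hW'le (he'W i)
    · intro i j
      refine Fin.cases ?_ (fun i => ?_) i <;> refine Fin.cases ?_ (fun j => ?_) j
      · intro h
        exact absurd rfl h
      · intro _
        simp only [Fin.cons_zero, Fin.cons_succ]
        exact ((hW'mem _).mp (he'W j)).2.1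
      · intro _
        simp only [Fin.cons_zero, Fin.cons_succ]
        rw [QuadraticMap.polar_comm]
        exact ((hW'mem _).mp (he'W i)).2.1
      · intro h
        simp only [Fin.cons_succ]
        exact hc i j (fun h' => h (by rw [h']))
    · intro i j
      refine Fin.cases ?_ (fun i => ?_) i <;> refine Fin.cases ?_ (fun j => ?_) j
      · simp only [Fin.cons_zero]
        exact hself e₀
      · simp only [Fin.cons_zero, Fin.cons_succ]
        exact ((hW'mem _).mp (hinv' _ (he'W j))).2.1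
      · simp only [Fin.cons_zero, Fin.cons_succ]
        rw [QuadraticMap.polar_comm]
        exact ((hW'mem _).mp (he'W i)).2.2
      · simp only [Fin.cons_succ]
        exact hd i j
    · intro i
      refine Fin.cases ?_ (fun i => ?_) i
      · simpa using hQe₀
      · simpa using he i
    · intro w'' hw''
      obtain ⟨a, b, w', hw', rfl⟩ := hdec w'' hw''
      have hsub : Submodule.span F (Set.range (Sum.elim e' (fun i => X *ᵥ e' i))) ≤
          Submodule.span F (Set.range (Sum.elim (Fin.cons e₀ e' : Fin (m' + 1) → ι → F)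
            (fun i => X *ᵥ (Fin.cons e₀ e' : Fin (m' + 1) → ι → F) i))) := by
        apply Submodule.span_mono
        rintro _ ⟨i | i, rfl⟩
        · exact ⟨Sum.inl i.succ, by simp⟩
        · exact ⟨Sum.inr i.succ, by simp⟩
      refine Submodule.add_mem _ (Submodule.add_mem _ (hsub (hspan hw'))
        (Submodule.smul_mem _ _ (Submodule.subset_span ⟨Sum.inl 0, by simp⟩)))
        (Submodule.smul_mem _ _ (Submodule.subset_span ⟨Sum.inr 0, by simp⟩))

/-- JBASIS (L+), racer copy. -/
theorem helper9_sfk_j_basis {F : Type*} [Field F] {ι : Type} [Fintype ι] [DecidableEq ι]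
    (h2 : (2 : F) ≠ 0) (Q : QuadraticForm F (ι → F))
    (hQ : (QuadraticMap.polarBilin Q).Nondegenerate)
    (x : GL ι F) (hx : x ∈ Cfsg.isometryGroup F (⇑Q))
    (hxx : (x : Matrix ι ι F) * (x : Matrix ι ι F) = -1) :
    ∃ (m : ℕ) (e : Fin m → (ι → F)),
      LinearIndependent F (Sum.elim e (fun i => (x : Matrix ι ι F) *ᵥ e i)) ∧
      Fintype.card ι = 2 * m ∧
      (∀ i j, i ≠ j → QuadraticMap.polar (⇑Q) (e i) (e j) = 0) ∧
      (∀ i j, QuadraticMap.polar (⇑Q) (e i) ((x : Matrix ι ι F) *ᵥ e j) = 0) ∧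
      ∀ i, Q (e i) ≠ 0 := by
  have hQX : ∀ u, Q ((x : Matrix ι ι F) *ᵥ u) = Q u := fun u => hx u u
  have hXX : ∀ u, (x : Matrix ι ι F) *ᵥ ((x : Matrix ι ι F) *ᵥ u) = -u := by
    intro u
    rw [Matrix.mulVec_mulVec, hxx, Matrix.neg_mulVec, Matrix.one_mulVec]
  have hBX : ∀ u v, QuadraticMap.polar (⇑Q) ((x : Matrix ι ι F) *ᵥ u) ((x : Matrix ι ι F) *ᵥ v)
      = QuadraticMap.polar (⇑Q) u v := by
    intro u v
    simp only [QuadraticMap.polar, ← Matrix.mulVec_add, hQX]
  obtain ⟨m, e, -, hc, hd, he, hspan⟩ := helper9_jb_ind h2 Q (x : Matrix ι ι F) hQX hXX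
    (Module.finrank F (⊤ : Submodule F (ι → F))) ⊤ le_rfl (fun w _ => Submodule.mem_top)
    (fun w _ hw => hQ.1 w (fun w' => by simpa using hw w' Submodule.mem_top))
  have hself : ∀ i, QuadraticMap.polar (⇑Q) (e i) (e i) ≠ 0 := by
    intro i
    rw [QuadraticMap.polar_self, two_nsmul, ← two_mul]
    exact mul_ne_zero h2 (he i)
  have hli : LinearIndependent F (Sum.elim e (fun i => (x : Matrix ι ι F) *ᵥ e i)) := by
    apply LinearMap.BilinForm.linearIndependent_of_iIsOrtho (B := QuadraticMap.polarBilin Q)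
    · rw [LinearMap.BilinForm.iIsOrtho_def]
      rintro (i | i) (j | j) hij
      · simp only [Sum.elim_inl, QuadraticMap.polarBilin_apply_apply]
        exact hc i j (fun h => hij (by rw [h]))
      · simp only [Sum.elim_inl, Sum.elim_inr, QuadraticMap.polarBilin_apply_apply]
        exact hd i j
      · simp only [Sum.elim_inl, Sum.elim_inr, QuadraticMap.polarBilin_apply_apply]
        rw [QuadraticMap.polar_comm]
        exact hd j i
      · simp only [Sum.elim_inr, QuadraticMap.polarBilin_apply_apply]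
        rw [hBX]
        exact hc i j (fun h => hij (by rw [h]))
    · rintro (i | i)
      · simp only [Sum.elim_inl, QuadraticMap.polarBilin_apply_apply]
        exact hself i
      · simp only [Sum.elim_inr, QuadraticMap.polarBilin_apply_apply]
        rw [hBX]
        exact hself i
  refine ⟨m, e, hli, ?_, hc, hd, he⟩
  have h1 := finrank_span_eq_card hli
  have h3 : Submodule.span F (Set.range (Sum.elim e (fun i => (x : Matrix ι ι F) *ᵥ e i))) = ⊤ :=
    top_le_iff.mp hspan
  rw [h3, finrank_top, Module.finrank_fintype_fun_eq_card] at h1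
  rw [h1]
  simp
  omega

end Cfsg.Agent.Lib.helper59.Sfk
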