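import Mathlib

/-!
A criterion for simplicity: a finite group with a maximal, simple, non-normal subgroup `H` and no
normal subgroup complementing `H` is simple.  Maximality of a point stabiliser is read off from the
sizes of its orbits.
-/

set_option autoImplicit false

namespace Cfsg.Agent.Lib.helper9

open MulAction

/-- A group with a maximal, simple, non-normal subgroup and no normal complement to it is simple. -/
theorem simple_of_max_simple {G : Type*} [Group G] (H : Subgroup G)
    (hs : IsSimpleGroup ↥H)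
    (hmax : ∀ K : Subgroup G, H ≤ K → K = H ∨ K = ⊤)
    (hnn : ¬ H.Normal)
    (hreg : ∀ N : Subgroup G, N.Normal → N ⊓ H = ⊥ → N ⊔ H = ⊤ → False) :
    IsSimpleGroup G := by
  have : Nontrivial G := by
    obtain ⟨a, b, hab⟩ := hs.toNontrivial
    exact ⟨⟨a.1, b.1, fun h => hab (Subtype.ext h)⟩⟩
  refine ⟨fun N hN => ?_⟩
  rcases hs.eq_bot_or_eq_top_of_normal (N.subgroupOf H) (hN.subgroupOf H) with h | h
  · have h2 : N ⊓ H = ⊥ := (Subgroup.subgroupOf_eq_bot.1 h).eq_bot
    rcases hmax (N ⊔ H) le_sup_right with h3 | h3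
    · left
      have h4 : N ≤ H := by rw [← h3]; exact le_sup_left
      rw [← inf_eq_left.2 h4]
      exact h2
    · exact (hreg N hN h2 h3).elim
  · have h2 : H ≤ N := Subgroup.subgroupOf_eq_top.1 h
    rcases hmax N h2 with h3 | h3
    · exact absurd (h3 ▸ hN) hnn
    · right; exact h3

/-- A normal complement of `H` has as many elements as the index of `H`. -/
theorem card_of_regular_normal {G : Type*} [Group G] (H N : Subgroup G) (hN : N.Normal)
    (h1 : N ⊓ H = ⊥) (h2 : N ⊔ H = ⊤) : Nat.card N = H.index := by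
  have hc : Subgroup.IsComplement' N H := by
    apply Subgroup.isComplement'_of_disjoint_and_mul_eq_univ (disjoint_iff.2 h1)
    rw [← Subgroup.normal_mul, h2]
    rfl
  exact hc.index_eq_card.symm

/-- The cardinality of a union of pairwise disjoint finite sets. -/
theorem ncard_biUnion_classes {α : Type*} {k : ℕ} (A : Fin k → Set α) (c : Fin k → ℕ)
    (hfin : ∀ i, (A i).Finite) (hdisj : ∀ i j, i ≠ j → Disjoint (A i) (A j))
    (hcard : ∀ i, (A i).ncard = c i) (J : Finset (Fin k)) :
    (⋃ i ∈ J, A i).Finite ∧ (⋃ i ∈ J, A i).ncard = ∑ i ∈ J, c i := by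
  classical
  induction J using Finset.induction_on with
  | empty => simp
  | insert a J ha ih =>
    have e : (⋃ i ∈ insert a J, A i) = A a ∪ ⋃ i ∈ J, A i := by
      ext y
      simp only [Finset.mem_insert, Set.mem_iUnion, Set.mem_union, exists_prop]
      constructor
      · rintro ⟨i, rfl | hi, hy⟩
        · exact Or.inl hy
        · exact Or.inr ⟨i, hi, hy⟩
      · rintro (hy | ⟨i, hi, hy⟩)
        · exact ⟨a, Or.inl rfl, hy⟩
        · exact ⟨i, Or.inr hi, hy⟩
    have hd : Disjoint (A a) (⋃ i ∈ J, A i) := by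
      rw [Set.disjoint_iUnion₂_right]
      intro i hi
      exact hdisj a i (fun h => ha (h ▸ hi))
    rw [e]
    refine ⟨(hfin a).union ih.1, ?_⟩
    rw [Set.ncard_union_eq hd (hfin a) ih.1, Finset.sum_insert ha, hcard a, ih.2]

/-- Maximality of a point stabiliser from the sizes of its orbits: if no union of suborbits
containing the base point has a size dividing the degree, the stabiliser is maximal. -/
theorem max_of_classes {G α : Type*} [Group G] [Finite G] [MulAction G α] (x : α) {k : ℕ}
    (A : Fin k → Set α) (c : Fin k → ℕ) (n : ℕ)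
    (hn : (orbit G x).ncard = n)
    (hcov : ∀ y ∈ orbit G x, y ≠ x → ∃ i, y ∈ A i)
    (hsub : ∀ i, ∀ y ∈ A i, y ∈ orbit G x ∧ y ≠ x)
    (hdisj : ∀ i j, i ≠ j → Disjoint (A i) (A j))
    (hcard : ∀ i, (A i).ncard = c i)
    (htrans : ∀ i, ∀ y ∈ A i, ∀ y' ∈ A i, ∃ h ∈ stabilizer G x, h • y = y')
    (harith : ∀ J : Finset (Fin k), (1 + ∑ i ∈ J, c i) ∣ n → J = ∅ ∨ J = Finset.univ) :
    ∀ K : Subgroup G, stabilizer G x ≤ K → K = stabilizer G x ∨ K = ⊤ := by
  classical
  intro K hK
  have hofin : (orbit G x).Finite := Set.finite_range fun g : G => g • x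
  have hfin : ∀ i, (A i).Finite := fun i => hofin.subset fun y hy => (hsub i y hy).1
  -- the orbit of `x` under `K`
  have hSdef : ∀ y, y ∈ orbit ↥K x ↔ ∃ g ∈ K, g • x = y := by
    intro y
    constructor
    · rintro ⟨g, rfl⟩
      exact ⟨g.1, g.2, rfl⟩
    · rintro ⟨g, hg, rfl⟩
      exact ⟨⟨g, hg⟩, rfl⟩
  have hSsub : orbit ↥K x ⊆ orbit G x := by
    intro y hy
    obtain ⟨g, -, rfl⟩ := (hSdef y).1 hy
    exact ⟨g, rfl⟩
  have hxS : x ∈ orbit ↥K x := mem_orbit_self x
  have hSinv : ∀ g ∈ K, ∀ y ∈ orbit ↥K x, g • y ∈ orbit ↥K x := by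
    intro g hg y hy
    obtain ⟨g', hg', rfl⟩ := (hSdef y).1 hy
    exact (hSdef _).2 ⟨g * g', K.mul_mem hg hg', mul_smul g g' x⟩
  -- index computation
  have hidx : (orbit ↥K x).ncard * K.index = n := by
    have h1 : (stabilizer ↥K x).index = (orbit ↥K x).ncard := index_stabilizer ↥K x
    have h2 : (stabilizer G x).index = (orbit G x).ncard := index_stabilizer G x
    have h3 : stabilizer ↥K x = (stabilizer G x).subgroupOf K := by
      ext g
      rw [Subgroup.mem_subgroupOf, mem_stabilizer_iff, mem_stabilizer_iff]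
      rfl
    have h4 : (stabilizer G x).relIndex K * K.index = (stabilizer G x).index :=
      Subgroup.relIndex_mul_index hK
    rw [← h1, h3, ← hn, ← h2, ← h4]
    rfl
  -- the classes met by the orbit
  let J : Finset (Fin k) := Finset.univ.filter fun i => ∃ y ∈ A i, y ∈ orbit ↥K x
  have hJ : ∀ i, i ∈ J ↔ ∃ y ∈ A i, y ∈ orbit ↥K x := fun i => by
    simp only [J, Finset.mem_filter, Finset.mem_univ, true_and]
  have hfull : ∀ i ∈ J, A i ⊆ orbit ↥K x := by
    intro i hi y hy
    obtain ⟨y0, hy0, hy0S⟩ := (hJ i).1 hi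
    obtain ⟨h, hh, rfl⟩ := htrans i y0 hy0 y hy
    exact hSinv h (hK hh) y0 hy0S
  have hS : orbit ↥K x = insert x (⋃ i ∈ J, A i) := by
    ext y
    constructor
    · intro hy
      by_cases hyx : y = x
      · exact Or.inl hyx
      · obtain ⟨i, hi⟩ := hcov y (hSsub hy) hyx
        refine Or.inr ?_
        simp only [Set.mem_iUnion, exists_prop]
        exact ⟨i, (hJ i).2 ⟨y, hi, hy⟩, hi⟩
    · rintro (rfl | hy)
      · exact hxS
      · simp only [Set.mem_iUnion, exists_prop] at hy
        obtain ⟨i, hi, hyi⟩ := hy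
        exact hfull i hi hyi
  have hU := ncard_biUnion_classes A c hfin hdisj hcard J
  have hxU : x ∉ ⋃ i ∈ J, A i := by
    simp only [Set.mem_iUnion, exists_prop, not_exists, not_and]
    intro i _ hxi
    exact (hsub i x hxi).2 rfl
  have hcardS : (orbit ↥K x).ncard = 1 + ∑ i ∈ J, c i := by
    rw [hS, Set.ncard_insert_of_notMem hxU hU.1, hU.2, add_comm]
  rcases harith J (by rw [← hcardS, ← hidx]; exact dvd_mul_right _ _) with hJe | hJu
  · left
    refine le_antisymm ?_ hK
    intro g hg
    have h1 : g • x ∈ orbit ↥K x := (hSdef _).2 ⟨g, hg, rfl⟩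
    rw [hS, hJe] at h1
    simp only [Finset.notMem_empty, Set.iUnion_of_empty, Set.iUnion_empty, insert_empty_eq,
      Set.mem_singleton_iff] at h1
    exact mem_stabilizer_iff.2 h1
  · right
    have h1 : orbit ↥K x = orbit G x := by
      refine Set.Subset.antisymm hSsub ?_
      intro y hy
      by_cases hyx : y = x
      · rw [hyx]; exact hxS
      · obtain ⟨i, hi⟩ := hcov y hy hyx
        exact hfull i (by rw [hJu]; exact Finset.mem_univ i) hi
    rw [h1, hn] at hidx
    have hnpos : 0 < n := by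
      rw [← hn]
      exact (Set.ncard_pos hofin).2 ⟨x, mem_orbit_self x⟩
    have h2 : K.index = 1 := by
      have : n * K.index = n * 1 := by rw [hidx, mul_one]
      exact Nat.eq_of_mul_eq_mul_left hnpos this
    exact Subgroup.index_eq_one.1 h2

/-- No normal complement to a maximal subgroup `H` when every group of order the index of `H`
has a single Sylow `p`-subgroup and the index is not a power of `p`. -/
theorem no_regular_sylow {G : Type*} [Group G] [Finite G] (H : Subgroup G)
    (hmax : ∀ K : Subgroup G, H ≤ K → K = H ∨ K = ⊤) (p : ℕ) [hp : Fact p.Prime]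
    (hpn : p ∣ H.index) (q : ℕ) (hq : q.Prime) (hqp : q ≠ p) (hqn : q ∣ H.index)
    (huniq : ∀ d, d ∣ H.index → ¬ p ∣ d → d ≡ 1 [MOD p] → d = 1) :
    ∀ N : Subgroup G, N.Normal → N ⊓ H = ⊥ → N ⊔ H = ⊤ → False := by
  intro N hN h1 h2
  have hcN : Nat.card N = H.index := card_of_regular_normal H N hN h1 h2
  obtain ⟨P⟩ : Nonempty (Sylow p ↥N) := inferInstance
  have hnp : Nat.card (Sylow p ↥N) = 1 := by
    apply huniq
    · have h3 : Nat.card (Sylow p ↥N) ∣ (P : Subgroup ↥N).index := P.card_dvd_index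
      have h4 : (P : Subgroup ↥N).index ∣ Nat.card ↥N := Subgroup.index_dvd_card _
      rw [← hcN]
      exact h3.trans h4
    · intro h3
      exact P.not_dvd_index (h3.trans P.card_dvd_index)
    · exact card_sylow_modEq_one p ↥N
  have : Subsingleton (Sylow p ↥N) := (Nat.card_eq_one_iff_unique.1 hnp).1
  have : (P : Subgroup ↥N).Characteristic := Sylow.characteristic_of_subsingleton P
  have := hN
  have hQ : ((P : Subgroup ↥N).map N.subtype).Normal := inferInstance
  have hQN : (P : Subgroup ↥N).map N.subtype ≤ N := by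
    rintro _ ⟨y, -, rfl⟩
    exact y.2
  have hQc : Nat.card ((P : Subgroup ↥N).map N.subtype) = Nat.card (P : Subgroup ↥N) :=
    Subgroup.card_map_of_injective N.subtype_injective
  have hQ1 : (P : Subgroup ↥N).map N.subtype ⊓ H = ⊥ := by
    apply le_bot_iff.1
    rw [← h1]
    exact inf_le_inf_right H hQN
  obtain ⟨m, hm⟩ := IsPGroup.iff_card.1 P.isPGroup'
  rcases hmax ((P : Subgroup ↥N).map N.subtype ⊔ H) le_sup_right with h3 | h3
  · have h4 : (P : Subgroup ↥N).map N.subtype ≤ H := by rw [← h3]; exact le_sup_left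
    have h5 : (P : Subgroup ↥N).map N.subtype = ⊥ := by
      rw [← inf_eq_left.2 h4]
      exact hQ1
    have h6 : Nat.card (P : Subgroup ↥N) = 1 := by
      rw [← hQc, h5]
      exact Subgroup.card_bot
    have h7 : p ∣ Nat.card (P : Subgroup ↥N) := P.dvd_card_of_dvd_card (by rw [hcN]; exact hpn)
    rw [h6] at h7
    exact hp.out.one_lt.ne' (Nat.dvd_one.1 h7)
  · have h4 := card_of_regular_normal H _ hQ hQ1 h3
    rw [hQc, hm] at h4
    have h5 : q ∣ p ^ m := by rw [h4]; exact hqn
    have h6 : q ∣ p := hq.dvd_of_dvd_pow h5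
    exact hqp ((Nat.prime_dvd_prime_iff_eq hq hp.out).1 h6)

/-- No normal complement to `H` when a second maximal subgroup `H'` has index not dividing the
index of `H` and order not divisible by it. -/
theorem no_regular_aux_max {G : Type*} [Group G] [Finite G] (H H' : Subgroup G)
    (hmax' : ∀ K : Subgroup G, H' ≤ K → K = H' ∨ K = ⊤)
    (h1 : ¬ H.index ∣ Nat.card H') (h2 : ¬ H'.index ∣ H.index) :
    ∀ N : Subgroup G, N.Normal → N ⊓ H = ⊥ → N ⊔ H = ⊤ → False := by
  intro N hN hd hs
  have hcN : Nat.card N = H.index := card_of_regular_normal H N hN hd hs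
  rcases hmax' (N ⊔ H') le_sup_right with h3 | h3
  · have h4 : N ≤ H' := by rw [← h3]; exact le_sup_left
    apply h1
    rw [← hcN]
    exact Subgroup.card_dvd_of_le h4
  · apply h2
    rw [← hcN]
    have := hN
    have h5 : N.relIndex (N ⊔ H') = N.relIndex H' := Subgroup.relIndex_sup_left H' N
    rw [h3, Subgroup.relIndex_top_right] at h5
    -- |G| = |N| * [G:N] = |H'| * [G:H'],  |H'| = |N ⊓ H'| * [H' : N ⊓ H']
    have e1 : Nat.card N * N.index = Nat.card G := Subgroup.card_mul_index N
    have e2 : Nat.card H' * H'.index = Nat.card G := Subgroup.card_mul_index H'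
    have e3 : Nat.card (N.subgroupOf H') * (N.subgroupOf H').index = Nat.card H' :=
      Subgroup.card_mul_index _
    have e4 : (N.subgroupOf H').index = N.index := h5.symm
    have hpos : 0 < N.index := Nat.pos_of_ne_zero Subgroup.index_ne_zero_of_finite
    have e5 : Nat.card N * N.index = (Nat.card (N.subgroupOf H') * H'.index) * N.index := by
      rw [e1, ← e2, ← e3, e4]
      ring
    have e6 : Nat.card N = Nat.card (N.subgroupOf H') * H'.index :=
      Nat.eq_of_mul_eq_mul_right hpos e5
    rw [e6]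
    exact dvd_mul_left _ _

/-- No normal complement to `H` when a simple subgroup `M` is too large. -/
theorem no_regular_aux_simple {G : Type*} [Group G] [Finite G] (H M : Subgroup G)
    (hM : IsSimpleGroup ↥M) (h1 : ¬ Nat.card M ∣ H.index)
    (h2 : ¬ (H.index * Nat.card M) ∣ Nat.card G) :
    ∀ N : Subgroup G, N.Normal → N ⊓ H = ⊥ → N ⊔ H = ⊤ → False := by
  intro N hN hd hs
  have hcN : Nat.card N = H.index := card_of_regular_normal H N hN hd hs
  rcases hM.eq_bot_or_eq_top_of_normal (N.subgroupOf M) (hN.subgroupOf M) with h | h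
  · apply h2
    have := hN
    have h5 : N.relIndex (N ⊔ M) = N.relIndex M := Subgroup.relIndex_sup_left M N
    have h6 : N.relIndex M = Nat.card M := by
      unfold Subgroup.relIndex
      rw [h, Subgroup.index_bot]
    have e3 : Nat.card (N.subgroupOf (N ⊔ M)) * (N.subgroupOf (N ⊔ M)).index =
        Nat.card ↥(N ⊔ M) := Subgroup.card_mul_index _
    have e4 : Nat.card (N.subgroupOf (N ⊔ M)) = Nat.card N :=
      Nat.card_congr (Subgroup.subgroupOfEquivOfLe le_sup_left).toEquiv
    have e5 : (N.subgroupOf (N ⊔ M)).index = Nat.card M := by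
      rw [← h6, ← h5]
      rfl
    rw [e4, e5, hcN] at e3
    rw [e3]
    exact Subgroup.card_subgroup_dvd_card _
  · apply h1
    rw [← hcN]
    exact Subgroup.card_dvd_of_le (Subgroup.subgroupOf_eq_top.1 h)

end Cfsg.Agent.Lib.helper9
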