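import Cfsg.Agent.Lib.helper9.M12OutData
import Cfsg.Agent.Lib.helper9.FusCrit

/-!
Subgroups of `Perm GolayPt` given by packed tables of a polycyclic generating sequence:
membership, order, centre, and closure certificates under conjugation.
-/

set_option autoImplicit false
open Cfsg
open scoped Pointwise

namespace Cfsg.Agent.Lib.helper9

/-! ### Tables -/

/-- All entries of a packed table are below `24`. -/
def lt24 (a : ℕ) : Bool := (List.range 24).all fun i => Nat.blt (getN a i) 24

theorem lt24_spec {a : ℕ} (h : lt24 a = true) : ∀ i < 24, getN a i < 24 := by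
  intro i hi
  simp only [lt24, List.all_eq_true, List.mem_range] at h
  have := h i hi
  rwa [Nat.blt_eq] at this

/-- The inverse of a packed table. -/
def invtN (a : ℕ) : ℕ :=
  Nat.rec (motive := fun _ => ℕ) 0 (fun i acc => Nat.add acc (Nat.mul i (Nat.pow 32 (getN a i)))) 24

/-- Validity of a packed table. -/
def okN (a : ℕ) : Bool :=
  lt24 a && lt24 (invtN a) && Nat.beq (compN a (invtN a)) idN && Nat.beq (compN (invtN a) a) idN

theorem okN_spec {a : ℕ} (h : okN a = true) :
    lt24 a = true ∧ lt24 (invtN a) = true ∧ compN a (invtN a) = idN ∧ compN (invtN a) a = idN := by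
  simp only [okN, Bool.and_eq_true] at h
  obtain ⟨⟨⟨h1, h2⟩, h3⟩, h4⟩ := h
  exact ⟨h1, h2, Nat.eq_of_beq_eq_true h3, Nat.eq_of_beq_eq_true h4⟩

theorem tbl_cancel {a a' : ℕ} (h1 : lt24 a = true) (h2 : compN a' a = idN) (p : GolayPt) :
    pt (getN a' (idx (pt (getN a (idx p))))) = p := by
  rw [idx_pt (lt24_spec h1 _ (idx_lt p)), ← getN_compN _ _ _ (idx_lt p), h2,
    idN_ok _ (idx_lt p), pt_idx]

/-- The permutation with a given packed table (the identity if the table is not valid). -/
noncomputable def permN (a : ℕ) : Equiv.Perm GolayPt :=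
  if h : okN a = true then
    { toFun := fun p => pt (getN a (idx p))
      invFun := fun p => pt (getN (invtN a) (idx p))
      left_inv := fun p => tbl_cancel (okN_spec h).1 (okN_spec h).2.2.2 p
      right_inv := fun p => tbl_cancel (okN_spec h).2.1 (okN_spec h).2.2.1 p }
  else 1

theorem permN_table {a : ℕ} (h : okN a = true) : IsTableN (permN a) a := by
  intro p
  have : permN a p = pt (getN a (idx p)) := by
    unfold permN
    rw [dif_pos h]
    rfl
  rw [this, idx_pt (lt24_spec (okN_spec h).1 _ (idx_lt p))]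

theorem isTableN_inv {σ : Equiv.Perm GolayPt} {a : ℕ} (hσ : IsTableN σ a) (h : okN a = true) :
    IsTableN σ⁻¹ (invtN a) := by
  intro p
  obtain ⟨-, h2, h3, -⟩ := okN_spec h
  have hq : σ (pt (getN (invtN a) (idx p))) = p := by
    apply idx_injective
    rw [hσ, idx_pt (lt24_spec h2 _ (idx_lt p)), ← getN_compN _ _ _ (idx_lt p), h3,
      idN_ok _ (idx_lt p)]
  have : σ⁻¹ p = pt (getN (invtN a) (idx p)) := by
    rw [Equiv.Perm.inv_eq_iff_eq, hq]
  rw [this, idx_pt (lt24_spec h2 _ (idx_lt p))]

theorem digSum_congr {f g : ℕ → ℕ} (k : ℕ) (h : ∀ i < k, f i = g i) : digSum f k = digSum g k := by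
  induction k with
  | zero => rfl
  | succ k ih =>
    rw [digSum_succ, digSum_succ, ih (fun i hi => h i (by omega)), h k (by omega)]

theorem digSum_getN (a k : ℕ) : digSum (getN a) k = a % 32 ^ k := by
  induction k with
  | zero => rw [digSum_zero, pow_zero, Nat.mod_one]
  | succ k ih =>
    rw [digSum_succ, ih, Nat.mod_pow_succ, mul_comm]
    rfl

/-- A table of a given permutation below `32 ^ 24` is unique. -/
theorem eq_of_isTableN_lt {σ : Equiv.Perm GolayPt} {a b : ℕ} (ha : IsTableN σ a)
    (hb : IsTableN σ b) (ha' : a < 32 ^ 24) (hb' : b < 32 ^ 24) : a = b := by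
  have h1 : ∀ i < 24, getN a i = getN b i := by
    intro i hi
    have h2 := ha (pt i)
    have h3 := hb (pt i)
    rw [idx_pt hi] at h2 h3
    rw [← h2, ← h3]
  have h4 := digSum_congr 24 h1
  rwa [digSum_getN, digSum_getN, Nat.mod_eq_of_lt ha', Nat.mod_eq_of_lt hb'] at h4

theorem compN_lt (a b : ℕ) : compN a b < 32 ^ 24 := digSum_lt _ (fun _ => getN_lt _ _) 24

theorem idN_lt : idN < 32 ^ 24 := by decide +kernel

/-! ### Boolean list functions -/

/-- Membership in a list of numbers. -/
def memB (n : ℕ) : List ℕ → Bool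
  | [] => false
  | a :: l => Nat.beq n a || memB n l

theorem memB_iff {n : ℕ} {l : List ℕ} : memB n l = true ↔ n ∈ l := by
  induction l with
  | nil => simp [memB]
  | cons a l ih =>
    rw [memB, Bool.or_eq_true, ih, List.mem_cons, Nat.beq_eq]

/-- No repetition in a list of numbers. -/
def nodupB : List ℕ → Bool
  | [] => true
  | a :: l => !memB a l && nodupB l

theorem nodupB_spec {l : List ℕ} (h : nodupB l = true) : l.Nodup := by
  induction l with
  | nil => exact List.nodup_nil
  | cons a l ih =>
    rw [nodupB, Bool.and_eq_true, Bool.not_eq_true'] at h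
    refine List.nodup_cons.2 ⟨fun hm => ?_, ih h.2⟩
    rw [memB_iff.2 hm] at h
    exact absurd h.1 (by decide)

/-! ### The group of a polycyclic sequence -/

/-- The elements `x₁^{e₁} ⋯ x_k^{e_k}` for the sequence `[x_k, …, x₁]`. -/
def expand : List ℕ → List ℕ
  | [] => [idN]
  | x :: xs => expand xs ++ (expand xs).map fun a => compN a x

theorem expand_length (xs : List ℕ) : (expand xs).length = 2 ^ xs.length := by
  induction xs with
  | nil => rfl
  | cons x xs ih =>
    rw [expand, List.length_append, List.length_map, ih, List.length_cons, pow_succ]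
    ring

theorem expand_lt (xs : List ℕ) : ∀ n ∈ expand xs, n < 32 ^ 24 := by
  induction xs with
  | nil =>
    intro n hn
    rw [expand, List.mem_singleton] at hn
    rw [hn]; exact idN_lt
  | cons x xs ih =>
    intro n hn
    rw [expand, List.mem_append, List.mem_map] at hn
    rcases hn with hn | ⟨a, -, rfl⟩
    · exact ih n hn
    · exact compN_lt _ _

/-- The group generated by the permutations with tables in `xs`. -/
noncomputable def grpN (xs : List ℕ) : Subgroup (Equiv.Perm GolayPt) :=
  Subgroup.closure {σ | ∃ a ∈ xs, σ = permN a}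

theorem permN_mem_grpN {xs : List ℕ} {a : ℕ} (h : a ∈ xs) : permN a ∈ grpN xs :=
  Subgroup.subset_closure ⟨a, h, rfl⟩

theorem grpN_cons_le (x : ℕ) (xs : List ℕ) : grpN xs ≤ grpN (x :: xs) := by
  apply Subgroup.closure_mono
  rintro σ ⟨a, ha, rfl⟩
  exact ⟨a, List.mem_cons_of_mem _ ha, rfl⟩

/-- The polycyclic check: each `x` squares into, and conjugates the later generators into, the
group of the later generators. -/
def pcChk : List ℕ → Bool
  | [] => true
  | x :: xs => okN x && memB (compN x x) (expand xs) &&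
      (xs.all fun y => memB (compN x (compN y (invtN x))) (expand xs)) && pcChk xs

theorem pcChk_ok : ∀ {xs : List ℕ}, pcChk xs = true → ∀ a ∈ xs, okN a = true := by
  intro xs
  induction xs with
  | nil => intro _ a ha; exact absurd ha (List.not_mem_nil)
  | cons x xs ih =>
    intro h a ha
    simp only [pcChk, Bool.and_eq_true] at h
    rcases List.mem_cons.1 ha with rfl | ha
    · exact h.1.1.1
    · exact ih h.2 a ha

/-- Every table of the expansion is the table of an element of the group. -/
theorem expand_realize : ∀ {xs : List ℕ}, (∀ a ∈ xs, okN a = true) →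
    ∀ n ∈ expand xs, ∃ τ ∈ grpN xs, IsTableN τ n := by
  intro xs
  induction xs with
  | nil =>
    intro _ n hn
    rw [expand, List.mem_singleton] at hn
    subst hn
    exact ⟨1, one_mem _, isTableN_one⟩
  | cons x xs ih =>
    intro h n hn
    have IH := ih (fun a ha => h a (List.mem_cons_of_mem _ ha))
    rw [expand, List.mem_append, List.mem_map] at hn
    rcases hn with hn | ⟨a, ha, rfl⟩
    · obtain ⟨τ, hτ, ht⟩ := IH n hn
      exact ⟨τ, grpN_cons_le x xs hτ, ht⟩
    · obtain ⟨τ, hτ, ht⟩ := IH a ha
      exact ⟨τ * permN x, mul_mem (grpN_cons_le x xs hτ) (permN_mem_grpN List.mem_cons_self),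
        isTableN_mul ht (permN_table (h x List.mem_cons_self))⟩

theorem mem_grpN_iff : ∀ {xs : List ℕ}, pcChk xs = true →
    ∀ σ : Equiv.Perm GolayPt, σ ∈ grpN xs ↔ ∃ n ∈ expand xs, IsTableN σ n := by
  intro xs
  induction xs with
  | nil =>
    intro _ σ
    have h0 : grpN [] = ⊥ := by
      rw [grpN, Subgroup.closure_eq_bot_iff]
      rintro σ ⟨a, ha, -⟩
      exact absurd ha (List.not_mem_nil)
    rw [h0, Subgroup.mem_bot]
    constructor
    · rintro rfl
      exact ⟨idN, List.mem_singleton.2 rfl, isTableN_one⟩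
    · rintro ⟨n, hn, ht⟩
      rw [expand, List.mem_singleton] at hn
      subst hn
      exact eq_of_isTableN ht isTableN_one
  | cons x xs ih =>
    intro h σ
    simp only [pcChk, Bool.and_eq_true, List.all_eq_true] at h
    obtain ⟨⟨⟨hx, hsq⟩, hcj⟩, hxs⟩ := h
    have IH := ih hxs
    have hξ := permN_table hx
    have hξi := isTableN_inv hξ hx
    have hξm : permN x ∈ grpN (x :: xs) := permN_mem_grpN (List.mem_cons_self)
    -- the square
    have hsqH : permN x * permN x ∈ grpN xs :=
      (IH _).2 ⟨_, memB_iff.1 hsq, isTableN_mul hξ hξ⟩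
    -- conjugation maps the group into itself
    have hcjH : ∀ τ ∈ grpN xs, permN x * τ * (permN x)⁻¹ ∈ grpN xs := by
      intro τ hτ
      induction hτ using Subgroup.closure_induction with
      | mem τ hτ =>
        obtain ⟨a, ha, rfl⟩ := hτ
        have hta := permN_table (pcChk_ok hxs a ha)
        refine (IH (permN x * permN a * (permN x)⁻¹)).2 ⟨_, memB_iff.1 (hcj a ha), ?_⟩
        have h1 := isTableN_mul hξ (isTableN_mul hta hξi)
        rwa [← mul_assoc] at h1
      | one =>
        have : permN x * 1 * (permN x)⁻¹ = 1 := by group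
        rw [this]; exact one_mem _
      | mul a b _ _ iha ihb =>
        have : permN x * (a * b) * (permN x)⁻¹ =
            (permN x * a * (permN x)⁻¹) * (permN x * b * (permN x)⁻¹) := by group
        rw [this]; exact mul_mem iha ihb
      | inv a _ iha =>
        have : permN x * a⁻¹ * (permN x)⁻¹ = (permN x * a * (permN x)⁻¹)⁻¹ := by group
        rw [this]; exact inv_mem iha
    constructor
    · intro hσ
      have key : σ ∈ grpN xs ∨ σ * (permN x)⁻¹ ∈ grpN xs := by
        induction hσ using Subgroup.closure_induction_right with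
        | one => exact Or.inl (one_mem _)
        | mul_right τ hτ y hy ihτ =>
          obtain ⟨a, ha, rfl⟩ := hy
          rcases List.mem_cons.1 ha with rfl | ha
          · rcases ihτ with h1 | h1
            · right
              rw [mul_inv_cancel_right]; exact h1
            · left
              have : τ * permN a = τ * (permN a)⁻¹ * (permN a * permN a) := by group
              rw [this]; exact mul_mem h1 hsqH
          · have hy' : permN a ∈ grpN xs := permN_mem_grpN ha
            rcases ihτ with h1 | h1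
            · exact Or.inl (mul_mem h1 hy')
            · right
              have : τ * permN a * (permN x)⁻¹ =
                  τ * (permN x)⁻¹ * (permN x * permN a * (permN x)⁻¹) := by group
              rw [this]; exact mul_mem h1 (hcjH _ hy')
        | mul_inv_cancel τ hτ y hy ihτ =>
          obtain ⟨a, ha, rfl⟩ := hy
          rcases List.mem_cons.1 ha with rfl | ha
          · rcases ihτ with h1 | h1
            · right
              have : τ * (permN a)⁻¹ * (permN a)⁻¹ = τ * (permN a * permN a)⁻¹ := by group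
              rw [this]; exact mul_mem h1 (inv_mem hsqH)
            · exact Or.inl h1
          · have hy' : permN a ∈ grpN xs := permN_mem_grpN ha
            rcases ihτ with h1 | h1
            · exact Or.inl (mul_mem h1 (inv_mem hy'))
            · right
              have : τ * (permN a)⁻¹ * (permN x)⁻¹ =
                  τ * (permN x)⁻¹ * (permN x * (permN a)⁻¹ * (permN x)⁻¹) := by group
              rw [this]; exact mul_mem h1 (hcjH _ (inv_mem hy'))
      rcases key with h1 | h1
      · obtain ⟨n, hn, ht⟩ := (IH σ).1 h1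
        exact ⟨n, by rw [expand]; exact List.mem_append_left _ hn, ht⟩
      · obtain ⟨n, hn, ht⟩ := (IH _).1 h1
        refine ⟨compN n x, by rw [expand]; exact List.mem_append_right _ (List.mem_map.2 ⟨n, hn, rfl⟩), ?_⟩
        have := isTableN_mul ht hξ
        rwa [inv_mul_cancel_right] at this
    · rintro ⟨n, hn, ht⟩
      rw [expand, List.mem_append, List.mem_map] at hn
      rcases hn with hn | ⟨a, ha, rfl⟩
      · exact grpN_cons_le x xs ((IH σ).2 ⟨n, hn, ht⟩)
      · obtain ⟨τ, hτ, hτt⟩ := expand_realize (pcChk_ok hxs) a ha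
        have : σ = τ * permN x := eq_of_isTableN ht (isTableN_mul hτt hξ)
        rw [this]
        exact mul_mem (grpN_cons_le x xs hτ) hξm

/-- The order of the group of a polycyclic sequence. -/
theorem card_grpN {xs : List ℕ} (h : pcChk xs = true) (hnd : nodupB (expand xs) = true) :
    Nat.card (grpN xs) = 2 ^ xs.length := by
  classical
  have hmem := mem_grpN_iff h
  have hex : ∀ σ : grpN xs, ∃ n ∈ expand xs, IsTableN (σ : Equiv.Perm GolayPt) n :=
    fun σ => (hmem σ).1 σ.2
  choose f hf1 hf2 using hex
  let F : grpN xs → (expand xs).toFinset := fun σ => ⟨f σ, List.mem_toFinset.2 (hf1 σ)⟩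
  have hinj : Function.Injective F := by
    intro σ τ hστ
    have h1 : f σ = f τ := congrArg Subtype.val hστ
    apply Subtype.ext
    have := hf2 τ
    rw [← h1] at this
    exact eq_of_isTableN (hf2 σ) this
  have hsurj : Function.Surjective F := by
    rintro ⟨n, hn⟩
    rw [List.mem_toFinset] at hn
    obtain ⟨τ, hτ, ht⟩ := expand_realize (pcChk_ok h) n hn
    refine ⟨⟨τ, hτ⟩, Subtype.ext ?_⟩
    show f ⟨τ, hτ⟩ = n
    exact eq_of_isTableN_lt (hf2 ⟨τ, hτ⟩) ht (expand_lt xs _ (hf1 _)) (expand_lt xs _ hn)
  rw [Nat.card_congr (Equiv.ofBijective F ⟨hinj, hsurj⟩), Nat.card_eq_fintype_card,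
    Fintype.card_coe, List.toFinset_card_of_nodup (nodupB_spec hnd), expand_length]

/-! ### The centre -/

/-- Every element of the expansion other than the identity and `z` fails to commute with a
generator. -/
def centChk (xs : List ℕ) (z : ℕ) : Bool :=
  (expand xs).all fun n => Nat.beq n idN || Nat.beq n z ||
    xs.any fun x => !Nat.beq (compN n x) (compN x n)

theorem central_table {xs : List ℕ} {z : ℕ} (h : pcChk xs = true) (hc : centChk xs z = true)
    (σ : Equiv.Perm GolayPt) (hσ : σ ∈ grpN xs) (h1 : σ ≠ 1)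
    (hcomm : ∀ s ∈ grpN xs, s * σ = σ * s) : IsTableN σ z := by
  obtain ⟨n, hn, ht⟩ := (mem_grpN_iff h σ).1 hσ
  simp only [centChk, List.all_eq_true, Bool.or_eq_true, List.any_eq_true, Bool.not_eq_true',
    Nat.beq_eq] at hc
  rcases hc n hn with (h2 | h2) | ⟨x, hx, h2⟩
  · subst h2; exact absurd (eq_of_isTableN ht isTableN_one) h1
  · subst h2; exact ht
  · exfalso
    have hx' := permN_table (pcChk_ok h x hx)
    have h3 := hcomm _ (permN_mem_grpN hx)
    have h4 : compN n x = compN x n :=
      eq_of_isTableN_lt (h3 ▸ isTableN_mul ht hx') (isTableN_mul hx' ht) (compN_lt _ _)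
        (compN_lt _ _)
    rw [h4, Nat.beq_refl] at h2
    exact absurd h2 (by decide)

/-! ### Closure certificates -/

/-- The table of a conjugate. -/
def cjN (g t : ℕ) : ℕ := compN g (compN t (invtN g))

/-- Run a closure derivation on the list `kn` of known tables: a step `(0, t, g)` adds the
conjugate of the known `t` by `g` (if it lies in `L`), a step `(_, t, u)` adds the product of the
known `t` and `u`. -/
def fusRun (gchk : ℕ → Bool) (L : List ℕ) : List (ℕ × ℕ × ℕ) → List ℕ → List ℕ
  | [], kn => kn
  | (c, t, g) :: rest, kn =>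
    fusRun gchk L rest
      (if Nat.beq c 0 = true then
        (if (memB t kn && okN g && gchk g && memB (cjN g t) L) = true then cjN g t :: kn else kn)
       else (if (memB t kn && memB g kn) = true then compN t g :: kn else kn))

theorem fusRun_sound (G T : Subgroup (Equiv.Perm GolayPt)) (xs : List ℕ) (hpc : pcChk xs = true)
    (gchk : ℕ → Bool) (hg : ∀ g, okN g = true → gchk g = true → permN g ∈ G)
    (hT : ∀ t ∈ T, ∀ g ∈ G, g * t * g⁻¹ ∈ grpN xs → g * t * g⁻¹ ∈ T) :
    ∀ (steps : List (ℕ × ℕ × ℕ)) (kn : List ℕ), (∀ n ∈ kn, ∃ σ ∈ T, IsTableN σ n) →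
      ∀ n ∈ fusRun gchk (expand xs) steps kn, ∃ σ ∈ T, IsTableN σ n := by
  intro steps
  induction steps with
  | nil => intro kn h; exact h
  | cons s rest ih =>
    obtain ⟨c, t, g⟩ := s
    intro kn h
    rw [fusRun]
    apply ih
    intro n hn
    by_cases hc : Nat.beq c 0 = true
    · rw [if_pos hc] at hn
      by_cases h2 : (memB t kn && okN g && gchk g && memB (cjN g t) (expand xs)) = true
      · rw [if_pos h2] at hn
        simp only [Bool.and_eq_true] at h2
        obtain ⟨⟨⟨h2a, h2b⟩, h2c⟩, h2d⟩ := h2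
        rcases List.mem_cons.1 hn with rfl | hn
        · obtain ⟨σ, hσ, ht⟩ := h t (memB_iff.1 h2a)
          have hγ := permN_table h2b
          have hγi := isTableN_inv hγ h2b
          have htab : IsTableN (permN g * σ * (permN g)⁻¹) (cjN g t) := by
            have := isTableN_mul hγ (isTableN_mul ht hγi)
            rwa [← mul_assoc] at this
          refine ⟨_, hT σ hσ _ (hg g h2b h2c) ?_, htab⟩
          exact (mem_grpN_iff hpc _).2 ⟨_, memB_iff.1 h2d, htab⟩
        · exact h n hn
      · rw [if_neg h2] at hn; exact h n hn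
    · rw [if_neg hc] at hn
      by_cases h2 : (memB t kn && memB g kn) = true
      · rw [if_pos h2] at hn
        simp only [Bool.and_eq_true] at h2
        rcases List.mem_cons.1 hn with rfl | hn
        · obtain ⟨σ, hσ, ht⟩ := h t (memB_iff.1 h2.1)
          obtain ⟨τ, hτ, ht'⟩ := h g (memB_iff.1 h2.2)
          exact ⟨σ * τ, mul_mem hσ hτ, isTableN_mul ht ht'⟩
        · exact h n hn
      · rw [if_neg h2] at hn; exact h n hn

/-- No proper nontrivial subgroup closed under conjugation, from a centre check and a closure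
derivation starting from the central element. -/
theorem sc_of_fus (G : Subgroup (Equiv.Perm GolayPt)) (xs : List ℕ) (z : ℕ)
    (hpc : pcChk xs = true) (hnd : nodupB (expand xs) = true) (hcent : centChk xs z = true)
    (gchk : ℕ → Bool) (hg : ∀ g, okN g = true → gchk g = true → permN g ∈ G)
    (hle : grpN xs ≤ G) (steps : List (ℕ × ℕ × ℕ))
    (hfin : (xs.all fun x => memB x (fusRun gchk (expand xs) steps [z])) = true)
    (T : Subgroup (Equiv.Perm GolayPt)) (hT : T ≤ grpN xs) (hne : T ≠ ⊥)
    (hcl : ∀ t ∈ T, ∀ g ∈ G, g * t * g⁻¹ ∈ grpN xs → g * t * g⁻¹ ∈ T) : T = grpN xs := by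
  have hcard := card_grpN hpc hnd
  have : Finite (grpN xs) := Nat.finite_of_card_ne_zero (by rw [hcard]; positivity)
  obtain ⟨ζ, hζT, hζ1, hζc⟩ := exists_central_mem (grpN xs) T xs.length hcard hT hne
    (fun t ht s hs => hcl t ht s (hle hs) (mul_mem (mul_mem hs (hT ht)) (inv_mem hs)))
  have hζz : IsTableN ζ z := central_table hpc hcent ζ (hT hζT) hζ1 hζc
  have key := fusRun_sound G T xs hpc gchk hg hcl steps [z] (by
    intro n hn
    rw [List.mem_singleton] at hn
    subst hn
    exact ⟨ζ, hζT, hζz⟩)
  apply le_antisymm hT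
  rw [grpN, Subgroup.closure_le]
  rintro σ ⟨a, ha, rfl⟩
  rw [List.all_eq_true] at hfin
  obtain ⟨τ, hτ, ht⟩ := key a (memB_iff.1 (hfin a ha))
  have : permN a = τ := eq_of_isTableN (permN_table (pcChk_ok hpc a ha)) ht
  rw [this]; exact hτ

/-! ### Membership in `M24` -/

/-- Table check of membership in `M24`, for packed tables. -/
def m24N (n : ℕ) : Bool := chkTbl ((List.range 24).map (getN n))

theorem mem_M24_of_m24N {σ : Equiv.Perm GolayPt} {n : ℕ} (ht : IsTableN σ n)
    (h : m24N n = true) : σ ∈ M24 := by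
  refine mem_M24_of_table σ _ (fun p => ?_) h
  rw [ht]
  have := idx_lt p
  simp [List.getD, this]

/-! ### Normalising elements -/

theorem apply_pt_tbl {g : Equiv.Perm GolayPt} {T : ℕ} (h : IsTableN g T) {i : ℕ} (hi : i < 24) :
    g (pt i) = pt (getN T i) := by
  have h1 := h (pt i)
  rw [idx_pt hi] at h1
  rw [← h1, pt_idx]

theorem getN_eq_of_fix {g : Equiv.Perm GolayPt} {T : ℕ} (h : IsTableN g T) {i : ℕ} (hi : i < 24)
    (hfix : g (pt i) = pt i) : getN T i = i := by
  have h1 := h (pt i)
  rw [hfix, idx_pt hi] at h1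
  exact h1.symm

/-- `g` lies in `G`, normalises `S`, and fixes the points with indices in `P`. -/
def NF (G S : Subgroup (Equiv.Perm GolayPt)) (P : List ℕ) (g : Equiv.Perm GolayPt) : Prop :=
  g ∈ G ∧ (∀ x ∈ S, g * x * g⁻¹ ∈ S) ∧ ∀ i ∈ P, g (pt i) = pt i

/-- `x` is fixed by the `e`-th powers of the elements of `S` fixing the points of `P`. -/
def WFix (S : Subgroup (Equiv.Perm GolayPt)) (P : List ℕ) (e : ℕ) (x : GolayPt) : Prop :=
  ∀ k ∈ S, (∀ i ∈ P, k (pt i) = pt i) → (k ^ e) x = x

theorem wfix_image (S : Subgroup (Equiv.Perm GolayPt)) [Finite S] (g : Equiv.Perm GolayPt)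
    (hn : ∀ x ∈ S, g * x * g⁻¹ ∈ S) (P : List ℕ) (e : ℕ) (hP : ∀ i ∈ P, g (pt i) = pt i)
    (x : GolayPt) (hx : WFix S P e x) : WFix S P e (g x) := by
  intro k hk hkP
  have hk' := conj_inv_mem_of_conj_mem S g hn k hk
  have hfix : ∀ i ∈ P, (g⁻¹ * k * g) (pt i) = pt i := by
    intro i hi
    show g⁻¹ (k (g (pt i))) = pt i
    rw [hP i hi, hkP i hi, Equiv.Perm.inv_eq_iff_eq, hP i hi]
  have h1 := hx _ hk' hfix
  have h2 : k ^ e = g * (g⁻¹ * k * g) ^ e * g⁻¹ := by
    rw [← conj_pow]; congr 1; group
  rw [h2]
  show g (((g⁻¹ * k * g) ^ e) (g⁻¹ (g x))) = g x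
  rw [show g⁻¹ (g x) = x from g.symm_apply_apply x, h1]

/-- The table `n` fixes the indices of `P`. -/
def fixesP (P : List ℕ) (n : ℕ) : Bool := P.all fun i => Nat.beq (getN n i) i

/-- The table `q` fixes the indices of the mask `m`. -/
def fixMaskB (q m : ℕ) : Bool :=
  (List.range 24).all fun x => !m.testBit x || Nat.beq (getN q x) x

theorem fixesP_of {g : Equiv.Perm GolayPt} {n : ℕ} (ht : IsTableN g n) {P : List ℕ}
    (hP24 : ∀ i ∈ P, i < 24) (h : ∀ i ∈ P, g (pt i) = pt i) : fixesP P n = true := by
  simp only [fixesP, List.all_eq_true, Nat.beq_eq]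
  intro i hi
  exact getN_eq_of_fix ht (hP24 i hi) (h i hi)

theorem of_fixesP {g : Equiv.Perm GolayPt} {n : ℕ} (ht : IsTableN g n) {P : List ℕ}
    (hP24 : ∀ i ∈ P, i < 24) (h : fixesP P n = true) : ∀ i ∈ P, g (pt i) = pt i := by
  simp only [fixesP, List.all_eq_true, Nat.beq_eq] at h
  intro i hi
  rw [apply_pt_tbl ht (hP24 i hi), h i hi]

/-- Check that `m` is the mask of the points fixed by the `e`-th powers of the elements of `L`
fixing `P`; the tables `ws` witness that the other points are moved. -/
def wfixChk (L P : List ℕ) (e m : ℕ) (ws : List ℕ) : Bool :=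
  (P.all fun i => Nat.blt i 24) &&
  (L.all fun n => !fixesP P n || fixMaskB (powN n e) m) &&
  (ws.all fun n => memB n L && fixesP P n) &&
  ((List.range 24).all fun x => m.testBit x || ws.any fun n => !Nat.beq (getN (powN n e) x) x)

theorem invMask_of_wfixChk {G : Subgroup (Equiv.Perm GolayPt)} {xs : List ℕ}
    (hpc : pcChk xs = true) (hnd : nodupB (expand xs) = true) {P : List ℕ} {e m : ℕ}
    {ws : List ℕ} (h : wfixChk (expand xs) P e m ws = true) {g : Equiv.Perm GolayPt}
    (hg : NF G (grpN xs) P g) : InvMask g m := by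
  have hcard := card_grpN hpc hnd
  have : Finite (grpN xs) := Nat.finite_of_card_ne_zero (by rw [hcard]; positivity)
  simp only [wfixChk, Bool.and_eq_true, List.all_eq_true, Bool.or_eq_true, Bool.not_eq_true',
    List.any_eq_true, List.mem_range, Nat.blt_eq] at h
  obtain ⟨⟨⟨hP24, hall⟩, hws⟩, hmv⟩ := h
  have key : ∀ p : GolayPt, m.testBit (idx p) = true ↔ WFix (grpN xs) P e p := by
    intro p
    constructor
    · intro hp k hk hkP
      obtain ⟨n, hn, ht⟩ := (mem_grpN_iff hpc k).1 hk
      have h1 := hall n hn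
      rw [fixesP_of ht hP24 hkP] at h1
      have h2 : fixMaskB (powN n e) m = true := by
        rcases h1 with h1 | h1
        · exact absurd h1 (by decide)
        · exact h1
      simp only [fixMaskB, List.all_eq_true, Bool.or_eq_true, Bool.not_eq_true',
        List.mem_range, Nat.beq_eq] at h2
      have h3 := h2 (idx p) (idx_lt p)
      rw [hp] at h3
      have h4 : getN (powN n e) (idx p) = idx p := by
        rcases h3 with h3 | h3
        · exact absurd h3 (by decide)
        · exact h3
      apply idx_injective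
      rw [isTableN_pow ht e p, h4]
    · intro hw
      by_contra hp
      rw [Bool.not_eq_true] at hp
      rcases hmv (idx p) (idx_lt p) with h1 | ⟨n, hn, h1⟩
      · rw [hp] at h1; exact absurd h1 (by decide)
      · obtain ⟨hnL, hnP⟩ := hws n hn
        obtain ⟨τ, hτ, ht⟩ := expand_realize (pcChk_ok hpc) n (memB_iff.1 hnL)
        have h2 := hw τ hτ (of_fixesP ht hP24 hnP)
        have h3 := isTableN_pow ht e p
        rw [h2] at h3
        rw [← h3, Nat.beq_refl] at h1
        exact absurd h1 (by decide)
  obtain ⟨-, hgn, hgP⟩ := hg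
  intro p
  rw [Bool.eq_iff_iff, key, key]
  constructor
  · intro hw
    have hn' : ∀ x ∈ grpN xs, g⁻¹ * x * g⁻¹⁻¹ ∈ grpN xs := by
      intro x hx
      rw [inv_inv]
      exact conj_inv_mem_of_conj_mem (grpN xs) g hgn x hx
    have hP' : ∀ i ∈ P, g⁻¹ (pt i) = pt i := by
      intro i hi
      rw [Equiv.Perm.inv_eq_iff_eq, hgP i hi]
    have := wfix_image (grpN xs) g⁻¹ hn' P e hP' (g p) hw
    rwa [show g⁻¹ (g p) = p from g.symm_apply_apply p] at this
  · exact wfix_image (grpN xs) g hgn P e hgP p

/-- Check that the elements of `L` fixing `P` (witnesses `ws`) map every point of `m` to `x0`. -/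
def transChk (L P : List ℕ) (m x0 : ℕ) (ws : List ℕ) : Bool :=
  Nat.blt x0 24 && m.testBit x0 && (P.all fun i => Nat.blt i 24) &&
  (ws.all fun n => memB n L && fixesP P n) &&
  ((List.range 24).all fun y => !m.testBit y || ws.any fun n => Nat.beq (getN n y) x0)

/-- Reduction: if the normalising elements fixing `P` preserve a set on which the elements of
`S` fixing `P` are transitive, it suffices to treat those fixing one more point. -/
theorem nf_reduce {G : Subgroup (Equiv.Perm GolayPt)} {xs : List ℕ} (hpc : pcChk xs = true)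
    (hle : grpN xs ≤ G) {P : List ℕ} {x0 m : ℕ} {ws : List ℕ}
    (hchk : transChk (expand xs) P m x0 ws = true)
    (hinv : ∀ g, NF G (grpN xs) P g → InvMask g m)
    (hnext : ∀ g, NF G (grpN xs) (x0 :: P) g → g ∈ grpN xs) :
    ∀ g, NF G (grpN xs) P g → g ∈ grpN xs := by
  intro g hg
  simp only [transChk, Bool.and_eq_true, List.all_eq_true, Bool.or_eq_true, Bool.not_eq_true',
    List.any_eq_true, List.mem_range, Nat.blt_eq, Nat.beq_eq] at hchk
  obtain ⟨⟨⟨⟨hx0, hbit⟩, hP24⟩, hws⟩, htr⟩ := hchk
  have hy := hinv g hg (pt x0)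
  rw [idx_pt hx0, hbit] at hy
  obtain ⟨hgG, hgn, hgP⟩ := hg
  rcases htr _ (idx_lt (g (pt x0))) with h1 | ⟨n, hn, hny⟩
  · rw [hy] at h1; exact absurd h1 (by decide)
  · obtain ⟨hnL, hnP⟩ := hws n hn
    obtain ⟨s, hs, hst⟩ := expand_realize (pcChk_ok hpc) n (memB_iff.1 hnL)
    have hsP := of_fixesP hst hP24 hnP
    have hsg : (s * g) (pt x0) = pt x0 := by
      show s (g (pt x0)) = pt x0
      rw [← pt_idx (g (pt x0)), apply_pt_tbl hst (idx_lt _), hny]
    have h2 := hnext (s * g) ⟨mul_mem (hle hs) hgG, fun x hx => by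
      have : s * g * x * (s * g)⁻¹ = s * (g * x * g⁻¹) * s⁻¹ := by group
      rw [this]
      exact mul_mem (mul_mem hs (hgn x hx)) (inv_mem hs), fun i hi => by
      rcases List.mem_cons.1 hi with rfl | hi
      · exact hsg
      · show s (g (pt i)) = pt i
        rw [hgP i hi, hsP i hi]⟩
    have h3 : g = s⁻¹ * (s * g) := by group
    rw [h3]; exact mul_mem (inv_mem hs) h2

/-- Reduction: a point fixed by all normalising elements fixing `P` may be added to `P`. -/
theorem nf_free {G S : Subgroup (Equiv.Perm GolayPt)} {P : List ℕ} {x0 : ℕ}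
    (h : ∀ g, NF G S P g → g (pt x0) = pt x0)
    (hnext : ∀ g, NF G S (x0 :: P) g → g ∈ S) : ∀ g, NF G S P g → g ∈ S := by
  intro g hg
  refine hnext g ⟨hg.1, hg.2.1, fun i hi => ?_⟩
  rcases List.mem_cons.1 hi with rfl | hi
  · exact h g hg
  · exact hg.2.2 i hi

/-! ### Invariant masks -/

theorem invMask_and {g : Equiv.Perm GolayPt} {a b : ℕ} (ha : InvMask g a) (hb : InvMask g b) :
    InvMask g (a &&& b) := fun p => by
  rw [Nat.testBit_and, Nat.testBit_and, ha p, hb p]

theorem invMask_xor {g : Equiv.Perm GolayPt} {a b : ℕ} (ha : InvMask g a) (hb : InvMask g b) :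
    InvMask g (a ^^^ b) := fun p => by
  rw [Nat.testBit_xor, Nat.testBit_xor, ha p, hb p]

theorem invMask_or {g : Equiv.Perm GolayPt} {a b : ℕ} (ha : InvMask g a) (hb : InvMask g b) :
    InvMask g (a ||| b) := fun p => by
  rw [Nat.testBit_or, Nat.testBit_or, ha p, hb p]

theorem fix_of_invMask {g : Equiv.Perm GolayPt} {i : ℕ} (hi : i < 24) (h : InvMask g (2 ^ i)) :
    g (pt i) = pt i := by
  have h1 := h (pt i)
  rw [idx_pt hi, Nat.testBit_two_pow_self, Nat.testBit_two_pow, decide_eq_true_eq] at h1
  apply idx_injective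
  rw [idx_pt hi]
  exact h1.symm

theorem invMask_of_fix {g : Equiv.Perm GolayPt} {i : ℕ} (h : g (pt i) = pt i) :
    InvMask g (2 ^ i) := by
  intro p
  rw [Nat.testBit_two_pow, Nat.testBit_two_pow]
  by_cases hp : p = pt i
  · subst hp; rw [h]
  · have h1 : i ≠ idx p := fun e => hp (by rw [e, pt_idx])
    have h2 : i ≠ idx (g p) := fun e => hp (by
      have : g p = pt i := by rw [e, pt_idx]
      exact g.injective (this.trans h.symm))
    simp [h1, h2]

end Cfsg.Agent.Lib.helper9
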