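import Mathlib

set_option autoImplicit false

namespace Cfsg.Agent.Lib.helper16.U34C

/-- PIECE M (pure word computation; used by A4b) -/
theorem sq_eq_of_prod {H : Type*} [Group H] (u0 u1 u2 u3 u4 a b s : H)
    (ha : ∀ g : H, Commute a g) (hb : ∀ g : H, Commute b g) (hs : ∀ g : H, Commute s g)
    (ha2 : a ^ 2 = 1) (hb2 : b ^ 2 = 1) (hs2 : s ^ 2 = 1)
    (h0 : u0 ^ 2 = s) (h1 : u1 ^ 2 = s) (h2 : u2 ^ 2 = s) (h3 : u3 ^ 2 = s) (h4 : u4 ^ 2 = s)
    (c01 : u1 * u0 = u0 * u1 * a) (c02 : u2 * u0 = u0 * u2 * b) (c03 : u3 * u0 = u0 * u3 * b)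
    (c12 : u2 * u1 = u1 * u2 * a) (c13 : u3 * u1 = u1 * u3 * b) (c23 : u3 * u2 = u2 * u3 * a)
    (hprod : u0 * u1 * u2 * u3 * u4 = 1) : s = a * b := by
  have hA : u2 * u3 * (u2 * u3) = a := by
    calc u2 * u3 * (u2 * u3) = u2 * (u3 * u2) * u3 := by simp only [mul_assoc]
      _ = u2 * (u2 * u3 * a) * u3 := by rw [c23]
      _ = (u2 * u2) * u3 * (a * u3) := by simp only [mul_assoc]
      _ = (u2 * u2) * u3 * (u3 * a) := by rw [(ha u3).eq]
      _ = (u2 * u2) * (u3 * u3) * a := by simp only [mul_assoc]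
      _ = a := by rw [← sq u2, ← sq u3, h2, h3, ← sq, hs2, one_mul]
  have hB : u1 * u2 * u3 * (u1 * u2 * u3) = s * b := by
    calc u1 * u2 * u3 * (u1 * u2 * u3) = u1 * u2 * (u3 * u1) * u2 * u3 := by simp only [mul_assoc]
      _ = u1 * u2 * (u1 * u3 * b) * u2 * u3 := by rw [c13]
      _ = u1 * (u2 * u1) * u3 * (b * (u2 * u3)) := by simp only [mul_assoc]
      _ = u1 * (u1 * u2 * a) * u3 * ((u2 * u3) * b) := by rw [c12, (hb (u2 * u3)).eq]
      _ = (u1 * u1) * u2 * (a * u3) * (u2 * u3) * b := by simp only [mul_assoc]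
      _ = (u1 * u1) * u2 * (u3 * a) * (u2 * u3) * b := by rw [(ha u3).eq]
      _ = (u1 * u1) * u2 * u3 * (a * (u2 * u3)) * b := by simp only [mul_assoc]
      _ = (u1 * u1) * u2 * u3 * ((u2 * u3) * a) * b := by rw [(ha (u2 * u3)).eq]
      _ = (u1 * u1) * (u2 * u3 * (u2 * u3)) * a * b := by simp only [mul_assoc]
      _ = s * b := by rw [← sq u1, h1, hA, mul_assoc s a a, ← sq, ha2, mul_one]
  have hC : u0 * u1 * u2 * u3 * (u0 * u1 * u2 * u3) = a * b := by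
    calc u0 * u1 * u2 * u3 * (u0 * u1 * u2 * u3)
        = u0 * u1 * u2 * (u3 * u0) * (u1 * u2 * u3) := by simp only [mul_assoc]
      _ = u0 * u1 * u2 * (u0 * u3 * b) * (u1 * u2 * u3) := by rw [c03]
      _ = u0 * u1 * (u2 * u0) * u3 * (b * (u1 * u2 * u3)) := by simp only [mul_assoc]
      _ = u0 * u1 * (u0 * u2 * b) * u3 * ((u1 * u2 * u3) * b) := by
        rw [c02, (hb (u1 * u2 * u3)).eq]
      _ = u0 * (u1 * u0) * u2 * (b * u3) * (u1 * u2 * u3) * b := by simp only [mul_assoc]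
      _ = u0 * (u0 * u1 * a) * u2 * (u3 * b) * (u1 * u2 * u3) * b := by rw [c01, (hb u3).eq]
      _ = (u0 * u0) * u1 * (a * u2) * u3 * (b * (u1 * u2 * u3)) * b := by simp only [mul_assoc]
      _ = (u0 * u0) * u1 * (u2 * a) * u3 * ((u1 * u2 * u3) * b) * b := by
        rw [(ha u2).eq, (hb (u1 * u2 * u3)).eq]
      _ = (u0 * u0) * u1 * u2 * (a * u3) * (u1 * u2 * u3) * b * b := by simp only [mul_assoc]
      _ = (u0 * u0) * u1 * u2 * (u3 * a) * (u1 * u2 * u3) * b * b := by rw [(ha u3).eq]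
      _ = (u0 * u0) * u1 * u2 * u3 * (a * (u1 * u2 * u3)) * b * b := by simp only [mul_assoc]
      _ = (u0 * u0) * u1 * u2 * u3 * ((u1 * u2 * u3) * a) * b * b := by
        rw [(ha (u1 * u2 * u3)).eq]
      _ = (u0 * u0) * (u1 * u2 * u3 * (u1 * u2 * u3)) * a * (b * b) := by simp only [mul_assoc]
      _ = a * b := by
        rw [← sq u0, h0, hB, ← sq b, hb2, mul_one, ← mul_assoc s s b, ← sq s, hs2, one_mul, (hb a).eq]
  have hw : u4 = (u0 * u1 * u2 * u3)⁻¹ := eq_inv_of_mul_eq_one_right hprod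
  rw [hw, inv_pow] at h4
  have hsinv : s⁻¹ = s := inv_eq_of_mul_eq_one_left (by rw [← sq]; exact hs2)
  have h5 : (u0 * u1 * u2 * u3) ^ 2 = s := by rw [← hsinv, ← h4, inv_inv]
  rw [sq, hC] at h5
  exact h5.symm

end Cfsg.Agent.Lib.helper16.U34C
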