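import Cfsg.Agent.Lib.helper81.WTDefs

set_option autoImplicit false

namespace Cfsg.Agent.Lib.helper81.WT

open scoped TensorProduct

universe u v w

/-- [PW] `proj μ v` is a `μ`-weight vector -/
theorem proj_weight {S : Type u} [Group S] [Finite S] {F : Type w} [Field F] [Finite F] [CharP F 2]
    {V : Type v} [AddCommGroup V] [Module F V]
    (R : Representation F S V) (Y : Subgroup S) [Y.Normal] [Fintype ↥Y]
    (μ : ↥Y →* Fˣ) (y : ↥Y) (v : V) :
    R (y : S) (proj R Y μ v) = ((μ y : Fˣ) : F) • proj R Y μ v := by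
  rw [proj_apply, map_sum, Finset.smul_sum]
  rw [← Equiv.sum_comp (Equiv.mulLeft y)
    (fun z => ((μ y : Fˣ) : F) • (((μ z⁻¹ : Fˣ) : F) • R (z : S) v))]
  apply Finset.sum_congr rfl
  intro z _
  have h : μ z⁻¹ = μ y * μ (y * z)⁻¹ := by
    rw [mul_inv_rev, map_mul, map_inv μ y, mul_comm (μ z⁻¹), mul_inv_cancel_left]
  simp only [Equiv.coe_mulLeft, map_smul]
  rw [Subgroup.coe_mul, map_mul, Module.End.mul_apply, smul_smul, h, Units.val_mul]

end Cfsg.Agent.Lib.helper81.WT
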