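import Cfsg.Agent.Lib.helper81.WTDefs
import Cfsg.Agent.Lib.helper9.WTPW

set_option autoImplicit false

namespace Cfsg.Agent.Lib.helper81.WT

open scoped TensorProduct

universe u v w

/-- [PO] idempotency (char 2, |Y| odd); uses PW -/
theorem proj_idem {S : Type u} [Group S] [Finite S] {F : Type w} [Field F] [Finite F] [CharP F 2]
    {V : Type v} [AddCommGroup V] [Module F V]
    (R : Representation F S V) (Y : Subgroup S) [Y.Normal] [Fintype ↥Y]
    (hodd : Odd (Fintype.card ↥Y)) (μ : ↥Y →* Fˣ) (v : V) :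
    proj R Y μ (proj R Y μ v) = proj R Y μ v := by
  rw [proj_apply R Y μ (proj R Y μ v)]
  have h : ∀ y : ↥Y, ((μ y⁻¹ : Fˣ) : F) • R (y : S) (proj R Y μ v) = proj R Y μ v := by
    intro y
    rw [proj_weight R Y μ y v, smul_smul, ← Units.val_mul, ← map_mul, inv_mul_cancel, map_one,
      Units.val_one, one_smul]
  rw [Finset.sum_congr rfl (fun y _ => h y), Finset.sum_const, Finset.card_univ]
  obtain ⟨k, hk⟩ := hodd
  have h2 : ∀ x : V, (2 : ℕ) • x = 0 := by
    intro x
    have h3 : ((2 : ℕ) : F) = 0 := CharP.cast_eq_zero F 2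
    rw [← Nat.cast_smul_eq_nsmul F, h3, zero_smul]
  rw [hk, add_smul, one_smul, mul_smul, h2, zero_add]

end Cfsg.Agent.Lib.helper81.WT
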